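import Mathlib.AlgebraicGeometry.Morphisms.LocalFlatDescent
import Mathlib.AlgebraicGeometry.Morphisms.Proper
import Mathlib.AlgebraicGeometry.Morphisms.Flat
import Mathlib.AlgebraicGeometry.Morphisms.QuasiFinite
import Mathlib.RingTheory.Finiteness.Descent

/-!
Further properties of morphisms descending along quasi-compact faithfully flat base change.
-/

set_option autoImplicit false

universe u

open CategoryTheory CategoryTheory.Limits AlgebraicGeometry Opposite MorphismProperty
open scoped TensorProduct

namespace Groth.EtaleBase

/-- The class of quasi-compact faithfully flat morphisms. -/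
abbrev Fpqc : MorphismProperty Scheme.{u} := @Surjective ⊓ @Flat ⊓ @QuasiCompact

set_option backward.isDefEq.respectTransparency.types false in
lemma isLocalIso_surjective_le_flat :
    (@IsLocalIso ⊓ @Surjective : MorphismProperty Scheme.{u}) ≤ (@Surjective ⊓ @Flat : MorphismProperty Scheme.{u}) := by
  rw [inf_comm (α := MorphismProperty Scheme.{u})]
  exact inf_le_inf le_rfl (IsLocalIso.le_of_isZariskiLocalAtSource _)

set_option backward.isDefEq.respectTransparency.types false in
instance descendsAlong_quasiCompact : DescendsAlong @QuasiCompact Fpqc.{u} := by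
  apply IsZariskiLocalAtTarget.descendsAlong_inf_quasiCompact _ _ isLocalIso_surjective_le_flat
  intro R S Y φ g ⟨hs, _⟩ hfst
  have : CompactSpace ↥(pullback (Spec.map φ) g) :=
    QuasiCompact.compactSpace_of_compactSpace (pullback.fst (Spec.map φ) g)
  rw [quasiCompact_iff_compactSpace]
  exact (pullback.snd (Spec.map φ) g).surjective.compactSpace
    (pullback.snd (Spec.map φ) g).continuous

set_option backward.isDefEq.respectTransparency.types false in
instance descendsAlong_quasiSeparated : DescendsAlong @QuasiSeparated Fpqc.{u} := by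
  rw [quasiSeparated_eq_diagonal_is_quasiCompact]
  infer_instance

set_option backward.isDefEq.respectTransparency.types false in
instance descendsAlong_isAffineHom : DescendsAlong @IsAffineHom Fpqc.{u} := by
  apply IsZariskiLocalAtTarget.descendsAlong_inf_quasiCompact _ _ isLocalIso_surjective_le_flat
  intro R S Y φ g ⟨hs, hf⟩ hfst
  have hP : Fpqc (Spec.map φ) := ⟨⟨hs, hf⟩, inferInstance⟩
  have hqc : QuasiCompact g := MorphismProperty.of_pullback_fst_of_descendsAlong (Q := Fpqc) hP
    (inferInstanceAs (QuasiCompact (pullback.fst (Spec.map φ) g)))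
  have hqs : QuasiSeparated g := MorphismProperty.of_pullback_fst_of_descendsAlong (Q := Fpqc) hP
    (inferInstanceAs (QuasiSeparated (pullback.fst (Spec.map φ) g)))
  have : CompactSpace Y := QuasiCompact.compactSpace_of_compactSpace g
  have : QuasiSeparatedSpace Y := HasAffineProperty.iff_of_isAffine.mp hqs
  have : IsAffine (pullback (Spec.map φ) g) := isAffine_of_isAffineHom (pullback.fst _ _)
  have H : IsPullback (pullback.snd (Spec.map φ) g) (pullback.fst (Spec.map φ) g) g (Spec.map φ) :=
    (IsPullback.of_hasPullback _ _).flip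
  have hiso := AlgebraicGeometry.isIso_pushoutSection_of_isQuasiSeparated_of_flat_right H
    (US := ⊤) (UT := ⊤) (UX := ⊤) (UY := ⊤) le_top le_top (by simp)
    (isAffineOpen_top _) (isAffineOpen_top _) CompactSpace.isCompact_univ (IsQuasiSeparated.of_quasiSeparatedSpace _)
  have hpush : IsPushout g.appTop (Spec.map φ).appTop (pullback.snd (Spec.map φ) g).appTop
      (pullback.fst (Spec.map φ) g).appTop := by
    have := (isIso_pushoutSection_iff H (US := ⊤) (UT := ⊤) (UX := ⊤) (UY := ⊤) le_top le_top
      (by simp)).1 hiso
    simpa [Scheme.Hom.appLE_eq_app, Scheme.Hom.appTop, Scheme.Hom.appLE] using this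
  have hR : IsPullback (Spec.map (pullback.snd (Spec.map φ) g).appTop)
      (Spec.map (pullback.fst (Spec.map φ) g).appTop) (Spec.map g.appTop)
      (Spec.map (Spec.map φ).appTop) :=
    isPullback_SpecMap_of_isPushout _ _ _ _ hpush
  have houter : IsPullback (pullback.snd (Spec.map φ) g)
      ((pullback (Spec.map φ) g).toSpecΓ ≫ Spec.map (pullback.fst (Spec.map φ) g).appTop)
      (Y.toSpecΓ ≫ Spec.map g.appTop) (Spec.map (Spec.map φ).appTop) := by
    rw [← Scheme.toSpecΓ_naturality, ← Scheme.toSpecΓ_naturality]
    exact H.of_iso (Iso.refl _) (Iso.refl _) (asIso (Spec S).toSpecΓ) (asIso (Spec R).toSpecΓ)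
      (by simp) (by simp) (by simp) (Scheme.toSpecΓ_naturality (Spec.map φ))
  have hleft : IsPullback (pullback.snd (Spec.map φ) g) (pullback (Spec.map φ) g).toSpecΓ Y.toSpecΓ
      (Spec.map (pullback.snd (Spec.map φ) g).appTop) :=
    IsPullback.of_bot houter (Scheme.toSpecΓ_naturality (pullback.snd (Spec.map φ) g)) hR
  have hP0 : Fpqc (Spec.map (Spec.map φ).appTop) :=
    (Fpqc.arrow_mk_iso_iff (arrowIsoSpecΓOfIsAffine (Spec.map φ))).1 hP
  have hP' : Fpqc (Spec.map (pullback.snd (Spec.map φ) g).appTop) :=
    Fpqc.of_isPullback hR.flip hP0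
  have : IsIso Y.toSpecΓ :=
    MorphismProperty.of_isPullback_of_descendsAlong (P := isomorphisms Scheme.{u}) (Q := Fpqc)
      hleft.flip hP' (inferInstanceAs (IsIso (pullback (Spec.map φ) g).toSpecΓ))
  have : IsAffine Y := ⟨this⟩
  exact HasAffineProperty.iff_of_isAffine.mpr ‹IsAffine Y›

set_option backward.isDefEq.respectTransparency.types false in
instance descendsAlong_isIntegralHom : DescendsAlong @IsIntegralHom Fpqc.{u} := by
  rw [IsIntegralHom.eq_universallyClosed_inf_isAffineHom]
  infer_instance

set_option backward.isDefEq.respectTransparency.types false in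
instance descendsAlong_isFinite : DescendsAlong @IsFinite Fpqc.{u} := by
  rw [IsFinite.eq_inf]
  infer_instance

set_option backward.isDefEq.respectTransparency.types false in
instance descendsAlong_isClosedImmersion : DescendsAlong @IsClosedImmersion Fpqc.{u} := by
  rw [IsClosedImmersion.eq_isFinite_inf_mono, ← diagonal_isomorphisms]
  infer_instance

set_option backward.isDefEq.respectTransparency.types false in
instance descendsAlong_isSeparated : DescendsAlong @IsSeparated Fpqc.{u} := by
  rw [IsSeparated.isSeparated_eq_diagonal_isClosedImmersion]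
  infer_instance

set_option backward.isDefEq.respectTransparency.types false in
instance descendsAlong_isProper : DescendsAlong @IsProper Fpqc.{u} := by
  rw [isProper_eq]
  infer_instance

lemma quasiFinite_codescendsAlong :
    RingHom.CodescendsAlong RingHom.QuasiFinite RingHom.FaithfullyFlat.{u, u} := by
  refine .mk _ RingHom.QuasiFinite.respectsIso fun R S T _ _ _ _ _ h h' ↦ ?_
  rw [RingHom.quasiFinite_algebraMap] at h' ⊢
  rw [RingHom.faithfullyFlat_algebraMap_iff] at h
  refine ⟨fun p hp => ?_⟩
  obtain ⟨q, hq⟩ := PrimeSpectrum.comap_surjective_of_faithfullyFlat (A := R) (B := S) ⟨p, hp⟩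
  have : q.asIdeal.LiesOver p := ⟨(congrArg PrimeSpectrum.asIdeal hq).symm⟩
  letI := Localization.AtPrime.algebraOfLiesOver p q.asIdeal
  have : Module.Finite q.asIdeal.ResidueField (q.asIdeal.ResidueField ⊗[S] (S ⊗[R] T)) :=
    Algebra.QuasiFinite.finite_fiber q.asIdeal
  have : Module.Finite q.asIdeal.ResidueField (q.asIdeal.ResidueField ⊗[R] T) :=
    Module.Finite.equiv
      (TensorProduct.AlgebraTensorModule.cancelBaseChange R S q.asIdeal.ResidueField
        q.asIdeal.ResidueField T)
  have : Module.Finite q.asIdeal.ResidueField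
      (q.asIdeal.ResidueField ⊗[p.ResidueField] (p.ResidueField ⊗[R] T)) :=
    Module.Finite.equiv
      (TensorProduct.AlgebraTensorModule.cancelBaseChange R p.ResidueField q.asIdeal.ResidueField
        q.asIdeal.ResidueField T).symm
  exact Module.Finite.of_finite_tensorProduct_of_faithfullyFlat q.asIdeal.ResidueField

set_option backward.isDefEq.respectTransparency.types false in
instance descendsAlong_locallyQuasiFinite :
    DescendsAlong @LocallyQuasiFinite Fpqc.{u} :=
  HasRingHomProperty.descendsAlong_flat quasiFinite_codescendsAlong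

end Groth.EtaleBase
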