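import Groth.Agent.CohFin.Acyclic
import Mathlib.Algebra.Homology.DerivedCategory.Ext.Map
import Mathlib.Algebra.Homology.DerivedCategory.Ext.EnoughInjectives
import Mathlib.Algebra.Homology.DerivedCategory.Ext.ExactSequences
import Mathlib.CategoryTheory.Preadditive.Injective.Preserves
import Mathlib.CategoryTheory.Adjunction.Additive
import Mathlib.Algebra.Homology.ShortComplex.ExactFunctor

/-!
Ext groups and adjunctions with an exact left adjoint; naturality of the action of exact functors on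
Ext groups.
-/

set_option autoImplicit false

universe w w' w'' v v' v'' u u' u''

open CategoryTheory CategoryTheory.Limits CategoryTheory.Abelian

namespace Groth.EtaleBase.ExtAdj

variable {C : Type u} [Category.{v} C] [Abelian C] [EnoughInjectives C] [HasExt.{w} C]
  {D : Type u'} [Category.{v'} D] [Abelian D] [HasExt.{w'} D]
  {E : Type u''} [Category.{v''} E] [Abelian E] [HasExt.{w''} E]

lemma exists_comp_extClass (A F : C) (n : ℕ) (x : Ext A F (n + 1)) :
    ∃ a : Ext A (Groth.CohFin.injSeq F).X₃ n,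
      a.comp (Groth.CohFin.injSeq_shortExact F).extClass rfl = x :=
  Ext.covariant_sequence_exact₁ A (Groth.CohFin.injSeq_shortExact F) x
    (@Subsingleton.elim _ (Ext.subsingleton_of_injective _ _ n) _ _) (n₀ := n) rfl

omit [EnoughInjectives C] in
/-- Moving a morphism across a class of degree one. -/
lemma step {P X₁ X₃ Y₁ Y₃ : C} {n : ℕ} (a : Ext P X₃ n) (c : Ext X₃ X₁ 1) (τ₁ : X₁ ⟶ Y₁) (τ₃ : X₃ ⟶ Y₃)
    (c' : Ext Y₃ Y₁ 1) (key : c.comp (Ext.mk₀ τ₁) (add_zero 1) = (Ext.mk₀ τ₃).comp c' (zero_add 1)) :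
    (a.comp c (rfl : n + 1 = n + 1)).comp (Ext.mk₀ τ₁) (add_zero (n + 1)) =
      (a.comp (Ext.mk₀ τ₃) (add_zero n)).comp c' rfl := by
  rw [Ext.comp_assoc_of_third_deg_zero, key,
    Ext.comp_assoc a _ _ (add_zero n) (zero_add 1) (by omega : n + 0 + 1 = n + 1)]

omit [EnoughInjectives C] in
lemma pre_assoc {A B P Q : C} {n : ℕ} (t : A ⟶ B) (x : Ext B P n) (c : Ext P Q 1) :
    ((Ext.mk₀ t).comp x (zero_add n)).comp c (rfl : n + 1 = n + 1) =
      (Ext.mk₀ t).comp (x.comp c rfl) (zero_add (n + 1)) :=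
  Ext.comp_assoc _ _ _ (zero_add n) rfl (by omega)

omit [EnoughInjectives C] in
lemma mapExt_comp_extClass (G : C ⥤ D) [G.Additive] [PreservesFiniteLimits G] [PreservesFiniteColimits G]
    {A : C} {S : ShortComplex C} (hS : S.ShortExact) {n : ℕ} (a : Ext A S.X₃ n) :
    (a.comp hS.extClass (rfl : n + 1 = n + 1)).mapExactFunctor G =
      (a.mapExactFunctor G).comp (hS.map_of_exact G).extClass (rfl : n + 1 = n + 1) :=
  (Ext.mapExactFunctor_comp G a hS.extClass rfl).trans
    (congrArg (fun z => (a.mapExactFunctor G).comp z rfl) (Ext.mapExactFunctor_extClass G hS))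

omit [EnoughInjectives C] in
/-- The induction step in naturality statements. -/
lemma core {S S' : ShortComplex C} (hS : S.ShortExact) (hS' : S'.ShortExact) (φ : S ⟶ S') {A A' : C}
    (t : A ⟶ A') {n : ℕ} (a : Ext A S.X₃ n) (b : Ext A' S'.X₃ n)
    (h : a.comp (Ext.mk₀ φ.τ₃) (add_zero n) = (Ext.mk₀ t).comp b (zero_add n)) :
    (a.comp hS.extClass (rfl : n + 1 = n + 1)).comp (Ext.mk₀ φ.τ₁) (add_zero (n + 1)) =
      (Ext.mk₀ t).comp (b.comp hS'.extClass rfl) (zero_add (n + 1)) := by
  rw [step a _ φ.τ₁ φ.τ₃ _ (ShortComplex.ShortExact.extClass_naturality hS hS' φ), h, pre_assoc]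

/-- Natural transformations of exact functors commute with the action on Ext groups. -/
theorem mapExt_natTrans (G H : C ⥤ D) [G.Additive] [PreservesFiniteLimits G] [PreservesFiniteColimits G]
    [H.Additive] [PreservesFiniteLimits H] [PreservesFiniteColimits H] (τ : G ⟶ H) (A : C) (n : ℕ) :
    ∀ (F : C) (x : Ext A F n), (x.mapExactFunctor G).comp (Ext.mk₀ (τ.app F)) (add_zero n) =
      (Ext.mk₀ (τ.app A)).comp (x.mapExactFunctor H) (zero_add n) := by
  induction n with
  | zero =>
    intro F x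
    obtain ⟨φ, rfl⟩ := (Ext.mk₀_bijective _ _).2 x
    rw [Ext.mapExactFunctor_mk₀, Ext.mapExactFunctor_mk₀, Ext.mk₀_comp_mk₀, Ext.mk₀_comp_mk₀, τ.naturality]
  | succ n ih =>
    intro F x
    obtain ⟨a, rfl⟩ := exists_comp_extClass A F n x
    have hS := Groth.CohFin.injSeq_shortExact F
    have key := ShortComplex.ShortExact.extClass_naturality (hS.map_of_exact G) (hS.map_of_exact H)
      ((Groth.CohFin.injSeq F).mapNatTrans τ)
    exact (congrArg (fun z => Ext.comp z (Ext.mk₀ (τ.app F)) (add_zero (n + 1))) (mapExt_comp_extClass G hS a)).trans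
      ((step _ _ _ _ _ key).trans ((congrArg (fun z => Ext.comp z _ rfl) (ih _ a)).trans
        ((pre_assoc _ _ _).trans (congrArg (fun z => (Ext.mk₀ (τ.app A)).comp z (zero_add (n + 1)))
          (mapExt_comp_extClass H hS a).symm))))

/-- The same for a composite of two exact functors. -/
theorem mapExt_natTrans₂ (G₁ : C ⥤ D) (G₂ : D ⥤ E) (H : C ⥤ E)
    [G₁.Additive] [PreservesFiniteLimits G₁] [PreservesFiniteColimits G₁]
    [G₂.Additive] [PreservesFiniteLimits G₂] [PreservesFiniteColimits G₂]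
    [H.Additive] [PreservesFiniteLimits H] [PreservesFiniteColimits H] (τ : G₁ ⋙ G₂ ⟶ H) (A : C) (n : ℕ) :
    ∀ (F : C) (x : Ext A F n),
      ((x.mapExactFunctor G₁).mapExactFunctor G₂).comp (Ext.mk₀ (τ.app F)) (add_zero n) =
        (Ext.mk₀ (τ.app A)).comp (x.mapExactFunctor H) (zero_add n) := by
  induction n with
  | zero =>
    intro F x
    obtain ⟨φ, rfl⟩ := (Ext.mk₀_bijective _ _).2 x
    rw [Ext.mapExactFunctor_mk₀, Ext.mapExactFunctor_mk₀, Ext.mapExactFunctor_mk₀, Ext.mk₀_comp_mk₀,
      Ext.mk₀_comp_mk₀]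
    exact congrArg Ext.mk₀ (τ.naturality φ)
  | succ n ih =>
    intro F x
    obtain ⟨a, rfl⟩ := exists_comp_extClass A F n x
    have hS := Groth.CohFin.injSeq_shortExact F
    have hG := (hS.map_of_exact G₁).map_of_exact G₂
    have hH := hS.map_of_exact H
    let φ : ((Groth.CohFin.injSeq F).map G₁).map G₂ ⟶ (Groth.CohFin.injSeq F).map H :=
      ShortComplex.Hom.mk (τ.app _) (τ.app _) (τ.app _) (τ.naturality _).symm (τ.naturality _).symm
    have h1 := core hG hH φ (τ.app A) ((a.mapExactFunctor G₁).mapExactFunctor G₂) (a.mapExactFunctor H) (ih _ a)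
    have e1 := (congrArg (fun z => z.mapExactFunctor G₂) (mapExt_comp_extClass G₁ hS a)).trans
      (mapExt_comp_extClass G₂ (hS.map_of_exact G₁) (a.mapExactFunctor G₁))
    have e2 := mapExt_comp_extClass H hS a
    rw [e2]
    refine Eq.trans ?_ h1
    exact congrArg (fun z : Ext (G₂.obj (G₁.obj A)) (G₂.obj (G₁.obj F)) (n + 1) =>
      z.comp (Ext.mk₀ (τ.app F)) (add_zero (n + 1))) e1

/-- A natural transformation to the identity. -/
theorem mapExt_natTrans_id (G : C ⥤ D) (G' : D ⥤ C)
    [G.Additive] [PreservesFiniteLimits G] [PreservesFiniteColimits G]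
    [G'.Additive] [PreservesFiniteLimits G'] [PreservesFiniteColimits G'] (τ : G ⋙ G' ⟶ 𝟭 C) (A : C) (n : ℕ) :
    ∀ (F : C) (x : Ext A F n),
      ((x.mapExactFunctor G).mapExactFunctor G').comp (Ext.mk₀ (τ.app F)) (add_zero n) =
        (Ext.mk₀ (τ.app A)).comp x (zero_add n) := by
  induction n with
  | zero =>
    intro F x
    obtain ⟨φ, rfl⟩ := (Ext.mk₀_bijective _ _).2 x
    rw [Ext.mapExactFunctor_mk₀, Ext.mapExactFunctor_mk₀]
    exact (Ext.mk₀_comp_mk₀ _ _).trans ((congrArg Ext.mk₀ (τ.naturality φ)).trans (Ext.mk₀_comp_mk₀ _ _).symm)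
  | succ n ih =>
    intro F x
    obtain ⟨a, rfl⟩ := exists_comp_extClass A F n x
    have hS := Groth.CohFin.injSeq_shortExact F
    have hG := (hS.map_of_exact G).map_of_exact G'
    let φ : ((Groth.CohFin.injSeq F).map G).map G' ⟶ Groth.CohFin.injSeq F :=
      ShortComplex.Hom.mk (τ.app _) (τ.app _) (τ.app _) (τ.naturality _).symm (τ.naturality _).symm
    have h1 := core hG hS φ (τ.app A) ((a.mapExactFunctor G).mapExactFunctor G') a (ih _ a)
    have e1 := (congrArg (fun z => z.mapExactFunctor G') (mapExt_comp_extClass G hS a)).trans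
      (mapExt_comp_extClass G' (hS.map_of_exact G) (a.mapExactFunctor G))
    refine Eq.trans ?_ h1
    exact congrArg (fun z : Ext (G'.obj (G.obj A)) (G'.obj (G.obj F)) (n + 1) =>
      z.comp (Ext.mk₀ (τ.app F)) (add_zero (n + 1))) e1

variable {L : D ⥤ C} {R : C ⥤ D} (adj : L ⊣ R)
  [L.Additive] [PreservesFiniteLimits L] [PreservesFiniteColimits L]

/-- Apply the left adjoint, then the counit. -/
noncomputable def adjExt (A : D) (F : C) (n : ℕ) : Ext A (R.obj F) n →+ Ext (L.obj A) F n :=
  ((Ext.mk₀ (adj.counit.app F)).postcomp (L.obj A) (add_zero n)).comp (L.mapExtAddHom A (R.obj F) n)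

lemma adjExt_apply (A : D) (F : C) (n : ℕ) (x : Ext A (R.obj F) n) :
    adjExt adj A F n x = (x.mapExactFunctor L).comp (Ext.mk₀ (adj.counit.app F)) (add_zero n) := rfl

lemma adjExt_mk₀ (A : D) (F : C) (φ : A ⟶ R.obj F) :
    adjExt adj A F 0 (Ext.mk₀ φ) = Ext.mk₀ ((adj.homEquiv A F).symm φ) := by
  rw [adjExt_apply, Ext.mapExactFunctor_mk₀, Ext.mk₀_comp_mk₀, Adjunction.homEquiv_counit]

lemma adjExt_comp_map (A : D) {F F' : C} (g : F ⟶ F') (n : ℕ) (x : Ext A (R.obj F) n) :
    adjExt adj A F' n (x.comp (Ext.mk₀ (R.map g)) (add_zero n)) =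
      (adjExt adj A F n x).comp (Ext.mk₀ g) (add_zero n) := by
  rw [adjExt_apply, adjExt_apply, Ext.mapExactFunctor_comp, Ext.mapExactFunctor_mk₀,
    Ext.comp_assoc_of_third_deg_zero, Ext.comp_assoc_of_third_deg_zero, Ext.mk₀_comp_mk₀, Ext.mk₀_comp_mk₀]
  exact congrArg (fun m => (x.mapExactFunctor L).comp (Ext.mk₀ m) (add_zero n)) (adj.counit.naturality g)

/-- The left adjoint followed by a counit turns the inverse adjoint operation into the identity. -/
lemma mk₀_comp_mapExt (A B : D) (F : C) (n : ℕ) (u : A ⟶ B) (x : Ext B (R.obj F) n) :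
    adjExt adj A F n ((Ext.mk₀ u).comp x (zero_add n)) =
      (Ext.mk₀ (L.map u)).comp (adjExt adj B F n x) (zero_add n) := by
  rw [adjExt_apply, adjExt_apply, Ext.mapExactFunctor_comp, Ext.mapExactFunctor_mk₀,
    Ext.comp_assoc_of_third_deg_zero]

variable [R.Additive] [PreservesFiniteLimits R]

/-- For objects acyclic for the right adjoint, the adjunction extends to Ext groups. -/
theorem adjExt_bijective (A : D) (n : ℕ) :
    ∀ F : C, Groth.CohFin.RightAcyclic R F → Function.Bijective (adjExt adj A F n) := by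
  have : R.PreservesInjectiveObjects :=
    Functor.preservesInjectiveObjects_of_adjunction_of_preservesMonomorphisms adj
  induction n with
  | zero =>
    intro F _
    refine ⟨fun x y e => ?_, fun y => ?_⟩
    · obtain ⟨φ, rfl⟩ := (Ext.mk₀_bijective _ _).2 x
      obtain ⟨ψ, rfl⟩ := (Ext.mk₀_bijective _ _).2 y
      rw [adjExt_mk₀, adjExt_mk₀] at e
      exact congrArg Ext.mk₀ ((adj.homEquiv A F).symm.injective ((Ext.mk₀_bijective _ _).1 e))
    · obtain ⟨ψ, rfl⟩ := (Ext.mk₀_bijective _ _).2 y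
      exact ⟨Ext.mk₀ (adj.homEquiv A F ψ), by rw [adjExt_mk₀, Equiv.symm_apply_apply]⟩
  | succ i ih =>
    intro F hF
    let S := Groth.CohFin.injSeq F
    have hS : S.ShortExact := Groth.CohFin.injSeq_shortExact F
    have hI : Injective S.X₂ := inferInstanceAs (Injective (Injective.under F))
    have hS' : (S.map R).ShortExact := by
      have := hS.mono_f
      refine { exact := hS.exact.map_of_mono_of_preservesKernel R this inferInstance,
               mono_f := inferInstanceAs (Mono (R.map S.f)), epi_g := ?_ }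
      obtain ⟨e⟩ := Groth.CohFin.nonempty_rightDerived_one_iso_of_injective (F := R) hS
      exact Preadditive.epi_of_isZero_cokernel _ ((hF 0).of_iso e.symm)
    have hI' : Injective (S.map R).X₂ := inferInstanceAs (Injective (R.obj S.X₂))
    have hI3 := Groth.CohFin.rightAcyclic_quotient (F := R) hS hF
    have hI2 := Groth.CohFin.rightAcyclic_of_injective R S.X₂
    have hδ : ∀ x : Ext A (R.obj S.X₃) i, adjExt adj A F (i + 1) (x.comp hS'.extClass rfl) =
        (adjExt adj A S.X₃ i x).comp hS.extClass rfl := fun x => by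
      have key := ShortComplex.ShortExact.extClass_naturality (hS'.map_of_exact L) hS
        (ShortComplex.Hom.mk (adj.counit.app _) (adj.counit.app _) (adj.counit.app _)
          (adj.counit.naturality _).symm (adj.counit.naturality _).symm)
      exact (congrArg (fun z => Ext.comp z (Ext.mk₀ (adj.counit.app F)) (add_zero (i + 1)))
        (mapExt_comp_extClass L hS' x)).trans (step _ _ _ _ _ key)
    refine ⟨?_, fun y => ?_⟩
    · rw [injective_iff_map_eq_zero]
      intro x hx
      obtain ⟨a, rfl⟩ := Ext.covariant_sequence_exact₁ _ hS' x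
        (@Subsingleton.elim _ (Ext.subsingleton_of_injective _ _ i) _ _) (n₀ := i) rfl
      replace hx := (hδ a).symm.trans hx
      obtain ⟨b, hb⟩ := Ext.covariant_sequence_exact₃ _ hS _ rfl hx
      obtain ⟨b', rfl⟩ := (ih S.X₂ hI2).2 b
      have ha : a = b'.comp (Ext.mk₀ (R.map S.g)) (add_zero i) := (ih S.X₃ hI3).1 (by
        rw [adjExt_comp_map]
        exact hb.symm)
      rw [ha]
      refine (Ext.comp_assoc (a₁₂ := i) b' _ _ (add_zero i) (zero_add 1) (by omega : i + 0 + 1 = i + 1)).trans ?_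
      exact (congrArg (fun z => b'.comp z rfl) hS'.comp_extClass).trans (Ext.comp_zero _ _ _ _ _)
    · obtain ⟨b, rfl⟩ := exists_comp_extClass _ F i y
      obtain ⟨a, rfl⟩ := (ih S.X₃ hI3).2 b
      exact ⟨_, hδ a⟩

omit [PreservesFiniteLimits R] in
/-- An exact right adjoint. -/
theorem adjExt_bijective_of_exact [PreservesFiniteLimits R] [PreservesFiniteColimits R] (A : D) (F : C) (n : ℕ) :
    Function.Bijective (adjExt adj A F n) := by
  refine adjExt_bijective adj A n F fun j => ?_
  let I := injectiveResolution F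
  refine IsZero.of_iso ?_ (I.isoRightDerivedObj R (j + 1))
  exact ((((R.mapHomologicalComplex _).obj I.cocomplex).exactAt_iff_isZero_homology _).1
    ((I.cocomplex_exactAt_succ j).map R))

/-- Exact right adjoints: the unit describes the inverse. -/
theorem adjExt_unit_map [PreservesFiniteColimits R] (A : D) (F : C) (n : ℕ) (x : Ext (L.obj A) F n) :
    adjExt adj A F n ((Ext.mk₀ (adj.unit.app A)).comp (x.mapExactFunctor R) (zero_add n)) = x := by
  rw [mk₀_comp_mapExt, adjExt_apply, mapExt_natTrans_id R L adj.counit]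
  refine (Ext.mk₀_comp_mk₀_assoc _ _ _).trans ?_
  rw [adj.left_triangle_components]
  exact Ext.mk₀_id_comp _

end Groth.EtaleBase.ExtAdj
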