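import Groth.Prelude.Def_EtBase
import Mathlib.CategoryTheory.Functor.ReflectsIso.Exact
import Mathlib.CategoryTheory.Functor.ReflectsIso.Limits

/-!
Stalks on the small etale site with values in `AddCommGrpCat.{u+1}`: exactness, elementwise
description, and joint conservativity of the geometric points.
-/

set_option autoImplicit false

universe u

open CategoryTheory CategoryTheory.Limits AlgebraicGeometry Opposite

namespace Groth.EtaleBase

instance forget_preservesSmallFilteredColimits :
    PreservesFilteredColimitsOfSize.{u, u} (forget AddCommGrpCat.{u + 1}) :=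
  preservesFilteredColimitsOfSize_of_univLE.{u + 1, u + 1, u, u} _

instance ab5OfSize_small : AB5OfSize.{u, u} AddCommGrpCat.{u + 1} :=
  AB5OfSize_shrink.{u, u, u + 1, u + 1} _

variable {X : Scheme.{u}}

set_option backward.isDefEq.respectTransparency.types false in
/-- A sieve on an etale `X`-scheme is covering iff its members are jointly surjective. -/
lemma mem_topology_iff {U : X.Etale} (R : Sieve U) :
    R ∈ X.smallEtaleTopology U ↔
      ∀ x : U.left, ∃ (V : X.Etale) (g : V ⟶ U) (v : V.left), R g ∧ g.left.base v = x := by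
  have e : X.smallEtaleTopology =
      (X.smallPretopology (P := EtCoh.etaleMP) (Q := EtCoh.etaleMP)).toGrothendieck :=
    Scheme.smallGrothendieckTopology_eq_toGrothendieck_smallPretopology X le_rfl
  rw [e]
  refine (Scheme.mem_toGrothendieck_smallPretopology U R).trans (forall_congr' fun x => ?_)
  constructor
  · rintro ⟨V, g, v, hR, -, hv⟩
    exact ⟨V, g, v, hR, hv⟩
  · rintro ⟨V, g, v, hR, hv⟩
    exact ⟨V, g, v, hR, inferInstance, hv⟩

/-- The geometric point attached to a point `s` and a separable closure of its residue field. -/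
noncomputable def geomPoint (s : X) :
    Spec (CommRingCat.of (SeparableClosure (X.residueField s))) ⟶ X :=
  (Scheme.SpecToEquivOfField (SeparableClosure (X.residueField s)) _).2
    ⟨s, CommRingCat.ofHom (algebraMap (X.residueField s) _)⟩

lemma geomPoint_apply (s : X) (a : Spec (CommRingCat.of (SeparableClosure (X.residueField s)))) :
    (geomPoint s).base a = s := by
  obtain rfl := Subsingleton.elim a default
  simp [geomPoint, Scheme.SpecToEquivOfField]

lemma exists_fiber_of_point {Ω : Type u} [Field Ω] [IsSepClosed Ω]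
    (ξ : Spec (CommRingCat.of Ω) ⟶ X) (U : X.Etale) (u : U.left) (hu : U.hom.base u = ξ.base default) :
    ∃ t : (Scheme.pointSmallEtale ξ).fiber.obj U,
      (Scheme.pointSmallEtaleFiberObjToPreimage ξ rfl t).1 = u := by
  obtain ⟨t, ht⟩ := Scheme.pointSmallEtaleFiberObjToPreimage_surjective ξ rfl U ⟨u, hu⟩
  exact ⟨t, congrArg Subtype.val ht⟩

lemma exists_geomPoint_lift (U : X.Etale) (u : U.left) :
    ∃ t : (Scheme.pointSmallEtale (geomPoint (U.hom.base u))).fiber.obj U,
      (Scheme.pointSmallEtaleFiberObjToPreimage (geomPoint (U.hom.base u)) rfl t).1 = u :=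
  exists_fiber_of_point _ U u (geomPoint_apply _ _).symm

section

variable {Ω : Type u} [Field Ω] [IsSepClosed Ω] (ξ : Spec (CommRingCat.of Ω) ⟶ X)

/-- The germ of a section at a lift of a geometric point. -/
noncomputable abbrev germ (F : EtCoh.Ab X) (U : X.Etale)
    (t : (Scheme.pointSmallEtale ξ).fiber.obj U) :
    F.obj.obj (op U) ⟶ (EtCoh.stalk ξ).obj F :=
  (Scheme.pointSmallEtale ξ).toPresheafFiber U t F.obj

lemma germ_map {F G : EtCoh.Ab X} (φ : F ⟶ G) (U : X.Etale)
    (t : (Scheme.pointSmallEtale ξ).fiber.obj U) (σ : F.obj.obj (op U)) :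
    (EtCoh.stalk ξ).map φ (germ ξ F U t σ) = germ ξ G U t (φ.hom.app _ σ) :=
  (Scheme.pointSmallEtale ξ).toPresheafFiber_naturality_apply φ.hom U t σ

lemma germ_surjective (F : EtCoh.Ab X) (a : (EtCoh.stalk ξ).obj F) :
    ∃ (U : X.Etale) (t : (Scheme.pointSmallEtale ξ).fiber.obj U) (σ : F.obj.obj (op U)),
      germ ξ F U t σ = a :=
  (Scheme.pointSmallEtale ξ).toPresheafFiber_jointly_surjective a

lemma germ_eq_iff (F : EtCoh.Ab X) (U : X.Etale)
    (t : (Scheme.pointSmallEtale ξ).fiber.obj U) (σ σ' : F.obj.obj (op U)) :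
    germ ξ F U t σ = germ ξ F U t σ' ↔
      ∃ (V : X.Etale) (g : V ⟶ U) (s : (Scheme.pointSmallEtale ξ).fiber.obj V),
        (Scheme.pointSmallEtale ξ).fiber.map g s = t ∧ F.obj.map g.op σ = F.obj.map g.op σ' :=
  (Scheme.pointSmallEtale ξ).toPresheafFiber_eq_iff' U t σ σ'

lemma germ_eq_zero_iff (F : EtCoh.Ab X) (U : X.Etale)
    (t : (Scheme.pointSmallEtale ξ).fiber.obj U) (σ : F.obj.obj (op U)) :
    germ ξ F U t σ = 0 ↔
      ∃ (V : X.Etale) (g : V ⟶ U) (s : (Scheme.pointSmallEtale ξ).fiber.obj V),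
        (Scheme.pointSmallEtale ξ).fiber.map g s = t ∧ F.obj.map g.op σ = 0 := by
  conv_lhs => rw [← map_zero (germ ξ F U t).hom]
  refine (germ_eq_iff ξ F U t σ 0).trans ?_
  simp

noncomputable instance stalk_preservesFiniteLimits : PreservesFiniteLimits (EtCoh.stalk ξ) :=
  inferInstance

noncomputable instance stalk_additive : (EtCoh.stalk ξ).Additive :=
  Functor.additive_of_preserves_binary_products _

end

/-- The family of stalk functors at the chosen geometric points. -/
noncomputable abbrev stalkAt (s : X) : EtCoh.Ab X ⥤ AddCommGrpCat.{u + 1} :=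
  EtCoh.stalk (geomPoint s)

lemma section_eq_zero_of_germs (F : EtCoh.Ab X) (U : X.Etale) (σ : F.obj.obj (op U))
    (h : ∀ u : U.left, ∃ (V : X.Etale) (g : V ⟶ U), (∃ v, g.left.base v = u) ∧ F.obj.map g.op σ = 0) :
    σ = 0 := by
  let R : Sieve U :=
    { arrows := fun V g => F.obj.map g.op σ = 0
      downward_closed := fun {V W g} hg h => by simp [hg] }
  have hR : R ∈ X.smallEtaleTopology U := by
    rw [mem_topology_iff]
    intro u
    obtain ⟨V, g, ⟨v, hv⟩, h0⟩ := h u
    exact ⟨V, g, v, h0, hv⟩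
  refine (((isSheaf_iff_isSheaf_of_type _ _).1
    ((sheafCompose X.smallEtaleTopology (forget AddCommGrpCat.{u + 1})).obj F).2).isSeparated _
      hR).ext fun V g hg => ?_
  change F.obj.map g.op σ = F.obj.map g.op 0
  rw [map_zero]; exact hg

lemma mono_of_exists_stalk_injective {F G : EtCoh.Ab X} (φ : F ⟶ G)
    (h : ∀ s : X, ∃ (Ω : Type u) (_ : Field Ω) (_ : IsSepClosed Ω) (ξ : Spec (CommRingCat.of Ω) ⟶ X),
      ξ.base default = s ∧ Function.Injective ((EtCoh.stalk ξ).map φ)) : Mono φ := by
  refine Sheaf.mono_of_injective φ fun U => ?_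
  rw [injective_iff_map_eq_zero]
  intro σ hσ
  refine section_eq_zero_of_germs F U.unop σ fun u => ?_
  obtain ⟨Ω, _, _, ξ, hξ, hinj⟩ := h (U.unop.hom.base u)
  obtain ⟨t, ht⟩ := exists_fiber_of_point ξ U.unop u hξ.symm
  have h0 : germ _ F U.unop t σ = 0 := hinj (by rw [germ_map, hσ, map_zero, map_zero])
  obtain ⟨V, g, s, hs, hz⟩ := (germ_eq_zero_iff _ F U.unop t σ).1 h0
  refine ⟨V, g, ⟨(Scheme.pointSmallEtaleFiberObjToPreimage _ rfl s).1, ?_⟩, hz⟩
  subst hs
  exact ht

lemma mono_of_stalk_injective {F G : EtCoh.Ab X} (φ : F ⟶ G)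
    (h : ∀ s : X, Function.Injective ((stalkAt s).map φ)) : Mono φ :=
  mono_of_exists_stalk_injective φ fun s => ⟨_, _, _, geomPoint s, geomPoint_apply _ _, h s⟩

lemma isLocallySurjective_of_stalk_surjective {F G : EtCoh.Ab X} (φ : F ⟶ G)
    (h : ∀ s : X, Function.Surjective ((stalkAt s).map φ)) : Sheaf.IsLocallySurjective φ := by
  constructor
  intro U σ
  rw [mem_topology_iff]
  intro u
  obtain ⟨t, ht⟩ := exists_geomPoint_lift U u
  obtain ⟨a, ha⟩ := h _ (germ _ G U t σ)
  obtain ⟨V, s, τ, rfl⟩ := germ_surjective _ F a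
  rw [germ_map] at ha
  let Φ := Scheme.pointSmallEtale (geomPoint (U.hom.base u))
  obtain ⟨W₀, pm, qm, -⟩ := IsCofilteredOrEmpty.cone_objs (C := Φ.fiber.Elements)
    (Functor.elementsMk _ V s) (Functor.elementsMk _ U t)
  obtain ⟨W, w⟩ := W₀
  let p : W ⟶ V := pm.1
  let q : W ⟶ U := qm.1
  have hp : Φ.fiber.map p w = s := pm.2
  have hq : Φ.fiber.map q w = t := qm.2
  have key : germ _ G W w (φ.hom.app _ (F.obj.map p.op τ)) = germ _ G W w (G.obj.map q.op σ) := by
    change Φ.toPresheafFiber W w G.obj _ = Φ.toPresheafFiber W w G.obj _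
    rw [NatTrans.naturality_apply φ.hom p.op τ, Φ.toPresheafFiber_w_apply,
      Φ.toPresheafFiber_w_apply]
    erw [hp, hq]
    exact ha
  obtain ⟨Z, r, z, hz, heq⟩ := (germ_eq_iff _ G W w _ _).1 key
  refine ⟨Z, r ≫ q, (Scheme.pointSmallEtaleFiberObjToPreimage _ rfl z).1,
    ⟨F.obj.map r.op (F.obj.map p.op τ), ?_⟩, ?_⟩
  · rw [NatTrans.naturality_apply φ.hom r.op, heq, op_comp, Functor.map_comp]
    rfl
  · subst hz
    refine Eq.trans ?_ ht
    erw [← hq]
    rfl

lemma epi_of_stalk_surjective {F G : EtCoh.Ab X} (φ : F ⟶ G)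
    (h : ∀ s : X, Function.Surjective ((stalkAt s).map φ)) : Epi φ := by
  have := isLocallySurjective_of_stalk_surjective φ h
  infer_instance

/-- The stalks at geometric points jointly reflect isomorphisms. -/
lemma stalkAt_jointlyReflectIsomorphisms :
    JointlyReflectIsomorphisms (stalkAt (X := X)) where
  isIso f hf := by
    have := mono_of_stalk_injective f fun s => ((ConcreteCategory.isIso_iff_bijective _).1 (hf s)).1
    have := epi_of_stalk_surjective f fun s => ((ConcreteCategory.isIso_iff_bijective _).1 (hf s)).2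
    exact isIso_of_mono_of_epi f

end Groth.EtaleBase
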