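import Groth.Agent.EtaleBase.EtaleLocalAlg
import Groth.Agent.S9246
import Mathlib.AlgebraicGeometry.Morphisms.Etale

/-!
Local rings of etale morphisms.
-/

set_option autoImplicit false

universe u

open CategoryTheory AlgebraicGeometry

namespace Groth.EtaleBase

variable {X Y : Scheme.{u}} (f : X ⟶ Y) [Etale f] [IsLocallyNoetherian Y] (x : X)

/-- An affine chart of an etale morphism at a point, in terms of localizations. -/
theorem exists_etale_chart :
    ∃ (A S : Type u) (_ : CommRing A) (_ : CommRing S) (_ : Algebra A S),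
      Algebra.Etale A S ∧ IsNoetherianRing A ∧ ∃ (q : Ideal S) (_ : q.IsPrime),
        Nonempty (Y.presheaf.stalk (f.base x) ≃+* Localization.AtPrime (q.comap (algebraMap A S))) ∧
        Nonempty (X.presheaf.stalk x ≃+* Localization.AtPrime q) := by
  obtain ⟨_, ⟨U, hU, rfl⟩, hy, -⟩ := Y.isBasis_affineOpens.exists_subset_of_mem_open
    (Set.mem_univ (f.base x)) isOpen_univ
  obtain ⟨_, ⟨V, hV, rfl⟩, hx, hVU⟩ := X.isBasis_affineOpens.exists_subset_of_mem_open
    (show x ∈ f ⁻¹ᵁ U from hy) (f ⁻¹ᵁ U).2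
  have hE : (f.appLE U V hVU).hom.Etale := HasRingHomProperty.appLE @Etale f ‹_› ⟨U, hU⟩ ⟨V, hV⟩ hVU
  let := (f.appLE U V hVU).hom.toAlgebra
  refine ⟨Γ(Y, U), Γ(X, V), inferInstance, inferInstance, inferInstance, hE,
    IsLocallyNoetherian.component_noetherian ⟨U, hU⟩, (hV.primeIdealOf ⟨x, hx⟩).asIdeal, inferInstance,
    ?_, ?_⟩
  · have hc : (hV.primeIdealOf ⟨x, hx⟩).asIdeal.comap (algebraMap Γ(Y, U) Γ(X, V)) =
        (hU.primeIdealOf ⟨f x, hy⟩).asIdeal :=
      congrArg PrimeSpectrum.asIdeal (IsAffineOpen.comap_primeIdealOf_appLE U hU V hV hVU hx)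
    suffices ∀ (p : Ideal Γ(Y, U)) (_ : p.IsPrime), p = (hU.primeIdealOf ⟨f x, hy⟩).asIdeal →
        Nonempty (Y.presheaf.stalk (f.base x) ≃+* Localization.AtPrime p) from this _ _ hc
    rintro p _ rfl
    let := Y.presheaf.algebra_section_stalk (⟨f x, hy⟩ : U)
    have := hU.isLocalization_stalk ⟨f x, hy⟩
    exact ⟨(IsLocalization.algEquiv (hU.primeIdealOf ⟨f x, hy⟩).asIdeal.primeCompl
      (Y.presheaf.stalk (f x)) (Localization.AtPrime (hU.primeIdealOf ⟨f x, hy⟩).asIdeal)).toRingEquiv⟩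
  · let := X.presheaf.algebra_section_stalk (⟨x, hx⟩ : V)
    have := hV.isLocalization_stalk ⟨x, hx⟩
    exact ⟨(IsLocalization.algEquiv (hV.primeIdealOf ⟨x, hx⟩).asIdeal.primeCompl
      (X.presheaf.stalk x) (Localization.AtPrime (hV.primeIdealOf ⟨x, hx⟩).asIdeal)).toRingEquiv⟩

theorem ringKrullDim_stalk_eq :
    ringKrullDim (X.presheaf.stalk x) = ringKrullDim (Y.presheaf.stalk (f.base x)) := by
  obtain ⟨A, S, _, _, _, _, _, q, _, ⟨e₁⟩, ⟨e₂⟩⟩ := exists_etale_chart f x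
  rw [ringKrullDim_eq_of_ringEquiv e₁, ringKrullDim_eq_of_ringEquiv e₂]
  exact (atPrime_iff_of_etale A S q).1

theorem isReduced_stalk_iff :
    _root_.IsReduced (X.presheaf.stalk x) ↔ _root_.IsReduced (Y.presheaf.stalk (f.base x)) := by
  obtain ⟨A, S, _, _, _, _, _, q, _, ⟨e₁⟩, ⟨e₂⟩⟩ := exists_etale_chart f x
  have h₂ : _root_.IsReduced (X.presheaf.stalk x) ↔ _root_.IsReduced (Localization.AtPrime q) :=
    ⟨fun h => isReduced_of_injective e₂.symm e₂.symm.injective,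
      fun h => isReduced_of_injective e₂ e₂.injective⟩
  exact h₂.trans ((atPrime_iff_of_etale A S q).2.1.trans
      ⟨fun h => isReduced_of_injective e₁ e₁.injective,
        fun h => isReduced_of_injective e₁.symm e₁.symm.injective⟩)

theorem isRegularLocalRing_stalk_iff :
    IsRegularLocalRing (X.presheaf.stalk x) ↔ IsRegularLocalRing (Y.presheaf.stalk (f.base x)) := by
  obtain ⟨A, S, _, _, _, _, _, q, _, ⟨e₁⟩, ⟨e₂⟩⟩ := exists_etale_chart f x
  have h₂ : IsRegularLocalRing (X.presheaf.stalk x) ↔ IsRegularLocalRing (Localization.AtPrime q) :=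
    ⟨fun h => IsRegularLocalRing.of_ringEquiv e₂, fun h => IsRegularLocalRing.of_ringEquiv e₂.symm⟩
  exact h₂.trans ((Groth.Agent.S9246.result A S q).symm.trans
      ⟨fun h => IsRegularLocalRing.of_ringEquiv e₁.symm, fun h => IsRegularLocalRing.of_ringEquiv e₁⟩)

theorem isNormalDomain_stalk_iff :
    (IsDomain (X.presheaf.stalk x) ∧ IsIntegrallyClosed (X.presheaf.stalk x)) ↔
      (IsDomain (Y.presheaf.stalk (f.base x)) ∧ IsIntegrallyClosed (Y.presheaf.stalk (f.base x))) := by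
  obtain ⟨A, S, _, _, _, _, _, q, _, ⟨e₁⟩, ⟨e₂⟩⟩ := exists_etale_chart f x
  have h₂ : (IsDomain (X.presheaf.stalk x) ∧ IsIntegrallyClosed (X.presheaf.stalk x)) ↔
      (IsDomain (Localization.AtPrime q) ∧ IsIntegrallyClosed (Localization.AtPrime q)) :=
    ⟨fun ⟨_, _⟩ => ⟨e₂.symm.injective.isDomain e₂.symm.toRingHom, IsIntegrallyClosed.of_equiv e₂⟩,
      fun ⟨_, _⟩ => ⟨e₂.injective.isDomain e₂.toRingHom, IsIntegrallyClosed.of_equiv e₂.symm⟩⟩
  exact h₂.trans
    ((atPrime_iff_of_etale A S q).2.2.trans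
      ⟨fun ⟨_, _⟩ => ⟨e₁.injective.isDomain e₁.toRingHom, IsIntegrallyClosed.of_equiv e₁.symm⟩,
        fun ⟨_, _⟩ => ⟨e₁.symm.injective.isDomain e₁.symm.toRingHom, IsIntegrallyClosed.of_equiv e₁⟩⟩)

end Groth.EtaleBase
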