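import Groth.Prelude.Def_EtBase
import Mathlib.AlgebraicGeometry.Morphisms.ClosedImmersion
import Mathlib.RingTheory.Unramified.LocalStructure
import Mathlib.RingTheory.Etale.StandardEtale

/-!
Lifting étale schemes along closed immersions, locally.
-/

set_option autoImplicit false

universe u

open CategoryTheory CategoryTheory.Limits AlgebraicGeometry TensorProduct Polynomial

namespace Groth.EtaleBase

/-- Standard étale pairs lift along surjections. -/
lemma exists_lift_standardEtalePair {A B : Type u} [CommRing A] [CommRing B] [Algebra A B]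
    (hs : Function.Surjective (algebraMap A B)) (P : StandardEtalePair B) :
    ∃ Q : StandardEtalePair A, Nonempty (B ⊗[A] Q.Ring ≃ₐ[B] P.Ring) := by
  have hmem : P.f ∈ Polynomial.lifts (algebraMap A B) := by
    rw [lifts_iff_coeff_lifts]
    exact fun i => hs _
  obtain ⟨F, hF, -, hFm⟩ := lifts_and_natDegree_eq_and_monic hmem P.monic_f
  obtain ⟨G, hG⟩ := Polynomial.map_surjective _ hs P.g
  let Q : StandardEtalePair A :=
    { f := F, monic_f := hFm, g := G * derivative F, cond := ⟨G, 0, 1, by ring⟩ }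
  let R := Q.map (algebraMap A B)
  have hRf : R.f = P.f := hF
  have hRg : R.g = P.g * derivative P.f := by
    show (G * derivative F).map (algebraMap A B) = _
    rw [Polynomial.map_mul, hG, ← derivative_map, hF]
  let pres : StandardEtalePresentation A Q.Ring :=
    ⟨Q, Q.X, StandardEtalePair.hasMap_X, by
      simpa [StandardEtalePair.lift_X_left] using Function.bijective_id⟩
  have e₁ : B ⊗[A] Q.Ring ≃ₐ[B] R.Ring :=
    (StandardEtalePresentation.baseChange (T := B) pres).equivRing
  have h1 : R.HasMap P.X := by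
    have hP := StandardEtalePair.hasMap_X (P := P)
    refine ⟨by rw [hRf]; exact hP.1, ?_⟩
    rw [hRg, map_mul]
    exact hP.2.mul hP.isUnit_derivative_f
  have h2 : P.HasMap R.X := by
    have hR := StandardEtalePair.hasMap_X (P := R)
    refine ⟨by rw [← hRf]; exact hR.1, ?_⟩
    have := hR.2
    rw [hRg, map_mul] at this
    exact (IsUnit.mul_iff.1 this).1
  exact ⟨Q, ⟨e₁.trans (AlgEquiv.ofAlgHom (R.lift P.X h1) (P.lift R.X h2)
    (P.hom_ext (by simp)) (R.hom_ext (by simp)))⟩⟩

set_option backward.isDefEq.respectTransparency.types false in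
lemma exists_etale_lift_affine {A B : Type u} [CommRing A] [CommRing B] [Algebra A B]
    (hs : Function.Surjective (algebraMap A B)) {U : Scheme.{u}}
    (g : U ⟶ Spec (CommRingCat.of B)) [Etale g] (u : U) :
    ∃ (V : Scheme.{u}) (v : V ⟶ Spec (CommRingCat.of A)) (_ : Etale v)
      (h : pullback (Spec.map (CommRingCat.ofHom (algebraMap A B))) v ⟶ U),
      h ≫ g = pullback.fst _ v ∧ IsOpenImmersion h ∧ u ∈ Set.range h.base := by
  obtain ⟨_, ⟨W, hW, rfl⟩, huW, -⟩ := U.isBasis_affineOpens.exists_subset_of_mem_open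
    (Set.mem_univ u) isOpen_univ
  let C := Γ(U, W)
  obtain ⟨φ, hφ⟩ := Spec.map_surjective (hW.fromSpec ≫ g : Spec C ⟶ _)
  letI : Algebra B C := φ.hom.toAlgebra
  have : Etale (Spec.map φ) := hφ ▸ inferInstance
  have : Algebra.Etale B C :=
    RingHom.etale_algebraMap.1 ((HasRingHomProperty.Spec_iff (P := @Etale)).1 this)
  obtain ⟨w, hw⟩ : u ∈ Set.range hW.fromSpec.base := by rw [hW.range_fromSpec]; exact huW
  let q : Ideal C := (w : PrimeSpectrum C).asIdeal
  have : Algebra.IsEtaleAt B q :=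
    ((Algebra.etaleLocus_eq_univ_iff_etale (R := B) (A := C)).2 inferInstance).ge (Set.mem_univ (w : PrimeSpectrum C))
  obtain ⟨c, hc, hstd⟩ := Algebra.IsEtaleAt.exists_isStandardEtale (R := B) q
  obtain ⟨P⟩ := hstd.nonempty_standardEtalePresentation
  obtain ⟨Q, ⟨e⟩⟩ := exists_lift_standardEtalePair hs P.P
  let v := Spec.map (CommRingCat.ofHom (algebraMap A Q.Ring))
  have : Etale v := (HasRingHomProperty.Spec_iff (P := @Etale)).2
    (RingHom.etale_algebraMap.2 inferInstance)
  let e' : Localization.Away c ≃ₐ[B] B ⊗[A] Q.Ring := P.equivRing.trans e.symm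
  let ei : CommRingCat.of (Localization.Away c) ≅ CommRingCat.of (B ⊗[A] Q.Ring) :=
    e'.toRingEquiv.toCommRingCatIso
  let m : Spec (CommRingCat.of (Localization.Away c)) ⟶ U :=
    Spec.map (CommRingCat.ofHom (algebraMap C (Localization.Away c))) ≫ hW.fromSpec
  have : IsOpenImmersion (Spec.map (CommRingCat.ofHom (algebraMap C (Localization.Away c)))) :=
    IsOpenImmersion.of_isLocalization c
  let h := (pullbackSpecIso A B Q.Ring).hom ≫ Spec.map ei.hom ≫ m
  refine ⟨_, v, inferInstance, h, ?_, inferInstance, ?_⟩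
  · have he : φ ≫ CommRingCat.ofHom (algebraMap C (Localization.Away c)) ≫ ei.hom =
        CommRingCat.ofHom (algebraMap B (B ⊗[A] Q.Ring)) := by
      refine CommRingCat.hom_ext (RingHom.ext fun b => ?_)
      show e' (algebraMap C (Localization.Away c) (algebraMap B C b)) = _
      rw [← IsScalarTower.algebraMap_apply, AlgEquiv.commutes]
      rfl
    show ((pullbackSpecIso A B Q.Ring).hom ≫ Spec.map ei.hom ≫ m) ≫ g = _
    simp only [m, Category.assoc]
    rw [← hφ, ← Spec.map_comp, ← Spec.map_comp, Category.assoc, he]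
    exact pullbackSpecIso_hom_fst' A B Q.Ring
  · have hu : w ∈ Set.range (Spec.map (CommRingCat.ofHom (algebraMap C (Localization.Away c)))).base :=
      (PrimeSpectrum.localization_away_comap_range (Localization.Away c) c).superset hc
    obtain ⟨z, hz⟩ := hu
    obtain ⟨z', hz'⟩ := ((pullbackSpecIso A B Q.Ring).hom ≫ Spec.map ei.hom).surjective z
    refine ⟨z', ?_⟩
    show ((pullbackSpecIso A B Q.Ring).hom ≫ Spec.map ei.hom ≫ m).base z' = u
    rw [← Category.assoc, Scheme.Hom.comp_apply, hz']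
    exact (congrArg (fun a => hW.fromSpec.base a) hz).trans hw

set_option backward.isDefEq.respectTransparency.types false in
/-- Étale schemes lift along closed immersions, Zariski locally. -/
theorem exists_etale_lift {X Y U : Scheme.{u}} (f : X ⟶ Y) [IsClosedImmersion f] (g : U ⟶ X)
    [Etale g] (u : U) :
    ∃ (V : Scheme.{u}) (v : V ⟶ Y) (_ : Etale v) (h : pullback v f ⟶ U),
      h ≫ g = pullback.snd v f ∧ IsOpenImmersion h ∧ u ∈ Set.range h.base := by
  obtain ⟨_, ⟨O, hO, rfl⟩, hyO, -⟩ := Y.isBasis_affineOpens.exists_subset_of_mem_open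
    (Set.mem_univ (f.base (g.base u))) isOpen_univ
  let j : Spec Γ(Y, O) ⟶ Y := hO.fromSpec
  let X₀ := pullback f j
  have : IsAffine X₀ := isAffine_of_isAffineHom (pullback.snd f j)
  let A := Γ(Y, O)
  let B := Γ(X₀, ⊤)
  obtain ⟨ψ, hψ⟩ := Spec.map_surjective (X₀.isoSpec.inv ≫ pullback.snd f j : Spec B ⟶ Spec A)
  letI : Algebra A B := ψ.hom.toAlgebra
  have : IsClosedImmersion (Spec.map ψ) := hψ ▸ inferInstance
  have hs : Function.Surjective (algebraMap A B) := by
    have h := (IsClosedImmersion.isAffine_surjective_of_isAffine (f := Spec.map ψ)).2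
    intro b
    obtain ⟨a, ha⟩ := h ((Scheme.ΓSpecIso B).inv.hom b)
    refine ⟨(Scheme.ΓSpecIso A).hom.hom a, ?_⟩
    have e : (Spec.map ψ).appTop ≫ (Scheme.ΓSpecIso B).hom = (Scheme.ΓSpecIso A).hom ≫ ψ :=
      Scheme.ΓSpecIso_naturality ψ
    have := ConcreteCategory.congr_hom e a
    show ψ.hom _ = b
    refine (this.symm.trans ?_)
    show (Scheme.ΓSpecIso B).hom.hom ((Spec.map ψ).appTop.hom a) = b
    rw [ha]
    simp
  let i : Spec B ⟶ X := X₀.isoSpec.inv ≫ pullback.fst f j
  obtain ⟨y₀, hy₀⟩ : f.base (g.base u) ∈ Set.range j.base := by rw [hO.range_fromSpec]; exact hyO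
  obtain ⟨x₀, hx₀, -⟩ := Scheme.Pullback.exists_preimage_pullback (f := f) (g := j) (g.base u) y₀ hy₀.symm
  have hx : i.base (X₀.isoSpec.hom.base x₀) = g.base u := by
    rw [← Scheme.Hom.comp_apply]; simp [i, hx₀]
  obtain ⟨u₀, hu₀, -⟩ := Scheme.Pullback.exists_preimage_pullback (f := g) (g := i) u _ hx.symm
  have : IsOpenImmersion i := inferInstance
  have : IsOpenImmersion (pullback.fst g i) := inferInstance
  obtain ⟨V, v, hv, h, hh, hopen, hu⟩ := exists_etale_lift_affine (A := A) (B := B) hs (pullback.snd g i) u₀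
  let e : pullback f (v ≫ j) ≅ pullback (pullback.snd f j) v := (pullbackLeftPullbackSndIso f j v).symm
  have hw : pullback.snd f j = X₀.isoSpec.hom ≫ Spec.map ψ := by rw [hψ, Iso.hom_inv_id_assoc]
  let m : pullback (pullback.snd f j) v ⟶ pullback (Spec.map ψ) v :=
    pullback.map _ _ _ _ X₀.isoSpec.hom (𝟙 _) (𝟙 _) (by rw [Category.comp_id]; exact hw) (by simp)
  have : IsIso m := inferInstance
  let k := (pullbackSymmetry (v ≫ j) f).hom ≫ e.hom ≫ m
  refine ⟨V, v ≫ j, inferInstance, k ≫ h ≫ pullback.fst g i, ?_, inferInstance, ?_⟩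
  · simp only [k, Category.assoc]
    rw [pullback.condition, reassoc_of% hh]
    have : m ≫ pullback.fst _ _ = pullback.fst _ _ ≫ X₀.isoSpec.hom := pullback.lift_fst _ _ _
    erw [reassoc_of% this]
    simp [i, e, pullbackLeftPullbackSndIso_inv_fst]
  · obtain ⟨w, rfl⟩ := hu
    obtain ⟨w', rfl⟩ := k.surjective w
    exact ⟨w', by rw [← hu₀]; rfl⟩

end Groth.EtaleBase
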