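import Groth.Agent.Calg4.RegularFlat
import Groth.Agent.EtaleAlgebra.AbsFlat
import Groth.Agent.Hensel1.Normal
import Groth.Agent.Ega4Algebra1.FlatDescent
import Mathlib.RingTheory.Smooth.IntegralClosure
import Mathlib.RingTheory.Localization.BaseChange
import Mathlib.RingTheory.Etale.Weakly

/-!
Local rings of etale algebras.
-/

set_option autoImplicit false

universe u

open TensorProduct Polynomial

namespace Groth.EtaleBase

/-- A localization at a prime of an etale algebra over a normal domain is a normal domain. -/
theorem isNormalDomain_of_etale_atPrime (R S L : Type u) [CommRing R] [IsDomain R] [IsIntegrallyClosed R]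
    [CommRing S] [Algebra R S] [Algebra.Etale R S] (q : Ideal S) [q.IsPrime] [CommRing L] [Algebra S L]
    [IsLocalization.AtPrime L q] [Algebra R L] [IsScalarTower R S L] :
    IsDomain L ∧ IsIntegrallyClosed L := by
  let K := FractionRing R
  have : IsLocalRing L := IsLocalization.AtPrime.isLocalRing L q
  have : Algebra.FormallyEtale S L := Algebra.FormallyEtale.of_isLocalization q.primeCompl
  have : Algebra.FormallyUnramified R L := Algebra.FormallyUnramified.comp R S L
  have : Algebra.EssFiniteType S L := .of_isLocalization _ q.primeCompl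
  have : Algebra.EssFiniteType R L := .comp R S L
  have : Module.Flat S L := IsLocalization.flat _ q.primeCompl
  have : Module.Flat R L := Module.Flat.trans R S L
  have hbij : Function.Bijective (TensorProduct.toIntegralClosure R L K) :=
    TensorProduct.toIntegralClosure_bijective_of_tower (S := S)
      TensorProduct.toIntegralClosure_bijective_of_smooth
      (TensorProduct.toIntegralClosure_bijective_of_isLocalization q.primeCompl)
  have hint : ∀ x : L ⊗[R] K, IsIntegral L x → ∃ l : L, l ⊗ₜ 1 = x := fun x hx => by
    obtain ⟨z, hz⟩ := hbij.2 ⟨x, hx⟩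
    obtain ⟨l, hl⟩ : ∃ l : L, Algebra.TensorProduct.map (AlgHom.id L L)
        (integralClosure R K).val z = l ⊗ₜ 1 := by
      clear hz
      induction z with
      | zero => exact ⟨0, by simp⟩
      | tmul l y =>
        obtain ⟨r, hr⟩ := IsIntegrallyClosed.algebraMap_eq_of_integral y.2
        refine ⟨r • l, ?_⟩
        rw [Algebra.TensorProduct.map_tmul, AlgHom.id_apply, Subalgebra.coe_val, ← hr,
          Algebra.algebraMap_eq_smul_one, TensorProduct.smul_tmul]
      | add z₁ z₂ h₁ h₂ =>
        obtain ⟨l₁, h₁⟩ := h₁; obtain ⟨l₂, h₂⟩ := h₂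
        exact ⟨l₁ + l₂, by rw [map_add, h₁, h₂, TensorProduct.add_tmul]⟩
    refine ⟨l, ?_⟩
    rw [← hl]
    exact congr_arg Subtype.val hz
  have hinj : Function.Injective (algebraMap L (L ⊗[R] K)) :=
    Algebra.TensorProduct.includeLeft_injective (S := R) (IsFractionRing.injective R K)
  let e : K ⊗[R] L ≃+* L ⊗[R] K := (Algebra.TensorProduct.comm R K L).toRingEquiv
  have : Module.Finite K (K ⊗[R] L) := Algebra.FormallyUnramified.finite_of_free K _
  have : IsArtinianRing (K ⊗[R] L) := isArtinian_of_tower K inferInstance
  have : IsReduced (K ⊗[R] L) := Algebra.FormallyUnramified.isReduced_of_field K _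
  have : Nontrivial (L ⊗[R] K) := hinj.nontrivial
  have : IsArtinianRing (L ⊗[R] K) := e.surjective.isArtinianRing
  have : IsReduced (L ⊗[R] K) := isReduced_of_injective e.symm e.symm.injective
  have hfield : ∀ t : L ⊗[R] K, t ≠ 0 → IsUnit t := Groth.Hensel1.isUnit_of_artinian_of_idem fun f hf => by
    obtain ⟨l, hl⟩ := hint f ⟨X ^ 2 - X,
      monic_X_pow_sub (n := 2) (degree_X_le.trans_lt (by norm_num)),
      by simp [pow_two, hf.eq]⟩
    have hli : IsIdempotentElem l := hinj (by
      rw [map_mul, show algebraMap L (L ⊗[R] K) l = f from hl]; exact hf)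
    rcases IsLocalRing.isUnit_or_isUnit_one_sub_self l with hu | hu
    · have h : l = 1 := hu.mul_left_cancel (by rw [hli.eq, mul_one])
      exact Or.inr (by rw [← hl, h]; rfl)
    · have h : l = 0 := hu.mul_right_eq_zero.mp (by rw [sub_mul, one_mul, hli.eq, sub_self])
      exact Or.inl (by rw [← hl, h, TensorProduct.zero_tmul])
  have hdom : IsDomain L := by
    have : NoZeroDivisors (L ⊗[R] K) := ⟨fun {a b} hab => or_iff_not_imp_left.mpr fun ha =>
      (hfield a ha).mul_right_eq_zero.mp hab⟩
    have : IsDomain (L ⊗[R] K) := NoZeroDivisors.to_isDomain _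
    exact hinj.isDomain (algebraMap L (L ⊗[R] K))
  refine ⟨hdom, Groth.Hensel1.isIntegrallyClosed_of_dividesOfIntegral fun a b p hb hp h => ?_⟩
  have hbu : IsUnit (algebraMap L (L ⊗[R] K) b) := hfield _ ((map_ne_zero_iff _ hinj).mpr hb)
  obtain ⟨l, hl⟩ := hint (algebraMap L (L ⊗[R] K) a * ↑hbu.unit⁻¹) ⟨p, hp, by
    have h1 : eval₂ (algebraMap L (L ⊗[R] K)) (algebraMap L (L ⊗[R] K) b *
        (algebraMap L (L ⊗[R] K) a * ↑hbu.unit⁻¹)) (p.scaleRoots b) = 0 := by
      rw [mul_left_comm, IsUnit.mul_val_inv, mul_one, eval₂_at_apply, h, map_zero]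
    rw [scaleRoots_eval₂_mul] at h1
    exact (hbu.pow _).mul_right_eq_zero.mp h1⟩
  refine ⟨l, hinj ?_⟩
  rw [map_mul, show algebraMap L (L ⊗[R] K) l = l ⊗ₜ 1 from rfl, hl, mul_left_comm,
    IsUnit.mul_val_inv, mul_one]

variable (A S : Type u) [CommRing A] [CommRing S] [Algebra A S] [Algebra.Etale A S]
  (q : Ideal S) [q.IsPrime]

attribute [local instance] Algebra.TensorProduct.rightAlgebra in
/-- The local ring of an etale algebra over `A` is the local ring of an etale algebra over `A_p`. -/
theorem exists_localized_etale :
    ∃ (S' : Type u) (_ : CommRing S') (_ : Algebra (Localization.AtPrime (q.comap (algebraMap A S))) S'),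
      Algebra.Etale (Localization.AtPrime (q.comap (algebraMap A S))) S' ∧
      ∃ (Q : Ideal S') (_ : Q.IsPrime),
        Nonempty (Localization.AtPrime q ≃+* Localization.AtPrime Q) := by
  let p := q.comap (algebraMap A S)
  let Ap := Localization.AtPrime p
  let M := Algebra.algebraMapSubmonoid S p.primeCompl
  have hdisj : Disjoint (M : Set S) (q : Set S) := by
    rw [Set.disjoint_left]
    rintro _ ⟨a, ha, rfl⟩ h
    exact ha h
  have hloc : IsLocalization M (Ap ⊗[A] S) := IsLocalization.tensorRight Ap p.primeCompl
  let Q : Ideal (Ap ⊗[A] S) := q.map (algebraMap S (Ap ⊗[A] S))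
  have hQ : Q.IsPrime := IsLocalization.isPrime_of_isPrime_disjoint M _ q inferInstance hdisj
  have hc : Q.comap (algebraMap S (Ap ⊗[A] S)) = q :=
    IsLocalization.under_map_of_isPrime_disjoint M _ inferInstance hdisj
  refine ⟨Ap ⊗[A] S, inferInstance, inferInstance, inferInstance, Q, hQ, ?_⟩
  have h : IsLocalization.AtPrime (Localization.AtPrime Q) (Q.comap (algebraMap S (Ap ⊗[A] S))) :=
    IsLocalization.isLocalization_isLocalization_atPrime_isLocalization M _ Q
  simp only [hc] at h
  exact ⟨(IsLocalization.algEquiv q.primeCompl (Localization.AtPrime q) (Localization.AtPrime Q)).toRingEquiv⟩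

/-- Normality of local rings ascends along etale maps. -/
theorem isNormalDomain_atPrime_of_etale
    [IsDomain (Localization.AtPrime (q.comap (algebraMap A S)))]
    [IsIntegrallyClosed (Localization.AtPrime (q.comap (algebraMap A S)))] :
    IsDomain (Localization.AtPrime q) ∧ IsIntegrallyClosed (Localization.AtPrime q) := by
  obtain ⟨S', _, _, _, Q, _, ⟨e⟩⟩ := exists_localized_etale A S q
  obtain ⟨_, _⟩ := isNormalDomain_of_etale_atPrime (Localization.AtPrime (q.comap (algebraMap A S))) S'
    (Localization.AtPrime Q) Q
  exact ⟨e.injective.isDomain e.toRingHom, IsIntegrallyClosed.of_equiv e.symm⟩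

/-- Reducedness of local rings ascends along etale maps. -/
theorem isReduced_atPrime_of_etale [IsReduced (Localization.AtPrime (q.comap (algebraMap A S)))] :
    IsReduced (Localization.AtPrime q) := by
  obtain ⟨S', _, _, _, Q, _, ⟨e⟩⟩ := exists_localized_etale A S q
  have := Groth.EtaleAlgebra.isReduced_of_weaklyEtale (Localization.AtPrime (q.comap (algebraMap A S))) S'
  have : IsReduced (Localization.AtPrime Q) := inferInstance
  exact isReduced_of_injective e e.injective

section descent

variable [IsNoetherianRing A]

set_option maxHeartbeats 1000000 in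
/-- Local rings of etale algebras over a noetherian ring: dimension, reducedness, normality. -/
theorem atPrime_iff_of_etale :
    ringKrullDim (Localization.AtPrime q) =
        ringKrullDim (Localization.AtPrime (q.comap (algebraMap A S))) ∧
      (IsReduced (Localization.AtPrime q) ↔
        IsReduced (Localization.AtPrime (q.comap (algebraMap A S)))) ∧
      ((IsDomain (Localization.AtPrime q) ∧ IsIntegrallyClosed (Localization.AtPrime q)) ↔
        (IsDomain (Localization.AtPrime (q.comap (algebraMap A S))) ∧
          IsIntegrallyClosed (Localization.AtPrime (q.comap (algebraMap A S))))) := by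
  let p := q.comap (algebraMap A S)
  let _ : Algebra (Localization.AtPrime p) (Localization.AtPrime q) :=
    (Localization.localRingHom p q (algebraMap A S) rfl).toAlgebra
  have : IsScalarTower A (Localization.AtPrime p) (Localization.AtPrime q) :=
    IsScalarTower.of_algebraMap_eq fun a => by
      rw [RingHom.algebraMap_toAlgebra, Localization.localRingHom_to_map,
        IsScalarTower.algebraMap_apply A S (Localization.AtPrime q)]
  have : IsLocalHom (algebraMap (Localization.AtPrime p) (Localization.AtPrime q)) :=
    Localization.isLocalHom_localRingHom p q (algebraMap A S) rfl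
  have : Module.Flat A (Localization.AtPrime q) := Module.Flat.trans A S _
  have : Module.Flat (Localization.AtPrime p) (Localization.AtPrime q) :=
    (Module.flat_iff_of_isLocalization (Localization.AtPrime p) p.primeCompl _).mpr inferInstance
  have : IsNoetherianRing S := Algebra.FiniteType.isNoetherianRing A S
  have : Algebra.EssFiniteType S (Localization.AtPrime q) :=
    Algebra.EssFiniteType.of_isLocalization _ q.primeCompl
  have : Algebra.EssFiniteType A (Localization.AtPrime q) := Algebra.EssFiniteType.comp A S _
  have : Algebra.EssFiniteType (Localization.AtPrime p) (Localization.AtPrime q) :=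
    Algebra.EssFiniteType.of_comp A _ _
  have : IsNoetherianRing (Localization.AtPrime p) := IsLocalization.isNoetherianRing p.primeCompl _ ‹_›
  have : IsNoetherianRing (Localization.AtPrime q) := IsLocalization.isNoetherianRing q.primeCompl _ ‹_›
  have : Algebra.FormallyUnramified S (Localization.AtPrime q) :=
    Algebra.FormallyUnramified.of_isLocalization q.primeCompl
  have : Algebra.FormallyUnramified A (Localization.AtPrime q) := Algebra.FormallyUnramified.comp A S _
  have : Algebra.FormallyUnramified (Localization.AtPrime p) (Localization.AtPrime q) :=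
    Algebra.FormallyUnramified.of_restrictScalars A _ _
  have hm : (IsLocalRing.maximalIdeal (Localization.AtPrime p)).map
      (algebraMap (Localization.AtPrime p) (Localization.AtPrime q)) =
        IsLocalRing.maximalIdeal (Localization.AtPrime q) := Algebra.FormallyUnramified.map_maximalIdeal
  have : Module.FaithfullyFlat (Localization.AtPrime p) (Localization.AtPrime q) :=
    Module.FaithfullyFlat.of_flat_of_isLocalHom
  have hinj := FaithfulSMul.algebraMap_injective (Localization.AtPrime p) (Localization.AtPrime q)
  refine ⟨?_, ⟨fun h => isReduced_of_injective _ hinj, fun h => isReduced_atPrime_of_etale A S q⟩,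
    ⟨fun ⟨_, _⟩ => ?_, fun ⟨_, _⟩ => isNormalDomain_atPrime_of_etale A S q⟩⟩
  · have : ((IsLocalRing.maximalIdeal (Localization.AtPrime p)).map
      (algebraMap (Localization.AtPrime p) (Localization.AtPrime q))).IsMaximal :=
      hm ▸ IsLocalRing.maximalIdeal.isMaximal _
    let := Ideal.Quotient.field ((IsLocalRing.maximalIdeal (Localization.AtPrime p)).map
      (algebraMap (Localization.AtPrime p) (Localization.AtPrime q)))
    rw [Groth.Calg4.ringKrullDim_eq_add_of_flat (Localization.AtPrime p) (Localization.AtPrime q),
      ringKrullDim_eq_zero_of_field, add_zero]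
  · exact ⟨Groth.Ega4Algebra1.isDomain_of_faithfullyFlat _ (Localization.AtPrime q),
      Groth.Ega4Algebra1.isIntegrallyClosed_of_faithfullyFlat _ (Localization.AtPrime q)⟩

end descent

end Groth.EtaleBase
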