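import Mathlib.AlgebraicGeometry.Morphisms.Etale
import Mathlib.AlgebraicGeometry.Morphisms.FlatMono
import Mathlib.AlgebraicGeometry.Morphisms.UniversallyInjective
import Mathlib.AlgebraicGeometry.Morphisms.UniversallyClosed
import Mathlib.AlgebraicGeometry.Morphisms.QuasiFinite
import Mathlib.RingTheory.Unramified.LocalStructure

/-!
Rigidity of morphisms to unramified schemes and topological invariance of maps to etale schemes.
-/

set_option autoImplicit false

universe u

open CategoryTheory CategoryTheory.Limits AlgebraicGeometry

namespace Groth.EtaleBase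

attribute [local simp] pullback.lift_fst pullback.lift_snd pullback.lift_fst_assoc pullback.lift_snd_assoc

/-- An unramified morphism is locally quasi-finite. -/
instance (priority := low) locallyQuasiFinite_of_formallyUnramified {X S : Scheme.{u}} (π : X ⟶ S)
    [FormallyUnramified π] [LocallyOfFiniteType π] : LocallyQuasiFinite π := by
  rw [HasRingHomProperty.iff_appLE (P := @LocallyQuasiFinite)]
  intro U V e
  have h1 := π.formallyUnramified_appLE U.2 V.2 e
  have h2 := HasRingHomProperty.appLE (P := @LocallyOfFiniteType) π inferInstance U V e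
  algebraize [(π.appLE U.1 V.1 e).hom]
  exact (inferInstance : Algebra.QuasiFinite Γ(S, U.1) Γ(X, V.1))

section equalizer

variable {X S Y : Scheme.{u}} (π : X ⟶ S) (f g : Y ⟶ X) (w : f ≫ π = g ≫ π)

/-- The locus where two maps over `S` agree, as a pullback of the diagonal. -/
noncomputable abbrev agree : Scheme.{u} := pullback (pullback.lift f g w) (pullback.diagonal π)

lemma agree_fst_comp :
    pullback.fst (pullback.lift f g w) (pullback.diagonal π) ≫ f =
      pullback.fst (pullback.lift f g w) (pullback.diagonal π) ≫ g := by
  have h := pullback.condition (f := pullback.lift f g w) (g := pullback.diagonal π)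
  have h1 := congrArg (· ≫ pullback.fst π π) h
  have h2 := congrArg (· ≫ pullback.snd π π) h
  simp only [Category.assoc, pullback.lift_fst, pullback.lift_snd, pullback.diagonal_fst,
    pullback.diagonal_snd, Category.comp_id] at h1 h2
  rw [h1, h2]

variable [FormallyUnramified π] [LocallyOfFiniteType π]

include w in
lemma eq_of_surjective_agree {T : Scheme.{u}} (p : T ⟶ Y) [Surjective p] (h : p ≫ f = p ≫ g) :
    f = g := by
  let l : T ⟶ agree π f g w := pullback.lift p (p ≫ f) (by
    apply pullback.hom_ext <;> simp [h, pullback.lift_fst, pullback.lift_snd])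
  have : Surjective (pullback.fst (pullback.lift f g w) (pullback.diagonal π)) :=
    ⟨fun y => by
      obtain ⟨t, rfl⟩ := p.surjective y
      exact ⟨l.base t, by rw [← Scheme.Hom.comp_apply]; simp [l, pullback.lift_fst]⟩⟩
  have : IsIso (pullback.fst (pullback.lift f g w) (pullback.diagonal π)) :=
    (isIso_iff_isOpenImmersion_and_surjective _).2 ⟨inferInstance, this⟩
  exact (cancel_epi (pullback.fst (pullback.lift f g w) (pullback.diagonal π))).1
    (agree_fst_comp π f g w)

include w in
/-- Two maps from a connected scheme to a separated unramified scheme agreeing at one point,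
residue field included, are equal. -/
lemma eq_of_agree_at_point [IsSeparated π] [ConnectedSpace Y] (y : Y)
    (hy : Y.fromSpecResidueField y ≫ f = Y.fromSpecResidueField y ≫ g) : f = g := by
  let l : Spec (Y.residueField y) ⟶ agree π f g w := pullback.lift (Y.fromSpecResidueField y)
    (Y.fromSpecResidueField y ≫ f) (by apply pullback.hom_ext <;> simp [hy, pullback.lift_fst, pullback.lift_snd])
  have hsurj : Surjective (pullback.fst (pullback.lift f g w) (pullback.diagonal π)) := by
    refine ⟨Set.range_eq_univ.1 ?_⟩
    refine IsClopen.eq_univ ⟨(Scheme.Hom.isClosedEmbedding _).isClosed_range,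
      (Scheme.Hom.isOpenEmbedding _).isOpen_range⟩ ⟨y, l.base default, ?_⟩
    rw [← Scheme.Hom.comp_apply]
    simp [l, pullback.lift_fst]
  exact eq_of_surjective_agree π f g w _ (agree_fst_comp π f g w)

end equalizer

section sections

/-- A section of an etale morphism is an open immersion. -/
lemma isOpenImmersion_section {X Y : Scheme.{u}} (f : X ⟶ Y) [Etale f] (s : Y ⟶ X)
    (hs : s ≫ f = 𝟙 Y) : IsOpenImmersion s := by
  have : Etale (s ≫ f) := hs ▸ inferInstance
  have : Etale s := .of_comp s f
  have : IsSplitMono s := .mk' ⟨f, hs⟩
  exact IsOpenImmersion.of_flat_of_mono s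

set_option backward.isDefEq.respectTransparency.types false in
lemma surjective_pullback_map {A B W Y : Scheme.{u}} (σ : A ⟶ W) (τ : B ⟶ W) (h : W ⟶ Y)
    [Surjective σ] [Surjective τ] :
    Surjective (pullback.map (σ ≫ h) (τ ≫ h) h h σ τ (𝟙 Y) (Category.comp_id _) (Category.comp_id _)) :=
  MorphismProperty.pullbackMap (P := @Surjective) ‹Surjective σ› ‹Surjective τ› rfl rfl

/-- Universal injectivity descends along a surjection of the source. -/
lemma universallyInjective_of_surjective_comp {A W Y : Scheme.{u}} (σ : A ⟶ W) (h : W ⟶ Y)
    [Surjective σ] [UniversallyInjective (σ ≫ h)] : UniversallyInjective h := by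
  rw [UniversallyInjective.iff_diagonal]
  have := (UniversallyInjective.iff_diagonal (σ ≫ h)).1 inferInstance
  have h2 := surjective_pullback_map σ σ h
  have : pullback.diagonal (σ ≫ h) ≫ pullback.map (σ ≫ h) (σ ≫ h) h h σ σ (𝟙 Y)
      (Category.comp_id _) (Category.comp_id _) = σ ≫ pullback.diagonal h := by
    apply pullback.hom_ext <;> simp [pullback.lift_fst, pullback.lift_snd, pullback.map]
  exact @Surjective.of_comp _ _ _ σ (pullback.diagonal h) (this ▸ inferInstance)

end sections

section invariance

variable {S S' : Scheme.{u}} (g : S' ⟶ S) [UniversallyInjective g] [UniversallyClosed g] [Surjective g]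

set_option backward.isDefEq.respectTransparency.types false in
/-- Maps into etale schemes do not change under base change along universal homeomorphisms. -/
lemma pullback_hom_bijective (X Y : Over S) [Etale X.hom] :
    Function.Bijective (fun φ : Y ⟶ X => (Over.pullback g).map φ) := by
  constructor
  · intro φ ψ hφψ
    apply Over.OverMorphism.ext
    refine eq_of_surjective_agree X.hom φ.left ψ.left ((Over.w φ).trans (Over.w ψ).symm)
      (pullback.fst Y.hom g) ?_
    have := congrArg (fun α => Over.Hom.left α ≫ pullback.fst X.hom g) hφψ
    simpa using this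
  · intro ψ
    let p : pullback Y.hom g ⟶ Y.left := pullback.fst Y.hom g
    let a : pullback Y.hom g ⟶ X.left := ψ.left ≫ pullback.fst X.hom g
    have ha : p ≫ Y.hom = a ≫ X.hom := by
      have hw : ψ.left ≫ pullback.snd X.hom g = pullback.snd Y.hom g := Over.w ψ
      simp only [p, a, Category.assoc, pullback.condition]
      rw [reassoc_of% hw]
    let q : pullback Y.hom X.hom ⟶ Y.left := pullback.fst Y.hom X.hom
    let σ : pullback Y.hom g ⟶ pullback Y.hom X.hom := pullback.lift p a ha
    let τ : pullback Y.hom g ⟶ pullback q p := pullback.lift σ (𝟙 _) (by simp [σ, q])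
    have : Etale q := inferInstanceAs (Etale (pullback.fst Y.hom X.hom))
    have : Etale (pullback.snd q p) := inferInstance
    have hτ : IsOpenImmersion τ := isOpenImmersion_section (pullback.snd q p) τ (by simp [τ])
    let r : pullback q p ⟶ pullback Y.hom X.hom := pullback.fst q p
    have hpi : UniversallyInjective p := MorphismProperty.pullback_fst _ _ ‹UniversallyInjective g›
    have hpc : UniversallyClosed p := MorphismProperty.pullback_fst _ _ ‹UniversallyClosed g›
    have hps : Surjective p := MorphismProperty.pullback_fst _ _ ‹Surjective g›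
    have hri : UniversallyInjective r := MorphismProperty.pullback_fst _ _ hpi
    have hrc : UniversallyClosed r := MorphismProperty.pullback_fst _ _ hpc
    have hrs : Surjective r := MorphismProperty.pullback_fst _ _ hps
    have hhomeo : IsHomeomorph r.base :=
      isHomeomorph_iff_continuous_isClosedMap_bijective.2
        ⟨r.continuous, r.isClosedMap, r.injective, r.surjective⟩
    let W : (pullback Y.hom X.hom).Opens :=
      ⟨r.base '' Set.range τ.base, hhomeo.isOpenMap _ τ.isOpenEmbedding.isOpen_range⟩
    have hστ : τ ≫ r = σ := by simp [τ, r]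
    have hrange : Set.range σ.base = (W : Set _) := by
      ext x
      constructor
      · rintro ⟨y, rfl⟩
        exact ⟨τ.base y, ⟨y, rfl⟩, by rw [← Scheme.Hom.comp_apply, hστ]⟩
      · rintro ⟨_, ⟨y, rfl⟩, rfl⟩
        exact ⟨y, by rw [← Scheme.Hom.comp_apply, hστ]⟩
    let σW : pullback Y.hom g ⟶ W :=
      IsOpenImmersion.lift W.ι σ (hrange.subset.trans W.range_ι.superset)
    have hσW : σW ≫ W.ι = σ := IsOpenImmersion.lift_fac _ _ _
    have : Surjective σW := ⟨fun w => by
      obtain ⟨y, hy⟩ := hrange.superset w.2
      exact ⟨y, W.ι.isOpenEmbedding.injective (by rw [← Scheme.Hom.comp_apply, hσW]; exact hy)⟩⟩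
    let h : (W : Scheme.{u}) ⟶ Y.left := W.ι ≫ q
    have hσp : σW ≫ h = p := by simp [h, reassoc_of% hσW, σ, q]
    have : UniversallyInjective (σW ≫ h) := hσp ▸ hpi
    have : UniversallyInjective h := universallyInjective_of_surjective_comp σW h
    have : Surjective h := by
      have : Surjective (σW ≫ h) := hσp ▸ hps
      exact Surjective.of_comp σW h
    have : IsOpenImmersion (pullback.diagonal h) := inferInstance
    have : IsIso (pullback.diagonal h) := (isIso_iff_isOpenImmersion_and_surjective _).2
      ⟨inferInstance, (UniversallyInjective.iff_diagonal h).1 inferInstance⟩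
    have : Mono h := (pullback.isIso_diagonal_iff h).1 inferInstance
    have : IsOpenImmersion h := IsOpenImmersion.of_flat_of_mono h
    have : IsIso h := (isIso_iff_isOpenImmersion_and_surjective h).2 ⟨inferInstance, inferInstance⟩
    refine ⟨Over.homMk (inv h ≫ W.ι ≫ pullback.snd Y.hom X.hom) ?_, ?_⟩
    · rw [Category.assoc, Category.assoc, IsIso.inv_comp_eq, ← pullback.condition]
      simp [h, q]
    · apply Over.OverMorphism.ext
      apply pullback.hom_ext
      · have key : p ≫ inv h ≫ W.ι ≫ pullback.snd Y.hom X.hom = a := by
          rw [← hσp, Category.assoc, IsIso.hom_inv_id_assoc, reassoc_of% hσW]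
          simp [σ]
        simpa [p, a] using key
      · have hw : ψ.left ≫ pullback.snd X.hom g = pullback.snd Y.hom g := Over.w ψ
        simp [hw]

end invariance

end Groth.EtaleBase
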