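import Groth.Agent.EtaleBase.PushEssImage

/-!
Sections of sheaves over disjoint decompositions of an etale scheme.
-/

set_option autoImplicit false

universe u

open CategoryTheory CategoryTheory.Limits AlgebraicGeometry Opposite

namespace Groth.EtaleBase

variable {X : Scheme.{u}}

/-- An open subscheme of an etale `X`-scheme, as an etale `X`-scheme. -/
noncomputable def openObj (U : X.Etale) (W : U.left.Opens) : X.Etale :=
  Scheme.Etale.mk (W.ι ≫ U.hom)

/-- The inclusion of `openObj U W` into `U`. -/
noncomputable def openHom (U : X.Etale) (W : U.left.Opens) : openObj U W ⟶ U :=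
  MorphismProperty.Over.homMk W.ι rfl

lemma openHom_left (U : X.Etale) (W : U.left.Opens) : (openHom U W).left = W.ι := rfl

variable {μ : Type u} (U : X.Etale) (W : μ → U.left.Opens)
  (hW : ∀ a b, a ≠ b → Disjoint (W a) (W b)) (hsup : ⨆ a, W a = ⊤)

include hW hsup

set_option backward.isDefEq.respectTransparency.types false in
/-- Sections over a disjoint union are families of sections. -/
lemma existsUnique_glue_disjoint (F : EtCoh.Ab X) (x : ∀ a, F.obj.obj (op (openObj U (W a)))) :
    ∃! s : F.obj.obj (op U), ∀ a, F.obj.map (openHom U (W a)).op s = x a := by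
  have hcov : Sieve.generate (Presieve.ofArrows _ fun a => openHom U (W a)) ∈
      X.smallEtaleTopology U := by
    rw [mem_topology_iff]
    intro u
    obtain ⟨a, ha⟩ := TopologicalSpace.Opens.mem_iSup.1 (hsup.symm ▸ TopologicalSpace.Opens.mem_top u)
    exact ⟨_, openHom U (W a), ⟨u, ha⟩, Sieve.le_generate _ _ _ (Presieve.ofArrows.mk a), rfl⟩
  have hF := ((isSheaf_iff_isSheaf_of_type _ _).1
    ((sheafCompose X.smallEtaleTopology (forget AddCommGrpCat.{u + 1})).obj F).2) _ hcov
  rw [← Presieve.isSheafFor_iff_generate, Presieve.isSheafFor_arrows_iff] at hF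
  refine hF x fun a b Z ga gb he => ?_
  by_cases hab : a = b
  · subst hab
    have : ga = gb := by
      refine MorphismProperty.Over.Hom.ext ?_
      exact (cancel_mono (W a).ι).1 (congrArg (fun m : Z ⟶ U => m.left) he)
    rw [this]
  · have : IsEmpty Z.left := ⟨fun z => by
      have h1 : (W a).ι.base (ga.left.base z) = (W b).ι.base (gb.left.base z) :=
        (Scheme.Hom.comp_apply _ _ _).symm.trans
          ((congrArg (fun m : Z ⟶ U => m.left.base z) he).trans (Scheme.Hom.comp_apply _ _ _))
      have h2 : (W a).ι.base (ga.left.base z) ∈ W b := h1 ▸ (gb.left.base z).2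
      exact (disjoint_iff.1 (hW a b hab)).le ⟨(ga.left.base z).2, h2⟩⟩
    have := subsingleton_sections_of_isEmpty F Z
    exact Subsingleton.elim (α := F.obj.obj (op Z)) _ _

lemma exists_glue_disjoint (F : EtCoh.Ab X) (x : ∀ a, F.obj.obj (op (openObj U (W a)))) :
    ∃ s : F.obj.obj (op U), ∀ a, F.obj.map (openHom U (W a)).op s = x a :=
  (existsUnique_glue_disjoint U W hW hsup F x).exists

lemma ext_disjoint (F : EtCoh.Ab X) (s t : F.obj.obj (op U))
    (h : ∀ a, F.obj.map (openHom U (W a)).op s = F.obj.map (openHom U (W a)).op t) : s = t :=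
  (existsUnique_glue_disjoint U W hW hsup F fun a => F.obj.map (openHom U (W a)).op t).unique
    h fun _ => rfl

end Groth.EtaleBase
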