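import Groth.Agent.EtaleBase.Rigidity

/-!
Sections of unramified separated morphisms; finiteness of maps to unramified schemes.
-/

set_option autoImplicit false

universe u

open CategoryTheory CategoryTheory.Limits AlgebraicGeometry

namespace Groth.EtaleBase

attribute [local simp] pullback.lift_fst pullback.lift_snd pullback.lift_fst_assoc pullback.lift_snd_assoc

variable {X Y : Scheme.{u}} (f : X ⟶ Y) [FormallyUnramified f] [LocallyOfFiniteType f]

/-- A section of an unramified morphism is an open immersion, closed if the morphism is separated. -/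
lemma section_isImmersion (s : Y ⟶ X) (hs : s ≫ f = 𝟙 Y) :
    IsOpenImmersion s ∧ (IsSeparated f → IsClosedImmersion s) := by
  have w : (f ≫ s) ≫ f = 𝟙 X ≫ f := by rw [Category.assoc, hs]; simp
  let l : Y ⟶ agree f (f ≫ s) (𝟙 X) w := pullback.lift s s (by
    apply pullback.hom_ext <;> simp [reassoc_of% hs])
  let q : agree f (f ≫ s) (𝟙 X) w ⟶ X := pullback.fst _ _
  have hl : l ≫ q = s := by simp [l, q]
  have hq : q ≫ f ≫ s = q := (agree_fst_comp f (f ≫ s) (𝟙 X) w).trans (Category.comp_id _)
  have : IsIso l := ⟨q ≫ f, by rw [← Category.assoc, hl, hs], by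
    rw [← cancel_mono q, Category.assoc, Category.assoc, hl, hq, Category.id_comp]⟩
  refine ⟨hl ▸ inferInstance, fun _ => hl ▸ inferInstance⟩

end Groth.EtaleBase

namespace Groth.EtaleBase

attribute [local simp] pullback.lift_fst pullback.lift_snd pullback.lift_fst_assoc pullback.lift_snd_assoc

/-- Sections of an unramified morphism are determined by their ranges. -/
lemma section_eq_of_range_eq {X Y : Scheme.{u}} (f : X ⟶ Y) [FormallyUnramified f]
    [LocallyOfFiniteType f] (s t : Y ⟶ X) (hs : s ≫ f = 𝟙 Y) (ht : t ≫ f = 𝟙 Y)
    (h : Set.range s.base = Set.range t.base) : s = t := by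
  have := (section_isImmersion f s hs).1
  have := (section_isImmersion f t ht).1
  have he := IsOpenImmersion.isoOfRangeEq_hom_fac s t h
  have : (IsOpenImmersion.isoOfRangeEq s t h).hom = 𝟙 Y := by
    have := congrArg (· ≫ f) he
    simp only [Category.assoc, hs, ht, Category.comp_id] at this
    exact this
  rw [← he, this, Category.id_comp]

/-- A quasi-compact unramified scheme has finitely many points over a given field point. -/
lemma finite_field_points {X S : Scheme.{u}} (π : X ⟶ S) [FormallyUnramified π]
    [LocallyOfFiniteType π] [QuasiCompact π] (K : Type u) [Field K]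
    (s : Spec (CommRingCat.of K) ⟶ S) : Finite {t : Spec (CommRingCat.of K) ⟶ X // t ≫ π = s} := by
  let q := pullback.snd π s
  have : FormallyUnramified q := MorphismProperty.pullback_snd _ _ ‹_›
  have : Finite ↥(pullback π s) := by
    rw [← Set.finite_univ_iff]
    have h := q.finite_preimage_singleton default
    convert h using 1
    ext z
    simp [Subsingleton.elim (q.base z) default]
  let l : {t : Spec (CommRingCat.of K) ⟶ X // t ≫ π = s} → (Spec (CommRingCat.of K) ⟶ pullback π s) :=
    fun t => pullback.lift t.1 (𝟙 _) (by rw [t.2, Category.id_comp])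
  refine Finite.of_injective (fun t => (l t).base default) fun t t' h => ?_
  have hl : l t = l t' := by
    refine section_eq_of_range_eq q _ _ (by simp [l, q]) (by simp [l, q]) ?_
    ext z
    simp only [Set.mem_range]
    exact ⟨fun ⟨a, ha⟩ => ⟨a, by rw [Subsingleton.elim a default] at ha ⊢; exact h.symm.trans ha⟩,
      fun ⟨a, ha⟩ => ⟨a, by rw [Subsingleton.elim a default] at ha ⊢; exact h.trans ha⟩⟩
  have := congrArg (· ≫ pullback.fst π s) hl
  exact Subtype.ext (by simpa [l] using this)

lemma finite_connectedComponents (T : Type*) [TopologicalSpace T]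
    [TopologicalSpace.NoetherianSpace T] : Finite (ConnectedComponents T) := by
  have := (TopologicalSpace.NoetherianSpace.finite_irreducibleComponents (α := T)).to_subtype
  refine Finite.of_surjective (fun Z : irreducibleComponents T =>
    ConnectedComponents.mk Z.2.1.nonempty.some) fun c => ?_
  obtain ⟨x, rfl⟩ := ConnectedComponents.surjective_coe c
  refine ⟨⟨irreducibleComponent x, irreducibleComponent_mem_irreducibleComponents x⟩, ?_⟩
  exact ConnectedComponents.coe_eq_coe'.2
    ((isIrreducible_irreducibleComponent.isConnected.isPreconnected).subset_connectedComponent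
      mem_irreducibleComponent (Set.Nonempty.some_mem _))

end Groth.EtaleBase
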