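import Groth.Agent.EtaleBase.Support
import Groth.Agent.EtaleBase.DisjointGlue
import Groth.Agent.EtaleBase.Sections
import Groth.Agent.EtaleBase.Rigidity
import Mathlib.CategoryTheory.CofilteredSystem
import Mathlib.CategoryTheory.Sites.Point.Basic

/-!
The points of the small etale site are the geometric points.
-/

set_option autoImplicit false

universe u

open CategoryTheory CategoryTheory.Limits AlgebraicGeometry Opposite TopologicalSpace

namespace Groth.EtaleBase.SitePt

lemma exists_lift_opens {W X : Scheme.{u}} (k : W ⟶ X) (O : X.Opens) (h : ∀ w, k.base w ∈ O) :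
    ∃ l : W ⟶ (O : Scheme.{u}), l ≫ O.ι = k :=
  ⟨IsOpenImmersion.lift O.ι k (by rw [Scheme.Opens.range_ι]; rintro _ ⟨w, rfl⟩; exact h w),
    IsOpenImmersion.lift_fac _ _ _⟩

lemma exists_lift_agree {X Y T S : Scheme.{u}} (π : X ⟶ S) (f g : Y ⟶ X) (w : f ≫ π = g ≫ π) (l : T ⟶ Y)
    (hl : l ≫ f = l ≫ g) :
    ∃ m : T ⟶ agree π f g w, m ≫ pullback.fst (pullback.lift f g w) (pullback.diagonal π) = l :=
  ⟨pullback.lift l (l ≫ f) (pullback.hom_ext (by simp [pullback.lift_fst]) (by simp [pullback.lift_snd, hl])), pullback.lift_fst _ _ _⟩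

lemma eq_comp_section {T P W : Scheme.{u}} [Subsingleton T] (σ : W ⟶ P) [IsOpenImmersion σ] (q : P ⟶ W)
    (hσ : σ ≫ q = 𝟙 W) (l : T ⟶ P) (t : T) (hr : l.base t ∈ Set.range σ.base) : l = (l ≫ q) ≫ σ := by
  have hr' : Set.range l.base ⊆ Set.range σ.base := by
    rintro _ ⟨a, rfl⟩
    rwa [Subsingleton.elim a t]
  have e := IsOpenImmersion.lift_fac σ l hr'
  have e2 : IsOpenImmersion.lift σ l hr' = l ≫ q :=
    (Category.comp_id _).symm.trans ((congrArg (_ ≫ ·) hσ.symm).trans
      ((Category.assoc _ _ _).symm.trans (congrArg (· ≫ q) e)))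
  exact e.symm.trans (congrArg (· ≫ σ) e2)

variable {S : Scheme.{u}} (p : GrothendieckTopology.Point.{u} S.smallEtaleTopology)

lemma map_map {U V W : S.Etale} (f : U ⟶ V) (g : V ⟶ W) (x : p.fiber.obj U) :
    p.fiber.map g (p.fiber.map f x) = p.fiber.map (f ≫ g) x :=
  ((congrArg (fun m => m x) (p.fiber.map_comp f g)).trans (ConcreteCategory.comp_apply _ _ _)).symm

lemma exists_cone {U V : S.Etale} (x : p.fiber.obj U) (y : p.fiber.obj V) :
    ∃ (W : S.Etale) (w : p.fiber.obj W) (f : W ⟶ U) (g : W ⟶ V),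
      p.fiber.map f w = x ∧ p.fiber.map g w = y := by
  have := p.isCofiltered
  obtain ⟨W, f, g, -⟩ := IsCofilteredOrEmpty.cone_objs (C := p.fiber.Elements)
    (Functor.elementsMk _ U x) (Functor.elementsMk _ V y)
  exact ⟨W.1, W.2, f.1, g.1, f.2, g.2⟩

lemma exists_coeq {U V : S.Etale} (x : p.fiber.obj U) (f g : U ⟶ V)
    (h : p.fiber.map f x = p.fiber.map g x) :
    ∃ (W : S.Etale) (w : p.fiber.obj W) (k : W ⟶ U), p.fiber.map k w = x ∧ k ≫ f = k ≫ g := by
  have := p.isCofiltered
  obtain ⟨W, k, hk⟩ := IsCofilteredOrEmpty.cone_maps (C := p.fiber.Elements)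
    (X := Functor.elementsMk _ U x) (Y := Functor.elementsMk _ V (p.fiber.map f x))
    (CategoryOfElements.homMk (Functor.elementsMk _ U x) (Functor.elementsMk _ V (p.fiber.map f x)) f rfl)
    (CategoryOfElements.homMk (Functor.elementsMk _ U x) (Functor.elementsMk _ V (p.fiber.map f x)) g h.symm)
  exact ⟨W.1, W.2, k.1, k.2, congrArg (fun m => m.1) hk⟩

/-- An element lies in an open if it lifts to it. -/
def InOpen (U : S.Etale) (x : p.fiber.obj U) (O : U.left.Opens) : Prop :=
  ∃ y, p.fiber.map (openHom U O) y = x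

lemma exists_cover_lift {ι : Type u} {U : S.Etale} (V : ι → S.Etale) (f : ∀ i, V i ⟶ U)
    (hf : ∀ z : U.left, ∃ i v, (f i).left.base v = z) (x : p.fiber.obj U) :
    ∃ i y, p.fiber.map (f i) y = x := by
  have hR : Sieve.generate (Presieve.ofArrows V f) ∈ S.smallEtaleTopology U := by
    rw [mem_topology_iff]
    intro z
    obtain ⟨i, v, hv⟩ := hf z
    exact ⟨_, f i, v, Sieve.le_generate _ _ _ (Presieve.ofArrows.mk i), hv⟩
  obtain ⟨Y, g, hg, y, hy⟩ := p.jointly_surjective _ hR x
  obtain ⟨W, a, b, hb, rfl⟩ := hg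
  obtain ⟨i⟩ := hb
  exact ⟨i, p.fiber.map a y, (map_map p a (f i) y).trans hy⟩

lemma exists_factor {U W : S.Etale} (k : W ⟶ U) (O : U.left.Opens) (h : ∀ w, k.left.base w ∈ O) :
    ∃ l : W ⟶ openObj U O, l ≫ openHom U O = k := by
  obtain ⟨l, hl⟩ := exists_lift_opens k.left O h
  refine ⟨MorphismProperty.Over.homMk l ?_, MorphismProperty.Over.Hom.ext hl⟩
  exact (Category.assoc _ _ _).symm.trans ((congrArg (· ≫ U.hom) hl).trans (Over.w k.hom))

lemma inOpen_mono {U : S.Etale} {x : p.fiber.obj U} {O O' : U.left.Opens} (h : O ≤ O')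
    (hx : InOpen p U x O) : InOpen p U x O' := by
  obtain ⟨y, rfl⟩ := hx
  obtain ⟨l, hl⟩ := exists_factor (openHom U O) O' (fun w => h w.2)
  exact ⟨p.fiber.map l y, (map_map p l _ y).trans (by rw [hl])⟩

lemma inOpen_inf {U : S.Etale} {x : p.fiber.obj U} {O O' : U.left.Opens}
    (hx : InOpen p U x O) (hx' : InOpen p U x O') : InOpen p U x (O ⊓ O') := by
  obtain ⟨y, rfl⟩ := hx
  obtain ⟨y', hy'⟩ := hx'
  obtain ⟨W, w, f, g, hf, hg⟩ := exists_cone p y y'
  obtain ⟨W', w', k, hk, he⟩ := exists_coeq p w (f ≫ openHom U O) (g ≫ openHom U O')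
    (by rw [← map_map, ← map_map, hf, hg, hy'])
  obtain ⟨l, hl⟩ := exists_factor (k ≫ f ≫ openHom U O) (O ⊓ O') (fun a => by
    refine ⟨(f.left.base (k.left.base a)).2, ?_⟩
    rw [he]
    exact (g.left.base (k.left.base a)).2)
  exact ⟨p.fiber.map l w', by rw [map_map, hl, ← map_map, hk, ← map_map, hf]⟩

lemma exists_inOpen_of_cover {U : S.Etale} (x : p.fiber.obj U) {ι : Type u} (O : ι → U.left.Opens)
    (h : ∀ z, ∃ i, z ∈ O i) : ∃ i, InOpen p U x (O i) :=
  exists_cover_lift p _ (fun i => openHom U (O i)) (fun z => let ⟨i, hi⟩ := h z; ⟨i, ⟨z, hi⟩, rfl⟩) x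

set_option backward.isDefEq.respectTransparency.types false in
theorem exists_pt (U : S.Etale) (x : p.fiber.obj U) :
    ∃ z : U.left, ∀ O : U.left.Opens, z ∈ O ↔ InOpen p U x O := by
  let Z : Set U.left := {z | ∀ O : U.left.Opens, z ∈ O → InOpen p U x O}
  have hZ : IsClosed Z := by
    rw [← isOpen_compl_iff, isOpen_iff_forall_mem_open]
    intro z hz
    obtain ⟨O, hzO, hO⟩ : ∃ O : U.left.Opens, z ∈ O ∧ ¬ InOpen p U x O := by
      simpa [Z] using hz
    exact ⟨O, fun z' hz' h => hO (h O hz'), O.isOpen, hzO⟩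
  have hmeet : ∀ O : U.left.Opens, InOpen p U x O → (Z ∩ O).Nonempty := by
    intro O hO
    by_contra hne
    choose g hg using fun z : {z : U.left // z ∉ Z} => (by simpa [Z] using z.2 :
      ∃ O' : U.left.Opens, z.1 ∈ O' ∧ ¬ InOpen p U x O')
    obtain ⟨y, hy⟩ := hO
    have hzn : ∀ a : (openObj U O).left, O.ι.base a ∉ Z := fun a h => hne ⟨_, h, a.2⟩
    obtain ⟨a, ⟨y', hy'⟩⟩ := exists_inOpen_of_cover p (U := openObj U O) y (ι := (openObj U O).left)
      (fun a => O.ι ⁻¹ᵁ g ⟨_, hzn a⟩) (fun a => ⟨a, (hg ⟨_, hzn a⟩).1⟩)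
    obtain ⟨l, hl⟩ := exists_factor (openHom (openObj U O) (O.ι ⁻¹ᵁ g ⟨_, hzn a⟩) ≫ openHom U O)
      (g ⟨_, hzn a⟩) (fun b => b.2)
    refine (hg ⟨_, hzn a⟩).2 ⟨p.fiber.map l y', ?_⟩
    rw [map_map, hl, ← map_map, hy', hy]
  have htop : InOpen p U x ⊤ := by
    obtain ⟨_, h⟩ := exists_inOpen_of_cover p x (fun _ : PUnit.{u + 1} => (⊤ : U.left.Opens))
      (fun z => ⟨⟨⟩, trivial⟩)
    exact h
  have hirr : IsIrreducible Z := by
    refine ⟨(hmeet ⊤ htop).mono Set.inter_subset_left, ?_⟩
    intro O O' hO hO' ⟨a, haZ, ha⟩ ⟨b, hbZ, hb⟩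
    exact hmeet (⟨O, hO⟩ ⊓ ⟨O', hO'⟩) (inOpen_inf p (haZ ⟨O, hO⟩ ha) (hbZ ⟨O', hO'⟩ hb))
  refine ⟨hirr.genericPoint, fun O => ?_⟩
  have hg : IsGenericPoint hirr.genericPoint Z := hirr.isGenericPoint_genericPoint hZ
  constructor
  · exact fun h => hg.mem O h
  · exact fun h => (hg.mem_open_set_iff O.isOpen).2 (hmeet O h)

/-- The point of an element. -/
noncomputable def pt (U : S.Etale) (x : p.fiber.obj U) : U.left := (exists_pt p U x).choose

lemma pt_mem_iff {U : S.Etale} {x : p.fiber.obj U} (O : U.left.Opens) :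
    pt p U x ∈ O ↔ InOpen p U x O :=
  (exists_pt p U x).choose_spec O

lemma pt_map {U V : S.Etale} (g : U ⟶ V) (x : p.fiber.obj U) :
    pt p V (p.fiber.map g x) = g.left.base (pt p U x) := by
  have key : ∀ O : V.left.Opens, pt p V (p.fiber.map g x) ∈ O ↔ g.left.base (pt p U x) ∈ O := by
    intro O
    rw [pt_mem_iff]
    refine Iff.trans ?_ (pt_mem_iff p (x := x) (g.left ⁻¹ᵁ O)).symm
    constructor
    · rintro ⟨y, hy⟩
      obtain ⟨W, w, a, b, ha, hb⟩ := exists_cone p x y
      obtain ⟨W', w', k, hk, he⟩ := exists_coeq p w (a ≫ g) (b ≫ openHom V O)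
        (by rw [← map_map, ← map_map, ha, hb, hy])
      obtain ⟨l, hl⟩ := exists_factor (k ≫ a) (g.left ⁻¹ᵁ O) (fun c => by
        show ((k ≫ a ≫ g).left.base c) ∈ O
        rw [he]
        exact (b.left.base (k.left.base c)).2)
      exact ⟨p.fiber.map l w', by rw [map_map, hl, ← map_map, hk, ha]⟩
    · rintro ⟨y, hy⟩
      obtain ⟨l, hl⟩ := exists_factor (openHom U (g.left ⁻¹ᵁ O) ≫ g) O (fun c => c.2)
      exact ⟨p.fiber.map l y, by rw [map_map, hl, ← map_map, hy]⟩
  have hi : Inseparable (pt p V (p.fiber.map g x)) (g.left.base (pt p U x)) :=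
    inseparable_iff_forall_isOpen.2 fun O hO => key ⟨O, hO⟩
  exact hi.eq

/-- The point of the base. -/
lemma exists_base : ∃ s : S, ∀ (U : S.Etale) (x : p.fiber.obj U), U.hom.base (pt p U x) = s := by
  have := p.isCofiltered
  obtain ⟨e⟩ := IsCofiltered.nonempty (C := p.fiber.Elements)
  let toTop : ∀ U : S.Etale, U ⟶ EtCoh.top S := fun U => MorphismProperty.Over.homMk U.hom (Category.comp_id _)
  refine ⟨e.1.hom.base (pt p e.1 e.2), fun U x => ?_⟩
  obtain ⟨W, w, f, g, hf, hg⟩ := exists_cone p x e.2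
  rw [← hf, ← hg, pt_map, pt_map]
  have h1 : f.left ≫ U.hom = g.left ≫ e.1.hom := (Over.w f.hom).trans (Over.w g.hom).symm
  exact congrArg (fun m : W.left ⟶ S => m.base (pt p W w)) h1

variable {Ω : Type u} [Field Ω] [IsSepClosed Ω] (ξ : Spec (CommRingCat.of Ω) ⟶ S)

lemma fiber_ext {U : S.Etale} {t t' : (Scheme.pointSmallEtale ξ).fiber.obj U} (h : t.left = t'.left) : t = t' :=
  Over.OverMorphism.ext h

set_option backward.isDefEq.respectTransparency.types false in
lemma finite_fiber_of_affine {U : S.Etale} [IsAffine U.left] {A : S.Opens} (hA : IsAffineOpen A)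
    (hr : ∀ z, U.hom.base z ∈ A) : Finite ((Scheme.pointSmallEtale ξ).fiber.obj U) := by
  have : IsAffine (A : Scheme.{u}) := hA
  have : AlgebraicGeometry.Etale U.hom := U.prop
  let π : U.left ⟶ (A : Scheme.{u}) := IsOpenImmersion.lift A.ι U.hom
    (by rw [Scheme.Opens.range_ι]; rintro _ ⟨z, rfl⟩; exact hr z)
  have hπ : π ≫ A.ι = U.hom := IsOpenImmersion.lift_fac _ _ _
  have : AlgebraicGeometry.Etale (π ≫ A.ι) := hπ.symm ▸ inferInstance
  have : AlgebraicGeometry.Etale π := Etale.of_comp π A.ι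
  by_cases hne : ∃ t : (Scheme.pointSmallEtale ξ).fiber.obj U, True
  · obtain ⟨t₀, -⟩ := hne
    have := finite_field_points π Ω (t₀.left ≫ π)
    refine Finite.of_injective (β := {t : Spec (CommRingCat.of Ω) ⟶ U.left // t ≫ π = t₀.left ≫ π})
      (fun t => ⟨t.left, (cancel_mono A.ι).1 ?_⟩) fun t t' h => fiber_ext ξ (congrArg Subtype.val h)
    exact ((Category.assoc _ _ _).trans (congrArg (t.left ≫ ·) hπ)).trans ((Over.w t).trans
      ((Over.w t₀).symm.trans ((congrArg (t₀.left ≫ ·) hπ.symm).trans (Category.assoc _ _ _).symm)))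
  · exact @Finite.of_subsingleton _ ⟨fun t => absurd ⟨t, trivial⟩ hne⟩

set_option backward.isDefEq.respectTransparency.types false in
lemma exists_affine_nhd (U : S.Etale) (z : U.left) :
    ∃ (N : U.left.Opens) (A : S.Opens), z ∈ N ∧ IsAffineOpen N ∧ IsAffineOpen A ∧
      ∀ n ∈ N, U.hom.base n ∈ A := by
  obtain ⟨_, ⟨A, hA, rfl⟩, hzA, -⟩ :=
    S.isBasis_affineOpens.exists_subset_of_mem_open (Set.mem_univ (U.hom.base z)) isOpen_univ
  obtain ⟨_, ⟨N, hN, rfl⟩, hzN, hNA⟩ :=
    U.left.isBasis_affineOpens.exists_subset_of_mem_open (show z ∈ U.hom ⁻¹ᵁ A from hzA) (U.hom ⁻¹ᵁ A).isOpen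
  exact ⟨N, A, hzN, hN, hA, fun n hn => hNA hn⟩

set_option backward.isDefEq.respectTransparency.types false in
lemma exists_lift_open {U : S.Etale} (N : U.left.Opens) (t : (Scheme.pointSmallEtale ξ).fiber.obj U)
    (h : fiberPoint ξ t ∈ N) : ∃ t', (Scheme.pointSmallEtale ξ).fiber.map (openHom U N) t' = t :=
  let ⟨s, hs, _⟩ := exists_fiber_lift ξ (openHom U N) t ⟨_, h⟩ rfl
  ⟨s, hs⟩

variable (hξ : ∀ (U : S.Etale) (x : p.fiber.obj U), U.hom.base (pt p U x) = ξ.base default)

/-- Lifts of the geometric point over the point of an element. -/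
abbrev Over' (e : p.fiber.Elements) : Type u :=
  {t : (Scheme.pointSmallEtale ξ).fiber.obj e.1 // fiberPoint ξ t = pt p e.1 e.2}

/-- The system of such lifts. -/
noncomputable def system : p.fiber.Elements ⥤ Type u where
  obj e := Over' p ξ e
  map {e e'} f := TypeCat.ofHom fun t => ⟨(Scheme.pointSmallEtale ξ).fiber.map f.1 t.1, by
    rw [fiberPoint_map, t.2, ← pt_map, f.2]⟩
  map_id e := by
    ext t
    exact congrArg (fun m => m t.1) ((Scheme.pointSmallEtale ξ).fiber.map_id e.1)
  map_comp {e e' e''} f g := by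
    ext t
    exact congrArg (fun m => m t.1) ((Scheme.pointSmallEtale ξ).fiber.map_comp f.1 g.1)

include hξ in
theorem exists_natTrans : ∃ θ : p.fiber ⟶ (Scheme.pointSmallEtale ξ).fiber,
    ∀ (U : S.Etale) (x : p.fiber.obj U), fiberPoint ξ (θ.app U x) = pt p U x := by
  have := p.isCofiltered
  have hn : ∀ e, Nonempty ((system p ξ).obj e) := fun e => by
    obtain ⟨t, ht⟩ := exists_fiber_of_point ξ e.1 (pt p e.1 e.2) (hξ e.1 e.2)
    exact ⟨⟨t, ht⟩⟩
  have hf : ∀ e, Finite ((system p ξ).obj e) := fun e => by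
    obtain ⟨N, A, hz, hN, hA, hNA⟩ := exists_affine_nhd e.1 (pt p e.1 e.2)
    have : IsAffine (openObj e.1 N).left := hN
    have := finite_fiber_of_affine ξ (U := openObj e.1 N) hA (fun z => hNA _ z.2)
    have key : ∀ t : (system p ξ).obj e, ∃ t', (Scheme.pointSmallEtale ξ).fiber.map (openHom e.1 N) t' = t.1 :=
      fun t => exists_lift_open ξ N t.1 (by rw [t.2]; exact hz)
    choose F hF using key
    exact Finite.of_injective F fun t t' h => Subtype.ext (by rw [← hF t, ← hF t', h])
  obtain ⟨σ, hσ⟩ := nonempty_sections_of_finite_cofiltered_system (system p ξ)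
  refine ⟨{ app := fun U => TypeCat.ofHom fun x => (σ (Functor.elementsMk _ U x)).1
            naturality := fun U V g => ?_ }, fun U x => (σ (Functor.elementsMk _ U x)).2⟩
  ext x
  have h := hσ (j := Functor.elementsMk _ U x) (j' := Functor.elementsMk _ V (p.fiber.map g x)) ⟨g, rfl⟩
  exact (congrArg Subtype.val h).symm

variable (θ : p.fiber ⟶ (Scheme.pointSmallEtale ξ).fiber)
  (hθ : ∀ (U : S.Etale) (x : p.fiber.obj U), fiberPoint ξ (θ.app U x) = pt p U x)

set_option backward.isDefEq.respectTransparency.types false in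
lemma exists_agree_open {U W : S.Etale} (f g : W ⟶ U) :
    ∃ O : W.left.Opens, openHom W O ≫ f = openHom W O ≫ g ∧
      ∀ (l : (Scheme.pointSmallEtale ξ).fiber.obj W),
        (Scheme.pointSmallEtale ξ).fiber.map f l = (Scheme.pointSmallEtale ξ).fiber.map g l →
          fiberPoint ξ l ∈ O := by
  have : AlgebraicGeometry.Etale U.hom := U.prop
  let a : W.left ⟶ U.left := f.left
  let b : W.left ⟶ U.left := g.left
  have w : a ≫ U.hom = b ≫ U.hom := (Over.w f.hom).trans (Over.w g.hom).symm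
  let q : agree U.hom a b w ⟶ W.left := pullback.fst _ _
  have : IsOpenImmersion q := inferInstance
  have hq : q ≫ a = q ≫ b := agree_fst_comp U.hom a b w
  refine ⟨q.opensRange, MorphismProperty.Over.Hom.ext ?_, fun l hl => ?_⟩
  · show q.opensRange.ι ≫ a = q.opensRange.ι ≫ b
    rw [← Scheme.Hom.isoOpensRange_inv_comp q, Category.assoc, Category.assoc, hq]
  · have hl' : l.left ≫ a = l.left ≫ b :=
      congrArg (fun t : (Scheme.pointSmallEtale ξ).fiber.obj U => t.left) hl
    obtain ⟨m, hm⟩ := exists_lift_agree U.hom a b w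
      (l.left : Spec (CommRingCat.of Ω) ⟶ W.left) hl'
    exact ⟨m.base (default : Spec (CommRingCat.of Ω)),
      congrArg (fun n : Spec (CommRingCat.of Ω) ⟶ W.left => n.base (default : Spec (CommRingCat.of Ω))) hm⟩

include hθ in
theorem injective_app (U : S.Etale) : Function.Injective (θ.app U) := by
  intro x y h
  obtain ⟨W, w, f, g, hf, hg⟩ := exists_cone p x y
  obtain ⟨O, hO, hO'⟩ := exists_agree_open ξ f g
  have hw : pt p W w ∈ O := by
    rw [← hθ W w]
    refine hO' _ ?_
    rw [← NatTrans.naturality_apply θ f w, ← NatTrans.naturality_apply θ g w, hf, hg, h]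
  obtain ⟨v, hv⟩ := (pt_mem_iff p O).1 hw
  rw [← hf, ← hg, ← hv, map_map, map_map, hO]

set_option backward.isDefEq.respectTransparency.types false in
include hθ in
/-- Enlarge a list of elements avoiding a given lift. -/
lemma exists_new {N : S.Etale} [IsSeparated N.hom] (t₀ : (Scheme.pointSmallEtale ξ).fiber.obj N)
    (h : ∀ x, θ.app N x ≠ t₀) (n : ℕ) :
    ∃ (W : S.Etale) (w : p.fiber.obj W) (f : Fin n → (W ⟶ N)),
      Function.Injective fun i => θ.app N (p.fiber.map (f i) w) := by
  induction n with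
  | zero =>
    have := p.isCofiltered
    obtain ⟨e⟩ := IsCofiltered.nonempty (C := p.fiber.Elements)
    exact ⟨e.1, e.2, fun i => i.elim0, fun i => i.elim0⟩
  | succ n ih =>
    obtain ⟨W, w, f, hf⟩ := ih
    have : AlgebraicGeometry.Etale N.hom := N.prop
    have : AlgebraicGeometry.Etale W.hom := W.prop
    let q₂ := pullback.snd N.hom W.hom
    let σ : Fin n → (W.left ⟶ pullback N.hom W.hom) := fun i =>
      pullback.lift (f i).left (𝟙 _) ((Over.w (f i).hom).trans (Category.id_comp _).symm)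
    have hσ : ∀ i, σ i ≫ q₂ = 𝟙 _ := fun i => pullback.lift_snd _ _ _
    have hoi : ∀ i, IsOpenImmersion (σ i) := fun i => (section_isImmersion q₂ (σ i) (hσ i)).1
    have hcl : ∀ i, IsClosed (Set.range (σ i).base) := fun i =>
      have : IsClosedImmersion (σ i) := (section_isImmersion q₂ (σ i) (hσ i)).2 inferInstance
      (σ i).isClosedEmbedding.isClosed_range
    let P : S.Etale := Scheme.Etale.mk (q₂ ≫ W.hom)
    let pfst : P ⟶ N := MorphismProperty.Over.homMk (pullback.fst _ _) pullback.condition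
    let psnd : P ⟶ W := MorphismProperty.Over.homMk q₂ rfl
    let O : P.left.Opens := ⟨(⋃ i, Set.range (σ i).base)ᶜ, (isClosed_iUnion_of_finite hcl).isOpen_compl⟩
    let θw := θ.app W w
    have huniq : ∀ (i : Fin n) (l : (Scheme.pointSmallEtale ξ).fiber.obj P),
        (Scheme.pointSmallEtale ξ).fiber.map psnd l = θw → fiberPoint ξ l ∈ Set.range (σ i).base →
          (Scheme.pointSmallEtale ξ).fiber.map pfst l = θ.app N (p.fiber.map (f i) w) := by
      intro i l hl hr
      have := hoi i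
      have hl2 : l.left ≫ q₂ = θw.left := congrArg (fun t : (Scheme.pointSmallEtale ξ).fiber.obj W => t.left) hl
      have e := eq_comp_section (T := Spec (CommRingCat.of Ω)) (σ i) q₂ (hσ i) l.left (default : Spec (CommRingCat.of Ω)) hr
      refine fiber_ext ξ ?_
      rw [show θ.app N (p.fiber.map (f i) w) = (Scheme.pointSmallEtale ξ).fiber.map (f i) θw from
        NatTrans.naturality_apply θ (f i) w]
      show l.left ≫ pullback.fst N.hom W.hom = θw.left ≫ (f i).left
      exact ((congrArg (· ≫ pullback.fst N.hom W.hom) e).trans (Category.assoc _ _ _)).trans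
        ((congrArg (· ≫ σ i ≫ pullback.fst N.hom W.hom) hl2).trans
          (congrArg (θw.left ≫ ·) (pullback.lift_fst _ _ _)))
    let q : (Scheme.pointSmallEtale ξ).fiber.obj P := Over.homMk
      (pullback.lift t₀.left θw.left ((Over.w t₀).trans (Over.w θw).symm))
      (by
        show pullback.lift t₀.left θw.left _ ≫ q₂ ≫ W.hom = ξ
        exact (Category.assoc _ _ _).symm.trans ((congrArg (· ≫ W.hom) (pullback.lift_snd _ _ _)).trans (Over.w θw)))
    have hq₁ : (Scheme.pointSmallEtale ξ).fiber.map pfst q = t₀ := fiber_ext ξ (pullback.lift_fst _ _ _)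
    have hq₂ : (Scheme.pointSmallEtale ξ).fiber.map psnd q = θw := fiber_ext ξ (pullback.lift_snd _ _ _)
    have hqO : fiberPoint ξ q ∈ O := by
      intro hq
      obtain ⟨i, hi⟩ := Set.mem_iUnion.1 hq
      exact h _ ((huniq i q hq₂ hi).symm.trans hq₁)
    -- the image of the open in `W`
    let k := openHom P O ≫ psnd
    let I : W.left.Opens := ⟨Set.range k.left.base, (isOpenMap_left k).isOpen_range⟩
    have hI : pt p W w ∈ I := by
      rw [← hθ W w]
      refine ⟨⟨_, hqO⟩, ?_⟩
      show q₂.base (fiberPoint ξ q) = fiberPoint ξ θw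
      rw [← hq₂]
      rfl
    obtain ⟨w₁, hw₁⟩ := (pt_mem_iff p I).1 hI
    let K : S.Etale := openObj P O
    obtain ⟨k', hk'⟩ := exists_factor k I (fun a => ⟨a, rfl⟩)
    obtain ⟨_, o, ho⟩ := exists_cover_lift p (fun _ : PUnit.{u + 1} => K) (fun _ => k')
      (fun z => by
        obtain ⟨a, ha⟩ := z.2
        refine ⟨⟨⟩, a, I.ι.isOpenEmbedding.injective ?_⟩
        exact (congrArg (fun m : K ⟶ W => m.left.base a) hk').trans ha) w₁
    have hok : p.fiber.map k o = w := by rw [← hk', ← map_map, ho, hw₁]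
    refine ⟨K, o, Fin.cases (openHom P O ≫ pfst) fun i => k ≫ f i, ?_⟩
    have hsucc : ∀ i, p.fiber.map (k ≫ f i) o = p.fiber.map (f i) w := fun i => by rw [← map_map, hok]
    have hnew : ∀ i, θ.app N (p.fiber.map (openHom P O ≫ pfst) o) ≠ θ.app N (p.fiber.map (f i) w) := by
      intro i he
      let l := θ.app P (p.fiber.map (openHom P O) o)
      have hl₂ : (Scheme.pointSmallEtale ξ).fiber.map psnd l = θw := by
        rw [← NatTrans.naturality_apply θ psnd, map_map]
        exact congrArg (θ.app W) hok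
      have hl₁ : (Scheme.pointSmallEtale ξ).fiber.map pfst l = θ.app N (p.fiber.map (f i) w) := by
        rw [← he, ← NatTrans.naturality_apply θ pfst, map_map]
      have hO : fiberPoint ξ l ∈ O := by
        rw [hθ]
        exact (pt_mem_iff p O).2 ⟨o, rfl⟩
      refine hO (Set.mem_iUnion.2 ⟨i, fiberPoint ξ θw, ?_⟩)
      have e : θw.left ≫ σ i = l.left := by
        apply pullback.hom_ext
        · refine ((Category.assoc _ _ _).trans (congrArg (θw.left ≫ ·) (pullback.lift_fst _ _ _))).trans ?_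
          refine Eq.trans ?_ (congrArg (fun t : (Scheme.pointSmallEtale ξ).fiber.obj N => t.left) hl₁).symm
          rw [show θ.app N (p.fiber.map (f i) w) = (Scheme.pointSmallEtale ξ).fiber.map (f i) θw from
            NatTrans.naturality_apply θ (f i) w]
          rfl
        · refine ((Category.assoc _ _ _).trans (congrArg (θw.left ≫ ·) (pullback.lift_snd _ _ _))).trans ?_
          exact (Category.comp_id _).trans (congrArg (fun t : (Scheme.pointSmallEtale ξ).fiber.obj W => t.left) hl₂).symm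
      exact congrArg (fun m : Spec (CommRingCat.of Ω) ⟶ pullback N.hom W.hom => m.base default) e
    intro a b hab
    induction a using Fin.cases with
    | zero =>
      induction b using Fin.cases with
      | zero => rfl
      | succ b =>
        exact absurd (Eq.trans hab (congrArg (θ.app N) (hsucc b))) (hnew b)
    | succ a =>
      induction b using Fin.cases with
      | zero => exact absurd (Eq.trans hab.symm (congrArg (θ.app N) (hsucc a))) (hnew a)
      | succ b =>
        refine congrArg Fin.succ (hf ?_)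
        exact (congrArg (θ.app N) (hsucc a)).symm.trans (Eq.trans hab (congrArg (θ.app N) (hsucc b)))

set_option backward.isDefEq.respectTransparency.types false in
include hθ in
theorem surjective_app (U : S.Etale) : Function.Surjective (θ.app U) := by
  intro t
  obtain ⟨N, A, hz, hN, hA, hNA⟩ := exists_affine_nhd U (fiberPoint ξ t)
  obtain ⟨t₀, ht₀⟩ := exists_lift_open ξ N t hz
  let N' := openObj U N
  have : IsAffine N'.left := hN
  have : IsAffine (A : Scheme.{u}) := hA
  have : IsSeparated N'.hom := by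
    let π : N'.left ⟶ (A : Scheme.{u}) := IsOpenImmersion.lift A.ι N'.hom
      (by rw [Scheme.Opens.range_ι]; rintro _ ⟨z, rfl⟩; exact hNA _ z.2)
    have hπ : π ≫ A.ι = N'.hom := IsOpenImmersion.lift_fac _ _ _
    have h1 : IsSeparated π := inferInstance
    have h2 : IsSeparated A.ι := inferInstance
    rw [← hπ]
    exact MorphismProperty.comp_mem @IsSeparated π A.ι h1 h2
  have := finite_fiber_of_affine ξ (U := N') hA (fun z => hNA _ z.2)
  by_contra hne
  simp only [not_exists] at hne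
  obtain ⟨W, w, f, hf⟩ := exists_new p ξ θ hθ (N := N') t₀ (fun x hx => hne (p.fiber.map (openHom U N) x) (by
    rw [NatTrans.naturality_apply θ (openHom U N) x, hx, ht₀]))
    (Nat.card ((Scheme.pointSmallEtale ξ).fiber.obj N') + 1)
  have := Nat.card_le_card_of_injective _ hf
  simp at this

theorem exists_geometric :
    ∃ (Ω : Type u) (_ : Field Ω) (_ : IsSepClosed Ω) (ξ : Spec (CommRingCat.of Ω) ⟶ S),
      Nonempty (p.fiber ≅ (Scheme.pointSmallEtale ξ).fiber) := by
  obtain ⟨s, hs⟩ := exists_base p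
  refine ⟨_, inferInstance, inferInstance, geomPoint s, ?_⟩
  obtain ⟨θ, hθ⟩ := exists_natTrans p (geomPoint s) (fun U x => (hs U x).trans (geomPoint_apply s _).symm)
  have : ∀ U, IsIso (θ.app U) := fun U => (CategoryTheory.isIso_iff_bijective _).2
    ⟨injective_app p (geomPoint s) θ hθ U, surjective_app p (geomPoint s) θ hθ U⟩
  have := NatIso.isIso_of_isIso_app θ
  exact ⟨asIso θ⟩

end Groth.EtaleBase.SitePt
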