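import Groth.Agent.EtaleBase.IntegralScheme
import Groth.Agent.EtaleBase.Rigidity

/-!
Etale local sections over integral morphisms through separably closed geometric points.
-/

set_option autoImplicit false

universe u

open CategoryTheory CategoryTheory.Limits AlgebraicGeometry

namespace Groth.EtaleBase

attribute [local simp] pullback.lift_fst pullback.lift_snd pullback.lift_fst_assoc pullback.lift_snd_assoc

variable {Ω : Type u} [Field Ω] [IsSepClosed Ω]

/-- The algebraic closure of a geometric point. -/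
noncomputable abbrev closurePt (Ω : Type u) [Field Ω] :
    Spec (CommRingCat.of (AlgebraicClosure Ω)) ⟶ Spec (CommRingCat.of Ω) :=
  Spec.map (CommRingCat.ofHom (algebraMap Ω (AlgebraicClosure Ω)))

instance surjective_closurePt : Surjective (closurePt Ω) :=
  ⟨fun z => ⟨default, Subsingleton.elim _ _⟩⟩

lemma closurePt_cancel {W X : Scheme.{u}} (w : W ⟶ X) [Etale w]
    (t t' : Spec (CommRingCat.of Ω) ⟶ W) (h : t ≫ w = t' ≫ w)
    (he : closurePt Ω ≫ t = closurePt Ω ≫ t') : t = t' :=
  eq_of_surjective_agree w t t' h (closurePt Ω) he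

set_option backward.isDefEq.respectTransparency.types false in
/-- Algebraically closed points of etale schemes over separably closed points descend. -/
lemma exists_descend_point {W X : Scheme.{u}} (w : W ⟶ X) [Etale w]
    (ξ : Spec (CommRingCat.of Ω) ⟶ X) (t : Spec (CommRingCat.of (AlgebraicClosure Ω)) ⟶ W)
    (ht : t ≫ w = closurePt Ω ≫ ξ) :
    ∃ t₀ : Spec (CommRingCat.of Ω) ⟶ W, t₀ ≫ w = ξ ∧ closurePt Ω ≫ t₀ = t := by
  let q : pullback w ξ ⟶ Spec (CommRingCat.of Ω) := pullback.snd w ξ
  have : Etale q := inferInstanceAs (Etale (pullback.snd w ξ))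
  let τ : Spec (CommRingCat.of (AlgebraicClosure Ω)) ⟶ pullback w ξ := pullback.lift t (closurePt Ω) ht
  obtain ⟨l, hl, hlz⟩ := Scheme.exists_fac_of_etale_of_isSepClosed q (𝟙 _) (τ.base default)
    (Subsingleton.elim (α := Spec (CommRingCat.of Ω)) _ _)
  have : IsOpenImmersion l := isOpenImmersion_section q l hl
  have hr : Set.range τ.base ⊆ Set.range l.base := by
    rintro _ ⟨z, rfl⟩
    exact ⟨default, by rw [hlz, Subsingleton.elim z default]⟩
  have hlift : IsOpenImmersion.lift l τ hr = closurePt Ω := by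
    have := congrArg (· ≫ q) (IsOpenImmersion.lift_fac l τ hr)
    rw [Category.assoc, hl, Category.comp_id] at this
    exact this.trans (pullback.lift_snd _ _ _)
  refine ⟨l ≫ pullback.fst w ξ, ?_, ?_⟩
  · rw [Category.assoc, pullback.condition, reassoc_of% hl]
  · rw [← hlift, IsOpenImmersion.lift_fac_assoc]
    exact pullback.lift_fst _ _ _

set_option backward.isDefEq.respectTransparency.types false in
/-- Etale schemes over an integral morphism receive base changes of etale neighbourhoods of the
base, through a prescribed geometric point. -/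
theorem exists_nbhd_of_point {X Y U : Scheme.{u}} (f : X ⟶ Y) [IsIntegralHom f] (g : U ⟶ X)
    [Etale g] (ξ : Spec (CommRingCat.of Ω) ⟶ X) (l : Spec (CommRingCat.of Ω) ⟶ U) (hl : l ≫ g = ξ)
    (hU : ∀ x, f.base x = (ξ ≫ f).base default → x ∈ Set.range g.base) :
    ∃ (V : Scheme.{u}) (v : V ⟶ Y) (_ : Etale v) (h : pullback v f ⟶ U)
      (t : Spec (CommRingCat.of Ω) ⟶ V) (ht : t ≫ v = ξ ≫ f),
      h ≫ g = pullback.snd v f ∧ pullback.lift t ξ ht ≫ h = l := by
  let j := closurePt Ω
  have hj : (j ≫ ξ ≫ f).base default = (ξ ≫ f).base default := by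
    rw [Scheme.Hom.comp_apply]
    exact congrArg (fun z => (ξ ≫ f).base z) (Subsingleton.elim _ _)
  obtain ⟨V, v, hv, h, t, hh, ht, hl'⟩ := exists_etale_nbhd_section_point f g (j ≫ ξ ≫ f)
    (by rw [hj]; exact hU) (some (j ≫ l))
    (fun m hm => by
      obtain rfl : j ≫ l = m := by simpa using hm
      rw [Category.assoc, reassoc_of% hl])
  obtain ⟨t₀, ht₀, htt⟩ := exists_descend_point v (ξ ≫ f) t ht
  refine ⟨V, v, hv, (pullbackSymmetry v f).hom ≫ h, t₀, ht₀, ?_, ?_⟩
  · rw [Category.assoc, hh, pullbackSymmetry_hom_comp_fst]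
  · refine closurePt_cancel g _ _ ?_ ?_
    · simp [hh, hl]
    · have := hl' (j ≫ l) rfl (j ≫ pullback.lift t₀ ξ ht₀ ≫ (pullbackSymmetry v f).hom)
        (by simp [hl]) (by simp [j, htt])
      simpa [j] using this

end Groth.EtaleBase
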