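import Groth.Agent.EtaleBase.Stalks
import Mathlib.AlgebraicGeometry.Morphisms.UniversallyOpen

/-!
Vanishing loci and supports of sections on the small etale site.
-/

set_option autoImplicit false

universe u

open CategoryTheory CategoryTheory.Limits AlgebraicGeometry Opposite

namespace Groth.EtaleBase

variable {X : Scheme.{u}}

lemma isOpenMap_left {U V : X.Etale} (g : V ⟶ U) : IsOpenMap g.left.base :=
  g.left.isOpenMap

lemma isOpenMap_hom (U : X.Etale) : IsOpenMap U.hom.base :=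
  Scheme.Hom.isOpenMap (Y := X) U.hom

section

variable {Ω : Type u} [Field Ω] [IsSepClosed Ω] (ξ : Spec (CommRingCat.of Ω) ⟶ X)

/-- The point of `U` under a lift of a geometric point. -/
noncomputable abbrev fiberPoint {U : X.Etale} (t : (Scheme.pointSmallEtale ξ).fiber.obj U) : U.left :=
  (Scheme.pointSmallEtaleFiberObjToPreimage ξ rfl t).1

lemma fiberPoint_map {U V : X.Etale} (g : V ⟶ U) (s : (Scheme.pointSmallEtale ξ).fiber.obj V) :
    fiberPoint ξ ((Scheme.pointSmallEtale ξ).fiber.map g s) = g.left.base (fiberPoint ξ s) := rfl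

lemma hom_fiberPoint {U : X.Etale} (t : (Scheme.pointSmallEtale ξ).fiber.obj U) :
    U.hom.base (fiberPoint ξ t) = ξ.base default :=
  (Scheme.pointSmallEtaleFiberObjToPreimage ξ rfl t).2

set_option backward.isDefEq.respectTransparency.types false in
/-- Lifts of geometric points lift along etale morphisms. -/
lemma exists_fiber_lift {U V : X.Etale} (g : V ⟶ U) (t : (Scheme.pointSmallEtale ξ).fiber.obj U)
    (v : V.left) (hv : g.left.base v = fiberPoint ξ t) :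
    ∃ s : (Scheme.pointSmallEtale ξ).fiber.obj V,
      (Scheme.pointSmallEtale ξ).fiber.map g s = t ∧ fiberPoint ξ s = v := by
  obtain ⟨l, hl, hlv⟩ := Scheme.exists_fac_of_etale_of_isSepClosed g.left t.left v hv
  refine ⟨Over.homMk l ?_, Over.OverMorphism.ext hl, hlv⟩
  exact (congrArg (l ≫ ·) (Over.w g.hom).symm).trans ((Category.assoc _ _ _).symm.trans
    ((congrArg (· ≫ U.hom) hl).trans (Over.w t)))

end

/-- Points near which a section vanishes. -/
def vanishSet (F : EtCoh.Ab X) (U : X.Etale) (σ : F.obj.obj (op U)) : Set U.left :=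
  {x | ∃ (V : X.Etale) (g : V ⟶ U), (∃ v, g.left.base v = x) ∧ F.obj.map g.op σ = 0}

lemma isOpen_vanishSet (F : EtCoh.Ab X) (U : X.Etale) (σ : F.obj.obj (op U)) :
    IsOpen (vanishSet F U σ) := by
  rw [isOpen_iff_forall_mem_open]
  rintro x ⟨V, g, ⟨v, hv⟩, hz⟩
  exact ⟨Set.range g.left.base, fun y ⟨w, hw⟩ => ⟨V, g, ⟨w, hw⟩, hz⟩,
    (isOpenMap_left g).isOpen_range, ⟨v, hv⟩⟩

lemma germ_eq_zero_iff_mem {Ω : Type u} [Field Ω] [IsSepClosed Ω]
    (ξ : Spec (CommRingCat.of Ω) ⟶ X) (F : EtCoh.Ab X) (U : X.Etale) (σ : F.obj.obj (op U))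
    (t : (Scheme.pointSmallEtale ξ).fiber.obj U) :
    germ ξ F U t σ = 0 ↔ fiberPoint ξ t ∈ vanishSet F U σ := by
  rw [germ_eq_zero_iff]
  constructor
  · rintro ⟨V, g, s, rfl, hz⟩
    exact ⟨V, g, ⟨_, (fiberPoint_map ξ g s).symm⟩, hz⟩
  · rintro ⟨V, g, ⟨v, hv⟩, hz⟩
    obtain ⟨s, hs, -⟩ := exists_fiber_lift ξ g t v hv
    exact ⟨V, g, s, hs, hz⟩

lemma map_eq_zero_iff_range_subset (F : EtCoh.Ab X) {U V : X.Etale} (φ : V ⟶ U)
    (σ : F.obj.obj (op U)) :
    F.obj.map φ.op σ = 0 ↔ Set.range φ.left.base ⊆ vanishSet F U σ := by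
  refine ⟨fun h x ⟨v, hv⟩ => ⟨V, φ, ⟨v, hv⟩, h⟩, fun h => ?_⟩
  refine section_eq_zero_of_germs F V _ fun v => ?_
  obtain ⟨t, ht⟩ := exists_geomPoint_lift V v
  have h0 : germ _ F U ((Scheme.pointSmallEtale _).fiber.map φ t) σ = 0 :=
    (germ_eq_zero_iff_mem _ F U σ _).2 (h ⟨_, (fiberPoint_map _ φ t).symm⟩)
  have h1 : germ _ F V t (F.obj.map φ.op σ) = 0 :=
    ((Scheme.pointSmallEtale _).toPresheafFiber_w_apply φ t F.obj σ).trans h0
  obtain ⟨W, g, ⟨w, hw⟩, hz⟩ := (germ_eq_zero_iff_mem _ F V _ t).1 h1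
  exact ⟨W, g, ⟨w, hw.trans ht⟩, hz⟩

end Groth.EtaleBase
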