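import Groth.Agent.EtaleBase.IntegralScheme
import Mathlib.Topology.Maps.Basic

/-!
Integral morphisms satisfy the conditions (A), (B), and (C) when they are closed embeddings.
-/

set_option autoImplicit false

universe u

open CategoryTheory CategoryTheory.Limits AlgebraicGeometry TopologicalSpace

namespace Groth.EtaleBase

section sigma

variable {ι : Type u} (U : ι → Scheme.{u}) {P : Scheme.{u}} (h : P ⟶ ∐ U)

/-- The piece of `P` landing in the `a`-th summand. -/
noncomputable def sigmaPiece (a : ι) : P.Opens := h ⁻¹ᵁ (Sigma.ι U a).opensRange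

lemma sigmaPiece_disjoint (a b : ι) (hab : a ≠ b) : Disjoint (sigmaPiece U h a) (sigmaPiece U h b) := by
  have := disjoint_opensRange_sigmaι U a b hab
  rw [disjoint_iff, Opens.ext_iff] at this ⊢
  ext x
  exact ⟨fun hx => (this.le hx).elim, fun hx => hx.elim⟩

lemma iSup_sigmaPiece : ⨆ a, sigmaPiece U h a = ⊤ := by
  refine eq_top_iff.2 fun x _ => ?_
  obtain ⟨a, z, hz⟩ := (sigmaOpenCover U).exists_eq (h.base x)
  exact Opens.mem_iSup.2 ⟨a, z, hz⟩

lemma isClosed_sigmaPiece (a : ι) : IsClosed (sigmaPiece U h a : Set P) := by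
  rw [← isOpen_compl_iff]
  have : (sigmaPiece U h a : Set P)ᶜ = ⋃ b : {b // b ≠ a}, (sigmaPiece U h b.1 : Set P) := by
    ext x
    constructor
    · intro hx
      obtain ⟨b, hb⟩ := Opens.mem_iSup.1 ((iSup_sigmaPiece U h).symm ▸ Opens.mem_top x)
      exact Set.mem_iUnion.2 ⟨⟨b, fun e => hx (e ▸ hb)⟩, hb⟩
    · intro hx hxa
      obtain ⟨⟨b, hb⟩, hxb⟩ := Set.mem_iUnion.1 hx
      exact Set.disjoint_left.1 (by
        have := sigmaPiece_disjoint U h a b hb.symm
        rwa [disjoint_iff, Opens.ext_iff, Opens.coe_inf, Opens.coe_bot, ← Set.disjoint_iff_inter_eq_empty] at this)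
        hxa hxb
  rw [this]
  exact isOpen_iUnion fun b => (sigmaPiece U h b.1).2

/-- The component of `h` on the `a`-th piece. -/
noncomputable def sigmaPieceHom (a : ι) : (sigmaPiece U h a : Scheme.{u}) ⟶ U a :=
  IsOpenImmersion.lift (Sigma.ι U a) ((sigmaPiece U h a).ι ≫ h) (by
    rintro _ ⟨z, rfl⟩
    exact z.2)

lemma sigmaPieceHom_comp {X : Scheme.{u}} (g : ∀ a, U a ⟶ X) (a : ι) :
    sigmaPieceHom U h a ≫ g a = (sigmaPiece U h a).ι ≫ h ≫ Sigma.desc g := by
  rw [← Sigma.ι_desc g a, ← Category.assoc, sigmaPieceHom, IsOpenImmersion.lift_fac, Category.assoc]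

lemma mem_range_sigmaPieceHom (a : ι) (z : U a) (hz : (Sigma.ι U a).base z ∈ Set.range h.base) :
    z ∈ Set.range (sigmaPieceHom U h a).base := by
  obtain ⟨p, hp⟩ := hz
  refine ⟨⟨p, show h.base p ∈ Set.range _ from ⟨z, hp.symm⟩⟩, (Sigma.ι U a).isOpenEmbedding.injective ?_⟩
  rw [← Scheme.Hom.comp_apply, sigmaPieceHom, IsOpenImmersion.lift_fac]
  exact hp

end sigma

set_option backward.isDefEq.respectTransparency.types false in
theorem propB_of_isIntegralHom {X Y : Scheme.{u}} (f : X ⟶ Y) [IsIntegralHom f] : BigSite.PropB f := by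
  intro V v _ ι U g hg hcov
  let π : (∐ U) ⟶ pullback f v := Sigma.desc g
  have : Etale π := IsZariskiLocalAtSource.sigmaDesc hg
  have hπ : ∀ i z, π.base ((Sigma.ι U i).base z) = (g i).base z := fun i z => by
    rw [← Scheme.Hom.comp_apply, Sigma.ι_desc]
  have key := fun y : V => exists_etale_nbhd_section (pullback.snd f v) π y
    (fun x _ => by obtain ⟨i, z, hz⟩ := hcov x; exact ⟨_, (hπ i z).trans hz⟩) none (by simp)
  choose V' v' hv' h hh hy _ using key
  refine ⟨V, V', v', hv', fun y => ⟨y, hy y⟩, fun j => ?_⟩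
  let e : pullback f (v' j ≫ v) ≅ pullback (pullback.snd f v) (v' j) :=
    (pullbackLeftPullbackSndIso f v (v' j)).symm
  refine ⟨ι, sigmaPiece U (e.hom ≫ h j), sigmaPiece_disjoint _ _, iSup_sigmaPiece _ _,
    fun a => ⟨a, sigmaPieceHom U (e.hom ≫ h j) a, ?_⟩⟩
  rw [sigmaPieceHom_comp]
  congr 1
  rw [Category.assoc, hh]
  apply pullback.hom_ext
  · simp [e, pullback.lift_fst, pullbackLeftPullbackSndIso_inv_fst]
  · simp [e, pullback.lift_snd, pullback.condition]

set_option backward.isDefEq.respectTransparency.types false in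
theorem propA_of_isIntegralHom {X Y : Scheme.{u}} (f : X ⟶ Y) [IsIntegralHom f] : BigSite.PropA f := by
  intro U g _ u
  let F : ULift.{u} Bool → Scheme.{u} := fun b => Bool.rec X U b.down
  let gF : ∀ b, F b ⟶ X := fun b => by
    obtain ⟨_ | _⟩ := b
    · exact 𝟙 X
    · exact g
  have : Etale (Sigma.desc gF) := IsZariskiLocalAtSource.sigmaDesc (by rintro ⟨_ | _⟩ <;> simp only [gF] <;> infer_instance)
  obtain ⟨V, v, hv, h, hh, -, hu⟩ := exists_etale_nbhd_section f (Sigma.desc gF) (f.base (g.base u))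
    (fun x _ => ⟨(Sigma.ι F ⟨false⟩).base x, by rw [← Scheme.Hom.comp_apply, Sigma.ι_desc]; rfl⟩)
    (some ((Sigma.ι F ⟨true⟩).base u)) (fun u' hu' => by
      obtain rfl : _ = u' := Option.some_inj.1 hu'
      rw [← Scheme.Hom.comp_apply (Sigma.ι F ⟨true⟩), Sigma.ι_desc])
  exact ⟨V, v, hv, sigmaPiece F h ⟨true⟩, isClosed_sigmaPiece F h _, sigmaPieceHom F h ⟨true⟩,
    (sigmaPieceHom_comp F h gF ⟨true⟩).trans (by rw [hh]),
    mem_range_sigmaPieceHom F h ⟨true⟩ u (hu _ rfl)⟩

section pullbackSigma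

variable {ι : Type u} {X Y : Scheme.{u}} (f : X ⟶ Y) {V : ι → Scheme.{u}} (v : ∀ i, V i ⟶ Y)

set_option backward.isDefEq.respectTransparency.types false in
/-- Base change commutes with disjoint unions. -/
lemma isIso_sigmaDesc_pullback :
    IsIso (Sigma.desc fun i => pullback.map f (v i) f (Sigma.desc v) (𝟙 X) (Sigma.ι V i) (𝟙 Y)
      (by simp) (by simp)) := by
  have hd : ∀ i, IsOpenImmersion (pullback.map f (v i) f (Sigma.desc v) (𝟙 X) (Sigma.ι V i) (𝟙 Y)
      (by simp) (by simp)) := fun i => inferInstance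
  let p := fun i => pullback.map f (v i) f (Sigma.desc v) (𝟙 X) (Sigma.ι V i) (𝟙 Y) (by simp) (by simp)
  have hr : ∀ i, Set.range (p i).base =
      (pullback.snd f (Sigma.desc v)).base ⁻¹' Set.range (Sigma.ι V i).base := fun i => by
    rw [Scheme.Pullback.range_map]
    ext z
    simp
  have hcov : ⨆ i, (p i).opensRange = ⊤ := by
    refine eq_top_iff.2 fun z _ => ?_
    obtain ⟨i, w, hw⟩ := (sigmaOpenCover V).exists_eq ((pullback.snd f (Sigma.desc v)).base z)
    exact Opens.mem_iSup.2 ⟨i, (hr i).superset ⟨w, hw⟩⟩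
  have hdisj : Pairwise (Function.onFun Disjoint fun i => (p i).opensRange) := fun i j hij => by
    show Disjoint _ _
    rw [disjoint_iff, eq_bot_iff]
    intro z hz
    exact (disjoint_iff.1 (disjoint_opensRange_sigmaι V i j hij)).le
      ⟨(hr i).subset hz.1, (hr j).subset hz.2⟩
  obtain ⟨hc⟩ := nonempty_isColimit_cofanMk_of p hcov hdisj
  exact (Cofan.nonempty_isColimit_iff_isIso_sigmaDesc (Cofan.mk _ p)).1 ⟨hc⟩

end pullbackSigma

set_option backward.isDefEq.respectTransparency.types false in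
theorem propC_of_isClosedEmbedding {X Y : Scheme.{u}} (f : X ⟶ Y) [IsIntegralHom f]
    (hf : Topology.IsClosedEmbedding f.base) : BigSite.PropC f := by
  intro U g _
  have key := fun u : U => exists_etale_nbhd_section f g (f.base (g.base u))
    (fun x hx => ⟨u, (hf.injective hx).symm⟩) (some u)
    (fun u' hu' => by obtain rfl : u = u' := Option.some_inj.1 hu'; rfl)
  choose V v hv h hh _ hu using key
  let O : Y.Opens := ⟨(Set.range f.base)ᶜ, hf.isClosed_range.isOpen_compl⟩
  have hE : IsEmpty ↥(pullback f O.ι) := ⟨fun z => by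
    have h1 : f.base ((pullback.fst f O.ι).base z) = O.ι.base ((pullback.snd f O.ι).base z) := by
      rw [← Scheme.Hom.comp_apply, ← Scheme.Hom.comp_apply, pullback.condition]
    exact ((pullback.snd f O.ι).base z).2 ⟨_, h1⟩⟩
  let F : U ⊕ PUnit.{u + 1} → Scheme.{u} := Sum.elim V fun _ => O
  let w : ∀ a, F a ⟶ Y := fun a => by
    obtain u | _ := a
    · exact v u
    · exact O.ι
  let k : ∀ a, pullback f (w a) ⟶ U := fun a => by
    obtain u | _ := a
    · exact h u
    · exact (@isInitialOfIsEmpty (pullback f O.ι) hE).to U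
  have hk : ∀ a, k a ≫ g = pullback.fst f (w a) := by
    rintro (u | _)
    · exact hh u
    · exact (@isInitialOfIsEmpty (pullback f O.ι) hE).hom_ext _ _
  have hw : Etale (Sigma.desc w) := IsZariskiLocalAtSource.sigmaDesc (by
    rintro (u | _)
    · exact hv u
    · exact (inferInstance : Etale O.ι))
  have := isIso_sigmaDesc_pullback f w
  refine ⟨∐ F, Sigma.desc w, hw, inv (Sigma.desc fun i => pullback.map f (w i) f (Sigma.desc w)
    (𝟙 X) (Sigma.ι F i) (𝟙 Y) (by simp) (by simp)) ≫ Sigma.desc k, ?_, ?_⟩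
  · rw [Category.assoc, IsIso.inv_comp_eq]
    refine Sigma.hom_ext _ _ fun a => ?_
    rw [Sigma.ι_desc_assoc, hk, Sigma.ι_desc_assoc, pullback.lift_fst, Category.comp_id]
  · refine ⟨fun u => ?_⟩
    obtain ⟨z, hz⟩ := hu u u rfl
    refine ⟨(pullback.map f (w (.inl u)) f (Sigma.desc w) (𝟙 X) (Sigma.ι F (.inl u)) (𝟙 Y)
      (by simp) (by simp)).base z, ?_⟩
    rw [← Scheme.Hom.comp_apply, ← Category.assoc,
      show pullback.map f (w (.inl u)) f (Sigma.desc w) (𝟙 X) (Sigma.ι F (.inl u)) (𝟙 Y) (by simp) (by simp) ≫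
        inv (Sigma.desc fun i => pullback.map f (w i) f (Sigma.desc w) (𝟙 X) (Sigma.ι F i) (𝟙 Y) (by simp) (by simp)) =
        Sigma.ι (fun a => pullback f (w a)) (.inl u) by
          rw [IsIso.comp_inv_eq]
          exact (Sigma.ι_desc (fun i => pullback.map f (w i) f (Sigma.desc w) (𝟙 X) (Sigma.ι F i) (𝟙 Y) (by simp) (by simp)) (Sum.inl u)).symm, Sigma.ι_desc]
    exact hz

end Groth.EtaleBase
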