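import Groth.Agent.EtaleBase.IntegralAlg
import Groth.Prelude.Def_BigSite
import Mathlib.AlgebraicGeometry.Morphisms.Integral
import Mathlib.AlgebraicGeometry.Sites.EtalePoint
import Mathlib.FieldTheory.IsAlgClosed.AlgebraicClosure

/-!
Etale local sections over integral morphisms: the conditions (A), (B), (C).
-/

set_option autoImplicit false

universe u

open CategoryTheory CategoryTheory.Limits AlgebraicGeometry TensorProduct

namespace Groth.EtaleBase

lemma spec_field_point_mem_range {K : Type u} [Field K] {U : Scheme.{u}}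
    (l : Spec (CommRingCat.of K) ⟶ U) (O : U.Opens) (h : l.base default ∈ O) :
    Set.range l.base ⊆ Set.range O.ι.base := by
  rintro _ ⟨z, rfl⟩
  rw [Subsingleton.elim z default, Scheme.Opens.range_ι]
  exact h

set_option backward.isDefEq.respectTransparency.types false in
lemma exists_etale_nbhd_section_affine {A B : Type u} [CommRing A] [CommRing B] [Algebra A B]
    [Algebra.IsIntegral A B] {U : Scheme.{u}} (g : U ⟶ Spec (CommRingCat.of B)) [Etale g]
    {Ω : Type u} [Field Ω] [IsAlgClosed Ω] [Algebra A Ω]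
    (hU : ∀ x, (Spec.map (CommRingCat.ofHom (algebraMap A B))).base x =
      (Spec.map (CommRingCat.ofHom (algebraMap A Ω))).base default → x ∈ Set.range g.base)
    (u : Option (Spec (CommRingCat.of Ω) ⟶ U))
    (hu : ∀ l ∈ u, l ≫ g ≫ Spec.map (CommRingCat.ofHom (algebraMap A B)) =
      Spec.map (CommRingCat.ofHom (algebraMap A Ω))) :
    ∃ (V : Scheme.{u}) (v : V ⟶ Spec (CommRingCat.of A)) (_ : Etale v)
      (h : pullback (Spec.map (CommRingCat.ofHom (algebraMap A B))) v ⟶ U)
      (t : Spec (CommRingCat.of Ω) ⟶ V),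
      h ≫ g = pullback.fst _ v ∧ t ≫ v = Spec.map (CommRingCat.ofHom (algebraMap A Ω)) ∧
      ∀ l ∈ u, ∀ (s : Spec (CommRingCat.of Ω) ⟶ _),
        s ≫ pullback.fst _ v = l ≫ g → s ≫ pullback.snd _ v = t → s ≫ h = l := by
  classical
  set f := Spec.map (CommRingCat.ofHom (algebraMap A B)) with hf
  set η := Spec.map (CommRingCat.ofHom (algebraMap A Ω)) with hη
  have : IsIntegralHom f := IsIntegralHom.SpecMap_iff.2 (algebraMap_isIntegral_iff.2 inferInstance)
  let y := η.base default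
  -- finitely many affine opens of `U` over the fibre
  have hcpt : IsCompact (f.base ⁻¹' {y}) := by
    rw [← Scheme.Hom.range_fiberι f y]
    exact isCompact_range (f.fiberι y).continuous
  choose O hO using fun u' : U => exists_isAffineOpen_mem_and_subset (x := u') (U := ⊤) trivial
  choose pre hpre using fun x : f.base ⁻¹' {y} => hU x.1 x.2
  obtain ⟨T, hT⟩ := hcpt.elim_finite_subcover (fun x : f.base ⁻¹' {y} => g.base '' (O (pre x)))
    (fun x => g.isOpenMap _ (O (pre x)).2)
    (fun x hx => Set.mem_iUnion.2 ⟨⟨x, hx⟩, _, (hO _).2.1, hpre _⟩)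
  let S : Finset U := T.image pre ∪ u.toFinset.image (fun l => l.base default)
  let W : Scheme.{u} := ∐ fun t : S => ((O t.1 : U.Opens) : Scheme.{u})
  have (t : S) : IsAffine ((O t.1 : U.Opens) : Scheme.{u}) := (hO t.1).1
  let π : W ⟶ U := Sigma.desc fun t : S => (O t.1).ι
  have : Etale π := IsZariskiLocalAtSource.sigmaDesc fun t => inferInstance
  have hπ : ∀ t : S, Sigma.ι (fun t : S => ((O t.1 : U.Opens) : Scheme.{u})) t ≫ π = (O t.1).ι :=
    fun t => Sigma.ι_desc _ _
  let C := Γ(W, ⊤)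
  obtain ⟨φ, hφ⟩ := Spec.map_surjective (W.isoSpec.inv ≫ π ≫ g : Spec C ⟶ _)
  letI : Algebra B C := φ.hom.toAlgebra
  letI : Algebra A C := (φ.hom.comp (algebraMap A B)).toAlgebra
  haveI : IsScalarTower A B C := .of_algebraMap_eq' rfl
  have : Etale (Spec.map φ) := hφ ▸ inferInstance
  have : Algebra.Etale B C :=
    RingHom.etale_algebraMap.1 ((HasRingHomProperty.Spec_iff (P := @Etale)).1 this)
  -- points of `W` as points of `C`
  have hchi : ∀ (l : Spec (CommRingCat.of Ω) ⟶ W), l ≫ π ≫ g ≫ f = η →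
      ∃ χ : C →ₐ[A] Ω, Spec.map (CommRingCat.ofHom χ.toRingHom) = l ≫ W.isoSpec.hom := by
    intro l hl
    obtain ⟨χ₀, hχ₀⟩ := Spec.map_surjective (l ≫ W.isoSpec.hom : _ ⟶ Spec C)
    have hc : CommRingCat.ofHom (algebraMap A B) ≫ φ ≫ χ₀ = CommRingCat.ofHom (algebraMap A Ω) := by
      apply Spec.map_injective
      rw [Spec.map_comp, Spec.map_comp, hχ₀, hφ, ← hη, ← hl]
      simp [f]
    exact ⟨{ χ₀.hom with commutes' := fun a => ConcreteCategory.congr_hom hc a }, hχ₀⟩
  have hC : ∀ ψ : B →ₐ[A] Ω, ∃ χ : C →ₐ[A] Ω, χ.comp (IsScalarTower.toAlgHom A B C) = ψ := by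
    intro ψ
    let ξ := Spec.map (CommRingCat.ofHom ψ.toRingHom)
    have hξ : ξ ≫ f = η := by
      rw [hη, hf, ← Spec.map_comp]
      exact congrArg Spec.map (CommRingCat.hom_ext ψ.comp_algebraMap)
    have hmem : ξ.base default ∈ f.base ⁻¹' {y} := by
      show f.base (ξ.base default) = η.base default
      rw [← Scheme.Hom.comp_apply, hξ]
    obtain ⟨x, hx, u', hu'O, hu'⟩ : ∃ x ∈ T, ∃ u' ∈ O (pre x), g.base u' = ξ.base default := by
      obtain ⟨x, hx, h⟩ := Set.mem_iUnion₂.1 (hT hmem)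
      exact ⟨x, hx, h⟩
    let t : S := ⟨pre x, Finset.mem_union_left _ (Finset.mem_image_of_mem _ hx)⟩
    obtain ⟨l, hl, -⟩ := Scheme.exists_fac_of_etale_of_isSepClosed (π ≫ g) ξ
      ((Sigma.ι (fun t : S => ((O t.1 : U.Opens) : Scheme.{u})) t).base ⟨u', hu'O⟩) (by
        rw [← Scheme.Hom.comp_apply, ← Category.assoc, hπ]
        exact hu')
    obtain ⟨χ, hχ⟩ := hchi l (by rw [← Category.assoc π g f, ← Category.assoc, hl, hξ])
    have hc : φ ≫ CommRingCat.ofHom χ.toRingHom = CommRingCat.ofHom ψ.toRingHom := by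
      apply Spec.map_injective
      rw [Spec.map_comp, hχ, hφ, Category.assoc, Iso.hom_inv_id_assoc, hl]
    exact ⟨χ, AlgHom.ext fun b => ConcreteCategory.congr_hom hc b⟩
  -- the prescribed point
  obtain ⟨χ₁, hχ₁⟩ : ∃ χ₁ : Option (C →ₐ[A] Ω), ∀ l ∈ u, ∃ χ ∈ χ₁,
      Spec.map (CommRingCat.ofHom χ.toRingHom) ≫ W.isoSpec.inv ≫ π = l := by
    rcases u with _ | l
    · exact ⟨none, by simp⟩
    let t : S := ⟨l.base default, Finset.mem_union_right _ (by simp)⟩
    let l₀ := IsOpenImmersion.lift (O t.1).ι l (spec_field_point_mem_range l _ (hO _).2.1)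
    have hl₀ : (l₀ ≫ Sigma.ι (fun t : S => ((O t.1 : U.Opens) : Scheme.{u})) t) ≫ π = l := by
      rw [Category.assoc, hπ, IsOpenImmersion.lift_fac]
    obtain ⟨χ, hχ⟩ := hchi _ (by rw [← Category.assoc _ π (g ≫ f), hl₀, hu l rfl])
    refine ⟨some χ, fun l' hl' => ⟨χ, rfl, ?_⟩⟩
    obtain rfl : l = l' := by simpa using hl'
    rw [hχ, Category.assoc, Iso.hom_inv_id_assoc, hl₀]
  obtain ⟨N, σ, hσ⟩ := IntegralAlg.exists_section_integral (A := A) (B := B) (C := C) (Ω := Ω) hC χ₁
  let v := Spec.map (CommRingCat.ofHom (algebraMap A N.R))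
  have : Etale v := (HasRingHomProperty.Spec_iff (P := @Etale)).2
    (RingHom.etale_algebraMap.2 inferInstance)
  let t : Spec (CommRingCat.of Ω) ⟶ Spec (CommRingCat.of N.R) :=
    Spec.map (CommRingCat.ofHom N.pt.toRingHom)
  let h : pullback f v ⟶ U :=
    (pullbackSpecIso A B N.R).hom ≫ Spec.map (CommRingCat.ofHom σ.toRingHom) ≫ W.isoSpec.inv ≫ π
  have hσφ : φ ≫ CommRingCat.ofHom σ.toRingHom = CommRingCat.ofHom (algebraMap B (B ⊗[A] N.R)) :=
    CommRingCat.hom_ext σ.comp_algebraMap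
  refine ⟨_, v, inferInstance, h, t, ?_, ?_, fun l hl s hs1 hs2 => ?_⟩
  · show ((pullbackSpecIso A B N.R).hom ≫ _ ≫ W.isoSpec.inv ≫ π) ≫ g = _
    rw [Category.assoc, Category.assoc, Category.assoc, ← hφ, ← Spec.map_comp, hσφ]
    exact pullbackSpecIso_hom_fst' A B N.R
  · rw [hη, ← Spec.map_comp]
    exact congrArg Spec.map (CommRingCat.hom_ext N.pt.comp_algebraMap)
  · obtain ⟨χ, hχ, hz⟩ := hχ₁ l hl
    let L := Algebra.TensorProduct.lift (χ.comp (IsScalarTower.toAlgHom A B C)) N.pt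
      fun _ _ => Commute.all _ _
    have hsL : s = Spec.map (CommRingCat.ofHom L.toRingHom) ≫ (pullbackSpecIso A B N.R).inv := by
      apply pullback.hom_ext
      · rw [hs1, ← hz, Category.assoc, Category.assoc, Category.assoc, ← hφ, ← Spec.map_comp,
          pullbackSpecIso_inv_fst', ← Spec.map_comp]
        congr 1
        refine CommRingCat.hom_ext (RingHom.ext fun b => ?_)
        show χ (algebraMap B C b) = L (algebraMap B (B ⊗[A] N.R) b)
        simp [L, Algebra.TensorProduct.algebraMap_apply]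
      · rw [hs2, Category.assoc, pullbackSpecIso_inv_snd, ← Spec.map_comp]
        refine congrArg Spec.map (CommRingCat.hom_ext (RingHom.ext fun r => ?_))
        show N.pt r = L ((1 : B) ⊗ₜ[A] r)
        simp [L]
    rw [hsL]
    simp only [h, Category.assoc, Iso.inv_hom_id_assoc]
    rw [← Spec.map_comp_assoc,
      show CommRingCat.ofHom σ.toRingHom ≫ CommRingCat.ofHom L.toRingHom =
        CommRingCat.ofHom χ.toRingHom from CommRingCat.hom_ext (RingHom.ext fun x => hσ χ hχ x)]
    exact hz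

set_option backward.isDefEq.respectTransparency.types false in
/-- Sections of an etale scheme over an integral morphism, etale locally on the base, through a
prescribed geometric point. -/
theorem exists_etale_nbhd_section_point {X Y U : Scheme.{u}} (f : X ⟶ Y) [IsIntegralHom f]
    (g : U ⟶ X) [Etale g] {Ω : Type u} [Field Ω] [IsAlgClosed Ω]
    (η : Spec (CommRingCat.of Ω) ⟶ Y) (hU : ∀ x, f.base x = η.base default → x ∈ Set.range g.base)
    (u : Option (Spec (CommRingCat.of Ω) ⟶ U)) (hu : ∀ l ∈ u, l ≫ g ≫ f = η) :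
    ∃ (V : Scheme.{u}) (v : V ⟶ Y) (_ : Etale v) (h : pullback f v ⟶ U)
      (t : Spec (CommRingCat.of Ω) ⟶ V), h ≫ g = pullback.fst f v ∧ t ≫ v = η ∧
      ∀ l ∈ u, ∀ (s : Spec (CommRingCat.of Ω) ⟶ pullback f v),
        s ≫ pullback.fst f v = l ≫ g → s ≫ pullback.snd f v = t → s ≫ h = l := by
  classical
  obtain ⟨_, ⟨O, hO, rfl⟩, hyO, -⟩ := Y.isBasis_affineOpens.exists_subset_of_mem_open
    (Set.mem_univ (η.base default)) isOpen_univ
  let j : Spec Γ(Y, O) ⟶ Y := hO.fromSpec
  have hηj : Set.range η.base ⊆ Set.range j.base := by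
    rintro _ ⟨z, rfl⟩
    rw [Subsingleton.elim z default, hO.range_fromSpec]
    exact hyO
  let η₀ := IsOpenImmersion.lift j η hηj
  have hη₀ : η₀ ≫ j = η := IsOpenImmersion.lift_fac _ _ _
  let X₀ := pullback f j
  have : IsAffine X₀ := isAffine_of_isAffineHom (pullback.snd f j)
  let A := Γ(Y, O)
  let B := Γ(X₀, ⊤)
  obtain ⟨ψ, hψ⟩ := Spec.map_surjective (X₀.isoSpec.inv ≫ pullback.snd f j : Spec B ⟶ Spec A)
  obtain ⟨ρ, hρ⟩ := Spec.map_surjective η₀
  letI : Algebra A B := ψ.hom.toAlgebra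
  letI : Algebra A Ω := ρ.hom.toAlgebra
  have hint : IsIntegralHom (Spec.map ψ) := hψ ▸ inferInstance
  have : Algebra.IsIntegral A B := algebraMap_isIntegral_iff.1 (IsIntegralHom.SpecMap_iff.1 hint)
  let i : Spec B ⟶ X := X₀.isoSpec.inv ≫ pullback.fst f j
  have hi : i ≫ f = Spec.map ψ ≫ j := by simp [i, hψ, pullback.condition]
  let U₀ := pullback g i
  have : IsOpenImmersion i := inferInstance
  have : IsOpenImmersion (pullback.fst g i) := inferInstance
  have hU₀ : ∀ x, (Spec.map ψ).base x = (Spec.map ρ).base default →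
      x ∈ Set.range (pullback.snd g i).base := fun x hx => by
    obtain ⟨u', hu'⟩ := hU (i.base x) (by
      rw [← Scheme.Hom.comp_apply, hi, Scheme.Hom.comp_apply, hx, hρ, ← hη₀, Scheme.Hom.comp_apply])
    obtain ⟨z, -, hz⟩ := Scheme.Pullback.exists_preimage_pullback u' x hu'
    exact ⟨z, hz⟩
  obtain ⟨u₀, hu₀, hu₀'⟩ : ∃ u₀ : Option (Spec (CommRingCat.of Ω) ⟶ U₀),
      (∀ l₀ ∈ u₀, l₀ ≫ pullback.snd g i ≫ Spec.map ψ = Spec.map ρ) ∧
        ∀ l ∈ u, ∃ l₀ ∈ u₀, l₀ ≫ pullback.fst g i = l := by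
    rcases u with _ | l
    · exact ⟨none, by simp, by simp⟩
    let l₁ : Spec (CommRingCat.of Ω) ⟶ X₀ := pullback.lift (l ≫ g) η₀
      (by rw [Category.assoc, hu l rfl, hη₀])
    let l₀ : Spec (CommRingCat.of Ω) ⟶ U₀ := pullback.lift l (l₁ ≫ X₀.isoSpec.hom)
      (by simp [i, l₁, pullback.lift_fst])
    refine ⟨some l₀, fun l' hl' => ?_, fun l' hl' => ⟨l₀, rfl, ?_⟩⟩
    · obtain rfl : l₀ = l' := by simpa using hl'
      simp only [l₀, pullback.lift_snd_assoc, hψ, Category.assoc, Iso.hom_inv_id_assoc, l₁,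
        pullback.lift_snd, hρ]
    · rw [pullback.lift_fst]; simpa using hl'
  obtain ⟨V, v, hv, h, t, hh, htv, htl⟩ :=
    exists_etale_nbhd_section_affine (A := A) (B := B) (Ω := Ω) (pullback.snd g i) hU₀ u₀ hu₀
  let e : pullback f (v ≫ j) ≅ pullback (pullback.snd f j) v :=
    (pullbackLeftPullbackSndIso f j v).symm
  have hw : pullback.snd f j = X₀.isoSpec.hom ≫ Spec.map ψ := by rw [hψ, Iso.hom_inv_id_assoc]
  let m : pullback (pullback.snd f j) v ⟶ pullback (Spec.map ψ) v :=
    pullback.map _ _ _ _ X₀.isoSpec.hom (𝟙 _) (𝟙 _) (by rw [Category.comp_id]; exact hw) (by simp)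
  have : IsIso m := inferInstance
  have hm : m ≫ pullback.fst _ _ = pullback.fst _ _ ≫ X₀.isoSpec.hom := pullback.lift_fst _ _ _
  have hm' : m ≫ pullback.snd _ _ = pullback.snd _ _ ≫ 𝟙 _ := pullback.lift_snd _ _ _
  have hem1 : e.hom ≫ m ≫ pullback.fst _ _ ≫ i = pullback.fst f (v ≫ j) := by
    erw [reassoc_of% hm]
    simp [i, e, pullbackLeftPullbackSndIso_inv_fst]
  refine ⟨V, v ≫ j, inferInstance, e.hom ≫ m ≫ h ≫ pullback.fst g i, t, ?_, ?_, fun l hl s hs1 hs2 => ?_⟩
  · rw [Category.assoc, Category.assoc, Category.assoc, pullback.condition, reassoc_of% hh]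
    exact hem1
  · rw [reassoc_of% htv]
    exact (congrArg (· ≫ j) hρ).trans hη₀
  · obtain ⟨l₀, hl₀, rfl⟩ := hu₀' l hl
    have := htl l₀ hl₀ (s ≫ e.hom ≫ m) (by
      rw [← cancel_mono i]
      simp only [Category.assoc]
      erw [hem1]
      rw [hs1, Category.assoc, pullback.condition]) (by
      simp only [Category.assoc]
      erw [hm']
      simp [e, hs2, pullbackLeftPullbackSndIso_inv_snd_snd])
    rw [reassoc_of% this]

/-- Sections of an etale scheme over an integral morphism, etale locally on the base. -/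
theorem exists_etale_nbhd_section {X Y U : Scheme.{u}} (f : X ⟶ Y) [IsIntegralHom f] (g : U ⟶ X)
    [Etale g] (y : Y) (hU : ∀ x, f.base x = y → x ∈ Set.range g.base) (u : Option U)
    (hu : ∀ u' ∈ u, f.base (g.base u') = y) :
    ∃ (V : Scheme.{u}) (v : V ⟶ Y) (_ : Etale v) (h : pullback f v ⟶ U),
      h ≫ g = pullback.fst f v ∧ y ∈ Set.range v.base ∧ ∀ u' ∈ u, u' ∈ Set.range h.base := by
  rcases u with _ | u'
  · let Ω := AlgebraicClosure (Y.residueField y)
    let η : Spec (CommRingCat.of Ω) ⟶ Y :=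
      Spec.map (CommRingCat.ofHom (algebraMap (Y.residueField y) Ω)) ≫ Y.fromSpecResidueField y
    have hη : η.base default = y := Scheme.fromSpecResidueField_apply y _
    obtain ⟨V, v, hv, h, t, hh, ht, -⟩ :=
      exists_etale_nbhd_section_point f g η (by rw [hη]; exact hU) none (by simp)
    refine ⟨V, v, hv, h, hh, ⟨t.base default, ?_⟩, by simp⟩
    rw [← Scheme.Hom.comp_apply, ht, hη]
  · obtain rfl := hu u' rfl
    let Ω := AlgebraicClosure (U.residueField u')
    let l : Spec (CommRingCat.of Ω) ⟶ U :=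
      Spec.map (CommRingCat.ofHom (algebraMap (U.residueField u') Ω)) ≫ U.fromSpecResidueField u'
    have hl : l.base default = u' := Scheme.fromSpecResidueField_apply u' _
    have hη : (l ≫ g ≫ f).base default = f.base (g.base u') := by simp [hl]
    obtain ⟨V, v, hv, h, t, hh, ht, htl⟩ :=
      exists_etale_nbhd_section_point f g (l ≫ g ≫ f) (by rw [hη]; exact hU) (some l)
        (fun l' hl' => by obtain rfl : l = l' := by simpa using hl'
                          rfl)
    refine ⟨V, v, hv, h, hh, ⟨t.base default, ?_⟩, fun w hw => ?_⟩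
    · rw [← Scheme.Hom.comp_apply, ht, hη]
    · obtain rfl : u' = w := by simpa using hw
      let s : Spec (CommRingCat.of Ω) ⟶ pullback f v :=
        pullback.lift (l ≫ g) t (by rw [Category.assoc, ht])
      refine ⟨s.base default, ?_⟩
      rw [← Scheme.Hom.comp_apply, htl l rfl s (pullback.lift_fst _ _ _) (pullback.lift_snd _ _ _)]
      exact hl

end Groth.EtaleBase
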