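import Groth.Agent.EtaleBase.IntegralDesc
import Groth.Agent.EtaleBase.IntegralScheme

/-!
Descent of sections of étale schemes over integral morphisms to étale neighbourhoods.
-/

set_option autoImplicit false

universe u

open CategoryTheory CategoryTheory.Limits AlgebraicGeometry TensorProduct

namespace Groth.EtaleBase

variable {Ω : Type u} [Field Ω] [IsAlgClosed Ω]

set_option backward.isDefEq.respectTransparency.types false in
lemma exists_descend_affine {A B R' : Type u} [CommRing A] [CommRing B] [CommRing R'] [Algebra A B]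
    [Algebra.IsIntegral A B] [Algebra A R'] [Algebra A Ω] {U : Scheme.{u}} [IsAffine U]
    (g : U ⟶ Spec (CommRingCat.of B)) [Etale g] (pt' : R' →ₐ[A] Ω)
    (q : Spec (CommRingCat.of (B ⊗[A] R')) ⟶ U)
    (hq : q ≫ g = Spec.map (CommRingCat.ofHom (algebraMap B (B ⊗[A] R')))) :
    ∃ (N : IntegralAlg.Nbhd A Ω) (h : Spec (CommRingCat.of (B ⊗[A] N.R)) ⟶ U),
      h ≫ g = Spec.map (CommRingCat.ofHom (algebraMap B (B ⊗[A] N.R))) ∧
      ∀ ψ : B →ₐ[A] Ω,
        Spec.map (CommRingCat.ofHom (Algebra.TensorProduct.lift ψ N.pt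
          (fun _ _ => Commute.all _ _)).toRingHom) ≫ h =
        Spec.map (CommRingCat.ofHom (Algebra.TensorProduct.lift ψ pt'
          (fun _ _ => Commute.all _ _)).toRingHom) ≫ q := by
  obtain ⟨φ, hφ⟩ := Spec.map_surjective (U.isoSpec.inv ≫ g : Spec Γ(U, ⊤) ⟶ _)
  obtain ⟨κ, hκ⟩ := Spec.map_surjective (q ≫ U.isoSpec.hom : _ ⟶ Spec Γ(U, ⊤))
  let C := Γ(U, ⊤)
  let _ : Algebra B C := φ.hom.toAlgebra
  let _ : Algebra A C := (φ.hom.comp (algebraMap A B)).toAlgebra
  have : IsScalarTower A B C := .of_algebraMap_eq' rfl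
  have : Etale (Spec.map φ) := hφ ▸ inferInstance
  have : Algebra.Etale B C :=
    RingHom.etale_algebraMap.1 ((HasRingHomProperty.Spec_iff (P := @Etale)).1 this)
  have hc : φ ≫ κ = CommRingCat.ofHom (algebraMap B (B ⊗[A] R')) := by
    apply Spec.map_injective
    rw [Spec.map_comp, hκ, hφ, Category.assoc, Iso.hom_inv_id_assoc, hq]
  let qC : C →ₐ[B] B ⊗[A] R' :=
    { κ.hom with commutes' := fun b => ConcreteCategory.congr_hom hc b }
  obtain ⟨N, σ, hσ⟩ := IntegralAlg.exists_descend_hom pt' qC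
  refine ⟨N, Spec.map (CommRingCat.ofHom σ.toRingHom) ≫ U.isoSpec.inv, ?_, fun ψ => ?_⟩
  · rw [Category.assoc, ← hφ, ← Spec.map_comp]
    exact congrArg Spec.map (CommRingCat.hom_ext σ.comp_algebraMap)
  · rw [← Category.assoc, ← Spec.map_comp, ← cancel_mono U.isoSpec.hom, Category.assoc,
      Category.assoc, Iso.inv_hom_id, ← hκ, ← Spec.map_comp]
    exact (Category.comp_id _).trans
      (congrArg Spec.map (CommRingCat.hom_ext (RingHom.ext fun x => hσ ψ x)))

set_option backward.isDefEq.respectTransparency.types false in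
/-- A morphism from the pullback along any `p : T ⟶ Y` to an étale scheme over an integral `X/Y`
agrees at all geometric points over `η` with one from the pullback along an étale neighbourhood. -/
theorem exists_descend {X Y U T : Scheme.{u}} (f : X ⟶ Y) [IsIntegralHom f] (g : U ⟶ X) [Etale g]
    (p : T ⟶ Y) (η : Spec (CommRingCat.of Ω) ⟶ Y) (t : Spec (CommRingCat.of Ω) ⟶ T) (ht : t ≫ p = η)
    (q : pullback f p ⟶ U) (hq : q ≫ g = pullback.fst f p) :
    ∃ (V : Scheme.{u}) (v : V ⟶ Y) (_ : Etale v) (h : pullback f v ⟶ U)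
      (tV : Spec (CommRingCat.of Ω) ⟶ V), h ≫ g = pullback.fst f v ∧ tV ≫ v = η ∧
      ∀ (s : Spec (CommRingCat.of Ω) ⟶ pullback f v) (s' : Spec (CommRingCat.of Ω) ⟶ pullback f p),
        s ≫ pullback.fst f v = s' ≫ pullback.fst f p → s ≫ pullback.snd f v = tV →
        s' ≫ pullback.snd f p = t → s ≫ h = s' ≫ q := by
  classical
  obtain ⟨_, ⟨O, hO, rfl⟩, hyO, -⟩ := Y.isBasis_affineOpens.exists_subset_of_mem_open
    (Set.mem_univ (η.base default)) isOpen_univ
  let j : Spec Γ(Y, O) ⟶ Y := hO.fromSpec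
  have hηj : Set.range η.base ⊆ Set.range j.base := by
    rintro _ ⟨z, rfl⟩
    rw [Subsingleton.elim z default, hO.range_fromSpec]
    exact hyO
  let η₀ := IsOpenImmersion.lift j η hηj
  have hη₀ : η₀ ≫ j = η := IsOpenImmersion.lift_fac _ _ _
  let X₀ := pullback f j
  have : IsAffine X₀ := isAffine_of_isAffineHom (pullback.snd f j)
  let A := Γ(Y, O)
  let B := Γ(X₀, ⊤)
  obtain ⟨ψ₀, hψ₀⟩ := Spec.map_surjective (X₀.isoSpec.inv ≫ pullback.snd f j : Spec B ⟶ Spec A)
  obtain ⟨ρ, hρ⟩ := Spec.map_surjective η₀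
  let _ : Algebra A B := ψ₀.hom.toAlgebra
  let _ : Algebra A Ω := ρ.hom.toAlgebra
  have hint : IsIntegralHom (Spec.map ψ₀) := hψ₀ ▸ inferInstance
  have : Algebra.IsIntegral A B := algebraMap_isIntegral_iff.1 (IsIntegralHom.SpecMap_iff.1 hint)
  let i : Spec B ⟶ X := X₀.isoSpec.inv ≫ pullback.fst f j
  have : IsOpenImmersion i := inferInstance
  have hX₀ : IsPullback i (Spec.map ψ₀) f j :=
    IsPullback.of_iso_pullback ⟨by simp [i, hψ₀, pullback.condition]⟩ X₀.isoSpec.symm rfl hψ₀.symm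
  -- the squares for algebras over `A`
  have sq : ∀ (R : Type u) [CommRing R] [Algebra A R],
      IsPullback (Spec.map (CommRingCat.ofHom (algebraMap B (B ⊗[A] R))) ≫ i)
        (Spec.map (CommRingCat.ofHom (Algebra.TensorProduct.includeRight :
          R →ₐ[A] B ⊗[A] R).toRingHom)) f (Spec.map (CommRingCat.ofHom (algebraMap A R)) ≫ j) :=
    fun R _ _ => (IsPullback.of_iso_pullback
      ⟨by rw [← Spec.map_comp, ← Spec.map_comp]
          exact congrArg Spec.map (CommRingCat.hom_ext (RingHom.ext fun a =>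
            ((Algebra.TensorProduct.includeRight : R →ₐ[A] B ⊗[A] R).commutes a).symm))⟩
      (pullbackSpecIso A B R).symm (pullbackSpecIso_inv_fst' A B R)
      (pullbackSpecIso_inv_snd A B R)).paste_horiz hX₀
  -- an affine neighbourhood in `T`
  have htO : t.base default ∈ p ⁻¹ᵁ O := by
    show p.base (t.base default) ∈ O
    rw [← Scheme.Hom.comp_apply, ht]
    exact hyO
  obtain ⟨_, ⟨W₁, hW₁, rfl⟩, htW, hWO⟩ :=
    T.isBasis_affineOpens.exists_subset_of_mem_open htO (p ⁻¹ᵁ O).2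
  let R₁ := Γ(T, W₁)
  let w : Spec R₁ ⟶ T := hW₁.fromSpec
  have hwp : Set.range (w ≫ p).base ⊆ Set.range j.base := by
    rintro _ ⟨z, rfl⟩
    rw [hO.range_fromSpec, Scheme.Hom.comp_apply]
    exact hWO (hW₁.range_fromSpec.subset ⟨z, rfl⟩)
  obtain ⟨ρ₁, hρ₁⟩ := Spec.map_surjective (IsOpenImmersion.lift j (w ≫ p) hwp : Spec R₁ ⟶ Spec A)
  let _ : Algebra A R₁ := ρ₁.hom.toAlgebra
  have hw : Spec.map ρ₁ ≫ j = w ≫ p := by rw [hρ₁, IsOpenImmersion.lift_fac]
  have htw : Set.range t.base ⊆ Set.range w.base := by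
    rintro _ ⟨z, rfl⟩
    rw [Subsingleton.elim z default, hW₁.range_fromSpec]
    exact htW
  obtain ⟨τ₁, hτ₁⟩ := Spec.map_surjective (IsOpenImmersion.lift w t htw : _ ⟶ Spec R₁)
  have ht₁ : Spec.map τ₁ ≫ w = t := by rw [hτ₁, IsOpenImmersion.lift_fac]
  have hρτ : ρ₁ ≫ τ₁ = ρ := by
    apply Spec.map_injective
    rw [← cancel_mono j, Spec.map_comp, Category.assoc, hw, reassoc_of% ht₁, ht, hρ, hη₀]
  let pt₁ : R₁ →ₐ[A] Ω := { τ₁.hom with commutes' := fun a => ConcreteCategory.congr_hom hρτ a }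
  let κ₁ : Spec (CommRingCat.of (B ⊗[A] R₁)) ⟶ pullback f p :=
    pullback.lift (Spec.map (CommRingCat.ofHom (algebraMap B (B ⊗[A] R₁))) ≫ i)
      (Spec.map (CommRingCat.ofHom (Algebra.TensorProduct.includeRight :
        R₁ →ₐ[A] B ⊗[A] R₁).toRingHom) ≫ w)
      ((sq R₁).w.trans ((congrArg (_ ≫ ·) hw).trans (Category.assoc _ _ _).symm))
  let q₀ : Spec (CommRingCat.of (B ⊗[A] R₁)) ⟶ pullback g i :=
    pullback.lift (κ₁ ≫ q) (Spec.map (CommRingCat.ofHom (algebraMap B (B ⊗[A] R₁))))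
      (by rw [Category.assoc, hq]; exact pullback.lift_fst _ _ _)
  -- finitely many affine opens
  choose Oa hOa using fun z : ↥(pullback g i) =>
    exists_isAffineOpen_mem_and_subset (x := z) (U := ⊤) trivial
  obtain ⟨S, hS⟩ := (isCompact_range q₀.continuous).elim_finite_subcover
    (fun z => (Oa z : Set ↥(pullback g i))) (fun z => (Oa z).2)
    (fun z _ => Set.mem_iUnion.2 ⟨z, (hOa z).2.1⟩)
  let W : Scheme.{u} := ∐ fun z : S => ((Oa z.1 : Scheme.Opens _) : Scheme.{u})
  have (z : S) : IsAffine ((Oa z.1 : Scheme.Opens _) : Scheme.{u}) := (hOa z.1).1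
  let π : W ⟶ pullback g i := Sigma.desc fun z : S => (Oa z.1).ι
  have : Etale π := IsZariskiLocalAtSource.sigmaDesc fun z => inferInstance
  let f₁ : Spec (CommRingCat.of (B ⊗[A] R₁)) ⟶ Spec R₁ :=
    Spec.map (CommRingCat.ofHom (Algebra.TensorProduct.includeRight :
      R₁ →ₐ[A] B ⊗[A] R₁).toRingHom)
  have : IsIntegralHom f₁ := MorphismProperty.of_isPullback (sq R₁) ‹IsIntegralHom f›
  obtain ⟨T₂, v₂, hv₂, h₂, t₂, hh₂, ht₂, -⟩ := exists_etale_nbhd_section_point f₁
    (pullback.fst q₀ π) (Spec.map τ₁)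
    (fun x _ => by
      obtain ⟨z, hz, hxz⟩ := Set.mem_iUnion₂.1 (hS ⟨x, rfl⟩)
      obtain ⟨a, ha, -⟩ := Scheme.Pullback.exists_preimage_pullback (f := q₀) (g := π) x
        ((Sigma.ι (fun z : S => ((Oa z.1 : Scheme.Opens _) : Scheme.{u})) ⟨z, hz⟩).base ⟨_, hxz⟩)
        (by rw [← Scheme.Hom.comp_apply (Sigma.ι _ _), Sigma.ι_desc]; rfl)
      exact ⟨a, ha⟩)
    none (by simp)
  -- an affine neighbourhood in `T₂`
  obtain ⟨_, ⟨W₂, hW₂, rfl⟩, htW₂, -⟩ :=
    T₂.isBasis_affineOpens.exists_subset_of_mem_open (Set.mem_univ (t₂.base default)) isOpen_univ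
  let R₂ := Γ(T₂, W₂)
  let w₂ : Spec R₂ ⟶ T₂ := hW₂.fromSpec
  obtain ⟨ρ₂, hρ₂⟩ := Spec.map_surjective (w₂ ≫ v₂)
  have htw₂ : Set.range t₂.base ⊆ Set.range w₂.base := by
    rintro _ ⟨z, rfl⟩
    rw [Subsingleton.elim z default, hW₂.range_fromSpec]
    exact htW₂
  obtain ⟨τ₂, hτ₂⟩ := Spec.map_surjective (IsOpenImmersion.lift w₂ t₂ htw₂ : _ ⟶ Spec R₂)
  have hρτ₂ : ρ₂ ≫ τ₂ = τ₁ := by
    apply Spec.map_injective
    rw [Spec.map_comp, hρ₂, hτ₂, IsOpenImmersion.lift_fac_assoc, ht₂]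
  let _ : Algebra A R₂ := (ρ₂.hom.comp ρ₁.hom).toAlgebra
  let r₂ : R₁ →ₐ[A] R₂ := { ρ₂.hom with commutes' := fun _ => rfl }
  let pt₂ : R₂ →ₐ[A] Ω :=
    { τ₂.hom with
      commutes' := fun a => (ConcreteCategory.congr_hom hρτ₂ (ρ₁.hom a)).trans (pt₁.commutes a) }
  let M := Spec.map (CommRingCat.ofHom (Algebra.TensorProduct.map (AlgHom.id B B) r₂).toRingHom)
  let m : Spec (CommRingCat.of (B ⊗[A] R₂)) ⟶ pullback f₁ v₂ :=
    pullback.lift M (Spec.map (CommRingCat.ofHom (Algebra.TensorProduct.includeRight :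
        R₂ →ₐ[A] B ⊗[A] R₂).toRingHom) ≫ w₂) (by
      rw [Category.assoc, ← hρ₂, ← Spec.map_comp, ← Spec.map_comp]
      refine congrArg Spec.map (CommRingCat.hom_ext (RingHom.ext fun r => ?_))
      show Algebra.TensorProduct.map (AlgHom.id B B) r₂ ((1 : B) ⊗ₜ[A] r) = (1 : B) ⊗ₜ[A] ρ₂.hom r
      rw [Algebra.TensorProduct.map_tmul]
      rfl)
  let q₂ : Spec (CommRingCat.of (B ⊗[A] R₂)) ⟶ W := m ≫ h₂ ≫ pullback.snd q₀ π
  have hq₂ : q₂ ≫ π = M ≫ q₀ := by
    simp only [q₂, Category.assoc, ← pullback.condition]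
    rw [reassoc_of% hh₂, ← Category.assoc, show m ≫ pullback.fst f₁ v₂ = M from pullback.lift_fst _ _ _]
  obtain ⟨N, σ, hσ, hagree⟩ := exists_descend_affine (A := A) (B := B) (π ≫ pullback.snd g i) pt₂ q₂ (by
    rw [reassoc_of% hq₂, show q₀ ≫ pullback.snd g i = _ from pullback.lift_snd _ _ _, ← Spec.map_comp]
    exact congrArg Spec.map (CommRingCat.hom_ext
      (Algebra.TensorProduct.map (AlgHom.id B B) r₂).comp_algebraMap))
  let v : Spec (CommRingCat.of N.R) ⟶ Y := Spec.map (CommRingCat.ofHom (algebraMap A N.R)) ≫ j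
  have : Etale (Spec.map (CommRingCat.ofHom (algebraMap A N.R))) :=
    (HasRingHomProperty.Spec_iff (P := @Etale)).2 (RingHom.etale_algebraMap.2 inferInstance)
  let tV : Spec (CommRingCat.of Ω) ⟶ Spec (CommRingCat.of N.R) :=
    Spec.map (CommRingCat.ofHom N.pt.toRingHom)
  have htV : tV ≫ v = η := by
    rw [← hη₀, ← hρ, ← Category.assoc, ← Spec.map_comp]
    exact congrArg (fun m => Spec.map m ≫ j) (CommRingCat.hom_ext N.pt.comp_algebraMap)
  refine ⟨_, v, inferInstance, (sq N.R).isoPullback.inv ≫ σ ≫ π ≫ pullback.fst g i, tV, ?_, htV,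
    fun s s' h1 h2 h3 => ?_⟩
  · simp only [Category.assoc, pullback.condition]
    rw [reassoc_of% hσ]
    exact IsPullback.isoPullback_inv_fst _
  · obtain ⟨L, hL⟩ := Spec.map_surjective (s ≫ (sq N.R).isoPullback.inv)
    have hsnd : CommRingCat.ofHom (Algebra.TensorProduct.includeRight :
        N.R →ₐ[A] B ⊗[A] N.R).toRingHom ≫ L = CommRingCat.ofHom N.pt.toRingHom := by
      apply Spec.map_injective
      rw [Spec.map_comp, hL, Category.assoc, IsPullback.isoPullback_inv_snd, h2]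
    let ψ : B →ₐ[A] Ω :=
      { L.hom.comp (algebraMap B (B ⊗[A] N.R)) with
        commutes' := fun a => by
          show L.hom (algebraMap B (B ⊗[A] N.R) (algebraMap A B a)) = _
          rw [← IsScalarTower.algebraMap_apply, ← (Algebra.TensorProduct.includeRight :
            N.R →ₐ[A] B ⊗[A] N.R).commutes a]
          exact (ConcreteCategory.congr_hom hsnd _).trans (N.pt.commutes a) }
    let a := Spec.map (CommRingCat.ofHom (Algebra.TensorProduct.lift ψ N.pt
      (fun _ _ => Commute.all _ _)).toRingHom)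
    have hLa : Spec.map L = a := by
      refine congrArg Spec.map (CommRingCat.hom_ext (RingHom.ext fun z => ?_))
      induction z using TensorProduct.induction_on with
      | zero => exact (map_zero L.hom).trans (map_zero _).symm
      | tmul b r =>
        show L.hom (b ⊗ₜ r) = Algebra.TensorProduct.lift ψ N.pt (fun _ _ => Commute.all _ _) (b ⊗ₜ r)
        rw [Algebra.TensorProduct.lift_tmul, show (b ⊗ₜ[A] r : B ⊗[A] N.R) =
          algebraMap B (B ⊗[A] N.R) b * ((1 : B) ⊗ₜ r) by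
          simp [Algebra.TensorProduct.algebraMap_apply], map_mul]
        congr 1
        exact ConcreteCategory.congr_hom hsnd r
      | add x y hx hy =>
        exact (map_add L.hom x y).trans
          ((congrArg₂ (· + ·) hx hy).trans (map_add _ x y).symm)
    have hs : s = a ≫ (sq N.R).isoPullback.hom := by
      rw [← hLa, hL, Category.assoc, Iso.inv_hom_id, Category.comp_id]
    let a₂ := Spec.map (CommRingCat.ofHom (Algebra.TensorProduct.lift ψ pt₂
      (fun _ _ => Commute.all _ _)).toRingHom)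
    have hfst : s ≫ pullback.fst f v = Spec.map (CommRingCat.ofHom ψ.toRingHom) ≫ i := by
      rw [hs, Category.assoc, IsPullback.isoPullback_hom_fst, ← Category.assoc, ← Spec.map_comp]
      refine congrArg (fun m => Spec.map m ≫ i) (CommRingCat.hom_ext (RingHom.ext fun b => ?_))
      show Algebra.TensorProduct.lift ψ N.pt (fun _ _ => Commute.all _ _) (b ⊗ₜ[A] (1 : N.R)) = ψ b
      rw [Algebra.TensorProduct.lift_tmul, map_one, mul_one]
    have hs' : s' = a₂ ≫ M ≫ κ₁ := by
      apply pullback.hom_ext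
      · rw [← h1, hfst, Category.assoc, Category.assoc, pullback.lift_fst, ← Spec.map_comp_assoc,
          ← Spec.map_comp_assoc]
        refine congrArg (fun m => Spec.map m ≫ i) (CommRingCat.hom_ext (RingHom.ext fun b => ?_))
        show ψ b = Algebra.TensorProduct.lift ψ pt₂ (fun _ _ => Commute.all _ _)
          (Algebra.TensorProduct.map (AlgHom.id B B) r₂ (b ⊗ₜ[A] (1 : R₁)))
        rw [Algebra.TensorProduct.map_tmul, Algebra.TensorProduct.lift_tmul, map_one, map_one,
          mul_one]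
        rfl
      · rw [h3, Category.assoc, Category.assoc, pullback.lift_snd, ← ht₁, ← Spec.map_comp_assoc,
          ← Spec.map_comp_assoc]
        refine congrArg (fun m => Spec.map m ≫ w) (CommRingCat.hom_ext (RingHom.ext fun r => ?_))
        show τ₁.hom r = Algebra.TensorProduct.lift ψ pt₂ (fun _ _ => Commute.all _ _)
          (Algebra.TensorProduct.map (AlgHom.id B B) r₂ ((1 : B) ⊗ₜ[A] r))
        rw [Algebra.TensorProduct.map_tmul, Algebra.TensorProduct.lift_tmul]
        exact ((ConcreteCategory.congr_hom hρτ₂ r).symm.trans (one_mul _).symm).trans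
          (congrArg (· * _) (map_one ψ).symm)
    rw [hs, hs']
    simp only [Category.assoc, Iso.hom_inv_id_assoc]
    rw [reassoc_of% (hagree ψ), reassoc_of% hq₂,
      show q₀ ≫ pullback.fst g i = κ₁ ≫ q from pullback.lift_fst _ _ _]

end Groth.EtaleBase
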