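import Groth.Agent.EtaleBase.PushStalk
import Groth.Prelude.Def_PBC
import Mathlib.CategoryTheory.Adjunction.FullyFaithful

/-!
Direct images along universally injective integral morphisms: full faithfulness, essential image.
-/

set_option autoImplicit false

universe u

open CategoryTheory CategoryTheory.Limits AlgebraicGeometry Opposite

namespace Groth.EtaleBase

variable {X Y : Scheme.{u}}

lemma isLocallySurjective_of_exists_stalk_surjective {F G : EtCoh.Ab X} (φ : F ⟶ G)
    (h : ∀ s : X, ∃ (Ω : Type u) (_ : Field Ω) (_ : IsSepClosed Ω) (ξ : Spec (CommRingCat.of Ω) ⟶ X),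
      ξ.base default = s ∧ Function.Surjective ((EtCoh.stalk ξ).map φ)) :
    Sheaf.IsLocallySurjective φ := by
  constructor
  intro U σ
  rw [mem_topology_iff]
  intro u
  obtain ⟨Ω, _, _, ξ, hξ, hsurj⟩ := h (U.hom.base u)
  obtain ⟨t, ht⟩ := exists_fiber_of_point ξ U u hξ.symm
  obtain ⟨a, ha⟩ := hsurj (germ ξ G U t σ)
  obtain ⟨V, s, τ, rfl⟩ := germ_surjective _ F a
  rw [germ_map] at ha
  let Φ := Scheme.pointSmallEtale ξ
  obtain ⟨W₀, pm, qm, -⟩ := IsCofilteredOrEmpty.cone_objs (C := Φ.fiber.Elements)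
    (Functor.elementsMk _ V s) (Functor.elementsMk _ U t)
  obtain ⟨W, w⟩ := W₀
  let p : W ⟶ V := pm.1
  let q : W ⟶ U := qm.1
  have hp : Φ.fiber.map p w = s := pm.2
  have hq : Φ.fiber.map q w = t := qm.2
  have key : germ _ G W w (φ.hom.app _ (F.obj.map p.op τ)) = germ _ G W w (G.obj.map q.op σ) := by
    change Φ.toPresheafFiber W w G.obj _ = Φ.toPresheafFiber W w G.obj _
    rw [NatTrans.naturality_apply φ.hom p.op τ, Φ.toPresheafFiber_w_apply,
      Φ.toPresheafFiber_w_apply]
    erw [hp, hq]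
    exact ha
  obtain ⟨Z, r, z, hz, heq⟩ := (germ_eq_iff _ G W w _ _).1 key
  refine ⟨Z, r ≫ q, (Scheme.pointSmallEtaleFiberObjToPreimage _ rfl z).1,
    ⟨F.obj.map r.op (F.obj.map p.op τ), ?_⟩, ?_⟩
  · rw [NatTrans.naturality_apply φ.hom r.op, heq, op_comp, Functor.map_comp]
    rfl
  · subst hz
    refine Eq.trans ?_ ht
    erw [← hq]
    rfl

lemma isIso_of_exists_stalk {F G : EtCoh.Ab X} (φ : F ⟶ G)
    (h : ∀ s : X, ∃ (Ω : Type u) (_ : Field Ω) (_ : IsSepClosed Ω) (ξ : Spec (CommRingCat.of Ω) ⟶ X),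
      ξ.base default = s ∧ Function.Bijective ((EtCoh.stalk ξ).map φ)) : IsIso φ := by
  have := isLocallySurjective_of_exists_stalk_surjective φ fun s => by
    obtain ⟨Ω, _, _, ξ, hξ, hb⟩ := h s; exact ⟨Ω, _, _, ξ, hξ, hb.2⟩
  have : Epi φ := inferInstance
  have : Mono φ := mono_of_exists_stalk_injective φ fun s => by
    obtain ⟨Ω, _, _, ξ, hξ, hb⟩ := h s; exact ⟨Ω, _, _, ξ, hξ, hb.1⟩
  exact isIso_of_mono_of_epi φ

/-- Sections over an empty etale scheme vanish. -/
lemma subsingleton_sections_of_isEmpty (F : EtCoh.Ab X) (U : X.Etale) [IsEmpty U.left] :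
    Subsingleton (F.obj.obj (op U)) :=
  ⟨fun a b => sub_eq_zero.1 (section_eq_zero_of_germs F U (a - b) fun u => isEmptyElim u)⟩

variable (f : X ⟶ Y) {Ω : Type u} [Field Ω] [IsSepClosed Ω]

set_option backward.isDefEq.respectTransparency.types false in
/-- Direct images have zero stalk outside the closed image. -/
lemma isZero_stalk_push (hf : IsClosed (Set.range f.base)) (η : Spec (CommRingCat.of Ω) ⟶ Y)
    (hη : η.base default ∉ Set.range f.base) (F : EtCoh.Ab X) :
    IsZero ((EtCoh.stalk η).obj ((EtCoh.push f).obj F)) := by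
  suffices Subsingleton ((EtCoh.stalk η).obj ((EtCoh.push f).obj F)) from
    AddCommGrpCat.isZero_of_subsingleton _
  refine ⟨fun a b => sub_eq_zero.1 ?_⟩
  generalize a - b = c
  obtain ⟨U, t, σ, rfl⟩ := germ_surjective η _ c
  rw [germ_eq_zero_iff_mem]
  let O : U.left.Opens := ⟨(U.hom.base ⁻¹' Set.range f.base)ᶜ, (hf.preimage U.hom.continuous).isOpen_compl⟩
  let W : Y.Etale := Scheme.Etale.mk (O.ι ≫ U.hom)
  let j : W ⟶ U := MorphismProperty.Over.homMk O.ι rfl
  have hO : fiberPoint η t ∈ O := fun h => hη (by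
    have := hom_fiberPoint η t
    exact this ▸ h)
  have : IsEmpty ↥((EtCoh.bc f).obj W).left := ⟨fun (z : ↥(pullback (O.ι ≫ U.hom) f)) =>
    ((pullback.fst (O.ι ≫ U.hom) f).base z).2 ⟨(pullback.snd (O.ι ≫ U.hom) f).base z, by
      rw [← Scheme.Hom.comp_apply, ← pullback.condition]; rfl⟩⟩
  have := subsingleton_sections_of_isEmpty F ((EtCoh.bc f).obj W)
  exact ⟨W, j, ⟨⟨_, hO⟩, rfl⟩, Subsingleton.elim (α := F.obj.obj (op ((EtCoh.bc f).obj W))) _ _⟩

lemma supp_subset_iff (G : EtCoh.Ab Y) (S : Set Y) :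
    EtPBC.supp G ⊆ S ↔ ∀ (Ω : Type u) (_ : Field Ω) (_ : IsSepClosed Ω)
      (η : Spec (CommRingCat.of Ω) ⟶ Y), η.base default ∉ S → IsZero ((EtCoh.stalk η).obj G) := by
  constructor
  · intro h Ω _ _ η hη
    by_contra hz
    exact hη (h ⟨Ω, _, _, η, Set.eq_singleton_iff_unique_mem.2
      ⟨⟨default, rfl⟩, fun y ⟨z, hz⟩ => hz ▸ congrArg _ (Subsingleton.elim z default)⟩, hz⟩)
  · rintro h y ⟨Ω, _, _, η, hη, hz⟩
    by_contra hy
    have : η.base default = y := hη.subset ⟨default, rfl⟩
    exact hz (h Ω _ _ η (this ▸ hy))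

variable [IsIntegralHom f] [UniversallyInjective f]

/-- Direct image along a universally injective integral morphism is fully faithful. -/
theorem push_fullyFaithful : (EtCoh.push f).Full ∧ (EtCoh.push f).Faithful := by
  have : IsIso (EtCoh.pullPushAdj f).counit :=
    have := fun F => isIso_counit f F
    NatIso.isIso_of_isIso_app _
  exact ⟨(EtCoh.pullPushAdj f).fullyFaithfulROfIsIsoCounit.full,
    (EtCoh.pullPushAdj f).fullyFaithfulROfIsIsoCounit.faithful⟩

set_option backward.isDefEq.respectTransparency.types false in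
/-- The essential image consists of the sheaves supported on the image. -/
theorem essImage_push_iff (G : EtCoh.Ab Y) :
    (EtCoh.push f).essImage G ↔ EtPBC.supp G ⊆ Set.range f.base := by
  rw [supp_subset_iff]
  have hcl : IsClosed (Set.range f.base) := f.isClosedMap.isClosed_range
  constructor
  · rintro ⟨F, ⟨e⟩⟩ Ω _ _ η hη
    exact IsZero.of_iso (isZero_stalk_push f hcl η hη F) ((EtCoh.stalk η).mapIso e).symm
  · intro h
    let u := (EtCoh.pullPushAdj f).unit.app G
    suffices IsIso u from ⟨_, ⟨(asIso u).symm⟩⟩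
    refine isIso_of_exists_stalk u fun y => ?_
    by_cases hy : y ∈ Set.range f.base
    · obtain ⟨x, rfl⟩ := hy
      refine ⟨SeparableClosure (X.residueField x), inferInstance, inferInstance, geomPoint x ≫ f,
        (Scheme.Hom.comp_apply _ f _).trans (congrArg (fun z => f.base z) (geomPoint_apply x _)), ?_⟩
      have hc : IsIso ((EtCoh.pullPushAdj f).counit.app ((EtCoh.pull f).obj G)) := isIso_counit f _
      have : IsIso ((EtCoh.pull f).map u) := by
        have h2 : IsIso ((EtCoh.pull f).map u ≫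
            (EtCoh.pullPushAdj f).counit.app ((EtCoh.pull f).obj G)) := by
          show IsIso ((EtCoh.pull f).map ((EtCoh.pullPushAdj f).unit.app G) ≫ _)
          erw [(EtCoh.pullPushAdj f).left_triangle_components G]; exact inferInstanceAs (IsIso (𝟙 _))
        exact IsIso.of_isIso_comp_right _ ((EtCoh.pullPushAdj f).counit.app ((EtCoh.pull f).obj G))
      have : IsIso ((EtCoh.stalk (geomPoint x ≫ f)).map u) :=
        (NatIso.isIso_map_iff (stalkPullIso f (geomPoint x)) u).2
          (inferInstanceAs (IsIso ((EtCoh.stalk (geomPoint x)).map ((EtCoh.pull f).map u))))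
      exact (ConcreteCategory.isIso_iff_bijective _).1 this
    · refine ⟨SeparableClosure (Y.residueField y), inferInstance, inferInstance, geomPoint y, geomPoint_apply y _, ?_⟩
      have h1 : Subsingleton _ := AddCommGrpCat.subsingleton_of_isZero
        (h (SeparableClosure (Y.residueField y)) inferInstance inferInstance (geomPoint y) (by rwa [geomPoint_apply]))
      have h2 : Subsingleton _ := AddCommGrpCat.subsingleton_of_isZero
        (isZero_stalk_push f hcl (geomPoint y) (by rwa [geomPoint_apply]) ((EtCoh.pull f).obj G))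
      exact ⟨fun a b _ => h1.elim a b, fun b => ⟨0, h2.elim _ _⟩⟩

omit [IsIntegralHom f] [UniversallyInjective f] in
set_option backward.isDefEq.respectTransparency.types false in
/-- Supports and vanishing of sections. -/
lemma supp_subset_iff_sections (hf : IsClosed (Set.range f.base)) (G : EtCoh.Ab Y) :
    EtPBC.supp G ⊆ Set.range f.base ↔
      ∀ U : Y.Etale, Disjoint (Set.range U.hom.base) (Set.range f.base) → IsZero (G.obj.obj (op U)) := by
  rw [supp_subset_iff]
  constructor
  · intro h U hU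
    suffices Subsingleton (G.obj.obj (op U)) from AddCommGrpCat.isZero_of_subsingleton _
    refine ⟨fun a b => sub_eq_zero.1 (section_eq_zero_of_germs G U (a - b) fun u => ?_)⟩
    obtain ⟨t, ht⟩ := exists_geomPoint_lift U u
    have h0 : germ _ G U t (a - b) = 0 :=
      (AddCommGrpCat.subsingleton_of_isZero (h (SeparableClosure (Y.residueField (U.hom.base u))) inferInstance inferInstance (geomPoint (U.hom.base u)) (by
        rw [geomPoint_apply]
        exact fun hu => Set.disjoint_left.1 hU ⟨u, rfl⟩ hu))).elim _ _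
    obtain ⟨W, g, ⟨w, hw⟩, hz⟩ := (germ_eq_zero_iff_mem _ G U _ t).1 h0
    exact ⟨W, g, ⟨w, hw.trans ht⟩, hz⟩
  · intro h Ω _ _ η hη
    suffices Subsingleton ((EtCoh.stalk η).obj G) from AddCommGrpCat.isZero_of_subsingleton _
    refine ⟨fun a b => sub_eq_zero.1 ?_⟩
    generalize a - b = c
    obtain ⟨U, t, σ, rfl⟩ := germ_surjective η _ c
    rw [germ_eq_zero_iff_mem]
    let O : U.left.Opens := ⟨(U.hom.base ⁻¹' Set.range f.base)ᶜ, (hf.preimage U.hom.continuous).isOpen_compl⟩
    let W : Y.Etale := Scheme.Etale.mk (O.ι ≫ U.hom)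
    have hO : fiberPoint η t ∈ O := fun h' => hη (by
      have := hom_fiberPoint η t
      exact this ▸ h')
    have : Subsingleton (G.obj.obj (op W)) := AddCommGrpCat.subsingleton_of_isZero (h W (by
      rw [Set.disjoint_left]
      rintro _ ⟨w, rfl⟩ hw
      exact w.2 hw))
    exact ⟨W, MorphismProperty.Over.homMk O.ι rfl, ⟨⟨_, hO⟩, rfl⟩, Subsingleton.elim _ _⟩

end Groth.EtaleBase
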