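import Groth.Agent.EtaleBase.Support
import Groth.Agent.Hensel1.Local
import Mathlib.AlgebraicGeometry.Morphisms.Etale
import Mathlib.AlgebraicGeometry.ResidueField

/-!
Etale morphisms over strictly henselian local rings have sections.
-/

set_option autoImplicit false

universe u

open CategoryTheory CategoryTheory.Limits AlgebraicGeometry Opposite

namespace Groth.EtaleBase

/-- The geometric closed point of the spectrum of a local ring. -/
noncomputable abbrev closedGeom (R : Type u) [CommRing R] [IsLocalRing R] :
    Spec (CommRingCat.of (IsLocalRing.ResidueField R)) ⟶ Spec (CommRingCat.of R) :=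
  Spec.map (CommRingCat.ofHom (IsLocalRing.residue R))

lemma closedGeom_apply (R : Type u) [CommRing R] [IsLocalRing R] :
    (closedGeom R).base default = IsLocalRing.closedPoint R :=
  IsLocalRing.PrimeSpectrum.comap_residue R _

set_option backward.isDefEq.respectTransparency.types false in
/-- An etale morphism to the spectrum of a henselian local ring has a section through any point
with values in the residue field. -/
lemma exists_section_of_point (R : Type u) [CommRing R] [HenselianLocalRing R] {V : Scheme.{u}}
    (v : V ⟶ Spec (CommRingCat.of R)) [Etale v]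
    (t' : Spec (CommRingCat.of (IsLocalRing.ResidueField R)) ⟶ V) (htv : t' ≫ v = closedGeom R) :
    ∃ s : Spec (CommRingCat.of R) ⟶ V, s ≫ v = 𝟙 _ ∧ closedGeom R ≫ s = t' := by
  obtain ⟨_, ⟨W, hW, rfl⟩, hzW, -⟩ :=
    V.isBasis_affineOpens.exists_subset_of_mem_open (Set.mem_univ (t'.base default)) isOpen_univ
  let w := hW.fromSpec
  have hr : Set.range t'.base ⊆ Set.range w.base := by
    rintro _ ⟨a, rfl⟩
    rw [hW.range_fromSpec, Subsingleton.elim a default]
    exact hzW
  let l := IsOpenImmersion.lift w t' hr
  let φ := Spec.preimage (w ≫ v)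
  let τ := Spec.preimage l
  have het : φ.hom.Etale := (HasRingHomProperty.Spec_iff (P := @Etale)).1 (by
    rw [Spec.map_preimage]; infer_instance)
  let _ : Algebra R Γ(V, W) := φ.hom.toAlgebra
  have : Algebra.Etale R Γ(V, W) := het
  have hτ : φ ≫ τ = CommRingCat.ofHom (IsLocalRing.residue R) := by
    apply Spec.map_injective
    rw [Spec.map_comp, Spec.map_preimage, Spec.map_preimage, ← Category.assoc,
      IsOpenImmersion.lift_fac, htv]
  let σ : Γ(V, W) →ₐ[R] IsLocalRing.ResidueField R :=
    { τ.hom with commutes' := fun r => congrArg (fun m => m.hom r) hτ }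
  obtain ⟨g, hg, -⟩ := Groth.Hensel1.existsUnique_algHom_lift_residue σ
  let ψ : Γ(V, W) ⟶ CommRingCat.of R := CommRingCat.ofHom g.toRingHom
  have h1 : φ ≫ ψ = 𝟙 _ := CommRingCat.hom_ext (RingHom.ext fun r => g.commutes r)
  have h2 : ψ ≫ CommRingCat.ofHom (IsLocalRing.residue R) = τ :=
    CommRingCat.hom_ext (RingHom.ext fun a => hg a)
  refine ⟨Spec.map ψ ≫ w, ?_, ?_⟩
  · rw [Category.assoc, ← Spec.map_preimage (w ≫ v), ← Spec.map_comp]
    exact (congrArg Spec.map h1).trans (Spec.map_id _)
  · rw [← Category.assoc, ← Spec.map_comp, h2, Spec.map_preimage, IsOpenImmersion.lift_fac]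

set_option backward.isDefEq.respectTransparency.types false in
/-- An etale morphism to the spectrum of a strictly henselian local ring has a section through any
point over the closed point. -/
lemma exists_section_of_etale (R : Type u) [CommRing R] [HenselianLocalRing R]
    [IsSepClosed (IsLocalRing.ResidueField R)] {V : Scheme.{u}}
    (v : V ⟶ Spec (CommRingCat.of R)) [Etale v] (z : V) (hz : v.base z = IsLocalRing.closedPoint R) :
    ∃ s : Spec (CommRingCat.of R) ⟶ V, s ≫ v = 𝟙 _ ∧ s.base (IsLocalRing.closedPoint R) = z := by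
  obtain ⟨t, ht⟩ := exists_fiber_of_point (closedGeom R) (Scheme.Etale.mk v) z
    (hz.trans (closedGeom_apply R).symm)
  obtain ⟨s, hs, hst⟩ := exists_section_of_point R v t.left (Over.w t)
  refine ⟨s, hs, ?_⟩
  rw [← closedGeom_apply R, ← Scheme.Hom.comp_apply, hst]
  exact ht

end Groth.EtaleBase
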