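import Groth.Agent.EtaleBase.PushEpi
import Groth.Agent.EtaleBase.StrictSection
import Mathlib.CategoryTheory.Sites.GlobalSections
import Mathlib.Algebra.Homology.DerivedCategory.Ext.EnoughProjectives

/-!
Etale cohomology of schemes integral over strictly henselian local rings.
-/

set_option autoImplicit false

universe u

open CategoryTheory CategoryTheory.Limits AlgebraicGeometry Opposite

namespace Groth.EtaleBase

instance projective_ulift_int : Projective (AddCommGrpCat.of (ULift.{u + 1} ℤ)) where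
  factors {E G} f e _ := by
    obtain ⟨a, ha⟩ := (AddCommGrpCat.epi_iff_surjective e).1 ‹_› (f ⟨1⟩)
    refine ⟨AddCommGrpCat.ofHom ((zmultiplesHom E a).comp AddEquiv.ulift.toAddMonoidHom), ?_⟩
    ext ⟨n⟩
    show e (n • a) = f ⟨n⟩
    rw [map_zsmul, ha, ← map_zsmul]
    congr 1
    ext
    simp

variable {R : Type u} [CommRing R] [HenselianLocalRing R]
  [IsSepClosed (IsLocalRing.ResidueField R)] {X : Scheme.{u}}

set_option backward.isDefEq.respectTransparency.types false in
/-- An etale covering of a scheme integral over a strictly henselian ring splits on a decomposition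
into disjoint opens. -/
lemma exists_splitting (f : X ⟶ Spec (CommRingCat.of R)) [IsIntegralHom f] {ι : Type u}
    (U : ι → Scheme.{u}) (g : ∀ i, U i ⟶ X) (hg : ∀ i, Etale (g i))
    (hcov : ∀ x : X, ∃ i, x ∈ Set.range (g i).base) :
    ∃ (W : ι → X.Opens) (h : ∀ i, (W i : Scheme.{u}) ⟶ U i),
      (∀ a b, a ≠ b → Disjoint (W a) (W b)) ∧ (⨆ a, W a) = ⊤ ∧ ∀ i, h i ≫ g i = (W i).ι := by
  let π : (∐ U) ⟶ X := Sigma.desc g
  have : Etale π := IsZariskiLocalAtSource.sigmaDesc hg
  have hπ : ∀ i z, π.base ((Sigma.ι U i).base z) = (g i).base z := fun i z => by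
    rw [← Scheme.Hom.comp_apply, Sigma.ι_desc]
  obtain ⟨V, v, hv, h, hh, ⟨z, hz⟩, -⟩ := exists_etale_nbhd_section f π (IsLocalRing.closedPoint R)
    (fun x _ => by obtain ⟨i, z, hz⟩ := hcov x; exact ⟨_, (hπ i z).trans hz⟩) none (by simp)
  obtain ⟨s, hs, -⟩ := exists_section_of_etale R v z hz
  let k : X ⟶ ∐ U := pullback.lift (𝟙 X) (f ≫ s) (by rw [Category.assoc, hs]; simp) ≫ h
  have hk : k ≫ π = 𝟙 X := by
    rw [Category.assoc, hh, pullback.lift_fst]
  refine ⟨sigmaPiece U k, sigmaPieceHom U k, sigmaPiece_disjoint U k, iSup_sigmaPiece U k,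
    fun i => ?_⟩
  rw [sigmaPieceHom_comp, hk]
  exact Category.comp_id _

set_option backward.isDefEq.respectTransparency.types false in
lemma surjective_top_app (f : X ⟶ Spec (CommRingCat.of R)) [IsIntegralHom f] {F G : EtCoh.Ab X}
    (φ : F ⟶ G) (hφ : Sheaf.IsLocallySurjective φ) :
    Function.Surjective (φ.hom.app (op (EtCoh.top X))) := by
  intro σ
  have hR : Presheaf.imageSieve φ.hom (U := EtCoh.top X) σ ∈ X.smallEtaleTopology (EtCoh.top X) :=
    hφ.imageSieve_mem _
  rw [mem_topology_iff] at hR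
  choose W g w hg hw using hR
  choose τ hτ using hg
  obtain ⟨P, h, hd, hsup, hP⟩ := exists_splitting f (ι := X) (fun x => (W x).left)
    (fun x => (g x).left) (fun x => (inferInstance : Etale (g x).left)) (fun x => ⟨x, w x, hw x⟩)
  let q : ∀ x, openObj (EtCoh.top X) (P x) ⟶ W x := fun x =>
    MorphismProperty.Over.homMk (h x)
      ((congrArg (h x ≫ ·) (Over.w (g x).hom).symm).trans
        ((Category.assoc _ _ _).symm.trans (congrArg (· ≫ (EtCoh.top X).hom) (hP x))))
  have hq : ∀ x, q x ≫ g x = openHom (EtCoh.top X) (P x) := fun x =>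
    MorphismProperty.Over.Hom.ext (hP x)
  obtain ⟨s, hs⟩ := exists_glue_disjoint (EtCoh.top X) P hd hsup F
    fun x => F.obj.map (q x).op (τ x)
  refine ⟨s, ext_disjoint (EtCoh.top X) P hd hsup G _ _ fun x => ?_⟩
  rw [← NatTrans.naturality_apply φ.hom, hs, NatTrans.naturality_apply φ.hom, hτ,
    ← ConcreteCategory.comp_apply, ← G.obj.map_comp, ← op_comp, hq]

set_option backward.isDefEq.respectTransparency.types false in
lemma H_subsingleton (f : X ⟶ Spec (CommRingCat.of R)) [IsIntegralHom f] (F : EtCoh.Ab X)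
    (n : ℕ) (hn : 1 ≤ n) : Subsingleton (EtCoh.H X F n) := by
  obtain ⟨k, rfl⟩ := Nat.exists_eq_succ_of_ne_zero (by omega : n ≠ 0)
  let adj := constantSheafAdj X.smallEtaleTopology AddCommGrpCat.{u + 1}
    (T := EtCoh.top X) (MorphismProperty.Over.mkIdTerminal EtCoh.etaleMP X)
  have hepi : ((sheafSections X.smallEtaleTopology AddCommGrpCat.{u + 1}).obj
      (op (EtCoh.top X))).PreservesEpimorphisms :=
    ⟨fun {F G} φ _ => (AddCommGrpCat.epi_iff_surjective _).2
      (surjective_top_app f φ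
        ((Sheaf.isLocallySurjective_iff_epi' (A := AddCommGrpCat.{u + 1}) φ).2 ‹_›))⟩
  have : Projective ((constantSheaf X.smallEtaleTopology AddCommGrpCat.{u + 1}).obj
      (AddCommGrpCat.of (ULift.{u + 1} ℤ))) := adj.map_projective _ projective_ulift_int
  exact ⟨fun a b => (Abelian.Ext.eq_zero_of_projective (C := EtCoh.Ab X) a).trans
    (Abelian.Ext.eq_zero_of_projective (C := EtCoh.Ab X) b).symm⟩

end Groth.EtaleBase
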