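import Groth.Agent.EtaleBase.BaseChange0
import Groth.Agent.EtaleBase.StrictVanish
import Mathlib.RingTheory.Henselian
import Mathlib.AlgebraicGeometry.AlgClosed.Basic
import Mathlib.AlgebraicGeometry.Morphisms.QuasiFinite
import Mathlib.Algebra.Category.Grp.Biproducts

/-!
Stalks of direct images along finite morphisms at algebraically closed geometric points.
-/

set_option autoImplicit false

universe u

open CategoryTheory CategoryTheory.Limits AlgebraicGeometry Opposite

namespace Groth.EtaleBase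

variable {X Y : Scheme.{u}} (f : X ⟶ Y) {Ω : Type u} [Field Ω] [IsAlgClosed Ω]
  (η : Spec (CommRingCat.of Ω) ⟶ Y)

lemma isSepClosed_residueField_of_isAlgClosed :
    IsSepClosed (IsLocalRing.ResidueField Ω) := by
  have : IsAlgClosed (IsLocalRing.ResidueField Ω) :=
    IsAlgClosed.of_ringEquiv Ω _ (RingEquiv.ofBijective (IsLocalRing.residue Ω)
      ⟨(IsLocalRing.residue Ω).injective, IsLocalRing.residue_surjective⟩)
  infer_instance

set_option backward.isDefEq.respectTransparency.types false in
lemma locallyQuasiFinite_discreteTopology [LocallyQuasiFinite f] [Subsingleton Y] :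
    DiscreteTopology X := by
  rcases isEmpty_or_nonempty Y with hY | ⟨⟨y⟩⟩
  · have : IsEmpty X := Function.isEmpty f.base
    infer_instance
  · have h := f.isDiscrete_preimage_singleton y
    rw [show f.base ⁻¹' {y} = Set.univ from Set.eq_univ_of_forall fun x => Subsingleton.elim (f.base x) y] at h
    exact isDiscrete_univ_iff.1 h

set_option backward.isDefEq.respectTransparency.types false in
/-- A geometric point over `η`, as a section of the geometric fibre. -/
noncomputable def fibreSection (ξ : {ξ : Spec (CommRingCat.of Ω) ⟶ X // ξ ≫ f = η}) :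
    Spec (CommRingCat.of Ω) ⟶ pullback f η :=
  pullback.lift ξ.1 (𝟙 _) (ξ.2.trans (Category.id_comp η).symm)

lemma fibreSection_fst (ξ : {ξ : Spec (CommRingCat.of Ω) ⟶ X // ξ ≫ f = η}) :
    fibreSection f η ξ ≫ pullback.fst f η = ξ.1 :=
  pullback.lift_fst _ _ _

lemma fibreSection_snd (ξ : {ξ : Spec (CommRingCat.of Ω) ⟶ X // ξ ≫ f = η}) :
    fibreSection f η ξ ≫ pullback.snd f η = 𝟙 _ :=
  pullback.lift_snd _ _ _

variable [IsFinite f]

set_option backward.isDefEq.respectTransparency.types false in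
lemma fibreSection_injective :
    Function.Injective fun ξ : {ξ : Spec (CommRingCat.of Ω) ⟶ X // ξ ≫ f = η} =>
      (fibreSection f η ξ).base (IsLocalRing.closedPoint Ω) := fun ξ₁ ξ₂ h => by
  have := ext_of_apply_closedPoint_eq (pullback.snd f η) (fibreSection_snd f η ξ₁)
    (fibreSection_snd f η ξ₂) h
  exact Subtype.ext (by rw [← fibreSection_fst f η ξ₁, this, fibreSection_fst])

set_option backward.isDefEq.respectTransparency.types false in
lemma finite_lifts : Finite {ξ : Spec (CommRingCat.of Ω) ⟶ X // ξ ≫ f = η} := by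
  have : IsFinite (pullback.snd f η) := MorphismProperty.pullback_snd _ _ ‹_›
  have : LocallyQuasiFinite (pullback.snd f η) := inferInstance
  have : Subsingleton (Spec (CommRingCat.of Ω)) :=
    inferInstanceAs (Subsingleton (PrimeSpectrum Ω))
  have := locallyQuasiFinite_discreteTopology (pullback.snd f η)
  have : CompactSpace ↥(pullback f η) := QuasiCompact.compactSpace_of_compactSpace (pullback.snd f η)
  have : Finite ↥(pullback f η) := finite_of_compact_of_discrete
  exact Finite.of_injective _ (fibreSection_injective f η)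

set_option backward.isDefEq.respectTransparency.types false in
/-- Prescribed values at the finitely many points over `η` are attained. -/
lemma exists_germ_push_values (F : EtCoh.Ab X)
    (c : ∀ ξ : {ξ : Spec (CommRingCat.of Ω) ⟶ X // ξ ≫ f = η}, (EtCoh.stalk ξ.1).obj F) :
    ∃ (V : Y.Etale) (s : (Scheme.pointSmallEtale η).fiber.obj V)
      (σ : F.obj.obj (op ((EtCoh.bc f).obj V))),
      ∀ ξ : {ξ : Spec (CommRingCat.of Ω) ⟶ X // ξ ≫ f = η},
        germ ξ.1 F ((EtCoh.bc f).obj V) (pushLift f ξ.1 ξ.2 V s) σ = c ξ := by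
  classical
  choose U l τ hτ using fun ξ : {ξ : Spec (CommRingCat.of Ω) ⟶ X // ξ ≫ f = η} =>
    germ_surjective ξ.1 F (c ξ)
  let P := pullback f η
  let q₀ : P ⟶ Spec (CommRingCat.of Ω) := pullback.snd f η
  have hfin : IsFinite q₀ := MorphismProperty.pullback_snd _ _ ‹IsFinite f›
  have : Subsingleton (Spec (CommRingCat.of Ω)) :=
    inferInstanceAs (Subsingleton (PrimeSpectrum Ω))
  have := isSepClosed_residueField_of_isAlgClosed (Ω := Ω)
  -- the points of the fibre
  have hpt : ∀ z : P, ∃ ξ, (fibreSection f η ξ).base (IsLocalRing.closedPoint Ω) = z := fun z => by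
    obtain ⟨σ, hσ, hz⟩ := exists_lift_point q₀ (𝟙 _) z (Subsingleton.elim _ _)
    refine ⟨⟨σ ≫ pullback.fst f η, by
      rw [Category.assoc, pullback.condition, reassoc_of% hσ]⟩, ?_⟩
    rw [show fibreSection f η ⟨σ ≫ pullback.fst f η, _⟩ = σ from
      pullback.hom_ext (fibreSection_fst f η _) ((fibreSection_snd f η _).trans hσ.symm)]
    exact (congrArg σ.base (Subsingleton.elim _ _)).trans hz
  choose pt hpt using hpt
  have hptinv : ∀ ξ, pt ((fibreSection f η ξ).base (IsLocalRing.closedPoint Ω)) = ξ :=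
    fun ξ => fibreSection_injective f η (hpt _)
  -- one-point étale pieces over the points of the fibre
  let e : ∀ z : P, Spec (CommRingCat.of Ω) ⟶ pullback (U (pt z)).hom (pullback.fst f η) := fun z =>
    pullback.lift (l (pt z)).left (fibreSection f η (pt z))
      ((Over.w (l (pt z))).trans (fibreSection_fst f η (pt z)).symm)
  have hdisc : ∀ z : P, DiscreteTopology ↥(pullback (U (pt z)).hom (pullback.fst f η)) := fun z => by
    have : Etale (pullback.snd (U (pt z)).hom (pullback.fst f η)) :=
      inferInstanceAs (Etale (pullback.snd (U (pt z)).hom _))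
    exact locallyQuasiFinite_discreteTopology (pullback.snd (U (pt z)).hom (pullback.fst f η) ≫ q₀)
  let O : ∀ z : P, (pullback (U (pt z)).hom (pullback.fst f η)).Opens := fun z =>
    ⟨{(e z).base (IsLocalRing.closedPoint Ω)}, @isOpen_discrete _ _ (hdisc z) _⟩
  let g : ∀ z, (O z : Scheme.{u}) ⟶ P := fun z => (O z).ι ≫ pullback.snd _ _
  have hg0 : ∀ z (a : (O z : Scheme.{u})), (g z).base a = z := fun z a => by
    obtain ⟨a, rfl : a = (e z).base (IsLocalRing.closedPoint Ω)⟩ := a
    show (pullback.snd (U (pt z)).hom (pullback.fst f η)).base ((e z).base _) = z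
    rw [← Scheme.Hom.comp_apply, pullback.lift_snd, hpt]
  obtain ⟨W, h, -, hsup, hW⟩ := exists_splitting q₀ (fun z => (O z : Scheme.{u})) g
    (fun z => by
      have : Etale (pullback.snd (U (pt z)).hom (pullback.fst f η)) :=
        inferInstanceAs (Etale (pullback.snd (U (pt z)).hom _))
      exact (inferInstance : Etale ((O z).ι ≫ pullback.snd (U (pt z)).hom (pullback.fst f η))))
    (fun z => ⟨z, ⟨⟨_, rfl⟩, hg0 z _⟩⟩)
  -- the glued morphism
  let Uh : (∐ fun z : P => (U (pt z)).left) ⟶ X := Sigma.desc fun z : P => (U (pt z)).hom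
  have : Etale Uh := IsZariskiLocalAtSource.sigmaDesc fun z => (inferInstance : Etale (U (pt z)).hom)
  let Ut : X.Etale := Scheme.Etale.mk Uh
  let uT : ∀ z : P, U (pt z) ⟶ Ut := fun z =>
    MorphismProperty.Over.homMk (Sigma.ι (fun z : P => (U (pt z)).left) z)
      (Sigma.ι_desc (fun z : P => (U (pt z)).hom) z)
  obtain ⟨τt, hτt⟩ : ∃ τt : F.obj.obj (op Ut), ∀ z, F.obj.map (uT z).op τt = τ (pt z) := by
    let Oi : P → Ut.left.Opens := fun z => (Sigma.ι (fun z : P => (U (pt z)).left) z).opensRange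
    let u : ∀ z, openObj Ut (Oi z) ⟶ U (pt z) := fun z =>
      MorphismProperty.Over.homMk (Sigma.ι (fun z : P => (U (pt z)).left) z).isoOpensRange.inv (by
        rw [Iso.inv_comp_eq]
        show (U (pt z)).hom = (Sigma.ι (fun z : P => (U (pt z)).left) z).isoOpensRange.hom ≫
          (Oi z).ι ≫ Uh
        exact ((Category.assoc _ _ _).symm.trans ((congrArg (· ≫ Uh)
          (Scheme.Hom.isoOpensRange_hom_ι _)).trans (Sigma.ι_desc _ _))).symm)
    obtain ⟨τt, hτt⟩ := exists_glue_disjoint Ut Oi
      (fun a b hab => disjoint_opensRange_sigmaι (fun z : P => (U (pt z)).left) a b hab)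
      (eq_top_iff.2 fun x _ => by
        obtain ⟨z, a, ha⟩ := (sigmaOpenCover fun z : P => (U (pt z)).left).exists_eq x
        exact TopologicalSpace.Opens.mem_iSup.2 ⟨z, a, ha⟩)
      F fun z => F.obj.map (u z).op (τ (pt z))
    refine ⟨τt, fun z => ?_⟩
    let ι' : U (pt z) ⟶ openObj Ut (Oi z) :=
      MorphismProperty.Over.homMk (Sigma.ι (fun z : P => (U (pt z)).left) z).isoOpensRange.hom
        ((Category.assoc _ _ _).symm.trans ((congrArg (· ≫ Uh)
          (Scheme.Hom.isoOpensRange_hom_ι _)).trans (Sigma.ι_desc _ _)))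
    have e1 : ι' ≫ openHom Ut (Oi z) = uT z :=
      MorphismProperty.Over.Hom.ext
        (Scheme.Hom.isoOpensRange_hom_ι (Sigma.ι (fun z : P => (U (pt z)).left) z))
    have e2 : ι' ≫ u z = 𝟙 _ := MorphismProperty.Over.Hom.ext (Iso.hom_inv_id _)
    rw [← e1, op_comp, Functor.map_comp, ConcreteCategory.comp_apply, hτt,
      ← ConcreteCategory.comp_apply, ← Functor.map_comp, ← op_comp, e2, op_id,
      CategoryTheory.Functor.map_id]
    rfl
  have hWeq : ∀ z : P, z ∈ W z := fun z => by
    obtain ⟨a, ha⟩ := TopologicalSpace.Opens.mem_iSup.1 (hsup.symm ▸ TopologicalSpace.Opens.mem_top z)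
    have h1 : (g a).base ((h a).base ⟨z, ha⟩) = z := by
      rw [← Scheme.Hom.comp_apply, hW]
      rfl
    rw [hg0] at h1
    exact h1 ▸ ha
  let m : (∐ fun z : P => (W z : Scheme.{u})) ⟶ Ut.left :=
    Sigma.desc fun z => ((h z ≫ (O z).ι) ≫ pullback.fst (U (pt z)).hom (pullback.fst f η)) ≫
      Sigma.ι (fun z : P => (U (pt z)).left) z
  have : IsIso (Sigma.desc fun z : P => (W z).ι) := by
    have hdj : Pairwise (Function.onFun Disjoint fun z => (W z).ι.opensRange) := fun a b hab => by
      simp only [Function.onFun, Scheme.Opens.opensRange_ι]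
      rw [disjoint_iff, eq_bot_iff]
      intro x hx
      have ha : (g a).base ((h a).base ⟨x, hx.1⟩) = x := by rw [← Scheme.Hom.comp_apply, hW]; rfl
      have hb : (g b).base ((h b).base ⟨x, hx.2⟩) = x := by rw [← Scheme.Hom.comp_apply, hW]; rfl
      rw [hg0] at ha hb
      exact hab (ha.trans hb.symm)
    obtain ⟨hc⟩ := nonempty_isColimit_cofanMk_of (fun z : P => (W z).ι)
      (by simpa only [Scheme.Opens.opensRange_ι] using hsup) hdj
    exact (Cofan.nonempty_isColimit_iff_isIso_sigmaDesc (Cofan.mk _ fun z : P => (W z).ι)).1 ⟨hc⟩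
  let q : P ⟶ Ut.left := inv (Sigma.desc fun z : P => (W z).ι) ≫ m
  have hq : q ≫ Uh = pullback.fst f η := by
    rw [Category.assoc, IsIso.inv_comp_eq]
    refine Sigma.hom_ext _ _ fun z => ?_
    simp only [m, Uh, Sigma.ι_desc_assoc, Category.assoc, Sigma.ι_desc]
    rw [← hW z]
    simp only [g, Category.assoc]
    exact congrArg (fun k => h z ≫ (O z).ι ≫ k)
      ((congrArg (pullback.fst (U (pt z)).hom (pullback.fst f η) ≫ ·)
        (Sigma.ι_desc (fun z : P => (U (pt z)).hom) z)).trans pullback.condition)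
  obtain ⟨V₀, v, hv, k, tV, hk, htV, hagree⟩ :=
    exists_descend f Uh η η (𝟙 _) (Category.id_comp η) q hq
  let V : Y.Etale := Scheme.Etale.mk v
  let hU : (EtCoh.bc f).obj V ⟶ Ut :=
    MorphismProperty.Over.homMk ((pullbackSymmetry v f).hom ≫ k)
      ((Category.assoc _ _ _).trans
        ((congrArg ((pullbackSymmetry v f).hom ≫ ·) hk).trans (pullbackSymmetry_hom_comp_fst v f)))
  let t : (Scheme.pointSmallEtale η).fiber.obj V := Over.homMk tV htV
  refine ⟨V, t, F.obj.map hU.op τt, fun ξ => ?_⟩
  set z := (fibreSection f η ξ).base (IsLocalRing.closedPoint Ω) with hz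
  have hξ : pt z = ξ := hptinv ξ
  -- compute the lift
  have hr : Set.range (fibreSection f η ξ).base ⊆ Set.range (W z).ι.base := by
    rintro _ ⟨a, rfl⟩
    rw [Scheme.Opens.range_ι, Subsingleton.elim a (IsLocalRing.closedPoint Ω)]
    exact hWeq z
  let σw := IsOpenImmersion.lift (W z).ι (fibreSection f η ξ) hr
  have hσw : σw ≫ (W z).ι = fibreSection f η ξ := IsOpenImmersion.lift_fac _ _ _
  have hz' : fibreSection f η (pt z) = fibreSection f η ξ := by rw [hξ]
  have he : σw ≫ h z ≫ (O z).ι = e z := by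
    have : Etale (pullback.snd (U (pt z)).hom (pullback.fst f η)) :=
      inferInstanceAs (Etale (pullback.snd (U (pt z)).hom _))
    refine ext_of_apply_closedPoint_eq (pullback.snd (U (pt z)).hom (pullback.fst f η) ≫ q₀) ?_ ?_ ?_
    · have h2 : h z ≫ (O z).ι ≫ pullback.snd (U (pt z)).hom (pullback.fst f η) = (W z).ι := hW z
      simp only [Category.assoc]
      rw [reassoc_of% h2, reassoc_of% hσw]
      exact fibreSection_snd f η ξ
    · rw [← Category.assoc, pullback.lift_snd]
      exact fibreSection_snd f η _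
    · exact ((h z).base (σw.base (IsLocalRing.closedPoint Ω))).2
  have hfib : (Scheme.pointSmallEtale ξ.1).fiber.map hU (pushLift f ξ.1 ξ.2 V t) =
      (Scheme.pointSmallEtale ξ.1).fiber.map (uT z)
        (Over.homMk (l (pt z)).left ((Over.w (l (pt z))).trans (congrArg Subtype.val hξ))) := by
    refine Over.OverMorphism.ext ?_
    have key := hagree ((pushLift f ξ.1 ξ.2 V t).left ≫ (pullbackSymmetry v f).hom)
      (fibreSection f η ξ)
      (((Category.assoc _ _ _).trans ((congrArg (_ ≫ ·) (pullbackSymmetry_hom_comp_fst v f)).trans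
        (pullback.lift_snd _ _ _))).trans (fibreSection_fst f η ξ).symm)
      ((Category.assoc _ _ _).trans ((congrArg (_ ≫ ·) (pullbackSymmetry_hom_comp_snd v f)).trans
        (pullback.lift_fst _ _ _)))
      (fibreSection_snd f η ξ)
    refine ((Category.assoc _ _ _).symm.trans key).trans ?_
    have hi : fibreSection f η ξ ≫ inv (Sigma.desc fun z : P => (W z).ι) =
        σw ≫ Sigma.ι (fun z : P => (W z : Scheme.{u})) z := by
      rw [IsIso.comp_inv_eq, Category.assoc, Sigma.ι_desc, hσw]
    show fibreSection f η ξ ≫ inv _ ≫ m = _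
    rw [reassoc_of% hi, Sigma.ι_desc]
    refine ((Category.assoc _ _ _).symm.trans (congrArg (· ≫ Sigma.ι (fun z : P => (U (pt z)).left) z) ?_))
    rw [← Category.assoc, he]
    exact pullback.lift_fst _ _ _
  refine ((Scheme.pointSmallEtale ξ.1).toPresheafFiber_w_apply hU _ F.obj τt).trans ?_
  rw [hfib]
  refine ((Scheme.pointSmallEtale ξ.1).toPresheafFiber_w_apply (uT z) _ F.obj τt).symm.trans ?_
  rw [hτt]
  clear_value z
  subst hξ
  exact hτ (pt z)

/-- The stalk of a direct image along a finite morphism as a product. -/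
theorem nonempty_stalk_push_iso (F : EtCoh.Ab X) :
    Nonempty ((EtCoh.stalk η).obj ((EtCoh.push f).obj F) ≅
      ∐ fun ξ : {ξ : Spec (CommRingCat.of Ω) ⟶ X // ξ ≫ f = η} => (EtCoh.stalk ξ.1).obj F) := by
  classical
  have := finite_lifts f η
  let S := {ξ : Spec (CommRingCat.of Ω) ⟶ X // ξ ≫ f = η}
  let A : S → AddCommGrpCat.{u + 1} := fun ξ => (EtCoh.stalk ξ.1).obj F
  let ev : ∀ ξ : S, (EtCoh.stalk η).obj ((EtCoh.push f).obj F) ⟶ A ξ := fun ξ =>
    eqToHom (by rw [ξ.2]) ≫ evPush f ξ.1 F
  have hev : ∀ (ξ : S) (V : Y.Etale) (s : (Scheme.pointSmallEtale η).fiber.obj V)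
      (σ : F.obj.obj (op ((EtCoh.bc f).obj V))),
      ev ξ (germ η ((EtCoh.push f).obj F) V s σ) =
        germ ξ.1 F _ (pushLift f ξ.1 ξ.2 V s) σ := by
    rintro ⟨ξ, h⟩ V s σ
    subst h
    exact evPush_germ f ξ F V s σ
  let e : (EtCoh.stalk η).obj ((EtCoh.push f).obj F) ⟶ ⨁ A := biproduct.lift ev
  let π : ∀ ξ, (⨁ A : AddCommGrpCat.{u + 1}) ⟶ A ξ := fun ξ => biproduct.π A ξ
  have hπ : ∀ ξ a, π ξ (e a) = ev ξ a := fun ξ a => by
    rw [← ConcreteCategory.comp_apply, biproduct.lift_π]
  have hinj : Function.Injective fun x : (⨁ A : AddCommGrpCat.{u + 1}) => fun ξ => π ξ x :=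
    fun x y h => by
      refine Concrete.limit_ext _ _ _ ?_ |> fun h2 =>
        (ConcreteCategory.bijective_of_isIso (biproduct.isoProduct A).hom).1 h2
      rintro ⟨ξ⟩
      have := congrFun h ξ
      rw [← ConcreteCategory.comp_apply, ← ConcreteCategory.comp_apply]
      erw [biproduct.isoProduct_hom, limit.lift_π]
      exact this
  have : IsIso e := by
    rw [ConcreteCategory.isIso_iff_bijective]
    constructor
    · rw [injective_iff_map_eq_zero]
      intro a ha
      obtain ⟨V, s, σ, rfl⟩ := germ_surjective η _ a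
      refine germ_push_eq_zero f η F V s σ fun ξ h => ?_
      have := congrArg (π ⟨ξ, h⟩) ha
      rw [hπ, hev ⟨ξ, h⟩, map_zero] at this
      exact this
    · intro x
      obtain ⟨V, s, σ, hσ⟩ := exists_germ_push_values f η F fun ξ => π ξ x
      refine ⟨germ η _ V s σ, hinj (funext fun ξ => ?_)⟩
      show π ξ _ = π ξ x
      rw [hπ, hev ξ, hσ]
  exact ⟨asIso e ≪≫ biproduct.isoCoproduct A⟩

end Groth.EtaleBase
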