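import Groth.Agent.EtaleBase.PushEpi
import Mathlib.CategoryTheory.Abelian.RightDerived

/-!
Higher direct images along integral morphisms vanish.
-/

set_option autoImplicit false

universe u

open CategoryTheory CategoryTheory.Limits AlgebraicGeometry Opposite

namespace Groth.EtaleBase

section

universe v₁ v₂ u₁ u₂

variable {C : Type u₁} [Category.{v₁} C] [Abelian C] [HasInjectiveResolutions C]
  {D : Type u₂} [Category.{v₂} D] [Abelian D]

lemma isZero_rightDerived_of_preservesHomology (F : C ⥤ D) [F.Additive] [F.PreservesHomology]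
    (A : C) (q : ℕ) : IsZero ((F.rightDerived (q + 1)).obj A) := by
  let I := injectiveResolution A
  refine IsZero.of_iso ?_ (I.isoRightDerivedObj F (q + 1))
  exact ((((F.mapHomologicalComplex _).obj I.cocomplex).exactAt_iff_isZero_homology _).1
    ((I.cocomplex_exactAt_succ q).map F))

end

lemma isZero_Rpush {X Y : Scheme.{u}} (f : X ⟶ Y) [IsIntegralHom f] [EtCoh.BCCont f]
    (F : EtCoh.Ab X) (q : ℕ) (hq : 1 ≤ q) : IsZero ((EtCoh.Rpush f q).obj F) := by
  obtain ⟨k, rfl⟩ := Nat.exists_eq_succ_of_ne_zero (by omega : q ≠ 0)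
  have := (EtCoh.pullPushAdj f).isRightAdjoint
  have := push_preservesEpimorphisms f
  have := (EtCoh.push f).preservesHomology_of_preservesEpis_and_kernels
  exact isZero_rightDerived_of_preservesHomology _ F k

end Groth.EtaleBase
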