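import Groth.Agent.EtaleBase.Stalks
import Groth.Prelude.Def_EtCore
import Mathlib.CategoryTheory.Sites.Point.Comap

/-!
Stalks of inverse images, exactness of inverse image.
-/

set_option autoImplicit false

universe u

open CategoryTheory CategoryTheory.Limits AlgebraicGeometry Opposite

namespace Groth.EtaleBase

section ElementsMap

variable {C : Type*} [Category C] {F₁ F₂ : C ⥤ Type u}

lemma elementsMap_isEquivalence (e : F₁ ≅ F₂) : (CategoryOfElements.map e.hom).IsEquivalence := by
  refine { faithful := ⟨fun {a b f g} h => ?_⟩, full := ⟨fun {a b} f => ?_⟩, essSurj := ⟨fun b => ?_⟩ }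
  · exact CategoryOfElements.ext _ _ _ (congrArg (fun φ => φ.val) h :)
  · refine ⟨⟨f.1, ?_⟩, CategoryOfElements.ext _ _ _ rfl⟩
    have h := f.2
    apply (e.app b.1).toEquiv.injective
    exact (NatTrans.naturality_apply e.hom f.1 a.2).trans h
  · exact ⟨Functor.elementsMk _ b.1 (e.inv.app b.1 b.2),
      ⟨CategoryOfElements.isoMk _ _ (Iso.refl _) (by
        exact (congrArg (fun ψ : F₂.obj b.1 ⟶ F₂.obj b.1 => ψ (e.hom.app b.1 (e.inv.app b.1 b.2)))
          (F₂.map_id b.1)).trans ((e.app b.1).inv_hom_id_apply b.2))⟩⟩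

end ElementsMap

variable {X Y : Scheme.{u}} (f : X ⟶ Y) {Ω : Type u} [Field Ω] [IsSepClosed Ω]
  (ξ : Spec (CommRingCat.of Ω) ⟶ X)

set_option backward.isDefEq.respectTransparency.types false in
/-- Lifts of `ξ` to `V ×_Y X` are lifts of `ξ ≫ f` to `V`. -/
noncomputable def bcFiberEquiv (V : Y.Etale) :
    (Scheme.pointSmallEtale ξ).fiber.obj ((EtCoh.bc f).obj V) ≃
      (Scheme.pointSmallEtale (ξ ≫ f)).fiber.obj V where
  toFun t := Over.homMk (t.left ≫ pullback.fst V.hom f) (by
    change (t.left ≫ pullback.fst V.hom f) ≫ V.hom = ξ ≫ f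
    exact (Category.assoc _ _ _).trans ((congrArg (t.left ≫ ·) pullback.condition).trans
      ((Category.assoc _ _ _).symm.trans (congrArg (· ≫ f) (Over.w t)))))
  invFun s := Over.homMk (pullback.lift s.left ξ (Over.w s)) (by
    exact pullback.lift_snd _ _ _)
  left_inv t := by
    apply Over.OverMorphism.ext
    apply pullback.hom_ext
    · exact pullback.lift_fst _ _ _
    · exact (pullback.lift_snd _ _ _).trans (Over.w t).symm
  right_inv s := Over.OverMorphism.ext (pullback.lift_fst _ _ _)

set_option backward.isDefEq.respectTransparency.types false in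
/-- The comap of a geometric point along base change is the composite geometric point. -/
noncomputable def bcFiberIso :
    (Scheme.pointSmallEtale (ξ ≫ f)).fiber ≅ EtCoh.bc f ⋙ (Scheme.pointSmallEtale ξ).fiber :=
  NatIso.ofComponents (fun V => (bcFiberEquiv f ξ V).symm.toIso) (fun {V W} g => by
    ext s
    apply Over.OverMorphism.ext
    apply pullback.hom_ext
    · exact (pullback.lift_fst _ _ _).trans (((Category.assoc _ _ _).trans
        ((congrArg (pullback.lift s.left ξ (Over.w s) ≫ ·) (pullback.lift_fst _ _ _)).trans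
          ((Category.assoc _ _ _).symm.trans (congrArg (· ≫ g.left) (pullback.lift_fst _ _ _))))).symm)
    · exact (pullback.lift_snd _ _ _).trans (((Category.assoc _ _ _).trans
        ((congrArg (pullback.lift s.left ξ (Over.w s) ≫ ·) (pullback.lift_snd _ _ _)).trans
          (pullback.lift_snd _ _ _))).symm))

instance initiallySmall_bc_fiber :
    InitiallySmall.{u} (EtCoh.bc f ⋙ (Scheme.pointSmallEtale ξ).fiber).Elements := by
  have := elementsMap_isEquivalence (bcFiberIso f ξ)
  exact initiallySmall_of_initial_of_initiallySmall (CategoryOfElements.map (bcFiberIso f ξ).hom)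

/-- The geometric point `ξ ≫ f` is the comap of `ξ` along base change. -/
noncomputable def comapPointIso :
    (Scheme.pointSmallEtale ξ).comap (EtCoh.bc f) (EtCoh.coverPreserving_bc f) ≅
      Scheme.pointSmallEtale (ξ ≫ f) where
  hom := ⟨(bcFiberIso f ξ).hom⟩
  inv := ⟨(bcFiberIso f ξ).inv⟩
  hom_inv_id := GrothendieckTopology.Point.hom_ext (bcFiberIso f ξ).inv_hom_id
  inv_hom_id := GrothendieckTopology.Point.hom_ext (bcFiberIso f ξ).hom_inv_id

/-- The stalk of an inverse image is the stalk at the image geometric point. -/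
noncomputable def stalkPullIso : EtCoh.stalk (ξ ≫ f) ≅ EtCoh.pull f ⋙ EtCoh.stalk ξ :=
  ({ hom := (comapPointIso f ξ).hom.sheafFiber
     inv := (comapPointIso f ξ).inv.sheafFiber
     hom_inv_id := by rw [← GrothendieckTopology.Point.Hom.sheafFiber_comp, Iso.inv_hom_id,
       GrothendieckTopology.Point.Hom.sheafFiber_id]
     inv_hom_id := by rw [← GrothendieckTopology.Point.Hom.sheafFiber_comp, Iso.hom_inv_id,
       GrothendieckTopology.Point.Hom.sheafFiber_id] } :
    (Scheme.pointSmallEtale (ξ ≫ f)).sheafFiber (A := AddCommGrpCat.{u + 1}) ≅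
      ((Scheme.pointSmallEtale ξ).comap (EtCoh.bc f) (EtCoh.coverPreserving_bc f)).sheafFiber) ≪≫
    GrothendieckTopology.Point.sheafFiberComapIso _ (EtCoh.bc f) (EtCoh.coverPreserving_bc f) _

omit ξ in
/-- Inverse image of abelian sheaves is exact. -/
instance pull_preservesFiniteLimits : PreservesFiniteLimits (EtCoh.pull f) where
  preservesFiniteLimits J _ _ :=
    { preservesLimit := fun {K} =>
        { preserves := fun {c} hc => ⟨stalkAt_jointlyReflectIsomorphisms.jointlyReflectsLimit fun s => by
            have : PreservesLimitsOfShape J (EtCoh.pull f ⋙ stalkAt s) :=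
              preservesLimitsOfShape_of_natIso (stalkPullIso f (geomPoint s))
            exact isLimitOfPreserves (EtCoh.pull f ⋙ stalkAt s) hc⟩ } }

end Groth.EtaleBase
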