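import Groth.Agent.EtaleBase.PushStalkInt
import Groth.Agent.EtaleBase.DisjointGlue
import Groth.Prelude.Def_BigSite
import Mathlib.CategoryTheory.Functor.EpiMono

/-!
Consequences of condition (A) for direct images.
-/

set_option autoImplicit false

universe u

open CategoryTheory CategoryTheory.Limits AlgebraicGeometry Opposite

namespace Groth.EtaleBase

variable {X Y : Scheme.{u}} (f : X ⟶ Y)

set_option backward.isDefEq.respectTransparency.types false in
lemma surjective_stalkCounit_of_propA (hA : BigSite.PropA f) {Ω : Type u} [Field Ω] [IsSepClosed Ω]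
    (ξ : Spec (CommRingCat.of Ω) ⟶ X) (F : EtCoh.Ab X) :
    Function.Surjective (stalkCounit f ξ F) := by
  classical
  intro a
  obtain ⟨U, t, σ, rfl⟩ := germ_surjective ξ F a
  obtain ⟨V₀, v, hv, W₀, hW₀, h, hh, w, hw⟩ := hA U.left U.hom (fiberPoint ξ t)
  let V : Y.Etale := Scheme.Etale.mk v
  let B := (EtCoh.bc f).obj V
  let e : B.left ⟶ pullback f v := (pullbackSymmetry v f).hom
  let W : B.left.Opens := e ⁻¹ᵁ W₀
  let W' : B.left.Opens := ⟨(W : Set B.left)ᶜ, (hW₀.preimage e.continuous).isOpen_compl⟩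
  let P : ULift.{u} Bool → B.left.Opens := fun b => Bool.rec W' W b.down
  have hd : ∀ a b, a ≠ b → Disjoint (P a) (P b) := by
    rintro ⟨_ | _⟩ ⟨_ | _⟩ hab <;>
      first
      | exact (hab rfl).elim
      | (rw [disjoint_iff, eq_bot_iff]; intro x hx; first | exact hx.1 hx.2 | exact hx.2 hx.1)
  have hsup : ⨆ b, P b = ⊤ := eq_top_iff.2 fun x _ => by
    by_cases hx : x ∈ W
    · exact TopologicalSpace.Opens.mem_iSup.2 ⟨⟨true⟩, hx⟩
    · exact TopologicalSpace.Opens.mem_iSup.2 ⟨⟨false⟩, hx⟩
  let r : openObj B W ⟶ U := MorphismProperty.Over.homMk ((e ∣_ W₀) ≫ h)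
    ((Category.assoc _ _ _).trans ((congrArg ((e ∣_ W₀) ≫ ·) hh).trans
      ((Category.assoc _ _ _).symm.trans ((congrArg (· ≫ pullback.fst f v) (morphismRestrict_ι e W₀)).trans
        ((Category.assoc _ _ _).trans
          (congrArg (W.ι ≫ ·) (pullbackSymmetry_hom_comp_fst v f)))))))
  obtain ⟨τ, hτ⟩ := exists_glue_disjoint B P hd hsup F fun b => by
    obtain ⟨_ | _⟩ := b
    · exact 0
    · exact F.obj.map r.op σ
  obtain ⟨w₁, hw₁⟩ : ∃ w₁, (e ∣_ W₀).base w₁ = w :=
    ((ConcreteCategory.bijective_of_isIso (e ∣_ W₀).base)).2 w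
  obtain ⟨s, hs, -⟩ := exists_fiber_lift ξ r t w₁ (by
    show ((e ∣_ W₀) ≫ h).base w₁ = _
    rw [Scheme.Hom.comp_apply, hw₁, hw])
  let t' : (Scheme.pointSmallEtale ξ).fiber.obj B :=
    (Scheme.pointSmallEtale ξ).fiber.map (openHom B W) s
  refine ⟨(comapPt f ξ).toPresheafFiber V t' ((EtCoh.push f).obj F).obj τ, ?_⟩
  refine (ConcreteCategory.congr_hom (toPresheafFiber_stalkCounit f ξ F V t') τ).trans ?_
  refine ((Scheme.pointSmallEtale ξ).toPresheafFiber_w_apply (openHom B W) s F.obj τ).symm.trans ?_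
  rw [show F.obj.map (openHom B W).op τ = F.obj.map r.op σ from hτ ⟨true⟩, ← hs]
  exact (Scheme.pointSmallEtale ξ).toPresheafFiber_w_apply r s F.obj σ

set_option backward.isDefEq.respectTransparency.types false in
lemma epi_counit_of_propA (hA : BigSite.PropA f) (F : EtCoh.Ab X) :
    Epi ((EtCoh.pullPushAdj f).counit.app F) :=
  epi_of_stalk_surjective _ fun s b => by
    obtain ⟨a, ha⟩ := surjective_stalkCounit_of_propA f hA (geomPoint s) F b
    rw [stalkCounit, ConcreteCategory.comp_apply] at ha
    exact ⟨_, ha⟩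

theorem push_props_of_propA (hA : BigSite.PropA f) :
    (EtCoh.push f).ReflectsMonomorphisms ∧ (EtCoh.push f).ReflectsEpimorphisms ∧
      (∀ F : EtCoh.Ab X, Epi ((EtCoh.pullPushAdj f).counit.app F)) ∧ (EtCoh.push f).Faithful := by
  have hepi := epi_counit_of_propA f hA
  have : (EtCoh.push f).Faithful := (EtCoh.pullPushAdj f).faithful_R_of_epi_counit_app
  exact ⟨inferInstance, inferInstance, hepi, this⟩

/-- An étale scheme over an open, as an étale scheme over the ambient scheme. -/
noncomputable def composeObj [IsOpenImmersion f] (W : X.Etale) : Y.Etale :=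
  Scheme.Etale.mk (W.hom ≫ f)

set_option backward.isDefEq.respectTransparency.types false in
/-- The base change of `composeObj f W` maps isomorphically to `W`. -/
noncomputable def composeHom [IsOpenImmersion f] (W : X.Etale) :
    (EtCoh.bc f).obj (composeObj f W) ⟶ W :=
  MorphismProperty.Over.homMk (pullback.fst (W.hom ≫ f) f)
    (show pullback.fst (W.hom ≫ f) f ≫ W.hom = pullback.snd (W.hom ≫ f) f by
      rw [← cancel_mono f, Category.assoc, pullback.condition])

set_option backward.isDefEq.respectTransparency.types false in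
lemma exists_composeLift [IsOpenImmersion f] {Ω : Type u} [Field Ω] [IsSepClosed Ω]
    (ξ : Spec (CommRingCat.of Ω) ⟶ X) (W : X.Etale) (w : (Scheme.pointSmallEtale ξ).fiber.obj W) :
    ∃ t, (Scheme.pointSmallEtale ξ).fiber.map (composeHom f W) t = w :=
  ⟨Over.homMk (pullback.lift w.left ξ
    ((Category.assoc _ _ _).symm.trans (congrArg (· ≫ f) (Over.w w)))) (pullback.lift_snd _ _ _),
    Over.OverMorphism.ext (pullback.lift_fst _ _ _)⟩

set_option backward.isDefEq.respectTransparency.types false in
/-- The stalk of a direct image along an open immersion at a point of the open. -/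
lemma bijective_stalkCounit_openImmersion [IsOpenImmersion f] {Ω : Type u} [Field Ω] [IsSepClosed Ω]
    (ξ : Spec (CommRingCat.of Ω) ⟶ X) (F : EtCoh.Ab X) :
    Function.Bijective (stalkCounit f ξ F) := by
  have hg : ∀ (V : Y.Etale) (t : (Scheme.pointSmallEtale ξ).fiber.obj ((EtCoh.bc f).obj V))
      (σ : F.obj.obj (op ((EtCoh.bc f).obj V))),
      stalkCounit f ξ F ((comapPt f ξ).toPresheafFiber V t ((EtCoh.push f).obj F).obj σ) =
        germ ξ F _ t σ := fun V t σ =>
    ConcreteCategory.congr_hom (toPresheafFiber_stalkCounit f ξ F V t) σ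
  constructor
  · rw [injective_iff_map_eq_zero]
    intro a ha
    obtain ⟨V, t, σ, rfl⟩ := (comapPt f ξ).toPresheafFiber_jointly_surjective
      (P := ((EtCoh.push f).obj F).obj) a
    rw [hg] at ha
    obtain ⟨W, g, w, rfl, hz⟩ := (germ_eq_zero_iff ξ F _ t σ).1 ha
    obtain ⟨t', rfl⟩ := exists_composeLift f ξ W w
    let p : composeObj f W ⟶ V := MorphismProperty.Over.homMk (g.left ≫ pullback.fst V.hom f)
      ((Category.assoc _ _ _).trans ((congrArg (g.left ≫ ·) pullback.condition).trans
        ((Category.assoc _ _ _).symm.trans (congrArg (· ≫ f) (Over.w g.hom)))))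
    have hp : (EtCoh.bc f).map p = composeHom f W ≫ g := by
      refine MorphismProperty.Over.Hom.ext (pullback.hom_ext ?_ ?_)
      · exact (pullback.lift_fst _ _ _).trans (Category.assoc _ _ _).symm
      · exact (pullback.lift_snd _ _ _).trans (Over.w (composeHom f W ≫ g).hom).symm
    have ht : (Scheme.pointSmallEtale ξ).fiber.map g
        ((Scheme.pointSmallEtale ξ).fiber.map (composeHom f W) t') =
        (comapPt f ξ).fiber.map p t' := by
      show _ = (Scheme.pointSmallEtale ξ).fiber.map ((EtCoh.bc f).map p) t'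
      rw [hp, Functor.map_comp]
      rfl
    rw [ht]
    refine ((comapPt f ξ).toPresheafFiber_w_apply p t' ((EtCoh.push f).obj F).obj σ).symm.trans ?_
    rw [show ((EtCoh.push f).obj F).obj.map p.op σ = 0 by
      show F.obj.map ((EtCoh.bc f).map p).op σ = 0
      rw [hp, op_comp, Functor.map_comp, ConcreteCategory.comp_apply, hz, map_zero]]
    exact map_zero _
  · intro a
    obtain ⟨W, w, τ, rfl⟩ := germ_surjective ξ F a
    obtain ⟨t, rfl⟩ := exists_composeLift f ξ W w
    refine ⟨(comapPt f ξ).toPresheafFiber (composeObj f W) t ((EtCoh.push f).obj F).obj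
      (F.obj.map (composeHom f W).op τ), ?_⟩
    rw [hg]
    exact (Scheme.pointSmallEtale ξ).toPresheafFiber_w_apply (composeHom f W) t F.obj τ

lemma isIso_evPush_openImmersion [IsOpenImmersion f] {Ω : Type u} [Field Ω] [IsSepClosed Ω]
    (ξ : Spec (CommRingCat.of Ω) ⟶ X) (F : EtCoh.Ab X) : IsIso (evPush f ξ F) := by
  have : IsIso (stalkCounit f ξ F) :=
    (ConcreteCategory.isIso_iff_bijective _).2 (bijective_stalkCounit_openImmersion f ξ F)
  have : IsIso ((comapPointIso f ξ).hom.sheafFiber (A := AddCommGrpCat.{u + 1})) :=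
    ⟨(comapPointIso f ξ).inv.sheafFiber,
      by rw [← GrothendieckTopology.Point.Hom.sheafFiber_comp, Iso.inv_hom_id,
        GrothendieckTopology.Point.Hom.sheafFiber_id],
      by rw [← GrothendieckTopology.Point.Hom.sheafFiber_comp, Iso.hom_inv_id,
        GrothendieckTopology.Point.Hom.sheafFiber_id]⟩
  unfold evPush
  infer_instance

end Groth.EtaleBase
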