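import Groth.Agent.EtaleBase.ExtZero
import Groth.Agent.EtaleBase.PropACond
import Groth.Agent.EtaleBase.PushEssImage
import Mathlib.Algebra.Homology.ShortComplex.ExactFunctor
import Mathlib.CategoryTheory.Adjunction.Triple
import Mathlib.CategoryTheory.Functor.ReflectsIso.Exact

/-!
Extension by zero: exactness, restriction, recollement.
-/

set_option autoImplicit false

universe u

open CategoryTheory CategoryTheory.Limits AlgebraicGeometry Opposite

namespace Groth.EtaleBase

variable {U X : Scheme.{u}} (j : U ⟶ X) [AlgebraicGeometry.Etale j] [EtShriek.JCont j]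

section exact

variable {Ω : Type u} [Field Ω] [IsSepClosed Ω] (ξ : Spec (CommRingCat.of Ω) ⟶ X)

set_option backward.isDefEq.respectTransparency.types false in
lemma mono_sumStalks_map {F G : EtCoh.Ab U} (φ : F ⟶ G) [Mono φ] :
    Mono ((sumStalks j ξ).map φ) := by
  have : AB4OfSize.{u} AddCommGrpCat.{u + 1} := AB4.of_AB5 _
  have := (AB4OfSize.ofShape (C := AddCommGrpCat.{u + 1}) (PtOver j ξ))
  let τ : Discrete.functor (fun u : PtOver j ξ => (EtCoh.stalk u.1).obj F) ⟶
      Discrete.functor fun u : PtOver j ξ => (EtCoh.stalk u.1).obj G :=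
    Discrete.natTrans fun u => (EtCoh.stalk u.as.1).map φ
  have h1 : ∀ i, Mono (τ.app i) := fun i => inferInstanceAs (Mono ((EtCoh.stalk i.as.1).map φ))
  have : Mono τ := NatTrans.mono_of_mono_app τ
  exact inferInstanceAs (Mono (colim.map τ))

end exact

set_option backward.isDefEq.respectTransparency.types false in
lemma extZero_preservesMonomorphisms : (EtShriek.extZero j).PreservesMonomorphisms :=
  ⟨fun {F G} φ _ => mono_of_stalk_injective _ fun s => by
    let e := stalkExtZeroIso j (geomPoint s)
    have : Mono ((sumStalks j (geomPoint s)).map φ) := mono_sumStalks_map j _ φ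
    have : Mono ((EtShriek.extZero j ⋙ EtCoh.stalk (geomPoint s)).map φ) := by
      rw [show (EtShriek.extZero j ⋙ EtCoh.stalk (geomPoint s)).map φ =
        e.hom.app F ≫ (sumStalks j (geomPoint s)).map φ ≫ e.inv.app G by
          rw [← Category.assoc, ← e.hom.naturality, Category.assoc, Iso.hom_inv_id_app,
            Category.comp_id]]
      infer_instance
    exact (AddCommGrpCat.mono_iff_injective _).1 this⟩

lemma extZero_preservesFiniteLimits : PreservesFiniteLimits (EtShriek.extZero j) := by
  have := (EtShriek.extZeroAdj j).isLeftAdjoint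
  have := extZero_preservesMonomorphisms j
  have := preservesBinaryBiproducts_of_preservesBinaryCoproducts (EtShriek.extZero j)
  have : (EtShriek.extZero j).Additive := Functor.additive_of_preservesBinaryBiproducts _
  have := (EtShriek.extZero j).preservesHomology_of_preservesMonos_and_cokernels
  exact Functor.preservesFiniteLimits_of_preservesHomology _

set_option backward.isDefEq.respectTransparency.types false in
/-- Restriction along an étale morphism is left adjoint to direct image. -/
noncomputable def restrPushAdj : EtShriek.restrAlong j ⊣ EtCoh.push j :=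
  haveI : (MorphismProperty.Over.map (P := EtCoh.etaleMP.{u}) ⊤ (f := j)
      (show AlgebraicGeometry.Etale j from inferInstance)).IsContinuous U.smallEtaleTopology X.smallEtaleTopology :=
    ‹EtShriek.JCont j›
  haveI : (MorphismProperty.Over.pullback EtCoh.etaleMP.{u} ⊤ j).IsContinuous X.smallEtaleTopology
      U.smallEtaleTopology := EtCoh.bcCont j
  (MorphismProperty.Over.mapPullbackAdj EtCoh.etaleMP ⊤ j (show AlgebraicGeometry.Etale j from inferInstance)
      trivial).sheafPushforwardContinuous U.smallEtaleTopology X.smallEtaleTopology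

/-- Restriction along an étale morphism is the inverse image. -/
noncomputable def pullRestrIso : EtCoh.pull j ≅ EtShriek.restrAlong j :=
  (EtCoh.pullPushAdj j).leftAdjointUniq (restrPushAdj j)

/-- Stalks of restrictions. -/
noncomputable def stalkRestrIso {Ω : Type u} [Field Ω] [IsSepClosed Ω]
    (ξ : Spec (CommRingCat.of Ω) ⟶ U) :
    EtCoh.stalk (ξ ≫ j) ≅ EtShriek.restrAlong j ⋙ EtCoh.stalk ξ :=
  stalkPullIso j ξ ≪≫ Functor.isoWhiskerRight (pullRestrIso j) (EtCoh.stalk ξ)

section open_immersion

variable [IsOpenImmersion j]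

omit [AlgebraicGeometry.Etale j] [EtShriek.JCont j] in
set_option backward.isDefEq.respectTransparency.types false in
lemma isIso_counit_openImmersion (F : EtCoh.Ab U) :
    IsIso ((EtCoh.pullPushAdj j).counit.app F) := by
  have hs : ∀ s : U, IsIso ((stalkAt s).map ((EtCoh.pullPushAdj j).counit.app F)) := fun s =>
    have : IsIso (stalkCounit j (geomPoint s) F) :=
      (ConcreteCategory.isIso_iff_bijective _).2 (bijective_stalkCounit_openImmersion j _ F)
    IsIso.of_isIso_fac_left (f := (GrothendieckTopology.Point.sheafFiberComapIso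
      (Scheme.pointSmallEtale (geomPoint s)) (EtCoh.bc j) (EtCoh.coverPreserving_bc j)
      AddCommGrpCat.{u + 1}).hom.app _) (h := stalkCounit j (geomPoint s) F) rfl
  exact stalkAt_jointlyReflectIsomorphisms.isIso _

lemma isIso_extZero_unit (F : EtCoh.Ab U) : IsIso ((EtShriek.extZeroAdj j).unit.app F) := by
  have : IsIso (EtCoh.pullPushAdj j).counit :=
    have := isIso_counit_openImmersion j
    NatIso.isIso_of_isIso_app _
  have := (EtCoh.pullPushAdj j).fullyFaithfulROfIsIsoCounit.full
  have := (EtCoh.pullPushAdj j).fullyFaithfulROfIsIsoCounit.faithful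
  have : IsIso (restrPushAdj j).counit := inferInstance
  let t : Adjunction.Triple (EtShriek.extZero j) (EtShriek.restrAlong j) (EtCoh.push j) :=
    ⟨EtShriek.extZeroAdj j, restrPushAdj j⟩
  have : IsIso (EtShriek.extZeroAdj j).unit := t.isIso_unit_iff_isIso_counit.2 ‹_›
  infer_instance

omit [IsOpenImmersion j] in
set_option backward.isDefEq.respectTransparency.types false in
lemma isZero_stalk_extZero {Ω : Type u} [Field Ω] [IsSepClosed Ω] (ξ : Spec (CommRingCat.of Ω) ⟶ X)
    (hξ : ξ.base default ∉ Set.range j.base) (F : EtCoh.Ab U) :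
    IsZero ((EtCoh.stalk ξ).obj ((EtShriek.extZero j).obj F)) := by
  have : IsEmpty (PtOver j ξ) := ⟨fun u => hξ ⟨u.1.base default, by
    rw [← Scheme.Hom.comp_apply, u.2]⟩⟩
  refine IsZero.of_iso ?_ ((stalkExtZeroIso j ξ).app F)
  rw [IsZero.iff_id_eq_zero]
  exact Sigma.hom_ext _ _ fun u => isEmptyElim u

omit [AlgebraicGeometry.Etale j] [EtShriek.JCont j] in
lemma exists_lift_openImmersion {Ω : Type u} [Field Ω] (ξ : Spec (CommRingCat.of Ω) ⟶ X)
    (hξ : ξ.base default ∈ Set.range j.base) : ∃ ζ, ζ ≫ j = ξ :=
  ⟨IsOpenImmersion.lift j ξ (by rintro _ ⟨a, rfl⟩; rwa [Subsingleton.elim a default]),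
    IsOpenImmersion.lift_fac _ _ _⟩

set_option backward.isDefEq.respectTransparency.types false in
/-- The counit of extension by zero is an isomorphism on stalks over the open. -/
lemma isIso_stalk_extZero_counit {Ω : Type u} [Field Ω] [IsSepClosed Ω]
    (ξ : Spec (CommRingCat.of Ω) ⟶ X) (hξ : ξ.base default ∈ Set.range j.base) (G : EtCoh.Ab X) :
    IsIso ((EtCoh.stalk ξ).map ((EtShriek.extZeroAdj j).counit.app G)) := by
  obtain ⟨ζ, rfl⟩ := exists_lift_openImmersion j ξ hξ
  have h1 : IsIso ((EtShriek.restrAlong j).map ((EtShriek.extZeroAdj j).counit.app G)) := by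
    have h := (EtShriek.extZeroAdj j).right_triangle_components G
    have := isIso_extZero_unit j ((EtShriek.restrAlong j).obj G)
    exact IsIso.of_isIso_fac_left (f := (EtShriek.extZeroAdj j).unit.app _) (h := 𝟙 _) h
  exact (NatIso.isIso_map_iff (stalkRestrIso j ζ) _).2
    (inferInstanceAs (IsIso ((EtCoh.stalk ζ).map
      ((EtShriek.restrAlong j).map ((EtShriek.extZeroAdj j).counit.app G)))))

set_option backward.isDefEq.respectTransparency.types false in
theorem nonempty_iso_extZero (F : EtCoh.Ab U) (G : EtCoh.Ab X)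
    (hres : Nonempty ((EtShriek.restrAlong j).obj G ≅ F))
    (hzero : ∀ (Ω : Type u) [Field Ω] [IsSepClosed Ω] (ξ : Spec (CommRingCat.of Ω) ⟶ X),
      Set.range ξ.base ⊆ (Set.range j.base)ᶜ → IsZero ((EtCoh.stalk ξ).obj G)) :
    Nonempty (G ≅ (EtShriek.extZero j).obj F) := by
  obtain ⟨e⟩ := hres
  have hs : ∀ s : X, IsIso ((stalkAt s).map ((EtShriek.extZeroAdj j).counit.app G)) := fun s => by
    by_cases hs : s ∈ Set.range j.base
    · exact isIso_stalk_extZero_counit j _ (by rwa [geomPoint_apply]) G
    · exact Limits.IsZero.isIso (isZero_stalk_extZero j _ (by rwa [geomPoint_apply]) _)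
        (hzero _ _ (by rintro _ ⟨a, rfl⟩; rw [geomPoint_apply]; exact hs)) _
  have : IsIso ((EtShriek.extZeroAdj j).counit.app G) := stalkAt_jointlyReflectIsomorphisms.isIso _
  exact ⟨(asIso ((EtShriek.extZeroAdj j).counit.app G)).symm ≪≫ (EtShriek.extZero j).mapIso e⟩

end open_immersion

end Groth.EtaleBase
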