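import Groth.Agent.EtaleBase.InjCoh
import Groth.Agent.EtaleBase.PushEssImage
import Groth.Agent.EtaleBase.RpushExact

/-!
Cohomology is invariant under universal homeomorphisms.
-/

set_option autoImplicit false

universe u

open CategoryTheory CategoryTheory.Limits CategoryTheory.Abelian AlgebraicGeometry Opposite

namespace Groth.EtaleBase.InjCoh

variable {X₀ X : Scheme.{u}} (i : X₀ ⟶ X) [IsIntegralHom i] [UniversallyInjective i] [Surjective i]

/-- The unit is an isomorphism for an integral, radicial, surjective morphism. -/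
lemma isIso_unit_univHomeo (F : EtCoh.Ab X) : IsIso ((EtCoh.pullPushAdj i).unit.app F) := by
  have := isIso_counit i ((EtCoh.pull i).obj F)
  have h : IsIso ((EtCoh.pull i).map ((EtCoh.pullPushAdj i).unit.app F)) :=
    IsIso.of_isIso_fac_right (h := 𝟙 _) ((EtCoh.pullPushAdj i).left_triangle_components F)
  refine isIso_of_exists_stalk _ fun s => ?_
  obtain ⟨z, hz⟩ := i.surjective s
  refine ⟨_, _, inferInstance, geomPoint z ≫ i, ?_, (ConcreteCategory.isIso_iff_bijective _).1 ?_⟩
  · rw [Scheme.Hom.comp_apply, geomPoint_apply, hz]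
  · exact (NatIso.isIso_map_iff (stalkPullIso i (geomPoint z)) _).2
      (inferInstanceAs (IsIso ((EtCoh.stalk (geomPoint z)).map _)))

/-- Cohomology is invariant under universal homeomorphisms. -/
theorem Hpull_bijective_univHomeo [PreservesFiniteLimits (EtCoh.pull i)] (F : EtCoh.Ab X) (q : ℕ) :
    Function.Bijective (EtCore.Hpull i F q) := by
  have := isIso_unit_univHomeo i F
  have h1 := HofPush_bijective i ((EtCoh.pull i).obj F) (fun p hp => isZero_Rpush i _ p hp) q
  have h2 : Function.Bijective ((Ext.mk₀ ((EtCoh.pullPushAdj i).unit.app F)).postcomp (EtCoh.const X ℤ) (add_zero q)) := by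
    refine Function.bijective_iff_has_inverse.2
      ⟨fun x => x.comp (Ext.mk₀ (inv ((EtCoh.pullPushAdj i).unit.app F))) (add_zero q), fun x => ?_, fun x => ?_⟩
    · show (x.comp (Ext.mk₀ ((EtCoh.pullPushAdj i).unit.app F)) (add_zero q)).comp
        (Ext.mk₀ (inv ((EtCoh.pullPushAdj i).unit.app F))) (add_zero q) = x
      rw [Ext.comp_assoc_of_third_deg_zero, Ext.mk₀_comp_mk₀, IsIso.hom_inv_id, Ext.comp_mk₀_id]
    · show (x.comp (Ext.mk₀ (inv ((EtCoh.pullPushAdj i).unit.app F))) (add_zero q)).comp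
        (Ext.mk₀ ((EtCoh.pullPushAdj i).unit.app F)) (add_zero q) = x
      rw [Ext.comp_assoc_of_third_deg_zero, Ext.mk₀_comp_mk₀, IsIso.inv_hom_id, Ext.comp_mk₀_id]
  have h3 : ∀ x, EtCore.Hpull i F q x = EtLim.HofPush i ((EtCoh.pull i).obj F) q
      (x.comp (Ext.mk₀ ((EtCoh.pullPushAdj i).unit.app F)) (add_zero q)) := fun x => by
    show (Ext.mk₀ (EtCore.pullConst i ℤ).inv).comp (x.mapExactFunctor (EtCoh.pull i)) (zero_add q) =
      ((Ext.mk₀ (EtCore.pullConst i ℤ).inv).comp
        ((x.comp (Ext.mk₀ ((EtCoh.pullPushAdj i).unit.app F)) (add_zero q)).mapExactFunctor (EtCoh.pull i))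
          (zero_add q)).comp (Ext.mk₀ ((EtCoh.pullPushAdj i).counit.app ((EtCoh.pull i).obj F))) (add_zero q)
    rw [Ext.mapExactFunctor_comp, Ext.mapExactFunctor_mk₀, Ext.comp_assoc_of_third_deg_zero,
      Ext.comp_assoc_of_third_deg_zero, Ext.mk₀_comp_mk₀, Adjunction.left_triangle_components, Ext.comp_mk₀_id]
  rw [show ⇑(EtCore.Hpull i F q) = _ from funext h3]
  exact h1.comp h2

end Groth.EtaleBase.InjCoh
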