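import Groth.Agent.Pi1Hensel.SepClosed
import Groth.Prelude.Def_EtBase
import Mathlib.AlgebraicGeometry.FunctionField
import Mathlib.FieldTheory.IsSepClosed

/-!
Local rings of normal schemes with separably closed function field.
-/

set_option autoImplicit false

universe u

open AlgebraicGeometry Polynomial

namespace Groth.EtaleBase.NormalEt

lemma isSepClosed_of_ringEquiv {k k' : Type u} [Field k] [Field k'] [IsSepClosed k] (e : k ≃+* k') :
    IsSepClosed k' := by
  refine IsSepClosed.of_exists_root _ fun p hp hirr hsep => ?_
  obtain ⟨x, hx⟩ := IsSepClosed.exists_root (p.map e.symm.toRingHom)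
    (by rw [degree_map_eq_of_injective e.symm.injective]; exact (degree_pos_of_irreducible hirr).ne') hsep.map
  refine ⟨e x, e.symm.injective ?_⟩
  rw [map_zero]
  show e.symm.toRingHom (p.eval (e x)) = 0
  rw [← Polynomial.eval_map_apply, show e.symm.toRingHom (e x) = x from e.symm_apply_apply x]
  exact hx

theorem stalk_strictlyHenselian {X : Scheme.{u}} [IsIntegral X]
    (hN : ∀ x : X, IsIntegrallyClosed (X.presheaf.stalk x)) [IsSepClosed X.functionField] (x : X) :
    EtCoh.IsStrictlyHenselianLocalRing (X.presheaf.stalk x) := by
  have := hN x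
  have : IsSepClosed (FractionRing (X.presheaf.stalk x)) :=
    isSepClosed_of_ringEquiv (FractionRing.algEquiv (X.presheaf.stalk x) X.functionField).symm.toRingEquiv
  exact ⟨Groth.Pi1Hensel.henselianLocalRing _, Groth.Pi1Hensel.isSepClosed_residueField _⟩

end Groth.EtaleBase.NormalEt
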