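import Groth.Agent.EtaleBase.ConnectedFibres
import Groth.Agent.VarietyBC.Components
import Mathlib.AlgebraicGeometry.Geometrically.Connected

/-!
Flat quasi-compact maps with connected geometric fibres; extensions of separably closed fields.
-/

set_option autoImplicit false

universe u

open CategoryTheory CategoryTheory.Limits AlgebraicGeometry Opposite

namespace Groth.EtaleBase.ConnFib

variable {T S : Scheme.{u}} (f : T ⟶ S)

lemma surjective_of_connected
    (hc : ∀ (Ω : Type u) [Field Ω] [IsAlgClosed Ω] (s : Spec (CommRingCat.of Ω) ⟶ S),
      ConnectedSpace ↥(pullback f s)) : Surjective f := by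
  refine ⟨fun y => ?_⟩
  let K := AlgebraicClosure (S.residueField y)
  let s : Spec (CommRingCat.of K) ⟶ S :=
    Spec.map (CommRingCat.ofHom (algebraMap (S.residueField y) K)) ≫ S.fromSpecResidueField y
  have := hc K s
  obtain ⟨z⟩ : Nonempty ↥(pullback f s) := this.toNonempty
  refine ⟨(pullback.fst f s).base z, ?_⟩
  refine Eq.trans ?_ (Scheme.fromSpecResidueField_apply y ((Spec.map (CommRingCat.ofHom (algebraMap (S.residueField y) K))).base
    ((pullback.snd f s).base z)))
  exact congrArg (fun m : pullback f s ⟶ S => m.base z) pullback.condition

lemma isQuotientMap_snd_of_flat [Flat f] [QuasiCompact f] [Surjective f] (S' : Scheme.{u}) (g : S' ⟶ S) :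
    Topology.IsQuotientMap (pullback.snd f g).base :=
  Flat.isQuotientMap_of_surjective _

/-- Global sections descend along flat quasi-compact maps with connected geometric fibres. -/
theorem un_top_bijective_of_flat [Flat f] [QuasiCompact f]
    (hc : ∀ (Ω : Type u) [Field Ω] [IsAlgClosed Ω] (s : Spec (CommRingCat.of Ω) ⟶ S),
      ConnectedSpace ↥(pullback f s)) (F : EtCoh.Ab S) :
    Function.Bijective (un f F (EtCoh.top S)) :=
  have := surjective_of_connected f hc
  un_top_bijective f F hc (isQuotientMap_snd_of_flat f)

/-- Field extensions of a separably closed field are geometrically connected. -/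
lemma geometricallyConnected_field {k K : Type u} [Field k] [IsSepClosed k] [Field K] [Algebra k K] :
    GeometricallyConnected (Spec.map (CommRingCat.ofHom (algebraMap k K))) := by
  let : (Spec (CommRingCat.of K)).Over (Spec (CommRingCat.of k)) :=
    ⟨Spec.map (CommRingCat.ofHom (algebraMap k K))⟩
  have : ConnectedSpace (Curv2.bc k (Spec (CommRingCat.of K)) k) := by
    have : IsIso (Spec.map (CommRingCat.ofHom (algebraMap k k))) := by
      rw [Algebra.algebraMap_self, CommRingCat.ofHom_id]
      infer_instance
    have : ConnectedSpace (Spec (CommRingCat.of K)) := inferInstance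
    exact ((asIso (pullback.fst _ _ : Curv2.bc k (Spec (CommRingCat.of K)) k ⟶ _)).hom.homeomorph.connectedSpace_iff).2 this
  exact Groth.VarietyBC.geometricallyConnected_of_connectedSpace_bc (k := k) (X := Spec (CommRingCat.of K)) k

/-- Invariance of global sections under extensions of a separably closed field. -/
theorem un_top_bijective_field {k K : Type u} [Field k] [IsSepClosed k] [Field K] [Algebra k K]
    {S : Scheme.{u}} (a : S ⟶ Spec (CommRingCat.of k)) (F : EtCoh.Ab S) :
    Function.Bijective (un (pullback.fst a (Spec.map (CommRingCat.ofHom (algebraMap k K)))) F (EtCoh.top S)) := by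
  let q := Spec.map (CommRingCat.ofHom (algebraMap k K))
  have : GeometricallyConnected q := geometricallyConnected_field
  have : Flat q := by
    rw [HasRingHomProperty.Spec_iff (P := @Flat)]
    exact RingHom.flat_algebraMap_iff.2 inferInstance
  have : GeometricallyConnected (pullback.fst a q) := inferInstance
  exact un_top_bijective_of_flat _ (fun Ω _ _ s => this.geometrically_connectedSpace _ _ _ (.of_hasPullback _ _)) F

end Groth.EtaleBase.ConnFib
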