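import Groth.Agent.EtaleBase.ExtAdj
import Groth.Agent.EtaleBase.ExtZeroProps
import Groth.Agent.EtaleBase.PullStalk
import Groth.Prelude.Def_EtLim
import Mathlib.CategoryTheory.Sites.LeftExact

/-!
Injective étale sheaves, continuity of composition with an étale morphism, Ext and inverse images.
-/

set_option autoImplicit false

universe u

open CategoryTheory CategoryTheory.Limits CategoryTheory.Abelian AlgebraicGeometry Opposite

namespace Groth.EtaleBase.InjCoh

variable {X Y : Scheme.{u}}

instance push_preservesInjectiveObjects (f : X ⟶ Y) : (EtCoh.push f).PreservesInjectiveObjects :=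
  Functor.preservesInjectiveObjects_of_adjunction_of_preservesMonomorphisms (EtCoh.pullPushAdj f)

set_option backward.isDefEq.respectTransparency.types false in
/-- Composition with an étale morphism is continuous on small étale sites. -/
theorem jCont (j : X ⟶ Y) [hj : AlgebraicGeometry.Etale j] : EtShriek.JCont j := by
  refine Functor.isContinuous_of_coverPreserving ⟨?_⟩ (EtShriek.coverPreserving_compEtale j)
  intro ℱ Z T x hx Y₁ Y₂ W f₁ f₂ g₁ g₂ hg₁ hg₂ e
  have e₁ : f₁.left ≫ Y₁.hom ≫ j = W.hom := MorphismProperty.Over.w f₁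
  have hW : EtCoh.etaleMP ((f₁.left ≫ Y₁.hom) ≫ j) := by rw [Category.assoc, e₁]; exact W.prop
  let W' : X.Etale := MorphismProperty.Over.mk ⊤ (f₁.left ≫ Y₁.hom)
    (EtCoh.etaleMP.of_postcomp (W' := EtCoh.etaleMP) (f₁.left ≫ Y₁.hom) j hj hW)
  have e₂ : f₁.left ≫ g₁.left = f₂.left ≫ g₂.left := congrArg (fun m => m.left) e
  let h₁ : W' ⟶ Y₁ := MorphismProperty.Over.homMk f₁.left rfl
  let h₂ : W' ⟶ Y₂ := MorphismProperty.Over.homMk f₂.left (by
    change f₂.left ≫ Y₂.hom = f₁.left ≫ Y₁.hom
    exact (congrArg (f₂.left ≫ ·) (MorphismProperty.Over.w g₂)).symm.trans ((Category.assoc _ _ _).symm.trans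
      ((congrArg (· ≫ Z.hom) e₂.symm).trans ((Category.assoc _ _ _).trans
        (congrArg (f₁.left ≫ ·) (MorphismProperty.Over.w g₁))))))
  let ι : (EtShriek.compEtale j).obj W' ≅ W :=
    MorphismProperty.Over.isoMk (Iso.refl _) (by
      change 𝟙 _ ≫ W.hom = (f₁.left ≫ Y₁.hom) ≫ j
      rw [Category.id_comp, Category.assoc, e₁])
  have k₁ : ι.hom ≫ f₁ = (EtShriek.compEtale j).map h₁ :=
    MorphismProperty.Over.Hom.ext (Category.id_comp _)
  have k₂ : ι.hom ≫ f₂ = (EtShriek.compEtale j).map h₂ :=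
    MorphismProperty.Over.Hom.ext (Category.id_comp _)
  refine (ℱ.obj.mapIso ι.op).toEquiv.injective ?_
  change ℱ.obj.map ι.hom.op (ℱ.obj.map f₁.op (x g₁ hg₁)) = ℱ.obj.map ι.hom.op (ℱ.obj.map f₂.op (x g₂ hg₂))
  rw [← Functor.map_comp_apply, ← Functor.map_comp_apply, ← op_comp, ← op_comp, k₁, k₂]
  exact hx h₁ h₂ hg₁ hg₂ (MorphismProperty.Over.Hom.ext e₂)

attribute [local instance] jCont

/-- Inverse image along an étale morphism preserves injectives. -/
lemma pull_injective (j : X ⟶ Y) [AlgebraicGeometry.Etale j] (I : EtCoh.Ab Y) [Injective I] :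
    Injective ((EtCoh.pull j).obj I) := by
  have := extZero_preservesMonomorphisms j
  have : (EtShriek.restrAlong j).PreservesInjectiveObjects :=
    Functor.preservesInjectiveObjects_of_adjunction_of_preservesMonomorphisms (EtShriek.extZeroAdj j)
  exact Injective.of_iso ((pullRestrIso j).app I).symm
    (inferInstanceAs (Injective ((EtShriek.restrAlong j).obj I)))

/-- Cohomology of an injective sheaf vanishes. -/
lemma H_injective (I : EtCoh.Ab X) [Injective I] (q : ℕ) (hq : 1 ≤ q) : Subsingleton (EtCoh.H X I q) := by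
  obtain ⟨k, rfl⟩ := Nat.exists_eq_succ_of_ne_zero (by omega : q ≠ 0)
  exact Ext.subsingleton_of_injective _ _ k

/-- Higher direct images of an injective sheaf vanish. -/
lemma Rpush_injective (f : X ⟶ Y) (I : EtCoh.Ab X) [Injective I] (q : ℕ) (hq : 1 ≤ q) :
    IsZero ((EtCoh.Rpush f q).obj I) := by
  obtain ⟨k, rfl⟩ := Nat.exists_eq_succ_of_ne_zero (by omega : q ≠ 0)
  exact (EtCoh.push f).isZero_rightDerived_obj_injective_succ k I

/-- An injective sheaf is an injective presheaf. -/
lemma injective_presheaf (I : EtCoh.Ab X) [Injective I] : Injective I.obj :=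
  (Functor.preservesInjectiveObjects_of_adjunction_of_preservesMonomorphisms
    (sheafificationAdjunction X.smallEtaleTopology AddCommGrpCat.{u + 1})).injective_obj inferInstance

/-- Precomposition with an isomorphism is bijective on Ext. -/
lemma precomp_iso_bijective {C : Type*} [Category C] [Abelian C] [HasExt.{u + 1} C] {A B : C} (e : A ≅ B)
    (F : C) (n : ℕ) : Function.Bijective fun x : Ext B F n => (Ext.mk₀ e.hom).comp x (zero_add n) := by
  refine Function.bijective_iff_has_inverse.2 ⟨fun x => (Ext.mk₀ e.inv).comp x (zero_add n), fun x => ?_, fun x => ?_⟩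
  · simp only [Ext.mk₀_comp_mk₀_assoc, e.inv_hom_id, Ext.mk₀_id_comp]
  · simp only [Ext.mk₀_comp_mk₀_assoc, e.hom_inv_id, Ext.mk₀_id_comp]

/-- Cohomology of a direct image with vanishing higher direct images. -/
theorem HofPush_bijective (f : X ⟶ Y) [PreservesFiniteLimits (EtCoh.pull f)] (F : EtCoh.Ab X)
    (hR : ∀ q : ℕ, 0 < q → IsZero ((EtCoh.Rpush f q).obj F)) (p : ℕ) :
    Function.Bijective (EtLim.HofPush f F p) := by
  have : PreservesLimitsOfSize.{0, 0} (EtCoh.push f) := (EtCoh.pullPushAdj f).rightAdjoint_preservesLimits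
  have : PreservesFiniteLimits (EtCoh.push f) := PreservesLimitsOfSize.preservesFiniteLimits _
  have hF : Groth.CohFin.RightAcyclic (EtCoh.push f) F := fun j => hR (j + 1) (Nat.succ_pos j)
  have h1 := ExtAdj.adjExt_bijective (EtCoh.pullPushAdj f) (EtCoh.const Y ℤ) p F hF
  have h2 : Function.Bijective fun e : Ext ((EtCoh.pull f).obj (EtCoh.const Y ℤ)) F p =>
      (Ext.mk₀ (EtCore.pullConst f ℤ).inv).comp e (zero_add p) :=
    precomp_iso_bijective (EtCore.pullConst f ℤ).symm F p
  have h3 : ∀ x, EtLim.HofPush f F p x = (Ext.mk₀ (EtCore.pullConst f ℤ).inv).comp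
      (ExtAdj.adjExt (EtCoh.pullPushAdj f) (EtCoh.const Y ℤ) F p x) (zero_add p) := fun x =>
    Ext.comp_assoc _ _ _ (zero_add p) (add_zero p) (by omega : 0 + p + 0 = p)
  rw [show ⇑(EtLim.HofPush f F p) = _ from funext h3]
  exact h2.comp h1

end Groth.EtaleBase.InjCoh
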