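import Groth.Agent.EtaleBase.PushEssImage
import Mathlib.AlgebraicGeometry.Morphisms.Integral

/-!
Germs of direct images along integral morphisms and of inverse images.
-/

set_option autoImplicit false

universe u

open CategoryTheory CategoryTheory.Limits AlgebraicGeometry Opposite

namespace Groth.EtaleBase

variable {X Y : Scheme.{u}} (f : X ⟶ Y)

set_option backward.isDefEq.respectTransparency.types false in
/-- Algebraically closed points lift through any point of the fibre of an integral morphism. -/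
lemma exists_lift_point [IsIntegralHom f] {Ω : Type u} [Field Ω] [IsAlgClosed Ω]
    (η : Spec (CommRingCat.of Ω) ⟶ Y) (z : X) (hz : f.base z = η.base default) :
    ∃ ξ : Spec (CommRingCat.of Ω) ⟶ X, ξ ≫ f = η ∧ ξ.base default = z := by
  obtain ⟨z', hz'1, -⟩ := Scheme.Pullback.exists_preimage_pullback (f := f) (g := η) z default hz
  let q := pullback.snd f η
  have : IsAffine (pullback f η) := isAffine_of_isAffineHom q
  let P := pullback f η
  obtain ⟨φ, hφ⟩ := Spec.map_surjective (P.isoSpec.inv ≫ q : Spec Γ(P, ⊤) ⟶ _)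
  have hint : IsIntegralHom (Spec.map φ) := hφ ▸ inferInstance
  let _ : Algebra Ω Γ(P, ⊤) := φ.hom.toAlgebra
  have : Algebra.IsIntegral Ω Γ(P, ⊤) :=
    algebraMap_isIntegral_iff.1 (IsIntegralHom.SpecMap_iff.1 hint)
  let Q : Ideal Γ(P, ⊤) := (P.isoSpec.hom.base z').asIdeal
  have : Q.IsPrime := (P.isoSpec.hom.base z').isPrime
  have hbij := IsAlgClosed.algebraMap_bijective_of_isIntegral (k := Ω) (K := Γ(P, ⊤) ⧸ Q)
  let e := AlgEquiv.ofBijective (Algebra.ofId Ω (Γ(P, ⊤) ⧸ Q)) hbij
  let l : Γ(P, ⊤) →ₐ[Ω] Ω := e.symm.toAlgHom.comp (Ideal.Quotient.mkₐ Ω Q)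
  have hl : RingHom.ker l = Q := by
    ext x
    show e.symm (Ideal.Quotient.mk Q x) = 0 ↔ x ∈ Q
    rw [EmbeddingLike.map_eq_zero_iff, Ideal.Quotient.eq_zero_iff_mem]
  refine ⟨Spec.map (CommRingCat.ofHom l.toRingHom) ≫ P.isoSpec.inv ≫ pullback.fst f η, ?_, ?_⟩
  · rw [Category.assoc, Category.assoc, pullback.condition, ← Category.assoc P.isoSpec.inv, ← hφ,
      ← Category.assoc, ← Spec.map_comp]
    exact (congrArg (· ≫ η) ((congrArg Spec.map (CommRingCat.hom_ext l.comp_algebraMap)).trans
      (Spec.map_id _))).trans (Category.id_comp η)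
  · have hp : (Spec.map (CommRingCat.ofHom l.toRingHom)).base default = P.isoSpec.hom.base z' := by
      apply PrimeSpectrum.ext
      refine (congrArg (Ideal.comap l.toRingHom) (?_ : _ = (⊥ : Ideal Ω))).trans hl
      exact Ideal.eq_bot_of_prime (h := PrimeSpectrum.isPrime _) _
    rw [Scheme.Hom.comp_apply, Scheme.Hom.comp_apply, hp,
      ← Scheme.Hom.comp_apply P.isoSpec.hom, Iso.hom_inv_id]
    exact hz'1

section lift

variable {Ω : Type u} [Field Ω] [IsSepClosed Ω] {η : Spec (CommRingCat.of Ω) ⟶ Y}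

set_option backward.isDefEq.respectTransparency.types false in
/-- The lift to `V ×_Y X` of a lift to `V` of `η` and a point `ξ` over `η`. -/
noncomputable def pushLift (ξ : Spec (CommRingCat.of Ω) ⟶ X) (h : ξ ≫ f = η) (V : Y.Etale)
    (s : (Scheme.pointSmallEtale η).fiber.obj V) :
    (Scheme.pointSmallEtale ξ).fiber.obj ((EtCoh.bc f).obj V) :=
  Over.homMk (pullback.lift s.left ξ ((Over.w s).trans h.symm)) (pullback.lift_snd _ _ _)

set_option backward.isDefEq.respectTransparency.types false in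
lemma pushLift_fst (ξ : Spec (CommRingCat.of Ω) ⟶ X) (h : ξ ≫ f = η) (V : Y.Etale)
    (s : (Scheme.pointSmallEtale η).fiber.obj V) :
    (pushLift f ξ h V s).left ≫ pullback.fst V.hom f = s.left :=
  pullback.lift_fst _ _ _

set_option backward.isDefEq.respectTransparency.types false in
lemma pushLift_map (ξ : Spec (CommRingCat.of Ω) ⟶ X) (h : ξ ≫ f = η) {V W : Y.Etale} (j : W ⟶ V)
    (s : (Scheme.pointSmallEtale η).fiber.obj W) :
    (Scheme.pointSmallEtale ξ).fiber.map ((EtCoh.bc f).map j) (pushLift f ξ h W s) =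
      pushLift f ξ h V ((Scheme.pointSmallEtale η).fiber.map j s) := by
  apply Over.OverMorphism.ext
  apply pullback.hom_ext
  · exact ((Category.assoc _ _ _).trans ((congrArg (_ ≫ ·) (pullback.lift_fst _ _ _)).trans
      ((Category.assoc _ _ _).symm.trans (congrArg (· ≫ j.left) (pullback.lift_fst _ _ _))))).trans
        (pullback.lift_fst _ _ _).symm
  · exact ((Category.assoc _ _ _).trans ((congrArg (_ ≫ ·) (pullback.lift_snd _ _ _)).trans
      (pullback.lift_snd _ _ _))).trans (pullback.lift_snd _ _ _).symm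

end lift

variable {Ω : Type u} [Field Ω] [IsAlgClosed Ω] (η : Spec (CommRingCat.of Ω) ⟶ Y)

set_option backward.isDefEq.respectTransparency.types false in
/-- The points of `V ×_Y X` over a lift of `η` are the lifts of the points over `η`. -/
lemma exists_pushLift [IsIntegralHom f] (V : Y.Etale) (s : (Scheme.pointSmallEtale η).fiber.obj V)
    (z : ↥(pullback V.hom f)) (hz : (pullback.fst V.hom f).base z = fiberPoint η s) :
    ∃ (ξ : Spec (CommRingCat.of Ω) ⟶ X) (h : ξ ≫ f = η),
      fiberPoint ξ (pushLift f ξ h V s) = z := by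
  have : IsIntegralHom (pullback.fst V.hom f) := MorphismProperty.pullback_fst _ _ ‹_›
  obtain ⟨l, hl, hlz⟩ := exists_lift_point (pullback.fst V.hom f) s.left z hz
  have h : (l ≫ pullback.snd V.hom f) ≫ f = η := by
    rw [Category.assoc, ← pullback.condition, reassoc_of% hl]
    exact Over.w s
  refine ⟨l ≫ pullback.snd V.hom f, h, ?_⟩
  have : l = (pushLift f (l ≫ pullback.snd V.hom f) h V s).left := by
    apply pullback.hom_ext
    · exact hl.trans (pullback.lift_fst _ _ _).symm
    · exact (pullback.lift_snd _ _ _).symm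
  exact (congrArg (fun m : Spec (CommRingCat.of Ω) ⟶ pullback V.hom f => m.base default)
    this.symm).trans hlz

set_option backward.isDefEq.respectTransparency.types false in
/-- A germ of a direct image vanishes as soon as all its values at points over `η` vanish. -/
lemma germ_push_eq_zero [IsIntegralHom f] (F : EtCoh.Ab X) (V : Y.Etale)
    (s : (Scheme.pointSmallEtale η).fiber.obj V) (σ : F.obj.obj (op ((EtCoh.bc f).obj V)))
    (hσ : ∀ (ξ : Spec (CommRingCat.of Ω) ⟶ X) (h : ξ ≫ f = η),
      germ ξ F ((EtCoh.bc f).obj V) (pushLift f ξ h V s) σ = 0) :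
    germ η ((EtCoh.push f).obj F) V s σ = 0 := by
  rw [germ_eq_zero_iff_mem]
  let fV : pullback V.hom f ⟶ V.left := pullback.fst _ _
  have : IsIntegralHom fV := MorphismProperty.pullback_fst _ _ ‹_›
  have hclosed : IsClosed (fV.base '' (vanishSet F _ σ)ᶜ) :=
    fV.isClosedMap _ (isOpen_vanishSet F _ σ).isClosed_compl
  let O : V.left.Opens := ⟨(fV.base '' (vanishSet F _ σ)ᶜ)ᶜ, hclosed.isOpen_compl⟩
  have hO : fiberPoint η s ∈ O := by
    rintro ⟨z, hz, hzt⟩
    obtain ⟨ξ, h, rfl⟩ := exists_pushLift f η V s z hzt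
    exact hz ((germ_eq_zero_iff_mem ξ F _ σ _).1 (hσ ξ h))
  let W : Y.Etale := Scheme.Etale.mk (O.ι ≫ V.hom)
  let j : W ⟶ V := MorphismProperty.Over.homMk O.ι rfl
  refine ⟨W, j, ⟨⟨_, hO⟩, rfl⟩, ?_⟩
  show F.obj.map ((EtCoh.bc f).map j).op σ = 0
  rw [map_eq_zero_iff_range_subset]
  rintro _ ⟨w, rfl⟩
  by_contra hn
  have h1 : ((EtCoh.bc f).map j).left ≫ fV = pullback.fst (O.ι ≫ V.hom) f ≫ O.ι :=
    pullback.lift_fst _ _ _
  exact ((pullback.fst (O.ι ≫ V.hom) f).base w).2 ⟨_, hn,
    congrArg (fun m : pullback (O.ι ≫ V.hom) f ⟶ V.left => m.base w) h1⟩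

omit [IsAlgClosed Ω]

variable [IsSepClosed Ω] (ξ : Spec (CommRingCat.of Ω) ⟶ X)

set_option backward.isDefEq.respectTransparency.types false in
/-- Evaluation of the stalk of a direct image at a point over the geometric point. -/
noncomputable def evPush (F : EtCoh.Ab X) :
    (EtCoh.stalk (ξ ≫ f)).obj ((EtCoh.push f).obj F) ⟶ (EtCoh.stalk ξ).obj F :=
  (comapPointIso f ξ).hom.sheafFiber.app _ ≫ stalkCounit f ξ F

set_option backward.isDefEq.respectTransparency.types false in
lemma evPush_germ (F : EtCoh.Ab X) (V : Y.Etale)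
    (s : (Scheme.pointSmallEtale (ξ ≫ f)).fiber.obj V) (σ : F.obj.obj (op ((EtCoh.bc f).obj V))) :
    evPush f ξ F (germ (ξ ≫ f) ((EtCoh.push f).obj F) V s σ) =
      germ ξ F _ (pushLift f ξ rfl V s) σ := by
  have h1 : germ (ξ ≫ f) ((EtCoh.push f).obj F) V s ≫ (comapPointIso f ξ).hom.sheafFiber.app _ =
      (comapPt f ξ).toPresheafFiber V ((bcFiberEquiv f ξ V).symm s) ((EtCoh.push f).obj F).obj := by
    exact colimit.ι_desc _ _
  show stalkCounit f ξ F ((germ (ξ ≫ f) ((EtCoh.push f).obj F) V s ≫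
    (comapPointIso f ξ).hom.sheafFiber.app _) σ) = _
  rw [h1]
  exact ConcreteCategory.congr_hom (toPresheafFiber_stalkCounit f ξ F V _) σ

set_option backward.isDefEq.respectTransparency.types false in
/-- The stalk comparison of inverse images on germs. -/
lemma stalkPullIso_germ (P : EtCoh.Ab Y) (V : Y.Etale)
    (s : (Scheme.pointSmallEtale (ξ ≫ f)).fiber.obj V) (σ : P.obj.obj (op V)) :
    (stalkPullIso f ξ).hom.app P (germ (ξ ≫ f) P V s σ) =
      germ ξ ((EtCoh.pull f).obj P) ((EtCoh.bc f).obj V) (pushLift f ξ rfl V s)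
        (((EtCoh.pullPushAdj f).unit.app P).hom.app (op V) σ) := by
  have key : (stalkPullIso f ξ).hom.app P =
      (EtCoh.stalk (ξ ≫ f)).map ((EtCoh.pullPushAdj f).unit.app P) ≫
        evPush f ξ ((EtCoh.pull f).obj P) := by
    have h1 : ((EtCoh.pullPushAdj f).unit.app P) = (EtCoh.pullPushAdj f).unit.app P := rfl
    unfold evPush stalkCounit
    rw [← Category.assoc, ← Category.assoc]
    erw [(comapPointIso f ξ).hom.sheafFiber.naturality]
    erw [Category.assoc ((comapPointIso f ξ).hom.sheafFiber.app P)]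
    erw [(GrothendieckTopology.Point.sheafFiberComapIso (Scheme.pointSmallEtale ξ) (EtCoh.bc f)
      (EtCoh.coverPreserving_bc f) AddCommGrpCat.{u + 1}).hom.naturality]
    rw [Category.assoc, Category.assoc]
    show (stalkPullIso f ξ).hom.app P =
      (comapPointIso f ξ).hom.sheafFiber.app P ≫
        (GrothendieckTopology.Point.sheafFiberComapIso (Scheme.pointSmallEtale ξ) (EtCoh.bc f)
          (EtCoh.coverPreserving_bc f) AddCommGrpCat.{u + 1}).hom.app P ≫
          (EtCoh.stalk ξ).map ((EtCoh.pull f).map ((EtCoh.pullPushAdj f).unit.app P)) ≫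
            (EtCoh.stalk ξ).map ((EtCoh.pullPushAdj f).counit.app ((EtCoh.pull f).obj P))
    rw [← Functor.map_comp]
    erw [(EtCoh.pullPushAdj f).left_triangle_components P]
    rw [CategoryTheory.Functor.map_id]
    erw [Category.comp_id]
    rfl
  rw [key, ConcreteCategory.comp_apply]
  erw [germ_map]
  exact evPush_germ f ξ _ V s _

end Groth.EtaleBase
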