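import Groth.Prelude.Def_EtCore
import Mathlib.CategoryTheory.Adjunction.Unique

/-!
The canonical isomorphism of constant sheaves is compatible with composition.
-/

set_option autoImplicit false

universe u

open CategoryTheory CategoryTheory.Limits AlgebraicGeometry Opposite

namespace Groth.EtaleBase

variable {X Y Z : Scheme.{u}}

/-- The adjunction defining `pullConstIso`. -/
noncomputable abbrev pcAdj (f : X ⟶ Y) :
    constantSheaf Y.smallEtaleTopology AddCommGrpCat.{u + 1} ⋙ EtCoh.pull f ⊣ EtCore.gsec X :=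
  ((EtCore.constAdj Y).comp (EtCoh.pullPushAdj f)).ofNatIsoRight (EtCore.pushGsecIso f)

lemma pcAdj_homEquiv (f : X ⟶ Y) (M : AddCommGrpCat.{u + 1}) {G : EtCoh.Ab X}
    (ψ : (EtCoh.pull f).obj ((constantSheaf Y.smallEtaleTopology AddCommGrpCat.{u + 1}).obj M) ⟶ G) :
    (pcAdj f).homEquiv M G ψ = (EtCore.constAdj Y).homEquiv M _ ((EtCoh.pullPushAdj f).homEquiv _ G ψ) ≫
      (EtCore.pushGsecIso f).hom.app G := by
  rw [pcAdj, Adjunction.homEquiv_ofNatIsoRight_apply, Adjunction.comp_homEquiv]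
  rfl

lemma homEquiv_pullConstIso_inv (f : X ⟶ Y) (M : AddCommGrpCat.{u + 1}) {G : EtCoh.Ab X}
    (ψ : (EtCoh.pull f).obj ((constantSheaf Y.smallEtaleTopology AddCommGrpCat.{u + 1}).obj M) ⟶ G) :
    (EtCore.constAdj X).homEquiv M G ((EtCore.pullConstIso f).inv.app M ≫ ψ) =
      (pcAdj f).homEquiv M G ψ := by
  rw [Adjunction.homEquiv_naturality_right, Adjunction.homEquiv_unit (adj := pcAdj f)]
  congr 1
  exact Adjunction.homEquiv_leftAdjointUniq_hom_app (EtCore.constAdj X) (pcAdj f) M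

set_option backward.isDefEq.respectTransparency.types false in
/-- Compatibility of the constant sheaf isomorphisms with composition. -/
theorem pullConstIso_comp (f : X ⟶ Y) (g : Y ⟶ Z) (M : AddCommGrpCat.{u + 1}) :
    (EtCore.pullConstIso f).inv.app M ≫ (EtCoh.pull f).map ((EtCore.pullConstIso g).inv.app M) ≫
        (EtCore.pullComp f g).inv.app ((constantSheaf Z.smallEtaleTopology AddCommGrpCat.{u + 1}).obj M) =
      (EtCore.pullConstIso (f ≫ g)).inv.app M := by
  apply ((EtCore.constAdj X).homEquiv M _).injective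
  rw [homEquiv_pullConstIso_inv, pcAdj_homEquiv, Adjunction.homEquiv_naturality_left,
    homEquiv_pullConstIso_inv, pcAdj_homEquiv,
    ← Category.comp_id ((EtCore.pullConstIso (f ≫ g)).inv.app M), homEquiv_pullConstIso_inv, pcAdj_homEquiv]
  let A := (constantSheaf Z.smallEtaleTopology AddCommGrpCat.{u + 1}).obj M
  let comp' := ((EtCoh.pullPushAdj g).comp (EtCoh.pullPushAdj f)).ofNatIsoRight (EtCoh.pushComp g f)
  have h1 : comp'.homEquiv A _ ((EtCore.pullComp f g).inv.app A) = (EtCoh.pullPushAdj (f ≫ g)).unit.app A :=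
    Adjunction.homEquiv_leftAdjointUniq_hom_app comp' (EtCoh.pullPushAdj (f ≫ g)) A
  rw [show comp' = _ from rfl, Adjunction.homEquiv_ofNatIsoRight_apply, Adjunction.comp_homEquiv] at h1
  have h2 := (Iso.eq_comp_inv ((EtCoh.pushComp g f).app _)).2 h1
  let P₀ := (EtCoh.pull (f ≫ g)).obj A
  refine (congrArg (fun z : A ⟶ (EtCoh.push g).obj ((EtCoh.push f).obj P₀) =>
    ((EtCore.constAdj Z).homEquiv M _ z ≫ (EtCore.pushGsecIso g).hom.app ((EtCoh.push f).obj P₀)) ≫
      (EtCore.pushGsecIso f).hom.app P₀) h2).trans ?_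
  refine Eq.trans ?_ (congrArg (fun z : A ⟶ (EtCoh.push (f ≫ g)).obj P₀ =>
    (EtCore.constAdj Z).homEquiv M _ z ≫ (EtCore.pushGsecIso (f ≫ g)).hom.app P₀)
      ((EtCoh.pullPushAdj (f ≫ g)).homEquiv_id A).symm)
  rw [Adjunction.homEquiv_naturality_right, Category.assoc, Category.assoc]
  refine congrArg (CategoryStruct.comp _) ?_
  let P := (EtCoh.pull (f ≫ g)).obj A
  show P.obj.map _ ≫ P.obj.map _ ≫ P.obj.map _ = P.obj.map _
  rw [← Functor.map_comp, ← Functor.map_comp]
  exact congrArg P.obj.map (Quiver.Hom.unop_inj ((EtCore.bcTopIsTerminal (f ≫ g)).hom_ext _ _))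

end Groth.EtaleBase
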