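import Groth.Agent.EtaleBase.StrictSection

/-!
Stalks at the closed point of the spectrum of a strictly henselian local ring.
-/

set_option autoImplicit false

universe u

open CategoryTheory CategoryTheory.Limits AlgebraicGeometry Opposite

namespace Groth.EtaleBase

set_option backward.isDefEq.respectTransparency.types false in
lemma bijective_germ_closedGeom (R : Type u) [CommRing R] [HenselianLocalRing R]
    [IsSepClosed (IsLocalRing.ResidueField R)] (F : EtCoh.Ab (Spec (CommRingCat.of R))) :
    Function.Bijective (germ (closedGeom R) F (EtCoh.top (Spec (CommRingCat.of R)))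
      (Over.homMk (closedGeom R) (Category.comp_id _))) := by
  let ξ := closedGeom R
  constructor
  · rw [injective_iff_map_eq_zero]
    intro σ hσ
    obtain ⟨V, g, t, -, hz⟩ := (germ_eq_zero_iff ξ F _ _ σ).1 hσ
    obtain ⟨s, hs, -⟩ := exists_section_of_point R V.hom t.left (Over.w t)
    let j : EtCoh.top (Spec (CommRingCat.of R)) ⟶ V := MorphismProperty.Over.homMk s hs
    have hj : j ≫ g = 𝟙 _ := by
      refine MorphismProperty.Over.Hom.ext ?_
      show s ≫ g.left = 𝟙 _
      have h : g.left ≫ 𝟙 _ = V.hom := Over.w g.hom
      rw [← Category.comp_id g.left]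
      exact (congrArg (s ≫ ·) h).trans hs
    have h2 := congrArg (F.obj.map j.op) hz
    rw [map_zero, ← ConcreteCategory.comp_apply, ← F.obj.map_comp, ← op_comp, hj, op_id,
      F.obj.map_id] at h2
    exact h2
  · intro a
    obtain ⟨U, t, τ, rfl⟩ := germ_surjective ξ F a
    obtain ⟨s, hs, hst⟩ := exists_section_of_point R U.hom t.left (Over.w t)
    let j : EtCoh.top (Spec (CommRingCat.of R)) ⟶ U := MorphismProperty.Over.homMk s hs
    refine ⟨F.obj.map j.op τ, ?_⟩
    refine ((Scheme.pointSmallEtale ξ).toPresheafFiber_w_apply j _ F.obj τ).trans ?_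
    exact congrArg (fun t => germ ξ F U t τ) (Over.OverMorphism.ext hst)

end Groth.EtaleBase
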