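import Groth.Agent.EtaleBase.DisjointGlue
import Groth.Agent.EtaleBase.IntegralCond
import Mathlib.CategoryTheory.Sites.EpiMono

/-!
Direct images along integral morphisms preserve epimorphisms.
-/

set_option autoImplicit false

universe u

open CategoryTheory CategoryTheory.Limits AlgebraicGeometry Opposite

namespace Groth.EtaleBase

variable {X Y : Scheme.{u}}

set_option backward.isDefEq.respectTransparency.types false in
lemma isLocallySurjective_push (f : X ⟶ Y) [IsIntegralHom f] {F G : EtCoh.Ab X} (φ : F ⟶ G)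
    (hφ : Sheaf.IsLocallySurjective φ) : Sheaf.IsLocallySurjective ((EtCoh.push f).map φ) := by
  constructor
  intro V σ
  let B := (EtCoh.bc f).obj V
  have hR : Presheaf.imageSieve φ.hom (U := B) σ ∈ X.smallEtaleTopology B :=
    hφ.imageSieve_mem _
  rw [mem_topology_iff] at hR
  choose W g w hg hw using hR
  choose τ hτ using hg
  let fV : B.left ⟶ V.left := pullback.fst V.hom f
  have : IsIntegralHom fV := inferInstanceAs (IsIntegralHom (pullback.fst V.hom f))
  let π : (∐ fun x => (W x).left) ⟶ B.left := Sigma.desc fun x => (g x).left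
  have : Etale π := IsZariskiLocalAtSource.sigmaDesc fun x => inferInstance
  have hπ : ∀ x, π.base ((Sigma.ι (fun x => (W x).left) x).base (w x)) = x := fun x => by
    rw [← Scheme.Hom.comp_apply, Sigma.ι_desc]
    exact hw x
  rw [mem_topology_iff]
  intro y
  obtain ⟨V', v', hv', h, hh, hy, -⟩ := exists_etale_nbhd_section fV π y
    (fun x _ => ⟨_, hπ x⟩) none (by simp)
  let V₁ : Y.Etale := Scheme.Etale.mk (v' ≫ V.hom)
  let j : V₁ ⟶ V := MorphismProperty.Over.homMk v' rfl
  let B₁ := (EtCoh.bc f).obj V₁
  let l : B₁.left ⟶ pullback fV v' :=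
    pullback.lift ((EtCoh.bc f).map j).left (pullback.fst (v' ≫ V.hom) f) (pullback.lift_fst _ _ _)
  let k : B₁.left ⟶ ∐ fun x => (W x).left := l ≫ h
  have hk : k ≫ π = ((EtCoh.bc f).map j).left := by
    rw [Category.assoc, hh]
    exact pullback.lift_fst _ _ _
  let P := sigmaPiece (fun x => (W x).left) k
  let q : ∀ x, openObj B₁ (P x) ⟶ W x := fun x =>
    MorphismProperty.Over.homMk (sigmaPieceHom (fun x => (W x).left) k x) (by
      have h1 := sigmaPieceHom_comp (fun x => (W x).left) k (fun x => (g x).left) x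
      rw [hk] at h1
      exact (congrArg (sigmaPieceHom _ k x ≫ ·) (Over.w (g x).hom).symm).trans
        (((Category.assoc _ _ _).symm.trans ((congrArg (· ≫ B.hom) h1).trans (Category.assoc _ _ _))).trans
          (congrArg ((P x).ι ≫ ·) (Over.w ((EtCoh.bc f).map j).hom))))
  have hq : ∀ x, q x ≫ g x = openHom B₁ (P x) ≫ (EtCoh.bc f).map j := fun x => by
    refine MorphismProperty.Over.Hom.ext ?_
    have h1 := sigmaPieceHom_comp (fun x => (W x).left) k (fun x => (g x).left) x
    rw [hk] at h1
    exact h1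
  obtain ⟨s, hs⟩ := exists_glue_disjoint B₁ P (sigmaPiece_disjoint _ _) (iSup_sigmaPiece _ _) F
    fun x => F.obj.map (q x).op (τ x)
  refine ⟨V₁, j, ?_⟩
  obtain ⟨y', hy'⟩ := hy
  refine ⟨y', ⟨s, ?_⟩, hy'⟩
  refine ext_disjoint B₁ P (sigmaPiece_disjoint _ _) (iSup_sigmaPiece _ _) G _ _ fun x => ?_
  show G.obj.map (openHom B₁ (P x)).op (φ.hom.app (op B₁) s) =
    G.obj.map (openHom B₁ (P x)).op (G.obj.map ((EtCoh.bc f).map j).op σ)
  rw [← NatTrans.naturality_apply φ.hom, hs, NatTrans.naturality_apply φ.hom, hτ,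
    ← ConcreteCategory.comp_apply, ← G.obj.map_comp, ← op_comp, hq,
    ← ConcreteCategory.comp_apply, ← G.obj.map_comp, ← op_comp]

lemma push_preservesEpimorphisms (f : X ⟶ Y) [IsIntegralHom f] :
    (EtCoh.push f).PreservesEpimorphisms where
  preserves φ _ := by
    have := isLocallySurjective_push f φ ((Sheaf.isLocallySurjective_iff_epi' (A := AddCommGrpCat.{u + 1}) φ).2 ‹_›)
    infer_instance

lemma push_preservesFiniteColimits (f : X ⟶ Y) [IsIntegralHom f] :
    PreservesFiniteColimits (EtCoh.push f) := by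
  have := (EtCoh.pullPushAdj f).isRightAdjoint
  have := push_preservesEpimorphisms f
  have : (EtCoh.push f).Additive := Functor.additive_of_preserves_binary_products _
  have := (EtCoh.push f).preservesHomology_of_preservesEpis_and_kernels
  exact Functor.preservesFiniteColimits_of_preservesHomology _

end Groth.EtaleBase
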