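import Groth.Agent.EtaleBase.Stalks
import Mathlib.CategoryTheory.Sites.Limits
import Mathlib.CategoryTheory.Sites.LocallySurjective
import Mathlib.CategoryTheory.Limits.Types.Filtered
import Mathlib.CategoryTheory.Filtered.Basic
import Mathlib.AlgebraicGeometry.Morphisms.QuasiSeparated
import Mathlib.AlgebraicGeometry.Morphisms.UniversallyOpen

/-!
Sections over a quasi-compact quasi-separated etale scheme of a filtered colimit of sheaves on the
small etale site are the colimit of the sections.
-/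

set_option autoImplicit false

universe u v' u'

open CategoryTheory CategoryTheory.Limits AlgebraicGeometry Opposite

namespace Groth.EtaleBase.FilteredSec

variable {X : Scheme.{u}}

/-- A covering sieve of a quasi-compact object contains finitely many jointly surjective arrows from
affine objects. -/
lemma exists_finite_affine {U : X.Etale} [CompactSpace ↥U.left] {R : Sieve U}
    (hR : R ∈ X.smallEtaleTopology U) :
    ∃ (κ : Type u) (_ : Finite κ) (V : κ → X.Etale) (g : ∀ a, V a ⟶ U),
      (∀ a, R (g a)) ∧ (∀ a, IsAffine (V a).left) ∧ Sieve.ofArrows V g ∈ X.smallEtaleTopology U := by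
  choose W k w hk hw using (mem_topology_iff R).1 hR
  let i := fun x => ((W x).left.affineCover.exists_eq (w x)).choose
  let g : ∀ x, (Scheme.Etale.mk ((W x).left.affineCover.f (i x) ≫ (W x).hom) : X.Etale) ⟶ U :=
    fun x => (MorphismProperty.Over.homMk ((W x).left.affineCover.f (i x)) :
      Scheme.Etale.mk ((W x).left.affineCover.f (i x) ≫ (W x).hom) ⟶ W x) ≫ k x
  have hg : ∀ x, x ∈ Set.range (g x).left.base := fun x => by
    obtain ⟨y, hy⟩ := ((W x).left.affineCover.exists_eq (w x)).choose_spec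
    refine ⟨y, Eq.trans ?_ (hw x)⟩
    exact congrArg (k x).left.base hy
  have hopen : ∀ x, IsOpen (Set.range (g x).left.base) := fun x =>
    haveI : AlgebraicGeometry.Etale (g x).left :=
      MorphismProperty.of_postcomp @AlgebraicGeometry.Etale (g x).left U.hom U.prop
        (by rw [MorphismProperty.Over.w]; exact (Scheme.Etale.mk _).prop)
    (g x).left.isOpenMap.isOpen_range
  obtain ⟨t, ht⟩ := isCompact_univ.elim_finite_subcover (fun x => Set.range (g x).left.base) hopen
    (fun x _ => Set.mem_iUnion.2 ⟨x, hg x⟩)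
  refine ⟨t, inferInstance, _, fun a => g a.1, fun a => R.downward_closed (hk a.1) _, fun a =>
    inferInstanceAs (IsAffine ((W a.1).left.affineCover.X (i a.1))), ?_⟩
  rw [Scheme.ofArrows_mem_smallEtaleTopology_iff]
  exact Set.eq_univ_of_forall fun x => by
    obtain ⟨a, ha, hx⟩ := Set.mem_iUnion₂.1 (ht (Set.mem_univ x))
    exact Set.mem_iUnion.2 ⟨⟨a, ha⟩, hx⟩

/-- Fibre products of affine objects over a quasi-separated object are quasi-compact. -/
lemma compactSpace_pullback {U V W : X.Etale} (g : V ⟶ U) (h : W ⟶ U) [QuasiSeparatedSpace ↥U.left]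
    [CompactSpace ↥V.left] [CompactSpace ↥W.left] :
    CompactSpace ↥(pullback g h).left := by
  have hp : IsPullback (pullback.fst g h).left (pullback.snd g h).left g.left h.left :=
    (IsPullback.of_hasPullback g h).map (Scheme.Etale.forget X ⋙ Over.forget X)
  have : QuasiCompact h.left := inferInstance
  have : QuasiCompact (pullback.fst g h).left :=
    MorphismProperty.of_isPullback (P := @QuasiCompact) hp.flip this
  exact QuasiCompact.compactSpace_of_compactSpace (pullback.fst g h).left

section Colimit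

variable {A : Type u'} [Category.{v'} A] {FA : A → A → Type*} {CA : A → Type (u + 1)}
  [∀ P Q, FunLike (FA P Q) (CA P) (CA Q)] [ConcreteCategory.{u + 1} A FA]
  [HasSheafify X.smallEtaleTopology A]
  [X.smallEtaleTopology.WEqualsLocallyBijective A]
  [X.smallEtaleTopology.HasSheafCompose (CategoryTheory.forget A)]
  [HasColimitsOfSize.{u + 1, u + 1} A]
  [PreservesFilteredColimitsOfSize.{u + 1, u + 1} (CategoryTheory.forget A)]

variable {I : Type (u + 1)} [SmallCategory I] [IsFiltered I] {F : I ⥤ Sheaf X.smallEtaleTopology A}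
  (c : Cocone F)

/-- The image in the cocone point. -/
abbrev img {i : I} {U : X.Etale} (a : ToType ((F.obj i).obj.obj (op U))) :
    ToType (c.pt.obj.obj (op U)) :=
  (c.ι.app i).hom.app (op U) a

/-- Transition. -/
abbrev tr {i j : I} (f : i ⟶ j) {U : X.Etale} (a : ToType ((F.obj i).obj.obj (op U))) :
    ToType ((F.obj j).obj.obj (op U)) :=
  (F.map f).hom.app (op U) a

omit [HasSheafify X.smallEtaleTopology A] [X.smallEtaleTopology.WEqualsLocallyBijective A]
  [X.smallEtaleTopology.HasSheafCompose (CategoryTheory.forget A)]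
  [HasColimitsOfSize.{u + 1, u + 1} A]
  [PreservesFilteredColimitsOfSize.{u + 1, u + 1} (CategoryTheory.forget A)] [IsFiltered I] in
lemma tr_tr {i j k : I} (f : i ⟶ j) (g : j ⟶ k) {U : X.Etale}
    (a : ToType ((F.obj i).obj.obj (op U))) : tr g (tr f a) = tr (f ≫ g) a := by
  simp [tr]

omit [HasSheafify X.smallEtaleTopology A] [X.smallEtaleTopology.WEqualsLocallyBijective A]
  [X.smallEtaleTopology.HasSheafCompose (CategoryTheory.forget A)]
  [HasColimitsOfSize.{u + 1, u + 1} A]
  [PreservesFilteredColimitsOfSize.{u + 1, u + 1} (CategoryTheory.forget A)] [IsFiltered I] in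
lemma img_tr {i j : I} (f : i ⟶ j) {U : X.Etale} (a : ToType ((F.obj i).obj.obj (op U))) :
    img c (tr f a) = img c a := by
  simp only [img, tr, ← ConcreteCategory.comp_apply, ← NatTrans.comp_app]
  exact congrArg (fun m : F.obj i ⟶ c.pt => m.hom.app (op U) a) (c.w f)

omit [HasSheafify X.smallEtaleTopology A] [X.smallEtaleTopology.WEqualsLocallyBijective A]
  [X.smallEtaleTopology.HasSheafCompose (CategoryTheory.forget A)]
  [HasColimitsOfSize.{u + 1, u + 1} A]
  [PreservesFilteredColimitsOfSize.{u + 1, u + 1} (CategoryTheory.forget A)] in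
lemma map_map {G : (X.Etale)ᵒᵖ ⥤ A} {P Q R : X.Etale} (h : P ⟶ Q) (h' : Q ⟶ R)
    (z : ToType (G.obj (op R))) : G.map h.op (G.map h'.op z) = G.map (h ≫ h').op z := by
  simp

lemma exists_mediator (hc : IsColimit c) :
    ∃ m : (colimit.cocone (F ⋙ sheafToPresheaf _ _)).pt ⟶ c.pt.obj,
      Presheaf.IsLocallyInjective X.smallEtaleTopology m ∧
      Presheaf.IsLocallySurjective X.smallEtaleTopology m ∧
      ∀ i, (c.ι.app i).hom = (colimit.cocone (F ⋙ sheafToPresheaf _ _)).ι.app i ≫ m := by
  let E := colimit.cocone (F ⋙ sheafToPresheaf _ _)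
  let e := (Sheaf.isColimitSheafifyCocone E (colimit.isColimit _)).coconePointUniqueUpToIso hc
  let e' : sheafify X.smallEtaleTopology E.pt ⟶ c.pt.obj := e.hom.hom
  have : IsIso e' := inferInstanceAs (IsIso ((sheafToPresheaf _ _).map e.hom))
  refine ⟨toSheafify _ E.pt ≫ e', inferInstance, inferInstance, fun i => ?_⟩
  rw [← (Sheaf.isColimitSheafifyCocone E (colimit.isColimit _)).comp_coconePointUniqueUpToIso_hom hc i]
  rw [ObjectProperty.FullSubcategory.comp_hom, Sheaf.sheafifyCocone_ι_app_val]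
  exact Category.assoc _ _ _

lemma exists_local_rep (hc : IsColimit c) {U : X.Etale} [CompactSpace ↥U.left]
    (s : ToType (c.pt.obj.obj (op U))) :
    ∃ (κ : Type u) (_ : Finite κ) (V : κ → X.Etale) (g : ∀ a, V a ⟶ U),
      (∀ a, IsAffine (V a).left) ∧ Sieve.ofArrows V g ∈ X.smallEtaleTopology U ∧
      ∀ a, ∃ (i : I) (t : ToType ((F.obj i).obj.obj (op (V a)))),
        img c t = c.pt.obj.map (g a).op s := by
  obtain ⟨m, -, hm, hι⟩ := exists_mediator c hc
  obtain ⟨κ, hκ, V, g, hgR, hV, hcov⟩ :=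
    exists_finite_affine (Presheaf.imageSieve_mem X.smallEtaleTopology m (U := op U) s)
  refine ⟨κ, hκ, V, g, hV, hcov, fun a => ?_⟩
  obtain ⟨t, ht⟩ := hgR a
  obtain ⟨i, t', ht'⟩ := Concrete.colimit_exists_rep
    ((F ⋙ sheafToPresheaf _ _) ⋙ (evaluation _ _).obj (op (V a)))
    ((colimitObjIsoColimitCompEvaluation (F ⋙ sheafToPresheaf _ _) (op (V a))).hom t)
  refine ⟨i, t', Eq.trans ?_ ht⟩
  have e : ((colimit.cocone (F ⋙ sheafToPresheaf _ _)).ι.app i).app (op (V a)) t' = t := by
    apply (ConcreteCategory.bijective_of_isIso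
      (colimitObjIsoColimitCompEvaluation (F ⋙ sheafToPresheaf _ _) (op (V a))).hom).1
    refine Eq.trans ?_ ht'
    exact (ConcreteCategory.comp_apply _ _ _).symm.trans (ConcreteCategory.congr_hom
      (colimitObjIsoColimitCompEvaluation_ι_app_hom (F ⋙ sheafToPresheaf _ _) i (op (V a))) t')
  show (c.ι.app i).hom.app _ t' = _
  rw [hι i]
  simp only [NatTrans.comp_app, ConcreteCategory.comp_apply]
  exact congrArg _ e

lemma exists_local_eq (hc : IsColimit c) {U : X.Etale} [CompactSpace ↥U.left] {i j : I}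
    (a : ToType ((F.obj i).obj.obj (op U))) (b : ToType ((F.obj j).obj.obj (op U)))
    (h : img c a = img c b) :
    ∃ (κ : Type u) (_ : Finite κ) (V : κ → X.Etale) (g : ∀ q, V q ⟶ U),
      Sieve.ofArrows V g ∈ X.smallEtaleTopology U ∧
      ∀ q, ∃ (k : I) (f : i ⟶ k) (f' : j ⟶ k),
        tr f ((F.obj i).obj.map (g q).op a) = tr f' ((F.obj j).obj.map (g q).op b) := by
  obtain ⟨m, hm, -, hι⟩ := exists_mediator c hc
  let E := colimit.cocone (F ⋙ sheafToPresheaf _ _)
  have h' : m.app (op U) ((E.ι.app i).app (op U) a) = m.app (op U) ((E.ι.app j).app (op U) b) := by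
    have ha : img c a = m.app (op U) ((E.ι.app i).app (op U) a) := by
      show (c.ι.app i).hom.app _ a = _
      rw [hι i]
      simp [E]
    have hb : img c b = m.app (op U) ((E.ι.app j).app (op U) b) := by
      show (c.ι.app j).hom.app _ b = _
      rw [hι j]
      simp [E]
    exact ha.symm.trans (h.trans hb)
  obtain ⟨κ, hκ, V, g, hgR, -, hcov⟩ :=
    exists_finite_affine (Presheaf.equalizerSieve_mem X.smallEtaleTopology m _ _ h')
  refine ⟨κ, hκ, V, g, hcov, fun q => ?_⟩
  have key : (E.ι.app i).app (op (V q)) ((F.obj i).obj.map (g q).op a) =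
      (E.ι.app j).app (op (V q)) ((F.obj j).obj.map (g q).op b) :=
    (NatTrans.naturality_apply (E.ι.app i) (g q).op a).trans
      ((hgR q).trans (NatTrans.naturality_apply (E.ι.app j) (g q).op b).symm)
  have key' : colimit.ι ((F ⋙ sheafToPresheaf _ _) ⋙ (evaluation _ _).obj (op (V q))) i
      ((F.obj i).obj.map (g q).op a) =
    colimit.ι ((F ⋙ sheafToPresheaf _ _) ⋙ (evaluation _ _).obj (op (V q))) j
      ((F.obj j).obj.map (g q).op b) := by
    have e := congrArg (colimitObjIsoColimitCompEvaluation (F ⋙ sheafToPresheaf _ _) (op (V q))).hom key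
    exact ((ConcreteCategory.congr_hom
      (colimitObjIsoColimitCompEvaluation_ι_app_hom (F ⋙ sheafToPresheaf _ _) i (op (V q))) _).symm.trans
        ((ConcreteCategory.comp_apply _ _ _).trans e)).trans
      ((ConcreteCategory.comp_apply _ _ _).symm.trans (ConcreteCategory.congr_hom
      (colimitObjIsoColimitCompEvaluation_ι_app_hom (F ⋙ sheafToPresheaf _ _) j (op (V q))) _))
  exact Concrete.colimit_exists_of_rep_eq _ _ _ key'

omit [HasColimitsOfSize.{u + 1, u + 1} A]
  [PreservesFilteredColimitsOfSize.{u + 1, u + 1} (CategoryTheory.forget A)]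
  [HasSheafify X.smallEtaleTopology A] [X.smallEtaleTopology.WEqualsLocallyBijective A] in
lemma isSheafFor (G : Sheaf X.smallEtaleTopology A) {U : X.Etale} {κ : Type u} (V : κ → X.Etale)
    (g : ∀ q, V q ⟶ U) (h : Sieve.ofArrows V g ∈ X.smallEtaleTopology U) :
    (Presieve.ofArrows V g).IsSheafFor (G.obj ⋙ CategoryTheory.forget A) := by
  rw [Presieve.isSheafFor_iff_generate]
  exact ((isSheaf_iff_isSheaf_of_type _ _).1
    (GrothendieckTopology.HasSheafCompose.isSheaf (F := CategoryTheory.forget A) G.obj G.property))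
    _ h

omit [HasSheafify X.smallEtaleTopology A] [X.smallEtaleTopology.WEqualsLocallyBijective A]
  [X.smallEtaleTopology.HasSheafCompose (CategoryTheory.forget A)]
  [HasColimitsOfSize.{u + 1, u + 1} A]
  [PreservesFilteredColimitsOfSize.{u + 1, u + 1} (CategoryTheory.forget A)] in
lemma exists_common (i₀ : I) {α : Type*} [Finite α] (k : α → I) (m : ∀ a, i₀ ⟶ k a) :
    ∃ (K : I) (n : i₀ ⟶ K), ∀ a, ∃ r : k a ⟶ K, m a ≫ r = n := by
  classical
  have := Fintype.ofFinite α
  let O : Finset I := insert i₀ (Finset.univ.image k)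
  have h0 : i₀ ∈ O := Finset.mem_insert_self _ _
  have hk : ∀ a, k a ∈ O := fun a =>
    Finset.mem_insert_of_mem (Finset.mem_image_of_mem k (Finset.mem_univ a))
  obtain ⟨K, T, hT⟩ := IsFiltered.sup_exists O
    (Finset.univ.image fun a => (⟨i₀, k a, h0, hk a, m a⟩ :
      Σ' (P Q : I) (_ : P ∈ O) (_ : Q ∈ O), P ⟶ Q))
  exact ⟨K, T h0, fun a => ⟨T (hk a),
    hT h0 (hk a) (Finset.mem_image_of_mem _ (Finset.mem_univ a))⟩⟩

omit [HasSheafify X.smallEtaleTopology A] [X.smallEtaleTopology.WEqualsLocallyBijective A]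
  [X.smallEtaleTopology.HasSheafCompose (CategoryTheory.forget A)]
  [HasColimitsOfSize.{u + 1, u + 1} A]
  [PreservesFilteredColimitsOfSize.{u + 1, u + 1} (CategoryTheory.forget A)] in
/-- Two sections at a common stage which become equal at later stages become equal along a single
morphism. -/
lemma exists_single {i₀ k : I} {U : X.Etale} (f f' : i₀ ⟶ k)
    (a b : ToType ((F.obj i₀).obj.obj (op U))) (h : tr f a = tr f' b) :
    ∃ (k' : I) (m : i₀ ⟶ k'), tr m a = tr m b := by
  refine ⟨IsFiltered.coeq f f', f ≫ IsFiltered.coeqHom f f', ?_⟩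
  calc tr (f ≫ IsFiltered.coeqHom f f') a = tr (IsFiltered.coeqHom f f') (tr f a) := (tr_tr _ _ _).symm
    _ = tr (IsFiltered.coeqHom f f') (tr f' b) := by rw [h]
    _ = tr (f' ≫ IsFiltered.coeqHom f f') b := tr_tr _ _ _
    _ = tr (f ≫ IsFiltered.coeqHom f f') b := by rw [IsFiltered.coeq_condition]

lemma exists_eq (hc : IsColimit c) {U : X.Etale} [CompactSpace ↥U.left] {i j : I}
    (a : ToType ((F.obj i).obj.obj (op U))) (b : ToType ((F.obj j).obj.obj (op U)))
    (h : img c a = img c b) :
    ∃ (k : I) (f : i ⟶ k) (f' : j ⟶ k), tr f a = tr f' b := by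
  let i₀ := IsFiltered.max i j
  let a₀ := tr (IsFiltered.leftToMax i j) a
  let b₀ := tr (IsFiltered.rightToMax i j) b
  obtain ⟨κ, hκ, V, g, hcov, hloc⟩ :=
    exists_local_eq c hc a₀ b₀ ((img_tr c _ a).trans (h.trans (img_tr c _ b).symm))
  choose k f f' e using hloc
  choose k' m hm using fun q => exists_single (f q) (f' q) _ _ (e q)
  obtain ⟨K, n, hn⟩ := exists_common i₀ k' m
  choose r hr using hn
  refine ⟨K, IsFiltered.leftToMax i j ≫ n, IsFiltered.rightToMax i j ≫ n, ?_⟩
  rw [← tr_tr, ← tr_tr]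
  refine (isSheafFor (F.obj K) V g hcov).isSeparatedFor.ext ?_
  rintro _ _ ⟨q⟩
  show (F.obj K).obj.map (g q).op (tr n a₀) = (F.obj K).obj.map (g q).op (tr n b₀)
  refine (NatTrans.naturality_apply (F.map n).hom (g q).op a₀).symm.trans
    (Eq.trans ?_ (NatTrans.naturality_apply (F.map n).hom (g q).op b₀))
  show tr n _ = tr n _
  rw [← hr q, ← tr_tr, ← tr_tr, hm q]

lemma exists_rep (hc : IsColimit c) {U : X.Etale} [CompactSpace ↥U.left] [QuasiSeparatedSpace ↥U.left]
    (s : ToType (c.pt.obj.obj (op U))) :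
    ∃ (i : I) (t : ToType ((F.obj i).obj.obj (op U))), img c t = s := by
  obtain ⟨κ, hκ, V, g, hV, hcov, hloc⟩ := exists_local_rep c hc s
  choose i t ht using hloc
  classical
  have := Fintype.ofFinite κ
  obtain ⟨i₀, hi₀⟩ := IsFiltered.sup_objs_exists (Finset.univ.image i)
  let φ : ∀ q, i q ⟶ i₀ := fun q => (hi₀ (Finset.mem_image_of_mem i (Finset.mem_univ q))).some
  let t₀ : ∀ q, ToType ((F.obj i₀).obj.obj (op (V q))) := fun q => tr (φ q) (t q)
  have ht₀ : ∀ q, img c (t₀ q) = c.pt.obj.map (g q).op s := fun q => (img_tr c _ _).trans (ht q)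
  have hpair : ∀ p : κ × κ, ∃ (k' : I) (m : i₀ ⟶ k'),
      tr m ((F.obj i₀).obj.map (pullback.fst (g p.1) (g p.2)).op (t₀ p.1)) =
        tr m ((F.obj i₀).obj.map (pullback.snd (g p.1) (g p.2)).op (t₀ p.2)) := by
    intro p
    have := compactSpace_pullback (g p.1) (g p.2)
    have e : img c ((F.obj i₀).obj.map (pullback.fst (g p.1) (g p.2)).op (t₀ p.1)) =
        img c ((F.obj i₀).obj.map (pullback.snd (g p.1) (g p.2)).op (t₀ p.2)) := by
      refine (NatTrans.naturality_apply (c.ι.app i₀).hom _ _).trans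
        (Eq.trans ?_ (NatTrans.naturality_apply (c.ι.app i₀).hom _ _).symm)
      refine (congrArg _ (ht₀ p.1)).trans (Eq.trans ?_ (congrArg _ (ht₀ p.2)).symm)
      show c.pt.obj.map (pullback.fst (g p.1) (g p.2)).op (c.pt.obj.map (g p.1).op s) =
        c.pt.obj.map (pullback.snd (g p.1) (g p.2)).op (c.pt.obj.map (g p.2).op s)
      rw [map_map, map_map, pullback.condition]
    obtain ⟨k, f, f', ef⟩ := exists_eq c hc _ _ e
    exact exists_single f f' _ _ ef
  choose k' m hm using hpair
  obtain ⟨K, n, hn⟩ := exists_common i₀ k' m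
  choose r hr using hn
  let x : ∀ q, ((F.obj K).obj ⋙ CategoryTheory.forget A).obj (op (V q)) := fun q => tr n (t₀ q)
  have hx : Presieve.Arrows.Compatible ((F.obj K).obj ⋙ CategoryTheory.forget A) g x := by
    intro p q Z gp gq w
    have nat : ∀ {P Q : X.Etale} (h : P ⟶ Q) (z : ToType ((F.obj i₀).obj.obj (op Q))),
        tr n ((F.obj i₀).obj.map h.op z) = (F.obj K).obj.map h.op (tr n z) :=
      fun h z => NatTrans.naturality_apply (F.map n).hom h.op z
    have e : tr n ((F.obj i₀).obj.map (pullback.fst (g p) (g q)).op (t₀ p)) =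
        tr n ((F.obj i₀).obj.map (pullback.snd (g p) (g q)).op (t₀ q)) := by
      rw [← hr (p, q), ← tr_tr, ← tr_tr, hm (p, q)]
    rw [nat, nat] at e
    show (F.obj K).obj.map gp.op (tr n (t₀ p)) = (F.obj K).obj.map gq.op (tr n (t₀ q))
    have e2 := congrArg ((F.obj K).obj.map (pullback.lift gp gq w).op) e
    simp only [map_map, pullback.lift_fst, pullback.lift_snd] at e2
    exact e2
  obtain ⟨T, hT, -⟩ := (Presieve.isSheafFor_arrows_iff _ g).1 (isSheafFor (F.obj K) V g hcov) x hx
  refine ⟨K, T, (isSheafFor c.pt V g hcov).isSeparatedFor.ext ?_⟩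
  rintro _ _ ⟨q⟩
  refine (NatTrans.naturality_apply (c.ι.app K).hom (g q).op T).symm.trans ?_
  exact (congrArg ((c.ι.app K).hom.app (op (V q))) (hT q)).trans ((img_tr c n _).trans (ht₀ q))

/-- Sections over a quasi-compact quasi-separated object commute with filtered colimits (on underlying
types). -/
theorem preservesColimitsOfShape_sections (U : X.Etale) [CompactSpace ↥U.left]
    [QuasiSeparatedSpace ↥U.left] :
    PreservesColimitsOfShape I (sheafToPresheaf X.smallEtaleTopology A ⋙
      (evaluation _ A).obj (op U) ⋙ CategoryTheory.forget A) := by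
  refine ⟨fun {F} => ⟨fun {c} hc => ⟨Types.FilteredColimit.isColimitOf _ _ (fun s => ?_)
    (fun i j a b h => ?_)⟩⟩⟩
  · obtain ⟨i, t, ht⟩ := exists_rep c hc s
    exact ⟨i, t, ht.symm⟩
  · obtain ⟨k, f, f', e⟩ := exists_eq c hc a b h
    exact ⟨k, f, f', e⟩

end Colimit

end Groth.EtaleBase.FilteredSec
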