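import Mathlib.Algebra.Category.Grp.FilteredColimits
import Mathlib.Algebra.Category.Grp.Abelian
import Mathlib.Algebra.Homology.ShortComplex.Ab
import Mathlib.Algebra.Homology.ShortComplex.HomologicalComplex
import Mathlib.Algebra.Homology.HomologicalComplex
import Mathlib.CategoryTheory.Limits.Types.Filtered

/-!
Elementwise filtered colimits of abelian groups; homology preserves them.
-/

set_option autoImplicit false

universe w v' u'

open CategoryTheory CategoryTheory.Limits

namespace Groth.EtaleBase.AbFiltered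

variable {J : Type w} [SmallCategory J] [IsFiltered J]

/-- Elementwise colimit property. -/
structure IsFC {F : J ⥤ AddCommGrpCat.{w}} (c : Cocone F) : Prop where
  surj : ∀ x : c.pt, ∃ j y, c.ι.app j y = x
  eq_zero : ∀ (j : J) (y : F.obj j), c.ι.app j y = 0 → ∃ (k : J) (f : j ⟶ k), F.map f y = 0

lemma isFC_of_isColimit {F : J ⥤ AddCommGrpCat.{w}} {c : Cocone F} (hc : IsColimit c) : IsFC c := by
  have ht := isColimitOfPreserves (forget AddCommGrpCat.{w}) hc
  refine ⟨fun x => ?_, fun j y hy => ?_⟩
  · obtain ⟨j, y, hy⟩ := Types.jointly_surjective_of_isColimit ht x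
    exact ⟨j, y, hy⟩
  · obtain ⟨k, f, g, hfg⟩ := (Types.FilteredColimit.isColimit_eq_iff (F ⋙ forget _) ht
      (xi := y) (xj := (0 : F.obj j))).1 (hy.trans (map_zero (c.ι.app j).hom).symm)
    exact ⟨k, f, hfg.trans (map_zero (F.map g).hom)⟩

lemma isColimit_of_isFC {F : J ⥤ AddCommGrpCat.{w}} {c : Cocone F} (hc : IsFC c) :
    Nonempty (IsColimit c) := by
  have : ReflectsColimitsOfShape J (forget AddCommGrpCat.{w}) :=
    reflectsColimitsOfShape_of_reflectsIsomorphisms
  refine ⟨isColimitOfReflects (forget AddCommGrpCat.{w}) ?_⟩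
  refine Types.FilteredColimit.isColimitOf (F ⋙ forget _) _
    (fun x => ?_) (fun i j xi xj h => ?_)
  · obtain ⟨j, y, hy⟩ := hc.surj x
    exact ⟨j, y, hy.symm⟩
  · obtain ⟨l, f, hf⟩ := hc.eq_zero (IsFiltered.max i j)
      (F.map (IsFiltered.leftToMax i j) xi - F.map (IsFiltered.rightToMax i j) xj) (by
        rw [map_sub, sub_eq_zero]
        refine (ConcreteCategory.congr_hom (c.w _) xi).trans (h.trans ?_)
        exact (ConcreteCategory.congr_hom (c.w _) xj).symm)
    refine ⟨l, IsFiltered.leftToMax i j ≫ f, IsFiltered.rightToMax i j ≫ f, ?_⟩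
    rw [map_sub, sub_eq_zero] at hf
    exact (ConcreteCategory.congr_hom (F.map_comp _ _) xi).trans
      (hf.trans (ConcreteCategory.congr_hom (F.map_comp _ _) xj).symm)

variable (S : ShortComplex AddCommGrpCat.{w})

lemma exists_class (a : S.homology) :
    ∃ z : S.cycles, S.homologyπ z = a :=
  (AddCommGrpCat.epi_iff_surjective _).1 inferInstance a

lemma exists_cycle (x : S.X₂) (hx : S.g x = 0) : ∃ z : S.cycles, S.iCycles z = x :=
  (ShortComplex.ab_exact_iff _).1 (ShortComplex.exact_of_f_is_kernel
    (ShortComplex.mk S.iCycles S.g S.iCycles_g) S.cyclesIsKernel) x hx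

lemma exists_boundary (z : S.cycles) (hz : S.homologyπ z = 0) : ∃ w : S.X₁, S.toCycles w = z :=
  (ShortComplex.ab_exact_iff _).1 (ShortComplex.exact_of_g_is_cokernel
    (ShortComplex.mk S.toCycles S.homologyπ S.toCycles_comp_homologyπ) S.homologyIsCokernel) z hz

variable {D : Type u'} [Category.{v'} D]

/-- Homology of a functorial short complex commutes with filtered colimits. -/
theorem preservesColimitsOfShape_homology (T : D ⥤ ShortComplex AddCommGrpCat.{w})
    [h₁ : PreservesColimitsOfShape J (T ⋙ ShortComplex.π₁)]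
    [h₂ : PreservesColimitsOfShape J (T ⋙ ShortComplex.π₂)]
    [h₃ : PreservesColimitsOfShape J (T ⋙ ShortComplex.π₃)] :
    PreservesColimitsOfShape J (T ⋙ ShortComplex.homologyFunctor AddCommGrpCat.{w}) where
  preservesColimit {K} := ⟨fun {c} hc => by
    have i₁ := isFC_of_isColimit (isColimitOfPreserves (T ⋙ ShortComplex.π₁) hc)
    have i₂ := isFC_of_isColimit (isColimitOfPreserves (T ⋙ ShortComplex.π₂) hc)
    have i₃ := isFC_of_isColimit (isColimitOfPreserves (T ⋙ ShortComplex.π₃) hc)
    refine isColimit_of_isFC ⟨fun a => ?_, fun j b hb => ?_⟩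
    · obtain ⟨z, rfl⟩ := exists_class _ a
      obtain ⟨j, y, hy⟩ := i₂.surj ((T.obj c.pt).iCycles z)
      obtain ⟨k, f, hf⟩ := i₃.eq_zero j ((T.obj (K.obj j)).g y) (by
        refine (ConcreteCategory.congr_hom (T.map (c.ι.app j)).comm₂₃ y).symm.trans ?_
        exact (congrArg _ hy).trans (ConcreteCategory.congr_hom (T.obj c.pt).iCycles_g z))
      obtain ⟨z', hz'⟩ := exists_cycle (T.obj (K.obj k)) ((T.map (K.map f)).τ₂ y)
        ((ConcreteCategory.congr_hom (T.map (K.map f)).comm₂₃ y).trans hf)
      refine ⟨k, (T.obj (K.obj k)).homologyπ z', ?_⟩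
      refine (ConcreteCategory.congr_hom (ShortComplex.homologyπ_naturality (T.map (c.ι.app k))) z').trans ?_
      refine congrArg (T.obj c.pt).homologyπ ?_
      apply (AddCommGrpCat.mono_iff_injective (T.obj c.pt).iCycles).1 inferInstance
      refine (ConcreteCategory.congr_hom (ShortComplex.cyclesMap_i (T.map (c.ι.app k))) z').trans ?_
      refine (congrArg (T.map (c.ι.app k)).τ₂ hz').trans ?_
      exact (ConcreteCategory.congr_hom (((T ⋙ ShortComplex.π₂).mapCocone c).w f) y).trans hy
    · obtain ⟨z, rfl⟩ := exists_class _ b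
      obtain ⟨w, hw⟩ := exists_boundary _ _
        ((ConcreteCategory.congr_hom (ShortComplex.homologyπ_naturality (T.map (c.ι.app j))) z).symm.trans hb)
      obtain ⟨i, w', hw'⟩ := i₁.surj w
      let fi := IsFiltered.leftToMax i j
      let fj := IsFiltered.rightToMax i j
      let y := (T.obj (K.obj j)).iCycles z
      obtain ⟨k, f, hf⟩ := i₂.eq_zero (IsFiltered.max i j)
        ((T.map (K.map fj)).τ₂ y - (T.obj (K.obj _)).f ((T.map (K.map fi)).τ₁ w')) (by
        refine (map_sub _ _ _).trans (sub_eq_zero.2 ?_)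
        refine (ConcreteCategory.congr_hom (((T ⋙ ShortComplex.π₂).mapCocone c).w fj) y).trans ?_
        refine (ConcreteCategory.congr_hom (ShortComplex.cyclesMap_i (T.map (c.ι.app j))) z).symm.trans ?_
        refine (congrArg (T.obj c.pt).iCycles hw.symm).trans ?_
        refine (ConcreteCategory.congr_hom (T.obj c.pt).toCycles_i w).trans ?_
        refine (congrArg (T.obj c.pt).f (hw'.symm.trans (ConcreteCategory.congr_hom
          (((T ⋙ ShortComplex.π₁).mapCocone c).w fi) w').symm)).trans ?_
        exact ConcreteCategory.congr_hom (T.map (c.ι.app _)).comm₁₂ _)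
      replace hf := sub_eq_zero.1 ((map_sub _ _ _).symm.trans hf)
      refine ⟨k, fj ≫ f, ?_⟩
      refine (ConcreteCategory.congr_hom (ShortComplex.homologyπ_naturality (T.map (K.map (fj ≫ f)))) z).trans ?_
      have e : ShortComplex.cyclesMap (T.map (K.map (fj ≫ f))) z =
          (T.obj (K.obj k)).toCycles ((T.map (K.map f)).τ₁ ((T.map (K.map fi)).τ₁ w')) := by
        apply (AddCommGrpCat.mono_iff_injective (T.obj (K.obj k)).iCycles).1 inferInstance
        refine (ConcreteCategory.congr_hom (ShortComplex.cyclesMap_i (T.map (K.map (fj ≫ f)))) z).trans ?_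
        refine (ConcreteCategory.congr_hom ((K ⋙ T ⋙ ShortComplex.π₂).map_comp fj f) y).trans ?_
        refine hf.trans ?_
        refine (ConcreteCategory.congr_hom (T.map (K.map f)).comm₁₂ _).symm.trans ?_
        exact (ConcreteCategory.congr_hom (T.obj (K.obj k)).toCycles_i _).symm
      exact (congrArg (T.obj (K.obj k)).homologyπ e).trans
        (ConcreteCategory.congr_hom (T.obj (K.obj k)).toCycles_comp_homologyπ _)⟩

/-- Homology of a functorial complex commutes with filtered colimits. -/
theorem preservesColimitsOfShape_complex {ι : Type*} {cs : ComplexShape ι}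
    (T : D ⥤ HomologicalComplex AddCommGrpCat.{w} cs)
    (h : ∀ i, PreservesColimitsOfShape J (T ⋙ HomologicalComplex.eval _ cs i)) (p : ι) :
    PreservesColimitsOfShape J (T ⋙ HomologicalComplex.homologyFunctor _ cs p) := by
  have : PreservesColimitsOfShape J
      ((T ⋙ HomologicalComplex.shortComplexFunctor _ cs p) ⋙ ShortComplex.π₁) := h (cs.prev p)
  have : PreservesColimitsOfShape J
      ((T ⋙ HomologicalComplex.shortComplexFunctor _ cs p) ⋙ ShortComplex.π₂) := h p
  have : PreservesColimitsOfShape J
      ((T ⋙ HomologicalComplex.shortComplexFunctor _ cs p) ⋙ ShortComplex.π₃) := h (cs.next p)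
  have := preservesColimitsOfShape_homology (J := J) (T ⋙ HomologicalComplex.shortComplexFunctor _ cs p)
  exact preservesColimitsOfShape_of_natIso (Functor.associator _ _ _ ≪≫
    Functor.isoWhiskerLeft T (HomologicalComplex.homologyFunctorIso AddCommGrpCat.{w} cs p).symm)

end Groth.EtaleBase.AbFiltered
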