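import Groth.Agent.EtaleBase.CechBasic
import Groth.Agent.EtaleBase.FilteredSections
import Groth.Agent.EtaleBase.HomologyFiltered

/-!
Čech cohomology of a finite family of quasi-compact quasi-separated etale schemes commutes with
filtered colimits of sheaves.
-/

set_option autoImplicit false

universe u

open CategoryTheory CategoryTheory.Limits AlgebraicGeometry Opposite

namespace Groth.EtaleBase.CechFiltered

variable {X : Scheme.{u}} {U : X.Etale} [HasFiniteProducts (Over U)] {ι : Type (u + 1)} (Uf : ι → Over U)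

/-- Quasi-compact and quasi-separated. -/
abbrev QCQS (Z : X.Etale) : Prop := CompactSpace ↥Z.left ∧ QuasiSeparatedSpace ↥Z.left

omit [HasFiniteProducts (Over U)] in
lemma qcqs_of_iso {Z Z' : X.Etale} (e : Z ≅ Z') (h : QCQS Z) : QCQS Z' := by
  let e' : Z.left ≅ Z'.left := (Scheme.Etale.forget X ⋙ Over.forget X).mapIso e
  have := h.1
  have := h.2
  exact ⟨QuasiCompact.compactSpace_of_compactSpace e'.inv,
    quasiSeparatedSpace_of_quasiSeparated e'.inv⟩

omit [HasFiniteProducts (Over U)] in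
lemma qcqs_pullback {V W : X.Etale} (g : V ⟶ U) (h : W ⟶ U) (hU : QCQS U) (hV : QCQS V)
    (hW : QCQS W) : QCQS (pullback g h) := by
  have := hU.2
  have := hV.1
  have := hV.2
  have := hW.1
  have := hW.2
  have hp : IsPullback (pullback.fst g h).left (pullback.snd g h).left g.left h.left :=
    (IsPullback.of_hasPullback g h).map (Scheme.Etale.forget X ⋙ Over.forget X)
  have : QuasiSeparated h.left := inferInstance
  have : QuasiSeparated (pullback.fst g h).left :=
    MorphismProperty.of_isPullback (P := @QuasiSeparated) hp.flip this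
  exact ⟨FilteredSec.compactSpace_pullback g h,
    quasiSeparatedSpace_of_quasiSeparated (pullback.fst g h).left⟩

open CechInj in
/-- Intersections are quasi-compact and quasi-separated. -/
lemma qcqs_W (hU : QCQS U) (hUf : ∀ i, QCQS (Uf i).left) :
    ∀ (n : ℕ) (σ : Fin (n + 1) → ι), QCQS (W (Uf := Uf) σ) := by
  intro n
  induction n with
  | zero =>
    intro σ
    haveI : Unique (Fin (0 + 1)) := inferInstanceAs (Unique (Fin 1))
    exact qcqs_of_iso ((Over.forget U).mapIso (productUniqueIso (Uf ∘ σ)).symm) (hUf _)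
  | succ n ih =>
    intro σ
    let τ : Fin (n + 1) → ι := σ ∘ Fin.succ
    let g : W (Uf := Uf) τ ⟶ U := (∏ᶜ (Uf ∘ τ)).hom
    let h : (Uf (σ 0)).left ⟶ U := (Uf (σ 0)).hom
    let fwd : W (Uf := Uf) σ ⟶ pullback g h :=
      pullback.lift (Pi.lift fun b => Pi.π (Uf ∘ σ) b.succ : (∏ᶜ (Uf ∘ σ)) ⟶ ∏ᶜ (Uf ∘ τ)).left
        (proj σ 0) ((Over.w (Pi.lift fun b => Pi.π (Uf ∘ σ) b.succ : (∏ᶜ (Uf ∘ σ)) ⟶ ∏ᶜ (Uf ∘ τ))).trans
          (proj_hom σ 0).symm)
    let a : ∀ q : Fin (n + 2), (Over.mk (pullback.fst g h ≫ g) ⟶ (Uf ∘ σ) q) := fun q => Fin.cases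
      (motive := fun q => Over.mk (pullback.fst g h ≫ g) ⟶ (Uf ∘ σ) q)
      (Over.homMk (pullback.snd g h) pullback.condition.symm)
      (fun b => Over.homMk (pullback.fst g h ≫ proj τ b)
        ((Category.assoc _ _ _).trans (congrArg (pullback.fst g h ≫ ·) (proj_hom τ b)))) q
    let bwd : pullback g h ⟶ W (Uf := Uf) σ := (Pi.lift a).left
    have hbwd : ∀ q, bwd ≫ proj σ q = (a q).left := fun q =>
      congrArg CommaMorphism.left (Pi.lift_π a q)
    have hf : ∀ b : Fin (n + 1), (Pi.lift fun b => Pi.π (Uf ∘ σ) b.succ :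
        (∏ᶜ (Uf ∘ σ)) ⟶ ∏ᶜ (Uf ∘ τ)).left ≫ proj τ b = proj σ b.succ := fun b =>
      congrArg CommaMorphism.left (Pi.lift_π (fun b => Pi.π (Uf ∘ σ) b.succ) b)
    have h1 : fwd ≫ bwd = 𝟙 _ := by
      refine hom_ext σ _ _ fun q => ?_
      rw [Category.id_comp, Category.assoc, hbwd]
      induction q using Fin.cases with
      | zero => exact pullback.lift_snd _ _ _
      | succ b =>
        refine (Category.assoc _ _ _).symm.trans ?_
        exact (congrArg (· ≫ proj τ b) (pullback.lift_fst _ _ _)).trans (hf b)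
    have h2 : bwd ≫ fwd = 𝟙 _ := by
      refine pullback.hom_ext ?_ ?_
      · rw [Category.id_comp, Category.assoc, pullback.lift_fst]
        refine hom_ext τ _ _ fun b => ?_
        exact (Category.assoc _ _ _).trans ((congrArg (bwd ≫ ·) (hf b)).trans (hbwd b.succ))
      · rw [Category.id_comp, Category.assoc, pullback.lift_snd]
        exact hbwd 0
    exact qcqs_of_iso ⟨bwd, fwd, h2, h1⟩ (qcqs_pullback g h hU (ih τ) (hUf _))

variable {I : Type (u + 1)} [SmallCategory I] [IsFiltered I]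

open CechInj in
/-- Čech cohomology commutes with filtered colimits of sheaves. -/
theorem preservesColimitsOfShape_cechH [Finite ι] (hU : QCQS U) (hUf : ∀ i, QCQS (Uf i).left) (q : ℕ) :
    PreservesColimitsOfShape I
      (sheafToPresheaf X.smallEtaleTopology AddCommGrpCat.{u + 1} ⋙ EtCech.cechHFunctor Uf q) := by
  let T : EtCoh.Ab X ⥤ CochainComplex AddCommGrpCat.{u + 1} ℕ :=
    sheafToPresheaf X.smallEtaleTopology AddCommGrpCat.{u + 1} ⋙
      (Functor.whiskeringLeft (Over U)ᵒᵖ (X.Etale)ᵒᵖ AddCommGrpCat.{u + 1}).obj (Over.forget U).op ⋙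
      cechComplexFunctor Uf
  refine @preservesColimitsOfShape_of_natIso _ _ _ _ I _
    (T ⋙ HomologicalComplex.homologyFunctor _ _ q) _ (Iso.refl _)
    (AbFiltered.preservesColimitsOfShape_complex (J := I) T (fun n => ⟨fun {F} => ⟨fun {c} hc => ?_⟩⟩) q)
  refine AbFiltered.isColimit_of_isFC ⟨fun s => ?_, fun j y hy => ?_⟩
  · have hrep : ∀ σ : Fin (n + 1) → ι, ∃ (i : I) (t : (F.obj i).obj.obj (op (W (Uf := Uf) σ))),
        FilteredSec.img c t = comp' c.pt.obj n s σ := fun σ => by
      obtain ⟨h1, h2⟩ := qcqs_W Uf hU hUf n σ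
      exact FilteredSec.exists_rep c hc _
    choose i t ht using hrep
    classical
    have := Fintype.ofFinite ι
    obtain ⟨K, hK⟩ := IsFiltered.sup_objs_exists (Finset.univ.image i)
    obtain ⟨z, hz⟩ := (comp'_bijective (Uf := Uf) (F.obj K).obj n).2
      fun σ => FilteredSec.tr (hK (Finset.mem_image_of_mem i (Finset.mem_univ σ))).some (t σ)
    refine ⟨K, z, (comp'_bijective (Uf := Uf) c.pt.obj n).1 (funext fun σ => ?_)⟩
    refine Eq.trans ?_ ((FilteredSec.img_tr c (hK (Finset.mem_image_of_mem i (Finset.mem_univ σ))).some (t σ)).trans (ht σ))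
    rw [← congrFun hz σ]
    exact ConcreteCategory.congr_hom (Limits.Pi.map_π
      (fun τ => (c.ι.app K).hom.app (op (W (Uf := Uf) τ))) σ) z
  · have h0 : ∀ σ : Fin (n + 1) → ι, ∃ (k : I) (m : j ⟶ k),
        FilteredSec.tr m (comp' (F.obj j).obj n y σ) = 0 := fun σ => by
      obtain ⟨h1, h2⟩ := qcqs_W Uf hU hUf n σ
      obtain ⟨k, f, f', e⟩ := FilteredSec.exists_eq c hc (comp' (F.obj j).obj n y σ)
        (0 : ToType ((F.obj j).obj.obj (op (W (Uf := Uf) σ)))) (by
        refine Eq.trans ?_ (map_zero _).symm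
        refine (ConcreteCategory.congr_hom (Limits.Pi.map_π
          (fun τ => (c.ι.app j).hom.app (op (W (Uf := Uf) τ))) σ) y).symm.trans ?_
        exact (congrArg _ hy).trans (map_zero (Pi.π (fun τ => c.pt.obj.obj (op (W (Uf := Uf) τ))) σ).hom))
      exact ⟨k, f, e.trans (map_zero _)⟩
    choose k m hm using h0
    obtain ⟨K, p, hp⟩ := FilteredSec.exists_common j
      (fun σ : Fin (n + 1) → ι => k σ) m
    choose r hr using hp
    refine ⟨K, p, (comp'_bijective (Uf := Uf) (F.obj K).obj n).1 (funext fun σ => ?_)⟩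
    refine (ConcreteCategory.congr_hom (Limits.Pi.map_π
      (fun τ => (F.map p).hom.app (op (W (Uf := Uf) τ))) σ) y).trans ?_
    refine Eq.trans ?_ (map_zero _).symm
    refine Eq.trans (?_ : _ = FilteredSec.tr p (comp' (F.obj j).obj n y σ)) ?_
    · rfl
    rw [← hr σ, ← FilteredSec.tr_tr, hm σ]
    exact map_zero _

end Groth.EtaleBase.CechFiltered
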