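import Groth.Agent.EtaleBase.SuppSections
import Groth.Agent.SiteCohomology.HomShDual
import Groth.Agent.SiteCohomology.AcyclicImage
import Mathlib.Algebra.Homology.Homotopy

/-!
# Vanishing of local cohomology sheaves is local for the étale topology
-/

set_option autoImplicit false
set_option backward.isDefEq.respectTransparency.types false
set_option maxHeartbeats 1000000
set_option synthInstance.maxHeartbeats 200000

universe u

open CategoryTheory CategoryTheory.Limits AlgebraicGeometry Opposite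

namespace Groth.EtaleBase.Supp

open Groth.EtaleBase.LocConst

variable {X U : Scheme.{u}} (j : U ⟶ X) [IsOpenImmersion j]

/-- Exactness of the supported parts, on sections. -/
theorem exact_secSupp_iff (S : ShortComplex (EtCoh.Ab X)) :
    (S.map (EtDual.secSupp j)).Exact ↔ ∀ (V : X.Etale) (s : S.X₂.obj.obj (op V)),
      IsSupp j S.X₂ s → S.g.hom.app (op V) s = 0 → ∀ v : V.left, ∃ (Z : X.Etale) (g : Z ⟶ V),
        (∃ z, g.left.base z = v) ∧ ∃ b : S.X₁.obj.obj (op Z), IsSupp j S.X₁ b ∧
          S.f.hom.app (op Z) b = S.X₂.obj.map g.op s := by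
  constructor
  · intro h V s hs hg v
    obtain ⟨τ, hτ⟩ := exists_lift j S.X₂ s hs
    have hgτ : ((EtDual.secSupp j).map S.g).hom.app (op V) τ = 0 := by
      refine ι_injective j S.X₃ V ?_
      rw [ι_naturality, hτ, hg, map_zero]
    obtain ⟨R, hR, hloc⟩ := SiteCohomology.HomShDual.exists_local_preimage_of_exact h V τ hgτ
    obtain ⟨Z, g, z, hz, hzv⟩ := (mem_topology_iff _).1 hR v
    obtain ⟨a, ha⟩ := hloc g hz
    refine ⟨Z, g, ⟨z, hzv⟩, _, isSupp_ι j S.X₁ a, ?_⟩
    refine (ι_naturality j S.f a).symm.trans ?_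
    refine (congrArg _ ha).trans ?_
    refine (NatTrans.naturality_apply (kernel.ι (EtDual.unitApp j S.X₂)).hom g.op τ).trans ?_
    exact congrArg _ hτ
  · intro h
    let T := S.map (EtDual.secSupp j)
    rw [ShortComplex.exact_iff_epi_toCycles]
    refine (Sheaf.isLocallySurjective_iff_epi' (A := AddCommGrpCat.{u + 1}) T.toCycles).1 ⟨fun {V} c => ?_⟩
    rw [mem_topology_iff]
    intro v
    let τ : ((EtDual.secSupp j).obj S.X₂).obj.obj (op V) := T.iCycles.hom.app (op V) c
    have hτ : S.g.hom.app (op V) ((kernel.ι (EtDual.unitApp j S.X₂)).hom.app (op V) τ) = 0 := by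
      rw [← ι_naturality]
      refine (congrArg _ ?_).trans (map_zero _)
      exact ConcreteCategory.congr_hom
        (congrArg (fun m : T.cycles ⟶ T.X₃ => m.hom.app (op V)) T.iCycles_g) c
    obtain ⟨Z, g, ⟨z, hz⟩, b, hb, hfb⟩ := h V _ (isSupp_ι j S.X₂ τ) hτ v
    obtain ⟨a, ha⟩ := exists_lift j S.X₁ b hb
    refine ⟨Z, g, z, ⟨a, ?_⟩, hz⟩
    refine mono_sections_injective T.iCycles Z (ι_injective j S.X₂ Z ?_)
    refine (congrArg _ (ConcreteCategory.congr_hom
      (congrArg (fun m : T.X₁ ⟶ T.X₂ => m.hom.app (op Z)) T.toCycles_i) a)).trans ?_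
    refine (ι_naturality j S.f a).trans ?_
    rw [ha, hfb]
    refine Eq.trans ?_ (congrArg _ (NatTrans.naturality_apply T.iCycles.hom g.op c).symm)
    exact (NatTrans.naturality_apply (kernel.ι (EtDual.unitApp j S.X₂)).hom g.op τ).symm

/-- Vanishing of local cohomology sheaves, on sections of an injective resolution. -/
theorem isZero_locCoh_iff {F : EtCoh.Ab X} (I : InjectiveResolution F) (p : ℕ) :
    IsZero ((EtDual.locCoh j p).obj F) ↔ ((I.cocomplex.sc p).map (EtDual.secSupp j)).Exact :=
  (I.isoRightDerivedObj (EtDual.secSupp j) p).isZero_iff.trans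
    (HomologicalComplex.exactAt_iff_isZero_homology _ p).symm

/-- A morphism of restrictions on a member of the localized site. -/
noncomputable def ov {F G : EtCoh.Ab X} {W : X.Etale} (φ : EtCoh.restr F W ⟶ EtCoh.restr G W)
    (Y : Over W) : F.obj.obj (op Y.left) →+ G.obj.obj (op Y.left) :=
  (φ.hom.app (op Y)).hom

omit [IsOpenImmersion j] in
lemma ov_res {F G : EtCoh.Ab X} {W : X.Etale} (φ : EtCoh.restr F W ⟶ EtCoh.restr G W)
    {Y Y' : Over W} (g : Y ⟶ Y') (s : F.obj.obj (op Y'.left)) :
    G.obj.map g.left.op (ov φ Y' s) = ov φ Y (F.obj.map g.left.op s) :=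
  (NatTrans.naturality_apply φ.hom g.op s).symm

/-- Locally isomorphic sheaves have vanishing local cohomology sheaves in the same degrees. -/
theorem isZero_locCoh_of_locally_iso (F G : EtCoh.Ab X)
    (hloc : ∀ x : X, ∃ (W : X.Etale), (∃ y, W.hom.base y = x) ∧
      Nonempty (EtCoh.restr G W ≅ EtCoh.restr F W))
    (p : ℕ) (h : IsZero ((EtDual.locCoh j p).obj F)) : IsZero ((EtDual.locCoh j p).obj G) := by
  let I : InjectiveResolution F := injectiveResolution F
  let J : InjectiveResolution G := injectiveResolution G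
  rw [isZero_locCoh_iff j I, exact_secSupp_iff] at h
  rw [isZero_locCoh_iff j J, exact_secSupp_iff]
  intro V s hs hg v
  obtain ⟨W, ⟨y, hy⟩, ⟨e⟩⟩ := hloc (V.hom.base v)
  let R := X.smallEtaleTopology.overPullback AddCommGrpCat.{u + 1} W
  have hlim : PreservesFiniteLimits R :=
    ((Over.forget W).sheafAdjunctionContinuous AddCommGrpCat.{u + 1} (X.smallEtaleTopology.over W)
      X.smallEtaleTopology).rightAdjoint_preservesLimits.{0, 0}.preservesFiniteLimits
  have hcolim : PreservesFiniteColimits R :=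
    SiteCohomology.preservesFiniteColimits_sheafPushforward (X.smallEtaleTopology.over W)
      X.smallEtaleTopology (Over.forget W) AddCommGrpCat.{u + 1}
  have hinj : ∀ A : EtCoh.Ab X, Injective A → Injective (R.obj A) := fun A _ =>
    SiteCohomology.HomShDual.injective_over W A
  let QI : InjectiveResolution (R.obj F) := SiteCohomology.mapInjectiveResolution R I hinj fun k =>
    (I.cocomplex_exactAt_succ k).map R
  let QJ₀ : InjectiveResolution (R.obj G) := SiteCohomology.mapInjectiveResolution R J hinj fun k =>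
    (J.cocomplex_exactAt_succ k).map R
  let QJ : InjectiveResolution (R.obj F) :=
    { cocomplex := QJ₀.cocomplex
      injective := QJ₀.injective
      ι := (CochainComplex.single₀ _).map e.inv ≫ QJ₀.ι }
  let H := InjectiveResolution.homotopyEquiv QJ QI
  let φ : ∀ n, EtCoh.restr (J.cocomplex.X n) W ⟶ EtCoh.restr (I.cocomplex.X n) W := fun n => H.hom.f n
  let ψ : ∀ n, EtCoh.restr (I.cocomplex.X n) W ⟶ EtCoh.restr (J.cocomplex.X n) W := fun n => H.inv.f n
  let k : ∀ a b, EtCoh.restr (J.cocomplex.X a) W ⟶ EtCoh.restr (J.cocomplex.X b) W :=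
    fun a b => H.homotopyHomInvId.hom a b
  have hφ : ∀ a b (Y : Over W) (t : (J.cocomplex.X a).obj.obj (op Y.left)),
      ov (φ b) Y ((J.cocomplex.d a b).hom.app (op Y.left) t) =
        (I.cocomplex.d a b).hom.app (op Y.left) (ov (φ a) Y t) := fun a b Y t =>
    (ConcreteCategory.congr_hom
      (congrArg (fun m : EtCoh.restr (J.cocomplex.X a) W ⟶ EtCoh.restr (I.cocomplex.X b) W =>
        m.hom.app (op Y)) (H.hom.comm a b)) t).symm
  have hψ : ∀ a b (Y : Over W) (t : (I.cocomplex.X a).obj.obj (op Y.left)),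
      ov (ψ b) Y ((I.cocomplex.d a b).hom.app (op Y.left) t) =
        (J.cocomplex.d a b).hom.app (op Y.left) (ov (ψ a) Y t) := fun a b Y t =>
    (ConcreteCategory.congr_hom
      (congrArg (fun m : EtCoh.restr (I.cocomplex.X a) W ⟶ EtCoh.restr (J.cocomplex.X b) W =>
        m.hom.app (op Y)) (H.inv.comm a b)) t).symm
  have hk : ∀ (Y : Over W) (t : (J.cocomplex.X p).obj.obj (op Y.left)),
      ov (ψ p) Y (ov (φ p) Y t) =
        ((ov (k ((ComplexShape.up ℕ).next p) p) Y)
            ((J.cocomplex.d p ((ComplexShape.up ℕ).next p)).hom.app (op Y.left) t) :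
              (J.cocomplex.X p).obj.obj (op Y.left)) +
          (J.cocomplex.d ((ComplexShape.up ℕ).prev p) p).hom.app (op Y.left)
            (ov (k p ((ComplexShape.up ℕ).prev p)) Y t) + t := fun Y t =>
    ConcreteCategory.congr_hom
      (congrArg (fun m : EtCoh.restr (J.cocomplex.X p) W ⟶ EtCoh.restr (J.cocomplex.X p) W =>
        m.hom.app (op Y)) (H.homotopyHomInvId.comm p)) t
  obtain ⟨t₁, ht₁⟩ := exists_geomPoint_lift V v
  obtain ⟨t₂, -⟩ := exists_fiber_of_point (geomPoint (V.hom.base v)) W y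
    (hy.trans (geomPoint_apply _ _).symm)
  obtain ⟨V', a, c, w, hwa, -⟩ := exists_common _ V W t₁ t₂
  subst hwa
  let s' := (J.cocomplex.X p).obj.map a.op s
  have hs' : IsSupp j (J.cocomplex.X p) s' := hs.res j a
  have hg' : (J.cocomplex.d p ((ComplexShape.up ℕ).next p)).hom.app (op V') s' = 0 :=
    (NatTrans.naturality_apply (J.cocomplex.d p ((ComplexShape.up ℕ).next p)).hom a.op s).trans
      ((congrArg _ hg).trans (map_zero _))
  let Y' : Over W := Over.mk c
  obtain ⟨Z, g, ⟨z, hz⟩, b, hb, hdb⟩ := h V' (ov (φ p) Y' s')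
    (hs'.app_over j (φ p) Y') (by
      refine (hφ p _ Y' s').symm.trans ?_
      exact (congrArg _ hg').trans (map_zero _)) (fiberPoint _ w)
  refine ⟨Z, g ≫ a, ⟨z, ?_⟩, ?_⟩
  · rw [← ht₁]
    exact (congrArg a.left.base hz).trans (fiberPoint_map _ a w).symm
  let Y : Over W := Over.mk (g ≫ c)
  let gY : Y ⟶ Y' := Over.homMk g rfl
  let s'' : (J.cocomplex.X p).obj.obj (op Y.left) := (J.cocomplex.X p).obj.map g.op s'
  let q := (ComplexShape.up ℕ).prev p
  let b₁ : (J.cocomplex.X q).obj.obj (op Y.left) := ov (ψ q) Y b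
  let b₂ : (J.cocomplex.X q).obj.obj (op Y.left) := ov (k p q) Y s''
  let b' : (J.cocomplex.X q).obj.obj (op Y.left) := b₁ + -b₂
  refine ⟨b', ?_, ?_⟩
  · exact IsSupp.add j (hb.app_over j (ψ q) Y) (((hs'.res j g).app_over j (k p q) Y).neg j)
  · change (J.cocomplex.d q p).hom.app (op Z) b' = (J.cocomplex.X p).obj.map (g ≫ a).op s
    rw [op_comp, Functor.map_comp_apply]
    change (J.cocomplex.d q p).hom.app (op Y.left) b' = s''
    simp only [b', map_add, map_neg]
    refine (congrArg (· + _) ((hψ q p Y b).symm.trans (congrArg _ hdb))).trans ?_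
    have h2 : (I.cocomplex.X p).obj.map gY.left.op (ov (φ p) Y' s') = ov (φ p) Y s'' :=
      ov_res (φ p) gY s'
    have h3 : (J.cocomplex.d p ((ComplexShape.up ℕ).next p)).hom.app (op Z) s'' = 0 :=
      (NatTrans.naturality_apply (J.cocomplex.d p ((ComplexShape.up ℕ).next p)).hom g.op s').trans
        ((congrArg _ hg').trans (map_zero _))
    refine (congrArg (fun z => ov (ψ p) Y z + _) h2).trans ?_
    refine (congrArg (· + _) ((hk Y s'').trans (congrArg (fun z => z + _ + s'')
      ((congrArg _ h3).trans (map_zero _))))).trans ?_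
    abel

end Groth.EtaleBase.Supp
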