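import Groth.Agent.EtaleBase.SuppSections
import Groth.Agent.SiteCohomology.AcyclicImage
import Groth.Agent.EtaleBase.Support
import Mathlib.Algebra.Homology.HomologySequence
import Mathlib.Algebra.Homology.HomologicalComplexAbelian
import Mathlib.Algebra.Homology.ShortComplex.Ab

/-!
# Cohomology with supports in a nested pair of closed subsets
-/

set_option autoImplicit false
set_option backward.isDefEq.respectTransparency.types false
set_option maxHeartbeats 1000000

universe u

open CategoryTheory CategoryTheory.Limits AlgebraicGeometry Opposite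

namespace Groth.EtaleBase.Supp

attribute [local instance] InjCoh.jCont

variable {X : Scheme.{u}}

lemma range_cu {U : Scheme.{u}} (j : U ⟶ X) [AlgebraicGeometry.Etale j] (V : X.Etale) :
    Set.range (cu j V).left.base = V.hom.base ⁻¹' Set.range j.base := by
  change Set.range (pullback.fst V.hom j).base = _
  exact Scheme.Pullback.range_fst V.hom j

/-- Supported sections are those vanishing at all points over the open. -/
theorem isSupp_iff {U : Scheme.{u}} (j : U ⟶ X) [AlgebraicGeometry.Etale j] {F : EtCoh.Ab X}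
    {V : X.Etale} (s : F.obj.obj (op V)) :
    IsSupp j F s ↔ V.hom.base ⁻¹' Set.range j.base ⊆ vanishSet F V s := by
  rw [IsSupp, map_eq_zero_iff_range_subset, range_cu]

/-- Vanishing of a restricted section. -/
theorem vanishSet_res (F : EtCoh.Ab X) {T V : X.Etale} (m : T ⟶ V) (s : F.obj.obj (op V)) :
    vanishSet F T (F.obj.map m.op s) = m.left.base ⁻¹' vanishSet F V s := by
  ext z
  constructor
  · rintro ⟨W, g, ⟨w, rfl⟩, hz⟩
    rw [← Functor.map_comp_apply, ← op_comp] at hz
    exact ⟨W, g ≫ m, ⟨w, rfl⟩, hz⟩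
  · intro hz
    let O : T.left.Opens :=
      ⟨m.left.base ⁻¹' vanishSet F V s, (isOpen_vanishSet F V s).preimage m.left.continuous⟩
    refine ⟨openObj T O, openHom T O, ⟨⟨z, hz⟩, rfl⟩, ?_⟩
    rw [← Functor.map_comp_apply, ← op_comp, map_eq_zero_iff_range_subset]
    rintro _ ⟨w, rfl⟩
    exact w.2

variable {U X' : Scheme.{u}} (j : U ⟶ X) [IsOpenImmersion j] (k' : X' ⟶ X) [IsOpenImmersion k']
  (j' : U ⟶ X') [IsOpenImmersion j'] (hfac : j' ≫ k' = j)

/-- Global sections. -/
noncomputable abbrev gTop (X : Scheme.{u}) : EtCoh.Ab X ⥤ AddCommGrpCat.{u + 1} :=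
  sheafToPresheaf X.smallEtaleTopology AddCommGrpCat.{u + 1} ⋙
    (evaluation X.Etaleᵒᵖ AddCommGrpCat.{u + 1}).obj (op (EtCoh.top X))

/-- The image of the open subscheme in the total scheme. -/
noncomputable def mTop : (EtShriek.compEtale k').obj (EtCoh.top X') ⟶ EtCoh.top X :=
  MorphismProperty.Over.homMk k' ((Category.comp_id k').trans (Category.id_comp k').symm)

/-- The value of a supported global section. -/
noncomputable def valTop {V : Scheme.{u}} (l : V ⟶ X) [IsOpenImmersion l] (F : EtCoh.Ab X) :
    (EtDual.gammaSupp l).obj F ⟶ F.obj.obj (op (EtCoh.top X)) :=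
  (kernel.ι (EtDual.unitApp l F)).hom.app (op (EtCoh.top X))

lemma valTop_injective {V : Scheme.{u}} (l : V ⟶ X) [IsOpenImmersion l] (F : EtCoh.Ab X) :
    Function.Injective (valTop l F) :=
  ι_injective l F _

lemma isSupp_valTop {V : Scheme.{u}} (l : V ⟶ X) [IsOpenImmersion l] (F : EtCoh.Ab X)
    (τ : (EtDual.gammaSupp l).obj F) : IsSupp l F (valTop l F τ) :=
  isSupp_ι l F τ

lemma exists_valTop {V : Scheme.{u}} (l : V ⟶ X) [IsOpenImmersion l] (F : EtCoh.Ab X)
    (s : F.obj.obj (op (EtCoh.top X))) (hs : IsSupp l F s) :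
    ∃ τ : (EtDual.gammaSupp l).obj F, valTop l F τ = s :=
  exists_lift l F s hs

lemma valTop_naturality {V : Scheme.{u}} (l : V ⟶ X) [IsOpenImmersion l] {F G : EtCoh.Ab X} (f : F ⟶ G)
    (τ : (EtDual.gammaSupp l).obj F) :
    valTop l G ((EtDual.gammaSupp l).map f τ) = f.hom.app (op (EtCoh.top X)) (valTop l F τ) :=
  ι_naturality l f τ

include hfac

lemma range_subset : Set.range j.base ⊆ Set.range k'.base := by
  rintro _ ⟨x, rfl⟩
  exact ⟨j'.base x, by rw [← hfac]; rfl⟩

lemma IsSupp.of_larger {F : EtCoh.Ab X} {V : X.Etale} {s : F.obj.obj (op V)} (h : IsSupp k' F s) :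
    IsSupp j F s := by
  rw [isSupp_iff] at h ⊢
  exact (Set.preimage_mono (range_subset j k' j' hfac)).trans h

lemma isSupp_restr_iff {F : EtCoh.Ab X} (t : F.obj.obj (op ((EtShriek.compEtale k').obj (EtCoh.top X')))) :
    IsSupp j' ((EtShriek.restrAlong k').obj F) (V := EtCoh.top X') t ↔
      ((EtShriek.compEtale k').obj (EtCoh.top X')).hom.base ⁻¹' Set.range j.base ⊆
        vanishSet F ((EtShriek.compEtale k').obj (EtCoh.top X')) t := by
  have e : ((EtShriek.compEtale k').obj (EtCoh.top X')).hom.base ⁻¹' Set.range j.base =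
      Set.range ((EtShriek.compEtale k').map (cu j' (EtCoh.top X'))).left.base := by
    change ((𝟙 X' ≫ k').base) ⁻¹' Set.range j.base = Set.range (cu j' (EtCoh.top X')).left.base
    rw [range_cu, Category.id_comp]
    ext z
    constructor
    · rintro ⟨x, hx⟩
      rw [← hfac] at hx
      exact ⟨x, k'.isOpenEmbedding.injective hx⟩
    · rintro ⟨x, hx⟩
      exact ⟨x, by rw [← hfac]; exact congrArg k'.base hx⟩
  rw [e]
  exact map_eq_zero_iff_range_subset F ((EtShriek.compEtale k').map (cu j' (EtCoh.top X'))) t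

/-- A section supported rel `j` restricts to a section supported rel `j'`. -/
lemma IsSupp.restr {F : EtCoh.Ab X} {s : F.obj.obj (op (EtCoh.top X))} (h : IsSupp j F s) :
    IsSupp j' ((EtShriek.restrAlong k').obj F) (V := EtCoh.top X') (F.obj.map (mTop k').op s) := by
  rw [isSupp_restr_iff j k' j' hfac, vanishSet_res]
  rw [isSupp_iff] at h
  intro z hz
  refine h ?_
  obtain ⟨x, hx⟩ := hz
  exact ⟨x, hx⟩

theorem exists_incl : ∃ α : EtDual.gammaSupp k' ⟶ EtDual.gammaSupp j,
    ∀ F τ, valTop j F (α.app F τ) = valTop k' F τ := by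
  choose a ha using fun (F : EtCoh.Ab X) (τ : (EtDual.gammaSupp k').obj F) =>
    exists_valTop j F _ ((isSupp_valTop k' F τ).of_larger j k' j' hfac)
  refine ⟨{ app := fun F => AddCommGrpCat.ofHom (AddMonoidHom.mk' (a F) fun x y =>
              valTop_injective j F ((ha F (x + y)).trans ((map_add (valTop k' F).hom x y).trans
                ((congrArg₂ (· + ·) (ha F x).symm (ha F y).symm).trans (map_add (valTop j F).hom _ _).symm))))
            naturality := fun F G f => AddCommGrpCat.ext fun τ => valTop_injective j G ?_ }, ha⟩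
  change valTop j G (a G ((EtDual.gammaSupp k').map f τ)) =
    valTop j G ((EtDual.gammaSupp j).map f (a F τ))
  rw [ha, valTop_naturality, valTop_naturality, ha]

theorem exists_restr : ∃ β : EtDual.gammaSupp j ⟶ EtShriek.restrAlong k' ⋙ EtDual.gammaSupp j',
    ∀ F τ, valTop j' ((EtShriek.restrAlong k').obj F) (β.app F τ) =
      F.obj.map (mTop k').op (valTop j F τ) := by
  choose b hb using fun (F : EtCoh.Ab X) (τ : (EtDual.gammaSupp j).obj F) =>
    exists_valTop j' _ _ ((isSupp_valTop j F τ).restr j k' j' hfac)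
  refine ⟨{ app := fun F => AddCommGrpCat.ofHom (AddMonoidHom.mk' (b F) fun x y =>
              valTop_injective j' _ ?_)
            naturality := fun F G f => AddCommGrpCat.ext fun τ => valTop_injective j' _ ?_ }, hb⟩
  · exact (hb F (x + y)).trans ((congrArg _ (map_add (valTop j F).hom x y)).trans ((map_add _ _ _).trans
      ((congrArg₂ (· + ·) (hb F x).symm (hb F y).symm).trans (map_add (valTop j' _).hom _ _).symm)))
  · change valTop j' _ (b G ((EtDual.gammaSupp j).map f τ)) =
      valTop j' _ ((EtDual.gammaSupp j').map ((EtShriek.restrAlong k').map f) (b F τ))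
    rw [hb, valTop_naturality, valTop_naturality, hb]
    exact (NatTrans.naturality_apply f.hom (mTop k').op _).symm

omit hfac in
/-- Sections over the open extend for injective sheaves. -/
theorem exists_extension (I : EtCoh.Ab X) [Injective I]
    (t : I.obj.obj (op ((EtShriek.compEtale k').obj (EtCoh.top X')))) :
    ∃ s : I.obj.obj (op (EtCoh.top X)), I.obj.map (mTop k').op s = t := by
  obtain ⟨σ, hσ⟩ := exists_section k' I
  let l : (EtCoh.bc k').obj (EtCoh.top X) ⟶ EtCoh.top X' :=
    MorphismProperty.Over.homMk (pullback.snd (EtCoh.top X).hom k') (Category.comp_id _)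
  let l' : EtCoh.top X' ⟶ (EtCoh.bc k').obj (EtCoh.top X) :=
    MorphismProperty.Over.homMk (pullback.lift k' (𝟙 X')
      ((Category.comp_id k').trans (Category.id_comp k').symm)) (pullback.lift_snd _ _ _)
  let u := (restrPushAdj k').unit.app I
  let t' : ((EtCoh.push k').obj ((EtShriek.restrAlong k').obj I)).obj.obj (op (EtCoh.top X)) :=
    I.obj.map ((EtShriek.compEtale k').map l).op t
  let σ' : (EtCoh.push k').obj ((EtShriek.restrAlong k').obj I) ⟶ I :=
    (EtCoh.push k').map ((pullRestrIso k').inv.app I) ≫ σ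
  have hσ' : σ' ≫ u = 𝟙 _ := by
    change σ' ≫ (restrPushAdj k').unit.app I = _
    rw [← unit_push_pullRestrIso, Category.assoc, reassoc_of% hσ, ← Functor.map_comp,
      Iso.inv_hom_id_app]
    exact (EtCoh.push k').map_id _
  refine ⟨σ'.hom.app (op (EtCoh.top X)) t', ?_⟩
  have h1 : I.obj.map (cu k' (EtCoh.top X)).op (σ'.hom.app (op (EtCoh.top X)) t') = t' :=
    ConcreteCategory.congr_hom (congrArg (fun m : (EtCoh.push k').obj ((EtShriek.restrAlong k').obj I) ⟶
      (EtCoh.push k').obj ((EtShriek.restrAlong k').obj I) => m.hom.app (op (EtCoh.top X))) hσ') t'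
  have h2 : (EtShriek.compEtale k').map l' ≫ cu k' (EtCoh.top X) = mTop k' :=
    MorphismProperty.Over.Hom.ext (pullback.lift_fst _ _ _)
  rw [← h2, op_comp, Functor.map_comp_apply, h1]
  change I.obj.map ((EtShriek.compEtale k').map l').op (I.obj.map ((EtShriek.compEtale k').map l).op t) = t
  rw [← Functor.map_comp_apply, ← op_comp, ← Functor.map_comp,
    show l' ≫ l = 𝟙 _ from MorphismProperty.Over.Hom.ext (pullback.lift_snd _ _ _)]
  simp

/-- A comparison when the cohomology with supports in the smaller closed subset vanishes. -/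
theorem nonempty_iso_HY (F : EtCoh.Ab X) (q : ℕ)
    (h₀ : IsZero ((EtDual.HY k' q).obj F)) (h₁ : IsZero ((EtDual.HY k' (q + 1)).obj F)) :
    Nonempty ((EtDual.HY j q).obj F ≅ (EtDual.HY j' q).obj ((EtShriek.restrAlong k').obj F)) := by
  obtain ⟨α, hα⟩ := exists_incl j k' j' hfac
  obtain ⟨β, hβ⟩ := exists_restr j k' j' hfac
  let I : InjectiveResolution F := injectiveResolution F
  have hadd : (EtShriek.restrAlong k').Additive := ⟨fun {F G f g} => rfl⟩
  have hlim : PreservesFiniteLimits (EtShriek.restrAlong k') :=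
    haveI : PreservesLimitsOfSize.{0, 0} (EtShriek.restrAlong k') :=
      (EtShriek.extZeroAdj k').rightAdjoint_preservesLimits
    PreservesLimitsOfSize.preservesFiniteLimits _
  have hcolim : PreservesFiniteColimits (EtShriek.restrAlong k') :=
    haveI : PreservesColimitsOfSize.{0, 0} (EtShriek.restrAlong k') :=
      (restrPushAdj k').leftAdjoint_preservesColimits
    PreservesColimitsOfSize.preservesFiniteColimits _
  let J : InjectiveResolution ((EtShriek.restrAlong k').obj F) :=
    SiteCohomology.mapInjectiveResolution (EtShriek.restrAlong k') I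
      (fun A _ => by
        have := InjCoh.pull_injective k' A
        exact Injective.of_iso ((pullRestrIso k').app A) this)
      fun n => (I.cocomplex_exactAt_succ n).map (EtShriek.restrAlong k')
  let S : ShortComplex (CochainComplex AddCommGrpCat.{u + 1} ℕ) :=
    ShortComplex.mk ((NatTrans.mapHomologicalComplex α (ComplexShape.up ℕ)).app I.cocomplex)
      ((NatTrans.mapHomologicalComplex β (ComplexShape.up ℕ)).app I.cocomplex)
      (HomologicalComplex.hom_ext _ _ fun n => AddCommGrpCat.ext fun τ =>
        valTop_injective j' _ (by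
          change valTop j' _ (β.app _ (α.app (I.cocomplex.X n) τ)) = valTop j' _ 0
          rw [hβ, hα]
          refine ((map_eq_zero_iff_range_subset (I.cocomplex.X n) (mTop k')
            (valTop k' (I.cocomplex.X n) τ)).2 ?_).trans (map_zero _).symm
          rintro _ ⟨z, rfl⟩
          have := (isSupp_iff k' _).1 (isSupp_valTop k' (I.cocomplex.X n) τ)
          exact this ⟨z, rfl⟩))
  have hS : S.ShortExact := by
    refine HomologicalComplex.shortExact_of_degreewise_shortExact _ fun n => ?_
    let A := I.cocomplex.X n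
    have hinjA : Injective A := I.injective n
    refine ShortComplex.ShortExact.mk' ?_ ?_ ?_
    · rw [ShortComplex.ab_exact_iff]
      intro x hx
      change β.app A x = 0 at hx
      have h0 : A.obj.map (mTop k').op (valTop j A x) = 0 :=
        (hβ A x).symm.trans ((congrArg _ hx).trans (map_zero _))
      rw [map_eq_zero_iff_range_subset] at h0
      obtain ⟨τ, hτ⟩ := exists_valTop k' A (valTop j A x) ((isSupp_iff k' _).2 (by
        rintro z ⟨w, hw⟩
        exact h0 ⟨w, hw⟩))
      exact ⟨τ, valTop_injective j A ((hα A τ).trans hτ)⟩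
    · exact (AddCommGrpCat.mono_iff_injective _).2 fun x y e =>
        valTop_injective k' A ((hα A x).symm.trans ((congrArg (valTop j A) e).trans (hα A y)))
    · refine (AddCommGrpCat.epi_iff_surjective _).2 fun y => ?_
      obtain ⟨s, hs⟩ := exists_extension k' A (valTop j' ((EtShriek.restrAlong k').obj A) y)
      have hsupp : IsSupp j A s := by
        have := (isSupp_restr_iff j k' j' hfac _).1 (isSupp_valTop j' ((EtShriek.restrAlong k').obj A) y)
        rw [← hs, vanishSet_res] at this
        rw [isSupp_iff]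
        rintro z ⟨x, hx⟩
        have hx' : (EtCoh.top X).hom.base z = z := rfl
        rw [hx', ← hfac] at hx
        have hz : z = k'.base (j'.base x) := hx.symm
        rw [hz]
        exact this ⟨x, by rw [← hfac]; rfl⟩
      obtain ⟨τ, hτ⟩ := exists_valTop j A s hsupp
      exact ⟨τ, valTop_injective j' _ ((hβ A τ).trans ((congrArg _ hτ).trans hs))⟩
  have hz₀ : IsZero (S.X₁.homology q) :=
    h₀.of_iso (I.isoRightDerivedObj (EtDual.gammaSupp k') q).symm
  have hz₁ : IsZero (S.X₁.homology (q + 1)) :=
    h₁.of_iso (I.isoRightDerivedObj (EtDual.gammaSupp k') (q + 1)).symm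
  have hm : Mono (HomologicalComplex.homologyMap S.g q) :=
    (hS.homology_exact₂ q).mono_g (hz₀.eq_of_src _ _)
  have he : Epi (HomologicalComplex.homologyMap S.g q) :=
    (hS.homology_exact₃ q (q + 1) (by simp)).epi_f (hz₁.eq_of_tgt _ _)
  have : IsIso (HomologicalComplex.homologyMap S.g q) := isIso_of_mono_of_epi _
  exact ⟨I.isoRightDerivedObj (EtDual.gammaSupp j) q ≪≫ @asIso _ _ _ _ (HomologicalComplex.homologyMap S.g q) this ≪≫
    (J.isoRightDerivedObj (EtDual.gammaSupp j') q).symm⟩

end Groth.EtaleBase.Supp
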