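import Groth.Agent.EtaleBase.LocConst
import Groth.Prelude.Def_EtCore
import Mathlib.Algebra.Homology.ShortComplex.ExactFunctor
import Mathlib.CategoryTheory.Sites.EpiMono
import Mathlib.CategoryTheory.ObjectProperty.Extensions

/-!
Operations on locally constant sheaves.
-/

set_option autoImplicit false

universe u

open CategoryTheory CategoryTheory.Limits AlgebraicGeometry Opposite

namespace Groth.EtaleBase.LocConst

variable {X : Scheme.{u}} {Ω : Type u} [Field Ω] [IsSepClosed Ω] (ξ : Spec (CommRingCat.of Ω) ⟶ X)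

/-- A common refinement of two lifts. -/
lemma exists_common (U V : X.Etale) (t : (Scheme.pointSmallEtale ξ).fiber.obj U)
    (t' : (Scheme.pointSmallEtale ξ).fiber.obj V) :
    ∃ (W : X.Etale) (g : W ⟶ U) (h : W ⟶ V) (w : (Scheme.pointSmallEtale ξ).fiber.obj W),
      (Scheme.pointSmallEtale ξ).fiber.map g w = t ∧ (Scheme.pointSmallEtale ξ).fiber.map h w = t' := by
  obtain ⟨W₀, pm, qm, -⟩ := IsCofilteredOrEmpty.cone_objs (C := (Scheme.pointSmallEtale ξ).fiber.Elements)
    (Functor.elementsMk _ U t) (Functor.elementsMk _ V t')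
  exact ⟨W₀.1, pm.1, qm.1, W₀.2, pm.2, qm.2⟩

/-- Finitely many equalities of germs hold on one neighbourhood. -/
lemma exists_common_eq {F : EtCoh.Ab X} {ι : Type*} [Finite ι] (V : X.Etale)
    (t : (Scheme.pointSmallEtale ξ).fiber.obj V) (σ σ' : ι → F.obj.obj (op V))
    (h : ∀ i, germ ξ F V t (σ i) = germ ξ F V t (σ' i)) :
    ∃ (W : X.Etale) (g : W ⟶ V) (w : (Scheme.pointSmallEtale ξ).fiber.obj W),
      (Scheme.pointSmallEtale ξ).fiber.map g w = t ∧ ∀ i, F.obj.map g.op (σ i) = F.obj.map g.op (σ' i) := by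
  classical
  have := Fintype.ofFinite ι
  suffices ∀ s : Finset ι, ∃ (W : X.Etale) (g : W ⟶ V) (w : (Scheme.pointSmallEtale ξ).fiber.obj W),
      (Scheme.pointSmallEtale ξ).fiber.map g w = t ∧ ∀ i ∈ s, F.obj.map g.op (σ i) = F.obj.map g.op (σ' i) by
    obtain ⟨W, g, w, hw, he⟩ := this Finset.univ
    exact ⟨W, g, w, hw, fun i => he i (Finset.mem_univ i)⟩
  intro s
  induction s using Finset.induction with
  | empty => exact ⟨V, 𝟙 V, t, by simp, fun i hi => absurd hi (Finset.notMem_empty i)⟩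
  | insert i s _ ih =>
    obtain ⟨W, g, w, hw, he⟩ := ih
    have : germ ξ F W w (F.obj.map g.op (σ i)) = germ ξ F W w (F.obj.map g.op (σ' i)) := by
      rw [germ_res, germ_res, hw]; exact h i
    obtain ⟨W', g', w', hw', he'⟩ := (germ_eq_iff ξ F W w _ _).1 this
    refine ⟨W', g' ≫ g, w', by rw [Functor.map_comp_apply, hw', hw], fun j hj => ?_⟩
    rw [op_comp, Functor.map_comp_apply, Functor.map_comp_apply]
    rcases Finset.mem_insert.1 hj with rfl | hj
    · exact he'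
    · rw [he j hj]

/-- Finitely many germs are represented on one neighbourhood. -/
lemma exists_common_rep {F : EtCoh.Ab X} {ι : Type*} [Finite ι] (V : X.Etale)
    (t : (Scheme.pointSmallEtale ξ).fiber.obj V) (z : ι → (EtCoh.stalk ξ).obj F) :
    ∃ (W : X.Etale) (g : W ⟶ V) (w : (Scheme.pointSmallEtale ξ).fiber.obj W) (σ : ι → F.obj.obj (op W)),
      (Scheme.pointSmallEtale ξ).fiber.map g w = t ∧ ∀ i, germ ξ F W w (σ i) = z i := by
  classical
  have := Fintype.ofFinite ι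
  suffices ∀ s : Finset ι, ∃ (W : X.Etale) (g : W ⟶ V) (w : (Scheme.pointSmallEtale ξ).fiber.obj W)
      (σ : ι → F.obj.obj (op W)),
      (Scheme.pointSmallEtale ξ).fiber.map g w = t ∧ ∀ i ∈ s, germ ξ F W w (σ i) = z i by
    obtain ⟨W, g, w, σ, hw, he⟩ := this Finset.univ
    exact ⟨W, g, w, σ, hw, fun i => he i (Finset.mem_univ i)⟩
  intro s
  induction s using Finset.induction with
  | empty => exact ⟨V, 𝟙 V, t, fun _ => 0, by simp, fun i hi => absurd hi (Finset.notMem_empty i)⟩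
  | insert i s hi ih =>
    obtain ⟨W, g, w, σ, hw, he⟩ := ih
    obtain ⟨W', g', w', τ, hw', hτ⟩ := exists_rep_over ξ F W w (z i)
    refine ⟨W', g' ≫ g, w', Function.update (fun j => F.obj.map g'.op (σ j)) i τ,
      by rw [Functor.map_comp_apply, hw', hw], fun j hj => ?_⟩
    rcases Finset.mem_insert.1 hj with rfl | hj
    · rw [Function.update_self]; exact hτ
    · rw [Function.update_of_ne (fun e => hi (e ▸ hj) : j ≠ i), germ_res, hw']
      exact he j hj

/-- Epimorphisms are surjective on stalks. -/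
lemma stalk_surjective_of_epi {F G : EtCoh.Ab X} (φ : F ⟶ G) [Epi φ] :
    Function.Surjective ((EtCoh.stalk ξ).map φ) := by
  intro z
  obtain ⟨U, t, σ, rfl⟩ := germ_surjective ξ G z
  have : Presheaf.IsLocallySurjective X.smallEtaleTopology φ.hom :=
    (Sheaf.isLocallySurjective_iff_epi' (A := AddCommGrpCat.{u + 1}) φ).2 ‹_›
  obtain ⟨V, k, v, ⟨τ, hτ⟩, hv⟩ := (mem_topology_iff _).1
    (Presheaf.imageSieve_mem X.smallEtaleTopology φ.hom (U := op U) σ) (fiberPoint ξ t)
  obtain ⟨w, hw, -⟩ := exists_fiber_lift ξ k t v hv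
  refine ⟨germ ξ F V w τ, (germ_map ξ φ V w τ).trans ?_⟩
  exact (congrArg _ hτ).trans ((germ_res ξ G k w σ).trans (congrArg (fun z => germ ξ G U z σ) hw))

/-- Stalks of exact sequences are exact. -/
lemma stalk_exact {S : ShortComplex (EtCoh.Ab X)} (hS : S.Exact) :
    (S.map (EtCoh.stalk ξ)).Exact := by
  rw [ShortComplex.ab_exact_iff]
  intro x hx
  have hK : ((ShortComplex.mk S.iCycles S.g S.iCycles_g).map (EtCoh.stalk ξ)).Exact :=
    (ShortComplex.exact_of_f_is_kernel _ S.cyclesIsKernel).map_of_mono_of_preservesKernel _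
      (inferInstanceAs (Mono S.iCycles)) inferInstance
  obtain ⟨c, hc⟩ := (ShortComplex.ab_exact_iff _).1 hK x hx
  have := hS.epi_toCycles
  obtain ⟨b, rfl⟩ := stalk_surjective_of_epi ξ S.toCycles c
  refine ⟨b, Eq.trans ?_ hc⟩
  exact (congrArg (fun m => (EtCoh.stalk ξ).map m b) S.toCycles_i.symm).trans
    (by rw [Functor.map_comp, ConcreteCategory.comp_apply]; rfl)

omit ξ in
/-- Sections of a kernel. -/
lemma exists_kernel_lift {F G : EtCoh.Ab X} (φ : F ⟶ G) (U : X.Etale) (σ : F.obj.obj (op U))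
    (h : φ.hom.app (op U) σ = 0) : ∃ τ, (kernel.ι φ).hom.app (op U) τ = σ := by
  let E : EtCoh.Ab X ⥤ AddCommGrpCat.{u + 1} :=
    sheafToPresheaf X.smallEtaleTopology _ ⋙ (evaluation X.Etaleᵒᵖ _).obj (op U)
  let S := ShortComplex.mk (kernel.ι φ) φ (kernel.condition φ)
  have hE := (ShortComplex.exact_of_f_is_kernel S (kernelIsKernel _)).map_of_mono_of_preservesKernel E
    (inferInstanceAs (Mono (kernel.ι φ))) inferInstance
  exact (ShortComplex.ab_exact_iff _).1 hE σ h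

omit ξ in
lemma mono_sections_injective {F G : EtCoh.Ab X} (φ : F ⟶ G) [Mono φ] (U : X.Etale) :
    Function.Injective (φ.hom.app (op U)) := by
  let E : EtCoh.Ab X ⥤ AddCommGrpCat.{u + 1} :=
    sheafToPresheaf X.smallEtaleTopology _ ⋙ (evaluation X.Etaleᵒᵖ _).obj (op U)
  exact (AddCommGrpCat.mono_iff_injective _).1 (inferInstanceAs (Mono (E.map φ)))

lemma mono_stalk_injective {F G : EtCoh.Ab X} (φ : F ⟶ G) [Mono φ] :
    Function.Injective ((EtCoh.stalk ξ).map φ) :=
  (AddCommGrpCat.mono_iff_injective _).1 (inferInstanceAs (Mono ((EtCoh.stalk ξ).map φ)))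

omit ξ in
/-- A map from a finite locally constant sheaf is locally constant. -/
lemma exists_pairTriv {F G : EtCoh.Ab X} (φ : F ⟶ G) (hF : EtCoh.IsFiniteLocallyConstant F)
    {M' : Type (u + 1)} [AddCommGroup M'] (x : X) (U' : X.Etale) (hU' : ∃ y, U'.hom.base y = x)
    (s' : M' →+ G.obj.obj (op U')) (hs' : StalkBij G U' s') :
    ∃ (W : X.Etale) (_ : ∃ y, W.hom.base y = x) (g : W ⟶ U') (M : Type) (_ : AddCommGroup M) (_ : Finite M)
      (s : ULift.{u + 1} M →+ F.obj.obj (op W)) (h : ULift.{u + 1} M →+ M'),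
      StalkBij F W s ∧ ∀ a, φ.hom.app (op W) (s a) = res g s' (h a) := by
  obtain ⟨U, ⟨y, hy⟩, M, _, _, s, hs⟩ := isFLC_iff.1 hF x
  obtain ⟨y', hy'⟩ := hU'
  obtain ⟨t, -⟩ := exists_fiber_of_point (geomPoint x) U y (hy.trans (geomPoint_apply _ _).symm)
  obtain ⟨t', -⟩ := exists_fiber_of_point (geomPoint x) U' y' (hy'.trans (geomPoint_apply _ _).symm)
  obtain ⟨W, g, g', w, -, -⟩ := exists_common (geomPoint x) U U' t t'
  have hb := hs'.res g' _ _ _ (geomPoint x) w
  choose h₀ hh₀ using fun a => hb.2 (germ (geomPoint x) G W w (φ.hom.app (op W) (res g s a)))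
  have hh₀' : ∀ a, germ (geomPoint x) G W w (res g' s' (h₀ a)) =
      germ (geomPoint x) G W w (φ.hom.app (op W) (res g s a)) := hh₀
  let h : ULift.{u + 1} M →+ M' := AddMonoidHom.mk' h₀ fun a b => hb.1 (by
    simp only
    rw [map_add, map_add, hh₀', hh₀', hh₀', map_add, map_add, map_add])
  obtain ⟨W', k, w', -, he⟩ := exists_common_eq (geomPoint x) W w
    (fun a => φ.hom.app (op W) (res g s a)) (fun a => res g' s' (h a)) (fun a => (hh₀ a).symm)
  refine ⟨W', ⟨_, (hom_fiberPoint (geomPoint x) w').trans (geomPoint_apply _ _)⟩, k ≫ g', M, _, ‹_›,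
    res k (res g s), h, (hs.res g).res k, fun a => ?_⟩
  rw [res_apply, NatTrans.naturality_apply φ.hom k.op, res_apply _ s', op_comp, Functor.map_comp_apply]
  exact he a

omit ξ in
theorem isFLC_kernel {F G : EtCoh.Ab X} (φ : F ⟶ G) (hF : EtCoh.IsFiniteLocallyConstant F)
    (hG : EtCoh.IsFiniteLocallyConstant G) : EtCoh.IsFiniteLocallyConstant (kernel φ) := by
  rw [isFLC_iff]
  intro x
  obtain ⟨U', hU', N, _, _, s', hs'⟩ := isFLC_iff.1 hG x
  obtain ⟨W, hW, g, M, _, _, s, h, hs, hh⟩ := exists_pairTriv φ hF x U' hU' s' hs'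
  let h0 : M →+ ULift.{u + 1} N := h.comp AddEquiv.ulift.symm.toAddMonoidHom
  have hK : ∀ a : h0.ker, φ.hom.app (op W) (s ⟨a.1⟩) = 0 := fun a => by
    rw [hh, show h ⟨a.1⟩ = 0 from a.2, map_zero]
  choose κ hκ using fun a => exists_kernel_lift φ W _ (hK a)
  let κ' : ULift.{u + 1} h0.ker →+ (kernel φ).obj.obj (op W) := AddMonoidHom.mk' (fun a => κ a.down)
    fun a b => mono_sections_injective (kernel.ι φ) W (by
      rw [map_add, hκ, hκ, hκ, ← map_add]; rfl)
  refine ⟨W, hW, h0.ker, inferInstance, inferInstance, κ', fun Ω _ _ ξ t => ?_⟩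
  have hι : ∀ a, (EtCoh.stalk ξ).map (kernel.ι φ) (germ ξ (kernel φ) W t (κ' a)) =
      germ ξ F W t (s ⟨a.down.1⟩) := fun a =>
    (germ_map ξ (kernel.ι φ) W t (κ' a)).trans (congrArg _ (hκ a.down))
  refine ⟨fun a b e => ?_, fun z => ?_⟩
  · have := (hs _ _ _ ξ t).1 ((hι a).symm.trans ((congrArg _ e).trans (hι b)))
    exact ULift.ext a b (Subtype.ext (congrArg ULift.down this))
  · obtain ⟨a, ha⟩ := (hs _ _ _ ξ t).2 ((EtCoh.stalk ξ).map (kernel.ι φ) z)
    have h0' : h a = 0 := by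
      refine (hs'.res g _ _ _ ξ t).1 ?_
      show germ ξ G W t (res g s' (h a)) = germ ξ G W t (res g s' 0)
      rw [← hh, map_zero, map_zero, ← germ_map ξ φ W t]
      simp only at ha
      rw [ha, ← ConcreteCategory.comp_apply, ← Functor.map_comp, kernel.condition, Functor.map_zero]
      rfl
    refine ⟨⟨⟨a.down, h0'⟩⟩, mono_stalk_injective ξ (kernel.ι φ) ?_⟩
    exact (hι _).trans ha

omit ξ in
theorem isFLC_cokernel {F G : EtCoh.Ab X} (φ : F ⟶ G) (hF : EtCoh.IsFiniteLocallyConstant F)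
    (hG : EtCoh.IsFiniteLocallyConstant G) : EtCoh.IsFiniteLocallyConstant (cokernel φ) := by
  rw [isFLC_iff]
  intro x
  obtain ⟨U', hU', N, _, _, s', hs'⟩ := isFLC_iff.1 hG x
  obtain ⟨W, hW, g, M, _, _, s, h, hs, hh⟩ := exists_pairTriv φ hF x U' hU' s' hs'
  let h0 : M →+ N := AddEquiv.ulift.toAddMonoidHom.comp (h.comp AddEquiv.ulift.symm.toAddMonoidHom)
  let c0 : N →+ (cokernel φ).obj.obj (op W) :=
    (((cokernel.π φ).hom.app (op W)).hom.comp (res g s')).comp AddEquiv.ulift.symm.toAddMonoidHom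
  have hc0 : h0.range ≤ c0.ker := by
    rintro _ ⟨a, rfl⟩
    show (cokernel.π φ).hom.app (op W) (res g s' (h ⟨a⟩)) = 0
    rw [← hh]
    exact congrArg (fun m : F ⟶ cokernel φ => m.hom.app (op W) (s ⟨a⟩)) (cokernel.condition φ)
  let c : ULift.{u + 1} (N ⧸ h0.range) →+ (cokernel φ).obj.obj (op W) :=
    (QuotientAddGroup.lift h0.range c0 hc0).comp AddEquiv.ulift.toAddMonoidHom
  refine ⟨W, hW, N ⧸ h0.range, inferInstance, inferInstance, c, fun Ω _ _ ξ t => ?_⟩
  have hc : ∀ n : N, germ ξ (cokernel φ) W t (c ⟨n⟩) =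
      (EtCoh.stalk ξ).map (cokernel.π φ) (germ ξ G W t (res g s' ⟨n⟩)) := fun n =>
    (germ_map ξ (cokernel.π φ) W t _).symm
  refine ⟨fun a b e => ?_, fun z => ?_⟩
  · obtain ⟨a⟩ := a
    obtain ⟨b⟩ := b
    obtain ⟨m, rfl⟩ := QuotientAddGroup.mk_surjective a
    obtain ⟨n, rfl⟩ := QuotientAddGroup.mk_surjective b
    have h2 : (EtCoh.stalk ξ).map (cokernel.π φ) (germ ξ G W t (res g s' ⟨-m + n⟩)) = 0 := by
      rw [← hc, show (⟨((-m + n : N) : N ⧸ h0.range)⟩ : ULift.{u + 1} (N ⧸ h0.range)) =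
        -⟨(m : N ⧸ h0.range)⟩ + ⟨(n : N ⧸ h0.range)⟩ from rfl, map_add, map_add, map_neg, map_neg]
      simp only at e
      rw [e, neg_add_cancel]
    obtain ⟨z, hz⟩ := (ShortComplex.ab_exact_iff _).1
      (stalk_exact ξ (S := ShortComplex.mk φ (cokernel.π φ) (cokernel.condition φ))
        (ShortComplex.exact_cokernel φ)) _ h2
    obtain ⟨a, rfl⟩ := (hs _ _ _ ξ t).2 z
    have h3 : h a = ⟨-m + n⟩ := (hs'.res g _ _ _ ξ t).1 (by
      show germ ξ G W t (res g s' (h a)) = germ ξ G W t (res g s' ⟨-m + n⟩)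
      rw [← hh, ← germ_map ξ φ W t]
      exact hz)
    refine congrArg ULift.up (QuotientAddGroup.eq.2 ⟨a.down, ?_⟩)
    exact congrArg ULift.down h3
  · obtain ⟨y, rfl⟩ := stalk_surjective_of_epi ξ (cokernel.π φ) z
    obtain ⟨n, rfl⟩ := (hs'.res g _ _ _ ξ t).2 y
    exact ⟨⟨(n.down : N ⧸ h0.range)⟩, hc n.down⟩

/-- A fresh copy of a type, free of inherited instances. -/
structure Box (α : Type) where
  /-- the element -/
  val : α

omit ξ in
theorem isFLC_extension (S : ShortComplex (EtCoh.Ab X)) (hS : S.ShortExact)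
    (h1 : EtCoh.IsFiniteLocallyConstant S.X₁) (h3 : EtCoh.IsFiniteLocallyConstant S.X₃) :
    EtCoh.IsFiniteLocallyConstant S.X₂ := by
  classical
  rw [isFLC_iff]
  intro x
  let ξ := geomPoint x
  obtain ⟨U, ⟨y, hy⟩, M, _, _, s, hs⟩ := isFLC_iff.1 h1 x
  obtain ⟨U', ⟨y', hy'⟩, N, _, _, s', hs'⟩ := isFLC_iff.1 h3 x
  obtain ⟨t, -⟩ := exists_fiber_of_point ξ U y (hy.trans (geomPoint_apply _ _).symm)
  obtain ⟨t', -⟩ := exists_fiber_of_point ξ U' y' (hy'.trans (geomPoint_apply _ _).symm)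
  obtain ⟨W₀, g₀, g₀', w₀, -, -⟩ := exists_common ξ U U' t t'
  have := hS.epi_g
  have := hS.mono_f
  choose z₀ hz₀ using fun n : N => stalk_surjective_of_epi ξ S.g (germ ξ S.X₃ W₀ w₀ (res g₀' s' ⟨n⟩))
  obtain ⟨W₁, g₁, w₁, e₀, hw₁, he₀⟩ := exists_common_rep ξ W₀ w₀ (Function.update z₀ 0 0)
  let s₁ := res g₁ (res g₀ s)
  let s₁' := res g₁ (res g₀' s')
  have heg : ∀ n : N, germ ξ S.X₃ W₁ w₁ (S.g.hom.app (op W₁) (e₀ n)) = germ ξ S.X₃ W₁ w₁ (s₁' ⟨n⟩) := by
    intro n
    rw [← germ_map ξ S.g W₁ w₁, he₀, show s₁' ⟨n⟩ = S.X₃.obj.map g₁.op (res g₀' s' ⟨n⟩) from rfl,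
      germ_res, hw₁]
    by_cases hn : n = 0
    · subst hn
      rw [Function.update_self, map_zero, show (⟨0⟩ : ULift.{u + 1} N) = 0 from rfl, map_zero, map_zero]
    · rw [Function.update_of_ne hn]; exact hz₀ n
  -- cocycle
  have hcoc : ∀ p : N × N, ∃ a : ULift.{u + 1} M,
      germ ξ S.X₂ W₁ w₁ (S.f.hom.app (op W₁) (s₁ a)) =
        germ ξ S.X₂ W₁ w₁ (e₀ p.1 + e₀ p.2 - e₀ (p.1 + p.2)) := by
    intro p
    have h0 : (EtCoh.stalk ξ).map S.g (germ ξ S.X₂ W₁ w₁ (e₀ p.1 + e₀ p.2 - e₀ (p.1 + p.2))) = 0 := by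
      rw [germ_map, map_sub, map_add, map_sub, map_add, heg, heg, heg, ← map_add, ← map_sub, ← map_add,
        ← map_sub, show (⟨p.1⟩ + ⟨p.2⟩ - ⟨p.1 + p.2⟩ : ULift.{u + 1} N) = 0 from
          ULift.ext _ _ (sub_self _), map_zero, map_zero]
    obtain ⟨z, hz⟩ := (ShortComplex.ab_exact_iff _).1 (stalk_exact ξ hS.exact) _ h0
    obtain ⟨a, rfl⟩ := ((hs.res g₀).res g₁ _ _ _ ξ w₁).2 z
    exact ⟨a, (germ_map ξ S.f W₁ w₁ _).symm.trans hz⟩
  choose c hc using hcoc
  obtain ⟨W, g, w, hw, heq⟩ := exists_common_eq ξ W₁ w₁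
    (fun p : N × N => e₀ p.1 + e₀ p.2 - e₀ (p.1 + p.2)) (fun p => S.f.hom.app (op W₁) (s₁ (c p)))
    (fun p => (hc p).symm)
  obtain ⟨W', g', w', hw', heq'⟩ := exists_common_eq ξ W w
    (fun n : N => S.g.hom.app (op W) (S.X₂.obj.map g.op (e₀ n))) (fun n => res g s₁' ⟨n⟩) (fun n => by
      rw [NatTrans.naturality_apply S.g.hom g.op, germ_res, hw]
      refine (heg n).trans ?_
      rw [show res g s₁' ⟨n⟩ = S.X₃.obj.map g.op (s₁' ⟨n⟩) from rfl, germ_res, hw])
  obtain ⟨W'', g'', w'', hw'', heq''⟩ := exists_common_eq ξ W' w'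
    (fun _ : Unit => S.X₂.obj.map (g' ≫ g).op (e₀ 0)) (fun _ => 0) (fun _ => by
      rw [germ_res, Functor.map_comp_apply, hw', hw, he₀, Function.update_self, map_zero])
  let ρ := g'' ≫ g' ≫ g
  let e : N → S.X₂.obj.obj (op W'') := fun n => S.X₂.obj.map ρ.op (e₀ n)
  let i : ULift.{u + 1} M →+ S.X₂.obj.obj (op W'') := (S.f.hom.app (op W'')).hom.comp (res ρ s₁)
  have he_g : ∀ n, S.g.hom.app (op W'') (e n) = res ρ s₁' ⟨n⟩ := fun n => by
    have := congrArg (S.X₃.obj.map g''.op) (heq' n)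
    simp only [res_apply, e, ρ, op_comp, Functor.map_comp_apply,
      NatTrans.naturality_apply S.g.hom] at this ⊢
    exact this
  have he0 : e 0 = 0 := by
    have := heq'' ()
    simp only [e, ρ, op_comp, Functor.map_comp_apply, map_zero] at this ⊢
    exact this
  have he_add : ∀ m n, e m + e n = i (c (m, n)) + e (m + n) := fun m n => by
    have := congrArg (S.X₂.obj.map (g'' ≫ g').op) (heq (m, n))
    rw [← sub_eq_iff_eq_add]
    simp only [i, res_apply, e, ρ, op_comp, Functor.map_comp_apply, map_sub, map_add,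
      AddMonoidHom.comp_apply, NatTrans.naturality_apply S.f.hom] at this ⊢
    exact this
  let Φ : M × N → S.X₂.obj.obj (op W'') := fun p => i ⟨p.1⟩ + e p.2
  have hb1 : StalkBij S.X₁ W'' (res ρ s₁) := ((hs.res g₀).res g₁).res ρ
  have hb3 : StalkBij S.X₃ W'' (res ρ s₁') := ((hs'.res g₀').res g₁).res ρ
  have hbij : ∀ (Ω : Type u) (_ : Field Ω) (_ : IsSepClosed Ω) (η : Spec (CommRingCat.of Ω) ⟶ X)
      (τ : (Scheme.pointSmallEtale η).fiber.obj W''),
      Function.Bijective fun p => germ η S.X₂ W'' τ (Φ p) := by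
    intro Ω _ _ η τ
    have hfg : ∀ z, (EtCoh.stalk η).map S.g ((EtCoh.stalk η).map S.f z) = 0 := fun z => by
      rw [← ConcreteCategory.comp_apply, ← Functor.map_comp, S.zero, Functor.map_zero]; rfl
    have hg : ∀ p, (EtCoh.stalk η).map S.g (germ η S.X₂ W'' τ (Φ p)) =
        germ η S.X₃ W'' τ (res ρ s₁' ⟨p.2⟩) := fun p => by
      rw [map_add, map_add, show i ⟨p.1⟩ = S.f.hom.app (op W'') (res ρ s₁ ⟨p.1⟩) from rfl,
        ← germ_map η S.f, hfg, zero_add, germ_map, he_g]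
    constructor
    · rintro ⟨m, n⟩ ⟨m', n'⟩ hp
      have hn : n = n' := congrArg ULift.down ((hb3 _ _ _ η τ).1
        ((hg (m, n)).symm.trans ((congrArg _ hp).trans (hg (m', n')))))
      subst hn
      simp only [Φ, map_add, add_left_inj] at hp
      have hm : (⟨m⟩ : ULift.{u + 1} M) = ⟨m'⟩ := (hb1 _ _ _ η τ).1
        (mono_stalk_injective η S.f (((germ_map η S.f _ _ _).trans hp).trans (germ_map η S.f _ _ _).symm))
      exact congrArg (fun z => (z, n)) (congrArg ULift.down hm)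
    · intro z
      obtain ⟨n, hn⟩ := (hb3 _ _ _ η τ).2 ((EtCoh.stalk η).map S.g z)
      have h0 : (EtCoh.stalk η).map S.g (z - germ η S.X₂ W'' τ (e n.down)) = 0 := by
        rw [map_sub, germ_map, he_g]; exact sub_eq_zero.2 hn.symm
      obtain ⟨y, hy⟩ := (ShortComplex.ab_exact_iff _).1 (stalk_exact η hS.exact) _ h0
      obtain ⟨m, rfl⟩ := (hb1 _ _ _ η τ).2 y
      refine ⟨(m.down, n.down), ?_⟩
      simp only [Φ, map_add]
      rw [eq_comm, ← sub_eq_iff_eq_add]
      exact hy.symm.trans (germ_map η S.f _ _ _)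
  have hΦinj : Function.Injective Φ := fun p q h => (hbij _ _ _ ξ w'').1 (congrArg _ h)
  have hadd : ∀ p q : M × N, Φ p + Φ q = Φ (p.1 + q.1 + (c (p.2, q.2)).down, p.2 + q.2) := fun p q => by
    show _ = i ((⟨p.1⟩ : ULift.{u + 1} M) + ⟨q.1⟩ + c (p.2, q.2)) + e (p.2 + q.2)
    rw [map_add, map_add, add_assoc (i ⟨p.1⟩ + i ⟨q.1⟩), ← he_add]
    simp only [Φ]; abel
  let P : AddSubgroup (S.X₂.obj.obj (op W'')) :=
    { carrier := Set.range Φ
      add_mem' := by rintro _ _ ⟨p, rfl⟩ ⟨q, rfl⟩; exact ⟨_, (hadd p q).symm⟩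
      zero_mem' := ⟨0, by
        show i 0 + e 0 = 0
        rw [map_zero, he0, zero_add]⟩
      neg_mem' := by
        rintro _ ⟨p, rfl⟩
        refine ⟨(-p.1 - (c (p.2, -p.2)).down, -p.2), ?_⟩
        rw [eq_neg_iff_add_eq_zero, add_comm, hadd]
        show i _ + e (p.2 + -p.2) = 0
        rw [add_neg_cancel, he0, add_zero]
        rw [show (ULift.up (p.1 + (-p.1 - (c (p.2, -p.2)).down) + (c (p.2, -p.2)).down) :
          ULift.{u + 1} M) = 0 from ULift.ext _ _ (by simp; abel), map_zero] }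
  let E₀ : Box (M × N) ≃ M × N := ⟨Box.val, Box.mk, fun _ => rfl, fun _ => rfl⟩
  let E : Box (M × N) ≃ P := E₀.trans (Equiv.ofBijective (fun p => ⟨Φ p, p, rfl⟩)
    ⟨fun p q h => hΦinj (congrArg Subtype.val h), fun a => ⟨a.2.choose, Subtype.ext a.2.choose_spec⟩⟩)
  letI : AddCommGroup (Box (M × N)) := E.addCommGroup
  let σ : ULift.{u + 1} (Box (M × N)) →+ S.X₂.obj.obj (op W'') := AddMonoidHom.mk' (fun p => Φ p.down.val)
    fun p q => congrArg Subtype.val (E.apply_symm_apply (E p.down + E q.down))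
  refine ⟨W'', ⟨_, (hom_fiberPoint ξ w'').trans (geomPoint_apply _ _)⟩, Box (M × N), E.addCommGroup,
    Finite.of_equiv _ E₀.symm, σ, fun Ω _ _ η τ => ?_⟩
  exact (hbij Ω _ _ η τ).comp (Equiv.ulift.trans E₀).bijective

omit ξ in
/-- On a connected scheme one group suffices. -/
theorem exists_single_group [ConnectedSpace X] {F : EtCoh.Ab X} (h : EtCoh.IsFiniteLocallyConstant F) :
    ∃ (M : Type) (_ : AddCommGroup M) (_ : Finite M) (ι : Type u) (U : ι → X.Etale), EtCoh.Covers U ∧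
      ∀ i, Nonempty (EtCoh.restr F (U i) ≅
        (constantSheaf (X.smallEtaleTopology.over (U i)) AddCommGrpCat.{u + 1}).obj
          (AddCommGrpCat.of (ULift.{u + 1} M))) := by
  choose U hU M hM hMf s hs using isFLC_iff.1 h
  have key : ∀ x x' : X, (∃ y, (U x).hom.base y = x') → Nonempty (ULift.{u + 1} (M x) ≃+ ULift.{u + 1} (M x')) := by
    rintro x x' ⟨y, hy⟩
    obtain ⟨y', hy'⟩ := hU x'
    obtain ⟨t, -⟩ := exists_fiber_of_point (geomPoint x') (U x) y (hy.trans (geomPoint_apply _ _).symm)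
    obtain ⟨t', -⟩ := exists_fiber_of_point (geomPoint x') (U x') y' (hy'.trans (geomPoint_apply _ _).symm)
    let b := ((germ (geomPoint x') F (U x) t).hom.comp (s x))
    let b' := ((germ (geomPoint x') F (U x') t').hom.comp (s x'))
    exact ⟨(AddEquiv.ofBijective b (hs x _ _ _ _ t)).trans
      (AddEquiv.ofBijective b' (hs x' _ _ _ _ t')).symm⟩
  obtain ⟨x₀⟩ := (inferInstance : Nonempty X)
  let S : Set X := {x | Nonempty (ULift.{u + 1} (M x₀) ≃+ ULift.{u + 1} (M x))}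
  have hmem : ∀ x x', (∃ y, (U x).hom.base y = x') → (x' ∈ S ↔ x ∈ S) := fun x x' h => by
    obtain ⟨e⟩ := key x x' h
    exact ⟨fun ⟨a⟩ => ⟨a.trans e.symm⟩, fun ⟨a⟩ => ⟨a.trans e⟩⟩
  have hopen : ∀ x, IsOpen (Set.range (U x).hom.base) := fun x => (isOpenMap_hom (U x)).isOpen_range
  have hclop : IsClopen S := by
    refine ⟨⟨isOpen_iff_forall_mem_open.2 fun x hx => ⟨_, fun x' hx' h => hx ((hmem x x' hx').1 h), hopen x, hU x⟩⟩,
      isOpen_iff_forall_mem_open.2 fun x hx => ⟨_, fun x' hx' => (hmem x x' hx').2 hx, hopen x, hU x⟩⟩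
  have hall : S = Set.univ := hclop.eq_univ ⟨x₀, ⟨AddEquiv.refl _⟩⟩
  refine ⟨M x₀, hM x₀, hMf x₀, X, U, fun x => ⟨x, hU x⟩, fun x => ?_⟩
  obtain ⟨e⟩ : x ∈ S := hall ▸ Set.mem_univ x
  exact ((hs x).comp_equiv e).iso

omit ξ in
/-- Maps from finite locally constant sheaves are locally maps of constant sheaves. -/
theorem exists_local_groupHom (F G : EtCoh.Ab X) (φ : F ⟶ G)
    (hF : EtCoh.IsFiniteLocallyConstant F) (hG : EtRest.IsLocallyConstant G) :
    ∃ (ι : Type u) (U : ι → X.Etale), EtCoh.Covers U ∧ ∀ i, ∃ (M N : Type (u + 1)) (_ : AddCommGroup M) (_ : AddCommGroup N)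
      (h : M →+ N)
      (α : EtCoh.restr F (U i) ≅ (constantSheaf (X.smallEtaleTopology.over (U i)) AddCommGrpCat.{u + 1}).obj (AddCommGrpCat.of M))
      (β : EtCoh.restr G (U i) ≅ (constantSheaf (X.smallEtaleTopology.over (U i)) AddCommGrpCat.{u + 1}).obj (AddCommGrpCat.of N)),
      (X.smallEtaleTopology.overPullback AddCommGrpCat.{u + 1} (U i)).map φ ≫ β.hom = α.hom ≫ (constantSheaf (X.smallEtaleTopology.over (U i)) AddCommGrpCat.{u + 1}).map (AddCommGrpCat.ofHom h) := by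
  choose U' hU' N hN s' hs' using isLC_iff.1 hG
  choose W hW g M hM hMf s h hs hh using fun x => exists_pairTriv φ hF x (U' x) (hU' x) (s' x) (hs' x)
  refine ⟨X, W, fun x => ⟨x, hW x⟩, fun x => ⟨ULift.{u + 1} (M x), N x, inferInstance, hN x, h x, ?_⟩⟩
  have := isIso_fromConst (hs x)
  have := isIso_fromConst ((hs' x).res (g x))
  refine ⟨(asIso (fromConst F (W x) (s x))).symm, (asIso (fromConst G (W x) (res (g x) (s' x)))).symm, ?_⟩
  rw [Iso.symm_hom, Iso.symm_hom, asIso_inv, asIso_inv, IsIso.comp_inv_eq, Category.assoc,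
    IsIso.eq_inv_comp, fromConst, fromConst]
  refine ((Adjunction.homEquiv_naturality_right_symm _ _ _).symm.trans (Eq.trans ?_
    (Adjunction.homEquiv_naturality_left_symm _ _ _))).symm.symm
  congr 1
  ext Y a
  show φ.hom.app (op Y.unop.left) (F.obj.map Y.unop.hom.op (s x a)) =
    G.obj.map Y.unop.hom.op (res (g x) (s' x) (h x a))
  rw [← hh, NatTrans.naturality_apply φ.hom]

omit ξ in
/-- The sections of a constant sheaf trivialize it. -/
theorem exists_stalkBij_const (U : X.Etale) (M : Type (u + 1)) [AddCommGroup M] :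
    StalkBij ((constantSheaf X.smallEtaleTopology AddCommGrpCat.{u + 1}).obj (AddCommGrpCat.of M)) U
      ((CategoryTheory.toSheafify X.smallEtaleTopology
        ((Functor.const X.Etaleᵒᵖ).obj (AddCommGrpCat.of M))).app (op U)).hom := by
  let P := (Functor.const X.Etaleᵒᵖ).obj (AddCommGrpCat.of M)
  let η := CategoryTheory.toSheafify X.smallEtaleTopology P
  let C := (constantSheaf X.smallEtaleTopology AddCommGrpCat.{u + 1}).obj (AddCommGrpCat.of M)
  have hnat : ∀ {W V : X.Etale} (k : W ⟶ V) (a : M),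
      C.obj.map k.op (η.app (op V) a) = η.app (op W) a := fun k a =>
    (NatTrans.naturality_apply η k.op a).symm
  intro Ω _ _ η' t
  constructor
  · intro a b e
    obtain ⟨W, g, w, -, he⟩ := (germ_eq_iff η' _ U t _ _).1 e
    have h1 : η.app (op W) a = η.app (op W) b := (hnat g a).symm.trans (he.trans (hnat g b))
    have hmem := Presheaf.equalizerSieve_mem X.smallEtaleTopology η (X := op W) a b h1
    obtain ⟨V, k, v, hk, -⟩ := (mem_topology_iff _).1 hmem (fiberPoint η' w)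
    exact hk
  · intro z
    obtain ⟨W, g, w, σ, hw, rfl⟩ := exists_rep_over η' C U t z
    have hmem := Presheaf.imageSieve_mem X.smallEtaleTopology η (U := op W) σ
    obtain ⟨V, k, v, ⟨a, ha⟩, hv⟩ := (mem_topology_iff _).1 hmem (fiberPoint η' w)
    obtain ⟨w', hw', -⟩ := exists_fiber_lift η' k w v hv
    refine ⟨a, ?_⟩
    show germ η' C U t (η.app (op U) a) = germ η' C W w σ
    calc germ η' C U t (η.app (op U) a)
        = germ η' C V w' (C.obj.map (k ≫ g).op (η.app (op U) a)) := by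
          rw [germ_res, Functor.map_comp_apply, hw', hw]
      _ = germ η' C V w' (C.obj.map k.op σ) := congrArg _ ((hnat (k ≫ g) a).trans ha)
      _ = germ η' C W ((Scheme.pointSmallEtale η').fiber.map k w') σ := germ_res η' C k w' σ
      _ = germ η' C W w σ := congrArg (fun z => germ η' C W z σ) hw'

omit ξ in
/-- A subsheaf of a constant sheaf containing a constant one and equal to it at a generic point. -/
theorem isIso_constMono {M M' : Type (u + 1)} [AddCommGroup M] [AddCommGroup M'] [IrreducibleSpace ↥X]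
    {Ω : Type u} [Field Ω] [IsSepClosed Ω] (ξ : Spec (CommRingCat.of Ω) ⟶ X)
    (hξ : ξ.base default = genericPoint ↥X) (ι : M' →+ M) (G : EtCoh.Ab X)
    (a : (constantSheaf X.smallEtaleTopology AddCommGrpCat.{u + 1}).obj (AddCommGrpCat.of M') ⟶ G)
    (b : G ⟶ (constantSheaf X.smallEtaleTopology AddCommGrpCat.{u + 1}).obj (AddCommGrpCat.of M))
    [Mono a] [Mono b]
    (hab : a ≫ b = (constantSheaf X.smallEtaleTopology AddCommGrpCat.{u + 1}).map (AddCommGrpCat.ofHom ι))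
    (hst : IsIso ((EtCoh.stalk ξ).map a)) : IsIso a := by
  let η := fun (N : Type (u + 1)) (_ : AddCommGroup N) (U : X.Etale) => ((CategoryTheory.toSheafify
    X.smallEtaleTopology ((Functor.const X.Etaleᵒᵖ).obj (AddCommGrpCat.of N))).app (op U)).hom
  have hab' : ∀ (U : X.Etale) (m : M'), b.hom.app (op U) (a.hom.app (op U) (η M' _ U m)) = η M _ U (ι m) := by
    intro U m
    rw [← ConcreteCategory.comp_apply]
    refine Eq.trans ?_ (congrArg (fun t : (Functor.const X.Etaleᵒᵖ).obj (AddCommGrpCat.of M') ⟶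
        ((constantSheaf X.smallEtaleTopology AddCommGrpCat.{u + 1}).obj (AddCommGrpCat.of M)).obj =>
          t.app (op U) m)
      (toSheafify_naturality X.smallEtaleTopology
        ((Functor.const X.Etaleᵒᵖ).map (AddCommGrpCat.ofHom ι))).symm)
    exact congrArg (fun f : (constantSheaf X.smallEtaleTopology AddCommGrpCat.{u + 1}).obj (AddCommGrpCat.of M') ⟶
      (constantSheaf X.smallEtaleTopology AddCommGrpCat.{u + 1}).obj (AddCommGrpCat.of M) =>
        f.hom.app (op U) (η M' _ U m)) hab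
  have hsurj : ∀ s : X, Function.Surjective ((stalkAt s).map a) := by
    intro s z
    obtain ⟨U, t, σ, rfl⟩ := germ_surjective (geomPoint s) G z
    obtain ⟨m, hm⟩ := (exists_stalkBij_const U M _ _ _ (geomPoint s) t).2
      (germ (geomPoint s) _ U t (b.hom.app (op U) σ))
    obtain ⟨W, g, w, hw, he⟩ := (germ_eq_iff _ _ U t _ _).1 hm
    obtain ⟨u', hu'⟩ : genericPoint ↥X ∈ Set.range W.hom.base :=
      ((genericPoint_spec ↥X).mem_open_set_iff (isOpenMap_hom W).isOpen_range).2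
        ⟨_, trivial, ⟨fiberPoint _ w, rfl⟩⟩
    obtain ⟨t', -⟩ := exists_fiber_of_point ξ W u' (hu'.trans hξ.symm)
    obtain ⟨y, hy⟩ := ((ConcreteCategory.isIso_iff_bijective _).1 hst).2 (germ ξ G W t' (G.obj.map g.op σ))
    obtain ⟨m', rfl⟩ := (exists_stalkBij_const W M' _ _ _ ξ t').2 y
    have hm' : ι m' = m := by
      refine (exists_stalkBij_const W M _ _ _ ξ t').1 ?_
      show germ ξ _ W t' (η M _ W (ι m')) = germ ξ _ W t' (η M _ W m)
      have hy' : germ ξ G W t' (a.hom.app (op W) (η M' _ W m')) = germ ξ G W t' (G.obj.map g.op σ) :=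
        (germ_map ξ a W t' _).symm.trans hy
      refine (congrArg _ (hab' W m')).symm.trans ((germ_map ξ b W t' _).symm.trans
        ((congrArg _ hy').trans ((germ_map ξ b W t' _).trans (congrArg _ ?_))))
      exact (NatTrans.naturality_apply b.hom g.op σ).trans (he.symm.trans (NatTrans.naturality_apply
        (CategoryTheory.toSheafify X.smallEtaleTopology
          ((Functor.const X.Etaleᵒᵖ).obj (AddCommGrpCat.of M))) g.op m).symm)
    refine ⟨germ (geomPoint s) _ U t (η M' _ U m'), mono_stalk_injective _ b ?_⟩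
    rw [germ_map, germ_map, germ_map, hab', hm']
    exact hm
  have := epi_of_stalk_surjective a hsurj
  exact isIso_of_mono_of_epi a

end Groth.EtaleBase.LocConst
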