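import Groth.Agent.EtaleBase.MuConst
import Groth.Agent.EtaleBase.LocConstOps
import Groth.Agent.EtaleBase.InjCoh
import Groth.Prelude.Def_EtDual
import Mathlib.RingTheory.Etale.StandardEtale
import Mathlib.AlgebraicGeometry.Morphisms.Etale
import Mathlib.FieldTheory.SeparableClosure
import Mathlib.FieldTheory.IsSepClosed

/-!
# Tate twists are locally isomorphic to the constant sheaf
-/

set_option autoImplicit false
set_option backward.isDefEq.respectTransparency.types false
set_option maxHeartbeats 1000000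

universe u

open CategoryTheory CategoryTheory.Limits AlgebraicGeometry Opposite TensorProduct

namespace Groth.EtaleBase.TateLocal

open Groth.EtaleBase.LocConst

attribute [local instance] InjCoh.jCont

variable {X : Scheme.{u}}

/-- Presheaf tensor of two sections in the sheafified tensor product. -/
noncomputable def tm {F G : EtCoh.Ab X} {U : X.Etale} (f : F.obj.obj (op U)) (g : G.obj.obj (op U)) :
    (EtDual.tensorAb F G).obj.obj (op U) :=
  (CategoryTheory.toSheafify X.smallEtaleTopology (EtDual.tensorPre F G)).app (op U) (f ⊗ₜ[ℤ] g)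

lemma res_tm {F G : EtCoh.Ab X} {U V : X.Etale} (k : V ⟶ U) (f : F.obj.obj (op U))
    (g : G.obj.obj (op U)) :
    (EtDual.tensorAb F G).obj.map k.op (tm f g) = tm (F.obj.map k.op f) (G.obj.map k.op g) :=
  (NatTrans.naturality_apply (CategoryTheory.toSheafify X.smallEtaleTopology (EtDual.tensorPre F G))
    k.op (f ⊗ₜ[ℤ] g)).symm

lemma tm_add {F G : EtCoh.Ab X} {U : X.Etale} (f f' : F.obj.obj (op U)) (g : G.obj.obj (op U)) :
    tm (f + f') g = tm f g + tm f' g := by
  rw [tm, add_tmul]
  exact map_add _ _ _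

variable {n : ℕ} [NeZero n]

/-- Trivializations of two sheaves give one of their tensor product. -/
theorem exists_stalkBij_tensor {F G : EtCoh.Ab X} {U : X.Etale}
    {s : ULift.{u + 1} (ZMod n) →+ F.obj.obj (op U)} (hs : StalkBij F U s)
    {s' : ULift.{u + 1} (ZMod n) →+ G.obj.obj (op U)} (hs' : StalkBij G U s') :
    ∃ s'' : ULift.{u + 1} (ZMod n) →+ (EtDual.tensorAb F G).obj.obj (op U),
      StalkBij (EtDual.tensorAb F G) U s'' := by
  let J := X.smallEtaleTopology
  let η := CategoryTheory.toSheafify J (EtDual.tensorPre F G)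
  let one : ULift.{u + 1} (ZMod n) := ⟨1⟩
  refine ⟨AddMonoidHom.mk' (fun a => tm (s a) (s' one)) fun a b => by rw [map_add, tm_add], ?_⟩
  intro Ω _ _ ξ t
  constructor
  · refine fun a b hab => sub_eq_zero.1 ?_
    let T : ULift.{u + 1} (ZMod n) →+ (EtDual.tensorAb F G).obj.obj (op U) :=
      AddMonoidHom.mk' (fun a => tm (s a) (s' one)) fun a b => by rw [map_add, tm_add]
    have h0 : germ ξ (EtDual.tensorAb F G) U t (T (a - b)) = 0 := by
      rw [map_sub, map_sub]
      exact sub_eq_zero.2 hab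
    obtain ⟨W, g, w, hw, he⟩ := (germ_eq_zero_iff ξ _ U t _).1 h0
    rw [show T (a - b) = tm (s (a - b)) (s' one) from rfl, res_tm] at he
    have hmem := Presheaf.equalizerSieve_mem J η (X := op W)
      ((res g s (a - b) ⊗ₜ[ℤ] res g s' one :) : (EtDual.tensorPre F G).obj (op W)) 0
      (he.trans (map_zero (η.app (op W)).hom).symm)
    obtain ⟨V, k, v, hk, hv⟩ := (mem_topology_iff _).1 hmem (fiberPoint ξ w)
    obtain ⟨w', hw', -⟩ := exists_fiber_lift ξ k w v hv
    let α := (AddEquiv.ofBijective ((germ ξ F V w').hom.comp (res k (res g s)))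
      (((hs.res g).res k) Ω _ _ ξ w'))
    let β := (AddEquiv.ofBijective ((germ ξ G V w').hom.comp (res k (res g s')))
      (((hs'.res g).res k) Ω _ _ ξ w'))
    let fF : F.obj.obj (op V) →+ ZMod n :=
      (AddEquiv.ulift.toAddMonoidHom.comp α.symm.toAddMonoidHom).comp (germ ξ F V w').hom
    let fG : G.obj.obj (op V) →+ ZMod n :=
      (AddEquiv.ulift.toAddMonoidHom.comp β.symm.toAddMonoidHom).comp (germ ξ G V w').hom
    let L : F.obj.obj (op V) ⊗[ℤ] G.obj.obj (op V) →+ ZMod n :=
      TensorProduct.liftAddHom (AddMonoidHom.mk' (fun f => (AddMonoidHom.mulLeft (fF f)).comp fG)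
        fun f f' => by ext g; simp [add_mul]) fun z f g => by simp; ring
    have h1 : L ((res k (res g s) (a - b)) ⊗ₜ[ℤ] (res k (res g s') one)) = (a - b).down := by
      change fF (res k (res g s) (a - b)) * fG (res k (res g s') one) = _
      have e1 : α.symm (germ ξ F V w' (res k (res g s) (a - b))) = a - b := α.symm_apply_apply (a - b)
      have e2 : β.symm (germ ξ G V w' (res k (res g s') one)) = one := β.symm_apply_apply one
      change (α.symm _).down * (β.symm _).down = _
      rw [e1, e2]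
      exact mul_one _
    have h2 : (res k (res g s) (a - b)) ⊗ₜ[ℤ] (res k (res g s') one) = 0 := by
      have : (EtDual.tensorPre F G).map k.op ((res g s (a - b) ⊗ₜ[ℤ] res g s' one :)) =
          (EtDual.tensorPre F G).map k.op 0 := hk
      exact this.trans (map_zero _)
    exact ULift.ext (a - b) 0 (h1.symm.trans ((congrArg L h2).trans (map_zero L)))
  · intro z
    obtain ⟨W, g, w, σ, hw, rfl⟩ := exists_rep_over ξ (EtDual.tensorAb F G) U t z
    obtain ⟨V, k, v, ⟨z, hz⟩, hv⟩ := (mem_topology_iff _).1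
      (Presheaf.imageSieve_mem J η (U := op W) σ) (fiberPoint ξ w)
    obtain ⟨w', hw', -⟩ := exists_fiber_lift ξ k w v hv
    suffices ∀ z : F.obj.obj (op V) ⊗[ℤ] G.obj.obj (op V), ∃ a,
        germ ξ (EtDual.tensorAb F G) V w' (η.app (op V) z) =
          germ ξ (EtDual.tensorAb F G) U t (tm (s a) (s' one)) by
      obtain ⟨a, ha⟩ := this z
      refine ⟨a, ha.symm.trans ?_⟩
      exact (congrArg _ hz).trans ((germ_res ξ (EtDual.tensorAb F G) k w' σ).trans
        (congrArg (fun q => germ ξ (EtDual.tensorAb F G) W q σ) hw'))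
    intro z
    have ht : (Scheme.pointSmallEtale ξ).fiber.map (k ≫ g) w' = t := by
      rw [Functor.map_comp_apply, hw', hw]
    induction z using TensorProduct.induction_on with
    | zero => exact ⟨0, by
        rw [map_zero s, tm, zero_tmul]
        exact ((congrArg _ (map_zero _)).trans (map_zero _)).trans
          ((congrArg _ (map_zero _)).trans (map_zero _)).symm⟩
    | add x y hx hy =>
      obtain ⟨a, ha⟩ := hx
      obtain ⟨b, hb⟩ := hy
      exact ⟨a + b, ((congrArg _ (map_add _ _ _)).trans (map_add _ _ _)).trans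
        ((congrArg₂ (· + ·) ha hb).trans (by rw [map_add s, tm_add, map_add]))⟩
    | tmul f h =>
      obtain ⟨a, ha⟩ := (hs Ω _ _ ξ t).2 (germ ξ F V w' f)
      obtain ⟨b, hb⟩ := (hs' Ω _ _ ξ t).2 (germ ξ G V w' h)
      refine ⟨b.down.val • a, ?_⟩
      have hb' : b.down.val • one = b := by
        refine ULift.ext _ _ ?_
        change b.down.val • (1 : ZMod n) = b.down
        rw [nsmul_one, ZMod.natCast_zmod_val]
      have e₁ : germ ξ F V w' (res (k ≫ g) s a) = germ ξ F V w' f := by
        rw [res_apply, germ_res, ht]; exact ha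
      have e₂ : germ ξ G V w' (res (k ≫ g) s' b) = germ ξ G V w' h := by
        rw [res_apply, germ_res, ht]; exact hb
      obtain ⟨V₁, g₁, w₁, hw₁, he₁⟩ := (germ_eq_iff ξ F V w' _ _).1 e₁
      have e₂' : germ ξ G V₁ w₁ (G.obj.map g₁.op (res (k ≫ g) s' b)) =
          germ ξ G V₁ w₁ (G.obj.map g₁.op h) := by rw [germ_res, germ_res, hw₁]; exact e₂
      obtain ⟨V₂, g₂, w₂, hw₂, he₂⟩ := (germ_eq_iff ξ G V₁ w₁ _ _).1 e₂'
      have key : (EtDual.tensorAb F G).obj.map (g₂ ≫ g₁).op (η.app (op V) (f ⊗ₜ[ℤ] h)) =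
          (EtDual.tensorAb F G).obj.map (g₂ ≫ g₁).op
            ((EtDual.tensorAb F G).obj.map (k ≫ g).op (tm (s (b.down.val • a)) (s' one))) := by
        change (EtDual.tensorAb F G).obj.map (g₂ ≫ g₁).op (tm f h) = _
        rw [res_tm, res_tm, res_tm]
        simp only [op_comp, Functor.map_comp_apply]
        rw [← he₁, ← he₂]
        simp only [res_apply]
        rw [← hb', map_nsmul, map_nsmul, map_nsmul, map_nsmul, map_nsmul, map_nsmul, map_nsmul]
        simp only [tm, TensorProduct.tmul_smul, TensorProduct.smul_tmul', map_nsmul]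
        simp only [hb', op_comp, Functor.map_comp_apply]
      have hpt : (Scheme.pointSmallEtale ξ).fiber.map (g₂ ≫ g₁) w₂ = w' := by
        rw [Functor.map_comp_apply, hw₂, hw₁]
      have := congrArg (germ ξ (EtDual.tensorAb F G) V₂ w₂) key
      rw [germ_res, germ_res, hpt] at this
      rw [this, germ_res, ht]

omit [NeZero n] in
/-- An isomorphism of the restriction along an étale morphism with a constant sheaf trivializes. -/
theorem exists_stalkBij_of_restrAlong_iso {W : Scheme.{u}} (e : W ⟶ X) [AlgebraicGeometry.Etale e]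
    {M : Type (u + 1)} [AddCommGroup M] {F : EtCoh.Ab X}
    (φ : (constantSheaf W.smallEtaleTopology AddCommGrpCat.{u + 1}).obj (AddCommGrpCat.of M) ≅
      (EtShriek.restrAlong e).obj F) :
    ∃ s : M →+ F.obj.obj (op ((EtShriek.compEtale e).obj (EtCoh.top W))),
      StalkBij F ((EtShriek.compEtale e).obj (EtCoh.top W)) s := by
  let η := CategoryTheory.toSheafify W.smallEtaleTopology ((Functor.const W.Etaleᵒᵖ).obj (AddCommGrpCat.of M))
  let U := (EtShriek.compEtale e).obj (EtCoh.top W)
  let ψ := η ≫ φ.hom.hom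
  let s : M →+ F.obj.obj (op U) := (ψ.app (op (EtCoh.top W))).hom
  have hb : ∀ T, Function.Bijective (φ.hom.hom.app T) := fun T =>
    (((sheafToPresheaf _ _).mapIso φ).app T).addCommGroupIsoToAddEquiv.bijective
  refine ⟨s, fun Ω _ _ ξ t => ?_⟩
  have hV : ∀ (V : X.Etale) (g : V ⟶ U), ∃ (T : W.Etale) (l : T ⟶ EtCoh.top W)
      (ι : (EtShriek.compEtale e).obj T ≅ V), ι.hom ≫ g = (EtShriek.compEtale e).map l := fun V g => by
    have e₁ : g.left ≫ (𝟙 W) ≫ e = V.hom := MorphismProperty.Over.w g
    have hW : EtCoh.etaleMP ((g.left ≫ 𝟙 W) ≫ e) := by rw [Category.assoc, e₁]; exact V.prop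
    let T : W.Etale := MorphismProperty.Over.mk ⊤ (g.left ≫ 𝟙 W)
      (EtCoh.etaleMP.of_postcomp (W' := EtCoh.etaleMP) (g.left ≫ 𝟙 W) e ‹AlgebraicGeometry.Etale e› hW)
    exact ⟨T, MorphismProperty.Over.homMk g.left rfl, MorphismProperty.Over.isoMk (Iso.refl _)
      ((Category.id_comp V.hom).trans (e₁.symm.trans (Category.assoc _ _ _).symm)),
      MorphismProperty.Over.Hom.ext (Category.id_comp _)⟩
  have hres : ∀ {T : W.Etale} (l : T ⟶ EtCoh.top W) (a : M),
      F.obj.map ((EtShriek.compEtale e).map l).op (s a) = ψ.app (op T) a := fun l a =>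
    (NatTrans.naturality_apply ψ l.op a).symm
  constructor
  · intro a b hab
    obtain ⟨V, g, w, hw, he⟩ := (germ_eq_iff ξ _ U t _ _).1 hab
    obtain ⟨T, l, ι, hι⟩ := hV V g
    have h1 : ψ.app (op T) a = ψ.app (op T) b := by
      rw [← hres l a, ← hres l b, ← hι, op_comp, Functor.map_comp_apply, Functor.map_comp_apply, he]
    have hmem := Presheaf.equalizerSieve_mem W.smallEtaleTopology η (X := op T) a b ((hb _).1 h1)
    obtain ⟨T', k, v, hk, -⟩ := (mem_topology_iff _).1 hmem (ι.inv.left.base (fiberPoint ξ w))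
    exact hk
  · intro z
    obtain ⟨V, g, w, σ, hw, rfl⟩ := exists_rep_over ξ F U t z
    obtain ⟨T, l, ι, hι⟩ := hV V g
    obtain ⟨y, hy⟩ := (hb (op T)).2 (F.obj.map ι.hom.op σ)
    obtain ⟨T', k, v, ⟨a, ha⟩, hv⟩ := (mem_topology_iff _).1
      (Presheaf.imageSieve_mem W.smallEtaleTopology η (U := op T) y) (ι.inv.left.base (fiberPoint ξ w))
    let g' : (EtShriek.compEtale e).obj T' ⟶ V := (EtShriek.compEtale e).map k ≫ ι.hom
    have hg' : g'.left.base v = fiberPoint ξ w := by
      change ι.hom.left.base (k.left.base v) = _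
      rw [hv]
      exact congrArg (fun m : V ⟶ V => m.left.base (fiberPoint ξ w)) ι.inv_hom_id
    obtain ⟨w', hw', -⟩ := exists_fiber_lift ξ g' w v hg'
    refine ⟨a, ?_⟩
    have h2 : F.obj.map (g' ≫ g).op (s a) = F.obj.map g'.op σ := by
      rw [show g' ≫ g = (EtShriek.compEtale e).map (k ≫ l) by
        rw [Category.assoc, hι, Functor.map_comp], hres, op_comp, Functor.map_comp_apply, ← hy]
      exact (congrArg (φ.hom.hom.app (op T')) ha).trans (NatTrans.naturality_apply φ.hom.hom k.op y)
    have := congrArg (germ ξ F _ w') h2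
    rw [germ_res, germ_res, hw', Functor.map_comp_apply, hw', hw] at this
    exact this

omit [NeZero n] in
/-- Roots of unity exist étale locally. -/
theorem exists_etale_root (hn : IsUnit (n : Γ(X, ⊤))) (h1 : 1 ≤ n) (x : X) :
    ∃ (W : Scheme.{u}) (e : W ⟶ X) (_ : AlgebraicGeometry.Etale e) (ζ : Γ(W, ⊤)),
      Polynomial.aeval ζ (Polynomial.cyclotomic n ℤ) = 0 ∧ ∃ w, e.base w = x := by
  obtain ⟨_, ⟨V, hV, rfl⟩, hxV, -⟩ :=
    X.isBasis_affineOpens.exists_subset_of_mem_open (Set.mem_univ x) isOpen_univ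
  let A := Γ(X, V)
  have hu : IsUnit (n : A) := by
    have := hn.map (X.presheaf.map (homOfLE (le_top : V ≤ ⊤)).op).hom
    rwa [map_natCast] at this
  let f := Polynomial.cyclotomic n A
  have hsep : f.Separable := by
    refine Polynomial.Separable.of_dvd ?_ (Polynomial.cyclotomic.dvd_X_pow_sub_one n A)
    rw [← Polynomial.C_1]
    exact Polynomial.separable_X_pow_sub_C_unit (1 : Aˣ) hu
  let P : StandardEtalePair A :=
    { f := f
      monic_f := Polynomial.cyclotomic.monic n A
      g := 1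
      cond := by
        obtain ⟨a, b, hab⟩ := hsep
        exact ⟨b, a, 0, by rw [pow_zero, ← hab]; ring⟩ }
  let q : A ⟶ CommRingCat.of P.Ring := CommRingCat.ofHom (algebraMap A P.Ring)
  have hq : AlgebraicGeometry.Etale (Spec.map q) :=
    (HasRingHomProperty.Spec_iff (P := @AlgebraicGeometry.Etale)).2 (RingHom.etale_algebraMap.2 inferInstance)
  refine ⟨Spec (CommRingCat.of P.Ring), Spec.map q ≫ hV.fromSpec, inferInstance,
    (Scheme.ΓSpecIso (CommRingCat.of P.Ring)).inv.hom P.X, ?_, ?_⟩
  · have h0 : Polynomial.aeval P.X (Polynomial.cyclotomic n ℤ) = 0 := by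
      have := (StandardEtalePair.hasMap_X (P := P)).1
      change Polynomial.aeval P.X (Polynomial.cyclotomic n A) = 0 at this
      rw [← Polynomial.map_cyclotomic_int n A, Polynomial.aeval_def, Polynomial.eval₂_map] at this
      rw [Polynomial.aeval_def, Subsingleton.elim (algebraMap ℤ P.Ring) ((algebraMap A P.Ring).comp (Int.castRingHom A))]
      exact this
    rw [Polynomial.aeval_def, Subsingleton.elim (algebraMap ℤ _)
      ((Scheme.ΓSpecIso (CommRingCat.of P.Ring)).inv.hom.comp (algebraMap ℤ P.Ring)),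
      ← Polynomial.hom_eval₂, ← Polynomial.aeval_def, h0, map_zero]
  · obtain ⟨p, rfl⟩ : x ∈ Set.range hV.fromSpec.base := by rw [hV.range_fromSpec]; exact hxV
    let k := SeparableClosure p.asIdeal.ResidueField
    letI : Algebra A k := ((algebraMap p.asIdeal.ResidueField k).comp (algebraMap A _)).toAlgebra
    have : NeZero (n : k) := ⟨by
      have := (hu.map (algebraMap A k)).ne_zero
      rwa [map_natCast] at this⟩
    obtain ⟨a, ha⟩ := IsSepClosed.exists_root (Polynomial.cyclotomic n k)
      (Polynomial.degree_cyclotomic_pos n k (by omega)).ne' (Polynomial.separable_cyclotomic n k)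
    have hm : P.HasMap a := by
      refine ⟨?_, by simp [P]⟩
      change Polynomial.aeval a (Polynomial.cyclotomic n A) = 0
      rw [Polynomial.aeval_def, Polynomial.eval₂_eq_eval_map, Polynomial.map_cyclotomic]
      exact ha
    let θ := P.lift a hm
    let P' : PrimeSpectrum P.Ring := ⟨RingHom.ker θ.toRingHom, RingHom.ker_isPrime _⟩
    refine ⟨P', ?_⟩
    change hV.fromSpec.base (PrimeSpectrum.comap (algebraMap A P.Ring) P') = _
    refine congrArg hV.fromSpec.base (PrimeSpectrum.ext ?_)
    ext z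
    change θ (algebraMap A P.Ring z) = 0 ↔ z ∈ p.asIdeal
    rw [AlgHom.commutes, ← Ideal.algebraMap_residueField_eq_zero]
    exact map_eq_zero (algebraMap p.asIdeal.ResidueField k)

omit [NeZero n] in
/-- The restriction of `μ_n` is `μ_n`. -/
theorem nonempty_restrAlong_mu_iso {W : Scheme.{u}} (e : W ⟶ X) [AlgebraicGeometry.Etale e] (n : ℕ) :
    Nonempty (EtCoh.mu W n ≅ (EtShriek.restrAlong e).obj (EtCoh.mu X n)) := by
  let R := EtShriek.restrAlong e
  let θ : R.obj (EtCoh.Gm X) ≅ EtCoh.Gm W :=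
    (sheafToPresheaf _ _).preimageIso (NatIso.ofComponents (fun T => Iso.refl _)
      fun {T T'} g => (Category.comp_id _).trans (Category.id_comp _).symm)
  have : PreservesFiniteLimits R :=
    have : PreservesLimitsOfSize.{0, 0} R := (EtShriek.extZeroAdj e).rightAdjoint_preservesLimits
    PreservesLimitsOfSize.preservesFiniteLimits _
  have : R.Additive := ⟨fun {F G f g} => rfl⟩
  have hsq : R.map (EtCoh.powMap X n) ≫ θ.hom = θ.hom ≫ EtCoh.powMap W n := by
    simp [EtCoh.powMap, Functor.map_nsmul]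
  exact ⟨(PreservesKernel.iso R (EtCoh.powMap X n) ≪≫
    kernel.mapIso (R.map (EtCoh.powMap X n)) (EtCoh.powMap W n) θ θ hsq).symm⟩

/-- Tate twists are locally trivial. -/
theorem exists_stalkBij_tate (hn : IsUnit (n : Γ(X, ⊤))) (d : ℕ) (x : X) :
    ∃ (W : X.Etale), (∃ y, W.hom.base y = x) ∧
      (∃ s : ULift.{u + 1} (ZMod n) →+ (EtCoh.const X (ZMod n)).obj.obj (op W),
        StalkBij (EtCoh.const X (ZMod n)) W s) ∧
      ∃ s : ULift.{u + 1} (ZMod n) →+ (EtDual.tate X n d).obj.obj (op W),
        StalkBij (EtDual.tate X n d) W s := by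
  have h1 : 1 ≤ n := Nat.one_le_iff_ne_zero.2 (NeZero.ne n)
  obtain ⟨W, e, _, ζ, hζ, w, hw⟩ := exists_etale_root hn h1 x
  obtain ⟨θ⟩ := nonempty_restrAlong_mu_iso e n
  have hnW : IsUnit (n : Γ(W, ⊤)) := by
    have := hn.map e.appTop.hom
    rwa [map_natCast] at this
  obtain ⟨c⟩ := nonempty_mu_iso_const n h1 hnW ζ hζ
  obtain ⟨s, hs⟩ := exists_stalkBij_of_restrAlong_iso e (M := ULift.{u + 1} (ZMod n)) (c.symm ≪≫ θ)
  refine ⟨(EtShriek.compEtale e).obj (EtCoh.top W), ⟨w, hw⟩, ⟨_, exists_stalkBij_const _ _⟩, ?_⟩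
  induction d with
  | zero => exact ⟨_, exists_stalkBij_const _ _⟩
  | succ d ih =>
    obtain ⟨t, ht⟩ := ih
    exact exists_stalkBij_tensor ht hs

end Groth.EtaleBase.TateLocal
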