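import Groth.Agent.EtaleBase.GmExtend
import Groth.Agent.EtaleBase.GmPic.Flasque
import Groth.Agent.EtaleBase.SuppNested
import Groth.Agent.EtaleBase.LocCohTransfer
import Groth.Agent.EtaleBase.TateLocal
import Groth.Agent.EtaleBase.Limit.StalkCycle
import Groth.Agent.S0065
import Groth.Agent.S2821

/-!
# Vanishing of `H²_Y(X, 𝔾ₘ)` on regular schemes
-/

set_option autoImplicit false
set_option backward.isDefEq.respectTransparency.types false
set_option maxHeartbeats 1000000

universe u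

open CategoryTheory CategoryTheory.Limits AlgebraicGeometry Opposite TopologicalSpace

namespace Groth.EtaleBase.Supp

open Groth.EtaleBase Groth.EtaleBase.GmPic Groth.EtaleBase.LocConst

attribute [local instance] InjCoh.jCont

variable {X : Scheme.{u}}

/-- The restriction of `𝔾ₘ` along an étale map is `𝔾ₘ`. -/
noncomputable def gmRestr {Y : Scheme.{u}} (e : Y ⟶ X) [AlgebraicGeometry.Etale e] :
    (EtShriek.restrAlong e).obj (EtCoh.Gm X) ≅ EtCoh.Gm Y :=
  (sheafToPresheaf _ _).preimageIso (NatIso.ofComponents (fun T => Iso.refl _)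
    fun {T T'} g => (Category.comp_id _).trans (Category.id_comp _).symm)

/-- Local lifts of sections of quotients by `𝔾ₘ` extend over regular points. -/
theorem exists_lift_extend_etale [IsLocallyNoetherian X] {I Q : EtCoh.Ab X} (f : EtCoh.Gm X ⟶ I)
    (g : I ⟶ Q) {w : f ≫ g = 0} (hS : (ShortComplex.mk f g w).ShortExact) (Z : X.Etale)
    (O : Z.left.Opens) (q : Q.obj.obj (op (openObj Z O))) (z : Z.left)
    (hz : IsRegularLocalRing (X.presheaf.stalk (Z.hom.base z))) :
    ∃ (W : Z.left.Opens), z ∈ W ∧ ∃ (a : I.obj.obj (op (openObj Z (W ⊓ O))))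
      (m : openObj Z (W ⊓ O) ⟶ openObj Z O),
      m.left ≫ O.ι = (W ⊓ O).ι ∧ g.hom.app _ a = Q.obj.map m.op q := by
  have he : AlgebraicGeometry.Etale (Z.hom : Z.left ⟶ X) := Z.prop
  let e : Z.left ⟶ X := Z.hom
  have : IsLocallyNoetherian Z.left := LocallyOfFiniteType.isLocallyNoetherian e
  have := (Groth.Agent.S0065.result e z).2 hz
  obtain ⟨_, _⟩ := Groth.Agent.S2821.result (Z.left.presheaf.stalk z)
  let R := EtShriek.restrAlong e
  have : PreservesFiniteLimits R :=
    have : PreservesLimitsOfSize.{0, 0} R := (EtShriek.extZeroAdj e).rightAdjoint_preservesLimits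
    PreservesLimitsOfSize.preservesFiniteLimits _
  have : PreservesFiniteColimits R :=
    have : PreservesColimitsOfSize.{0, 0} (EtCoh.pull e) :=
      (EtCoh.pullPushAdj e).leftAdjoint_preservesColimits
    have : PreservesFiniteColimits (EtCoh.pull e) :=
      PreservesColimitsOfSize.preservesFiniteColimits _
    preservesFiniteColimits_of_natIso (pullRestrIso e)
  have : R.Additive := ⟨fun {F G f g} => rfl⟩
  have hS' := hS.map_of_exact R
  let T : ShortComplex (EtCoh.Ab Z.left) := ShortComplex.mk ((gmRestr e).inv ≫ R.map f) (R.map g)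
    (by rw [Category.assoc, ← R.map_comp, w, R.map_zero, comp_zero])
  let i : T ≅ (ShortComplex.mk f g w).map R := ShortComplex.isoMk (gmRestr e).symm (Iso.refl _) (Iso.refl _)
    (Category.comp_id _).symm ((Category.id_comp _).trans (Category.comp_id _).symm)
  have hS'' : T.ShortExact := (ShortComplex.shortExact_iff_of_iso i).2 hS'
  let c : (EtShriek.compEtale e).obj (wet O) ⟶ openObj Z O :=
    MorphismProperty.Over.homMk (𝟙 (O : Scheme.{u})) (Category.id_comp _)
  obtain ⟨W, hzW, a, ha⟩ := GmExtend.exists_lift_extend _ _ hS'' O (Q.obj.map c.op q) z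
  let c' : openObj Z (W ⊓ O) ⟶ (EtShriek.compEtale e).obj (wet (W ⊓ O)) :=
    MorphismProperty.Over.homMk (𝟙 ((W ⊓ O : Z.left.Opens) : Scheme.{u})) (Category.id_comp _)
  refine ⟨W, hzW, I.obj.map c'.op a,
    c' ≫ (EtShriek.compEtale e).map (wetMap inf_le_right) ≫ c, ?_, ?_⟩
  · change (𝟙 _ ≫ Z.left.homOfLE (inf_le_right : W ⊓ O ≤ O) ≫ 𝟙 _) ≫ O.ι = (W ⊓ O).ι
    rw [Category.id_comp, Category.comp_id]
    exact Z.left.homOfLE_ι _
  · refine (NatTrans.naturality_apply g.hom c'.op a).trans ?_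
    refine (congrArg (Q.obj.map c'.op) ha).trans ?_
    rw [op_comp, op_comp, Functor.map_comp_apply, Functor.map_comp_apply]
    rfl

variable {U : Scheme.{u}} (j : U ⟶ X) [IsOpenImmersion j]

/-- The second local cohomology sheaf of `𝔾ₘ` vanishes on regular schemes. -/
theorem isZero_locCoh_two_Gm [IsLocallyNoetherian X]
    (hreg : ∀ x : X, IsRegularLocalRing (X.presheaf.stalk x)) :
    IsZero ((EtDual.locCoh j 2).obj (EtCoh.Gm X)) := by
  let I : InjectiveResolution (EtCoh.Gm X) := injectiveResolution _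
  let K := I.cocomplex
  rw [isZero_locCoh_iff j I 2, exact_secSupp_iff]
  intro V s hs hds v
  have hex2 : (K.sc 2).Exact := I.cocomplex_exactAt_succ 1
  obtain ⟨R, hR, hloc⟩ := SiteCohomology.HomShDual.exists_local_preimage_of_exact hex2 V s hds
  obtain ⟨Z, g₀, z, hz, hzv⟩ := (mem_topology_iff _).1 hR v
  obtain ⟨b₀, hb₀⟩ := hloc g₀ hz
  have e1 : (ComplexShape.up ℕ).prev 2 = 1 := CochainComplex.prev_nat_succ 1
  let b : (K.X 1).obj.obj (op Z) := (K.XIsoOfEq e1).hom.hom.app (op Z) b₀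
  have hb : (K.d 1 2).hom.app (op Z) b = (K.X 2).obj.map g₀.op s := by
    refine Eq.trans ?_ hb₀
    refine (ConcreteCategory.congr_hom (congrArg (fun m : K.X _ ⟶ K.X 2 => m.hom.app (op Z))
      (K.XIsoOfEq_hom_comp_d e1 2)) b₀)
  let O : Z.left.Opens := Z.hom ⁻¹ᵁ j.opensRange
  let bO := (K.X 1).obj.map (openHom Z O).op b
  have hbO : (K.d 1 2).hom.app (op (openObj Z O)) bO = 0 := by
    refine (NatTrans.naturality_apply (K.d 1 2).hom _ b).trans ?_
    refine (congrArg _ hb).trans ?_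
    rw [map_eq_zero_iff_range_subset, vanishSet_res]
    rintro _ ⟨o, rfl⟩
    refine (isSupp_iff j s).1 hs ?_
    change V.hom.base (g₀.left.base _) ∈ Set.range j.base
    rw [show V.hom.base (g₀.left.base ((openHom Z O).left.base o)) = Z.hom.base (O.ι.base o) from
      congrArg (fun m : Z.left ⟶ X => m.base (O.ι.base o)) (MorphismProperty.Over.w g₀)]
    exact o.2
  let f₀ : EtCoh.Gm X ⟶ K.X 0 := I.ι.f 0
  have hf₀ : f₀ ≫ K.d 0 1 = 0 := I.ι_f_zero_comp_complex_d
  have w : f₀ ≫ K.toCycles 0 1 = 0 := by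
    rw [← cancel_mono (K.iCycles 1), Category.assoc, K.toCycles_i, hf₀, zero_comp]
  have : Mono f₀ := inferInstanceAs (Mono (I.ι.f 0))
  have : Epi (K.toCycles 0 1) := Preadditive.epi_of_isZero_cokernel' _
    (K.homologyIsCokernel 0 1 (by simp)) (I.cocomplex_exactAt_succ 0).isZero_homology
  have hS : (ShortComplex.mk f₀ (K.toCycles 0 1) w).ShortExact :=
    { exact := by
        let e : ShortComplex.mk f₀ (K.toCycles 0 1) w ⟶ ShortComplex.mk f₀ (K.d 0 1) hf₀ :=
          { τ₁ := 𝟙 _, τ₂ := 𝟙 _, τ₃ := K.iCycles 1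
            comm₁₂ := (Category.id_comp _).trans (Category.comp_id _).symm
            comm₂₃ := (Category.id_comp _).trans (K.toCycles_i 0 1).symm }
        haveI : Epi e.τ₁ := inferInstanceAs (Epi (𝟙 _))
        haveI : IsIso e.τ₂ := inferInstanceAs (IsIso (𝟙 _))
        haveI : Mono e.τ₃ := inferInstanceAs (Mono (K.iCycles 1))
        exact (ShortComplex.exact_iff_of_epi_of_isIso_of_mono e).2 I.exact₀ }
  obtain ⟨q, hq⟩ := EtLimit.exists_cycle K 1 (openObj Z O) bO hbO
  obtain ⟨W, hzW, a, m, hm, ha⟩ :=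
    exists_lift_extend_etale f₀ (K.toCycles 0 1) hS Z O q z (hreg _)
  let hle : openObj Z (W ⊓ O) ⟶ openObj Z W :=
    MorphismProperty.Over.homMk (Z.left.homOfLE inf_le_left)
      (by change Z.left.homOfLE _ ≫ W.ι ≫ Z.hom = (W ⊓ O).ι ≫ Z.hom
          rw [Scheme.homOfLE_ι_assoc])
  haveI : Mono hle := ⟨fun c d h => MorphismProperty.Over.Hom.ext
    ((cancel_mono (Z.left.homOfLE (inf_le_left : W ⊓ O ≤ W))).1 (congrArg (fun k => k.left) h))⟩
  haveI := InjCoh.injective_presheaf (K.X 0)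
  obtain ⟨r, hr⟩ := Flasque.exists_extend (K.X 0).obj hle a
  let b' := (K.X 1).obj.map (openHom Z W).op b - (K.d 0 1).hom.app (op (openObj Z W)) r
  have hres : (K.X 1).obj.map hle.op b' = 0 := by
    rw [map_sub, sub_eq_zero, ← NatTrans.naturality_apply (K.d 0 1).hom, hr]
    have h1 : (K.d 0 1).hom.app _ a = (K.iCycles 1).hom.app _ ((K.toCycles 0 1).hom.app _ a) :=
      (ConcreteCategory.congr_hom (congrArg (fun t : K.X 0 ⟶ K.X 1 => t.hom.app _) (K.toCycles_i 0 1)) a).symm
    rw [h1, ha, NatTrans.naturality_apply (K.iCycles 1).hom, hq, ← Functor.map_comp_apply,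
      ← Functor.map_comp_apply, ← op_comp, ← op_comp]
    refine congrArg (fun t => (K.X 1).obj.map (Quiver.Hom.op t) b) (MorphismProperty.Over.Hom.ext ?_)
    change Z.left.homOfLE (inf_le_left : W ⊓ O ≤ W) ≫ W.ι = m.left ≫ O.ι
    rw [hm, Scheme.homOfLE_ι]
  refine ⟨openObj Z W, openHom Z W ≫ g₀, ⟨⟨z, hzW⟩, hzv⟩,
    (K.XIsoOfEq e1).inv.hom.app (op (openObj Z W)) b', ?_, ?_⟩
  · have hsupp : IsSupp j (K.X 1) b' := by
      refine (isSupp_iff j _).2 fun y hy => ⟨_, hle, ⟨⟨y.1, y.2, ?_⟩, Subtype.ext ?_⟩, hres⟩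
      · obtain ⟨u, hu⟩ := hy
        exact ⟨u, hu⟩
      · change W.ι.base ((Z.left.homOfLE (inf_le_left : W ⊓ O ≤ W)).base _) = y.1
        rw [← Scheme.Hom.comp_apply, Scheme.homOfLE_ι]
        rfl
    refine (NatTrans.naturality_apply (K.XIsoOfEq e1).inv.hom _ b').symm.trans ?_
    exact (congrArg _ hsupp).trans (map_zero _)
  · change (K.d _ 2).hom.app _ ((K.XIsoOfEq e1).inv.hom.app _ b') = _
    refine (ConcreteCategory.congr_hom (congrArg (fun m : K.X 1 ⟶ K.X 2 => m.hom.app (op (openObj Z W)))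
      (K.XIsoOfEq_inv_comp_d e1 2)) b').trans ?_
    refine (map_sub _ _ _).trans ((congrArg₂ (· - ·) ?_ ?_).trans (sub_zero _))
    · refine (NatTrans.naturality_apply (K.d 1 2).hom (openHom Z W).op b).trans ?_
      exact (congrArg _ hb).trans (Functor.map_comp_apply (K.X 2).obj g₀.op (openHom Z W).op s).symm
    · exact ConcreteCategory.congr_hom (congrArg (fun t : K.X 0 ⟶ K.X 2 => t.hom.app _) (K.d_comp_d 0 1 2)) r

end Groth.EtaleBase.Supp
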