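import Groth.Agent.EtaleBase.Support
import Groth.Agent.EtaleBase.PushStalkInt
import Groth.Prelude.Def_EtRestW
import Mathlib.CategoryTheory.Sites.LocallyBijective

/-!
Trivializations of locally constant sheaves in terms of stalks.
-/

set_option autoImplicit false

universe u

open CategoryTheory CategoryTheory.Limits AlgebraicGeometry Opposite

namespace Groth.EtaleBase.LocConst

variable {X : Scheme.{u}}

/-- A germ at a point over `U` is the germ of a section over an etale neighbourhood refining `U`. -/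
lemma exists_rep_over {Ω : Type u} [Field Ω] [IsSepClosed Ω] (ξ : Spec (CommRingCat.of Ω) ⟶ X)
    (F : EtCoh.Ab X) (U : X.Etale) (t : (Scheme.pointSmallEtale ξ).fiber.obj U)
    (a : (EtCoh.stalk ξ).obj F) :
    ∃ (W : X.Etale) (g : W ⟶ U) (w : (Scheme.pointSmallEtale ξ).fiber.obj W) (σ : F.obj.obj (op W)),
      (Scheme.pointSmallEtale ξ).fiber.map g w = t ∧ germ ξ F W w σ = a := by
  obtain ⟨V, s, τ, rfl⟩ := germ_surjective ξ F a
  let Φ := Scheme.pointSmallEtale ξ
  obtain ⟨W₀, pm, qm, -⟩ := IsCofilteredOrEmpty.cone_objs (C := Φ.fiber.Elements)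
    (Functor.elementsMk _ V s) (Functor.elementsMk _ U t)
  obtain ⟨W, w⟩ := W₀
  let p : W ⟶ V := pm.1
  refine ⟨W, qm.1, w, F.obj.map p.op τ, qm.2, ?_⟩
  have hp : Φ.fiber.map p w = s := pm.2
  refine (Φ.toPresheafFiber_w_apply p w F.obj τ).trans ?_
  exact congrArg (fun z => germ ξ F V z τ) hp

/-- Germs commute with restriction. -/
lemma germ_res {Ω : Type u} [Field Ω] [IsSepClosed Ω] (ξ : Spec (CommRingCat.of Ω) ⟶ X)
    (F : EtCoh.Ab X) {W U : X.Etale} (g : W ⟶ U) (w : (Scheme.pointSmallEtale ξ).fiber.obj W)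
    (σ : F.obj.obj (op U)) :
    germ ξ F W w (F.obj.map g.op σ) = germ ξ F U ((Scheme.pointSmallEtale ξ).fiber.map g w) σ :=
  (Scheme.pointSmallEtale ξ).toPresheafFiber_w_apply g w F.obj σ

/-- A homomorphism into sections that induces bijections on all stalks over `U`. -/
def StalkBij (F : EtCoh.Ab X) (U : X.Etale) {M : Type (u + 1)} [AddCommGroup M]
    (s : M →+ F.obj.obj (op U)) : Prop :=
  ∀ (Ω : Type u) (_ : Field Ω) (_ : IsSepClosed Ω) (ξ : Spec (CommRingCat.of Ω) ⟶ X)
    (t : (Scheme.pointSmallEtale ξ).fiber.obj U), Function.Bijective fun a => germ ξ F U t (s a)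

variable {F G : EtCoh.Ab X} {U : X.Etale} {M : Type (u + 1)} [AddCommGroup M]
  {s : M →+ F.obj.obj (op U)}

/-- Restriction of a homomorphism into sections. -/
noncomputable def res {V : X.Etale} (g : V ⟶ U) (s : M →+ F.obj.obj (op U)) : M →+ F.obj.obj (op V) :=
  (F.obj.map g.op).hom.comp s

lemma res_apply {V : X.Etale} (g : V ⟶ U) (s : M →+ F.obj.obj (op U)) (a : M) :
    res g s a = F.obj.map g.op (s a) := rfl

lemma StalkBij.res (h : StalkBij F U s) {V : X.Etale} (g : V ⟶ U) :
    StalkBij F V (LocConst.res g s) := fun Ω _ _ ξ t => by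
  have e : (fun a => germ ξ F V t (LocConst.res g s a)) =
      fun a => germ ξ F U ((Scheme.pointSmallEtale ξ).fiber.map g t) (s a) :=
    funext fun a => germ_res ξ F g t (s a)
  rw [e]
  exact h Ω _ _ ξ _

lemma StalkBij.comp_equiv (h : StalkBij F U s) {M' : Type (u + 1)} [AddCommGroup M'] (e : M' ≃+ M) :
    StalkBij F U (s.comp e.toAddMonoidHom) := fun Ω _ _ ξ t =>
  (h Ω _ _ ξ t).comp e.bijective

lemma StalkBij.of_iso (h : StalkBij F U s) (φ : F ≅ G) :
    StalkBij G U ((φ.hom.hom.app (op U)).hom.comp s) := fun Ω _ _ ξ t => by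
  have e : (fun a => germ ξ G U t (((φ.hom.hom.app (op U)).hom.comp s) a)) =
      fun a => (EtCoh.stalk ξ).map φ.hom (germ ξ F U t (s a)) :=
    funext fun a => (germ_map ξ φ.hom U t (s a)).symm
  rw [e]
  exact ((ConcreteCategory.isIso_iff_bijective ((EtCoh.stalk ξ).map φ.hom)).1 inferInstance).comp
    (h Ω _ _ ξ t)

/-- Sections with the same germ at a point over which `s` is bijective. -/
lemma StalkBij.injective_of_nonempty (h : StalkBij F U s) (u₀ : U.left) : Function.Injective s := by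
  intro a b e
  obtain ⟨t, -⟩ := exists_geomPoint_lift U u₀
  exact (h _ _ _ _ t).1 (congrArg _ e)

/-- Near any point, a section over a trivializing object is in the image. -/
lemma StalkBij.exists_nhd (h : StalkBij F U s) {V : X.Etale} (g : V ⟶ U) (σ : F.obj.obj (op V))
    (v : V.left) :
    ∃ (W : X.Etale) (k : W ⟶ V) (a : M), (∃ w, k.left.base w = v) ∧
      F.obj.map k.op σ = F.obj.map (k ≫ g).op (s a) := by
  obtain ⟨t, ht⟩ := exists_geomPoint_lift V v
  obtain ⟨a, ha⟩ := (h.res g _ _ _ _ t).2 (germ _ F V t σ)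
  obtain ⟨W, k, w, hw, he⟩ := (germ_eq_iff _ F V t _ σ).1 ha
  subst hw
  exact ⟨W, k, a, ⟨_, ht⟩, he.symm.trans (by rw [res_apply, op_comp, Functor.map_comp_apply])⟩

/-- The constant presheaf on the site over `U`. -/
abbrev constPre (U : X.Etale) (M : Type (u + 1)) [AddCommGroup M] : (Over U)ᵒᵖ ⥤ AddCommGrpCat.{u + 1} :=
  (Functor.const (Over U)ᵒᵖ).obj (AddCommGrpCat.of M)

/-- The presheaf map given by sections over `U`. -/
noncomputable def toRestr (F : EtCoh.Ab X) (U : X.Etale) (s : M →+ F.obj.obj (op U)) :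
    constPre U M ⟶ (EtCoh.restr F U).obj where
  app Y := AddCommGrpCat.ofHom (LocConst.res Y.unop.hom s)
  naturality Y Y' φ := by
    ext a
    show F.obj.map Y'.unop.hom.op (s a) = F.obj.map φ.unop.left.op (F.obj.map Y.unop.hom.op (s a))
    rw [← Functor.map_comp_apply, ← op_comp, Over.w φ.unop]

lemma toRestr_eq (ψ : constPre U M ⟶ (EtCoh.restr F U).obj) :
    ψ = toRestr F U (ψ.app (op (Over.mk (𝟙 U)))).hom := by
  ext Y a
  let φ : Y.unop ⟶ Over.mk (𝟙 U) := Over.homMk Y.unop.hom (Category.comp_id _)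
  exact NatTrans.naturality_apply ψ φ.op a

lemma equalizer_mem {Y : (Over U)ᵒᵖ} (S : Sieve Y.unop) :
    S ∈ (X.smallEtaleTopology.over U) Y.unop ↔
      ∀ x : Y.unop.left.left, ∃ (V : X.Etale) (g : V ⟶ Y.unop.left) (v : V.left),
        S (Over.homMk g : Over.mk (g ≫ Y.unop.hom) ⟶ Y.unop) ∧ g.left.base v = x := by
  rw [GrothendieckTopology.mem_over_iff, mem_topology_iff]
  simp only [Sieve.overEquiv_iff]

/-- Stalkwise bijectivity is local bijectivity of the presheaf map. -/
theorem stalkBij_iff :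
    StalkBij F U s ↔ Presheaf.IsLocallyInjective (X.smallEtaleTopology.over U) (toRestr F U s) ∧
      Presheaf.IsLocallySurjective (X.smallEtaleTopology.over U) (toRestr F U s) := by
  constructor
  · intro h
    refine ⟨⟨fun {Y} a b e => ?_⟩, ⟨fun {Y} σ => ?_⟩⟩
    · rw [equalizer_mem]
      intro x
      have : a = b := (h.res Y.unop.hom).injective_of_nonempty x e
      subst this
      exact ⟨_, 𝟙 _, x, rfl, rfl⟩
    · refine (equalizer_mem (Y := op Y) _).2 fun x => ?_
      obtain ⟨W, k, a, ⟨w, hw⟩, he⟩ := h.exists_nhd Y.hom σ x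
      exact ⟨W, k, w, ⟨a, he.symm⟩, hw⟩
  · rintro ⟨h1, h2⟩ Ω _ _ ξ t
    constructor
    · intro a b e
      obtain ⟨W, g, w, hw, he⟩ := (germ_eq_iff ξ F U t _ _).1 e
      have hmem := Presheaf.equalizerSieve_mem (X.smallEtaleTopology.over U) (toRestr F U s)
        (X := op (Over.mk g)) a b he
      obtain ⟨V, k, v, hk, -⟩ := (equalizer_mem (Y := op (Over.mk g)) _).1 hmem (fiberPoint ξ w)
      exact hk
    · intro z
      obtain ⟨W, g, w, σ, hw, rfl⟩ := exists_rep_over ξ F U t z
      have hmem := Presheaf.imageSieve_mem (X.smallEtaleTopology.over U) (toRestr F U s)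
        (U := op (Over.mk g)) σ
      obtain ⟨V, k, v, ⟨a, ha⟩, hv⟩ := (equalizer_mem (Y := op (Over.mk g)) _).1 hmem (fiberPoint ξ w)
      obtain ⟨w', hw', -⟩ := exists_fiber_lift ξ k w v hv
      refine ⟨a, ?_⟩
      show germ ξ F U t (s a) = germ ξ F W w σ
      calc germ ξ F U t (s a)
          = germ ξ F U ((Scheme.pointSmallEtale ξ).fiber.map (k ≫ g) w') (s a) := by
            rw [← hw, ← hw', Functor.map_comp_apply]
        _ = germ ξ F V w' (F.obj.map (k ≫ g).op (s a)) := (germ_res ξ F (k ≫ g) w' (s a)).symm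
        _ = germ ξ F V w' (F.obj.map k.op σ) := congrArg _ ha
        _ = germ ξ F W ((Scheme.pointSmallEtale ξ).fiber.map k w') σ := germ_res ξ F k w' σ
        _ = germ ξ F W w σ := congrArg (fun z => germ ξ F W z σ) hw'

/-- A trivialization gives stalkwise bijective sections. -/
theorem exists_stalkBij_of_iso (e : EtCoh.restr F U ≅
    (constantSheaf (X.smallEtaleTopology.over U) AddCommGrpCat.{u + 1}).obj (AddCommGrpCat.of M)) :
    ∃ s : M →+ F.obj.obj (op U), StalkBij F U s ∧
      toRestr F U s = CategoryTheory.toSheafify _ _ ≫ e.inv.hom := by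
  let ψ : constPre U M ⟶ (EtCoh.restr F U).obj := CategoryTheory.toSheafify _ _ ≫ e.inv.hom
  have hψ := toRestr_eq ψ
  have hbij : ∀ Y, Function.Bijective (e.inv.hom.app Y) := fun Y =>
    (((sheafToPresheaf _ _).mapIso e.symm).app Y).addCommGroupIsoToAddEquiv.bijective
  refine ⟨_, stalkBij_iff.2 ⟨?_, ?_⟩, hψ.symm⟩
  all_goals rw [← hψ]
  · exact ⟨fun {Y} a b h => Presheaf.equalizerSieve_mem _
      (CategoryTheory.toSheafify (X.smallEtaleTopology.over U) (constPre U M)) a b ((hbij Y).1 h)⟩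
  · refine ⟨fun {Y} σ => ?_⟩
    obtain ⟨y, rfl⟩ := (hbij (op Y)).2 σ
    refine (X.smallEtaleTopology.over U).superset_covering ?_ (Presheaf.imageSieve_mem _
      (CategoryTheory.toSheafify (X.smallEtaleTopology.over U) (constPre U M)) (U := op Y) y)
    rintro Z k ⟨a, ha⟩
    exact ⟨a, (congrArg (e.inv.hom.app (op Z)) ha).trans (NatTrans.naturality_apply e.inv.hom k.op y)⟩

/-- The morphism from a constant sheaf given by sections. -/
noncomputable def fromConst (F : EtCoh.Ab X) (U : X.Etale) (s : M →+ F.obj.obj (op U)) :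
    (constantSheaf (X.smallEtaleTopology.over U) AddCommGrpCat.{u + 1}).obj (AddCommGrpCat.of M) ⟶
      EtCoh.restr F U :=
  ((sheafificationAdjunction (X.smallEtaleTopology.over U) AddCommGrpCat.{u + 1}).homEquiv _ _).symm
    (toRestr F U s)

lemma isIso_fromConst (h : StalkBij F U s) : IsIso (fromConst F U s) := by
  obtain ⟨_, _⟩ := stalkBij_iff.1 h
  have hW := (X.smallEtaleTopology.over U).W_of_isLocallyBijective (toRestr F U s)
  have h1 : IsIso ((presheafToSheaf (X.smallEtaleTopology.over U) AddCommGrpCat.{u + 1}).map (toRestr F U s)) :=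
    (GrothendieckTopology.W_iff _ _).1 hW
  rw [fromConst, Adjunction.homEquiv_symm_apply]
  exact @IsIso.comp_isIso _ _ _ _ _ _ _ h1 inferInstance

/-- Stalkwise bijective sections give a trivialization. -/
theorem StalkBij.iso (h : StalkBij F U s) :
    Nonempty (EtCoh.restr F U ≅
      (constantSheaf (X.smallEtaleTopology.over U) AddCommGrpCat.{u + 1}).obj (AddCommGrpCat.of M)) := by
  have := isIso_fromConst h
  exact ⟨(asIso (fromConst F U s)).symm⟩

/-- Finite local constancy, pointwise. -/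
theorem isFLC_iff : EtCoh.IsFiniteLocallyConstant F ↔
    ∀ x : X, ∃ (U : X.Etale) (_ : ∃ y, U.hom.base y = x) (M : Type) (_ : AddCommGroup M) (_ : Finite M)
      (s : ULift.{u + 1} M →+ F.obj.obj (op U)), StalkBij F U s := by
  constructor
  · rintro ⟨ι, U, hU, h⟩ x
    obtain ⟨i, y, hy⟩ := hU x
    obtain ⟨M, _, _, ⟨e⟩⟩ := h i
    obtain ⟨s, hs, -⟩ := exists_stalkBij_of_iso e
    exact ⟨U i, ⟨y, hy⟩, M, _, ‹_›, s, hs⟩
  · intro h
    choose U hU M hM hMf s hs using h
    exact ⟨X, U, fun x => ⟨x, hU x⟩, fun x => ⟨M x, hM x, hMf x, (hs x).iso⟩⟩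

/-- Local constancy, pointwise. -/
theorem isLC_iff : EtRest.IsLocallyConstant F ↔
    ∀ x : X, ∃ (U : X.Etale) (_ : ∃ y, U.hom.base y = x) (M : Type (u + 1)) (_ : AddCommGroup M)
      (s : M →+ F.obj.obj (op U)), StalkBij F U s := by
  constructor
  · rintro ⟨ι, U, hU, h⟩ x
    obtain ⟨i, y, hy⟩ := hU x
    obtain ⟨M, _, ⟨e⟩⟩ := h i
    obtain ⟨s, hs, -⟩ := exists_stalkBij_of_iso e
    exact ⟨U i, ⟨y, hy⟩, M, _, s, hs⟩
  · intro h
    choose U hU M hM s hs using h
    exact ⟨X, U, fun x => ⟨x, hU x⟩, fun x => ⟨M x, hM x, (hs x).iso⟩⟩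

end Groth.EtaleBase.LocConst
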