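import Groth.Agent.EtaleBase.DisjointGlue
import Groth.Agent.EtaleBase.LocConst
import Groth.Agent.EtaleBase.ExtZeroProps
import Mathlib.Algebra.DirectSum.Basic
import Mathlib.AlgebraicGeometry.Morphisms.Separated

/-!
The monomorphism from extension by zero to direct image along a separated étale morphism.
-/

set_option autoImplicit false

universe u

open CategoryTheory CategoryTheory.Limits AlgebraicGeometry Opposite

namespace Groth.EtaleBase.ExtZeroPush

open LocConst

section helpers

variable {X : Scheme.{u}}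

/-- Factorization through an open. -/
lemma exists_hom_openObj (P₀ : X.Etale) (W : P₀.left.Opens) {V : X.Etale} (f : V ⟶ P₀)
    (hf : ∀ v, f.left.base v ∈ W) : ∃ k : V ⟶ openObj P₀ W, k ≫ openHom P₀ W = f := by
  let l := IsOpenImmersion.lift W.ι f.left (by rintro _ ⟨v, rfl⟩; rw [Scheme.Opens.range_ι]; exact hf v)
  have hl : l ≫ W.ι = f.left := IsOpenImmersion.lift_fac _ _ _
  exact ⟨MorphismProperty.Over.homMk l ((Category.assoc _ _ _).symm.trans
    ((congrArg (· ≫ P₀.hom) hl).trans (MorphismProperty.Over.w f))), MorphismProperty.Over.Hom.ext hl⟩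

/-- Factorization of an open through an open immersion. -/
lemma exists_hom_of_openImmersion (P₀ : X.Etale) (W : P₀.left.Opens) {V : X.Etale} (f : V ⟶ P₀)
    [IsOpenImmersion f.left] (hW : ∀ p ∈ W, p ∈ Set.range f.left.base) :
    ∃ k : openObj P₀ W ⟶ V, k ≫ f = openHom P₀ W := by
  let l := IsOpenImmersion.lift f.left W.ι (by rw [Scheme.Opens.range_ι]; exact hW)
  have hl : l ≫ f.left = W.ι := IsOpenImmersion.lift_fac _ _ _
  exact ⟨MorphismProperty.Over.homMk l ((congrArg (l ≫ ·) (MorphismProperty.Over.w f)).symm.trans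
    ((Category.assoc _ _ _).symm.trans (congrArg (· ≫ P₀.hom) hl))), MorphismProperty.Over.Hom.ext hl⟩

lemma openHom_mem (P₀ : X.Etale) (W : P₀.left.Opens) (z : (openObj P₀ W).left) :
    (openHom P₀ W).left.base z ∈ W := z.2

lemma exists_openHom_eq (P₀ : X.Etale) (W : P₀.left.Opens) (p : P₀.left) (hp : p ∈ W) :
    ∃ z, (openHom P₀ W).left.base z = p := ⟨⟨p, hp⟩, rfl⟩

lemma cancel_openImmersion {P₀ V T : X.Etale} (f : V ⟶ P₀) [IsOpenImmersion f.left] {a b : T ⟶ V}
    (h : a ≫ f = b ≫ f) : a = b :=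
  MorphismProperty.Over.Hom.ext ((cancel_mono f.left).1 (congrArg (fun m : T ⟶ P₀ => m.left) h))

end helpers

section scheme

variable {A U X : Scheme.{u}} (v : A ⟶ U) (j : U ⟶ X)

/-- The graph at the level of schemes. -/
noncomputable abbrev rawGraph : A ⟶ pullback (v ≫ j) j := pullback.lift (𝟙 A) v (Category.id_comp _)

lemma rawGraph_props [AlgebraicGeometry.Etale j] [IsSeparated j] :
    IsOpenImmersion (rawGraph v j) ∧ IsClosed (Set.range (rawGraph v j).base) := by
  have h : rawGraph v j ≫ pullback.fst (v ≫ j) j = 𝟙 A := pullback.lift_fst _ _ _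
  have : IsSeparated (pullback.fst (v ≫ j) j) := inferInstance
  have hc : IsClosedImmersion (rawGraph v j ≫ pullback.fst (v ≫ j) j) := by rw [h]; infer_instance
  have : IsClosedImmersion (rawGraph v j) :=
    IsClosedImmersion.of_comp (rawGraph v j) (pullback.fst (v ≫ j) j)
  have he : AlgebraicGeometry.Etale (rawGraph v j ≫ pullback.fst (v ≫ j) j) := by rw [h]; infer_instance
  have : AlgebraicGeometry.Etale (rawGraph v j) := MorphismProperty.of_postcomp (W := @AlgebraicGeometry.Etale)
    (W' := @AlgebraicGeometry.Etale) (rawGraph v j) (pullback.fst (v ≫ j) j) inferInstance he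
  exact ⟨IsOpenImmersion.of_flat_of_mono (rawGraph v j),
    (IsClosedImmersion.base_closed (f := rawGraph v j)).isClosed_range⟩

lemma rawGraph_comm {A' : Scheme.{u}} (v' : A' ⟶ U) (g : A' ⟶ A) (hg : g ≫ v = v')
    (h : pullback (v' ≫ j) j ⟶ pullback (v ≫ j) j)
    (hf : h ≫ pullback.fst (v ≫ j) j = pullback.fst (v' ≫ j) j ≫ g)
    (hs : h ≫ pullback.snd (v ≫ j) j = pullback.snd (v' ≫ j) j) :
    rawGraph v' j ≫ h = g ≫ rawGraph v j := by
  refine pullback.hom_ext ?_ ?_
  · rw [Category.assoc, hf, pullback.lift_fst_assoc, Category.id_comp, Category.assoc, pullback.lift_fst,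
      Category.comp_id]
  · rw [Category.assoc, hs, pullback.lift_snd, Category.assoc, pullback.lift_snd, hg]

lemma rawGraph_preimage {A' : Scheme.{u}} (v' : A' ⟶ U) (g : A' ⟶ A) (hg : g ≫ v = v')
    (h : pullback (v' ≫ j) j ⟶ pullback (v ≫ j) j)
    (hf : h ≫ pullback.fst (v ≫ j) j = pullback.fst (v' ≫ j) j ≫ g)
    (hs : h ≫ pullback.snd (v ≫ j) j = pullback.snd (v' ≫ j) j)
    (z : (pullback (v' ≫ j) j : Scheme.{u})) (hz : h.base z ∈ Set.range (rawGraph v j).base) :
    z ∈ Set.range (rawGraph v' j).base := by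
  obtain ⟨a, ha⟩ := hz
  obtain ⟨q, hq1, -⟩ := Scheme.Pullback.exists_preimage_pullback (f := h) (g := rawGraph v j) z a ha.symm
  let p₁ := pullback.fst h (rawGraph v j)
  let b := p₁ ≫ pullback.fst (v' ≫ j) j
  have hb : b ≫ g = pullback.snd h (rawGraph v j) := by
    rw [Category.assoc, ← hf, pullback.condition_assoc, pullback.lift_fst, Category.comp_id]
  have hp : p₁ = b ≫ rawGraph v' j := by
    refine pullback.hom_ext ?_ ?_
    · rw [Category.assoc, pullback.lift_fst, Category.comp_id]
    · rw [Category.assoc, pullback.lift_snd]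
      refine Eq.trans ?_ (congrArg (b ≫ ·) hg)
      rw [← Category.assoc, hb, ← hs, pullback.condition_assoc, pullback.lift_snd]
  exact ⟨b.base q, (Scheme.Hom.comp_apply _ _ _).symm.trans ((congrArg (fun m => m.base q) hp.symm).trans hq1)⟩

end scheme

variable {U X : Scheme.{u}} (j : U ⟶ X) [AlgebraicGeometry.Etale j] [IsSeparated j] [EtShriek.JCont j]

/-- The object `(V → U → X) ×_X U`. -/
noncomputable abbrev P (V : U.Etale) : U.Etale := (EtCoh.bc j).obj ((EtShriek.compEtale j).obj V)

omit [IsSeparated j] [EtShriek.JCont j] in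
set_option backward.isDefEq.respectTransparency.types false in
/-- The graph of `V → U`. -/
noncomputable def graph (V : U.Etale) : V ⟶ P j V :=
  MorphismProperty.Over.homMk (pullback.lift (𝟙 V.left) V.hom (Category.id_comp _))
    (pullback.lift_snd _ _ _)

omit [IsSeparated j] [EtShriek.JCont j] in
set_option backward.isDefEq.respectTransparency.types false in
lemma graph_fst (V : U.Etale) : (graph j V).left ≫ pullback.fst (V.hom ≫ j) j = 𝟙 V.left :=
  pullback.lift_fst _ _ _

omit [IsSeparated j] [EtShriek.JCont j] in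
set_option backward.isDefEq.respectTransparency.types false in
lemma graph_snd (V : U.Etale) : (graph j V).left ≫ pullback.snd (V.hom ≫ j) j = V.hom :=
  pullback.lift_snd _ _ _

omit [EtShriek.JCont j] in
set_option backward.isDefEq.respectTransparency.types false in
lemma graph_props (V : U.Etale) :
    IsOpenImmersion (graph j V).left ∧ IsClosed (Set.range (graph j V).left.base) :=
  rawGraph_props V.hom j

/-- The graph as an open. -/
noncomputable def gR (V : U.Etale) : (P j V).left.Opens :=
  ⟨Set.range (graph j V).left.base, (graph_props j V).1.base_open.isOpen_range⟩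

/-- The complement of the graph. -/
noncomputable def gC (V : U.Etale) : (P j V).left.Opens :=
  ⟨(Set.range (graph j V).left.base)ᶜ, (graph_props j V).2.isOpen_compl⟩

omit [EtShriek.JCont j] in
/-- The extension by zero of a section from the graph. -/
lemma existsUnique_ext (F : EtCoh.Ab U) (V : U.Etale) (σ : F.obj.obj (op V)) :
    ∃! s : F.obj.obj (op (P j V)),
      F.obj.map (graph j V).op s = σ ∧ F.obj.map (openHom (P j V) (gC j V)).op s = 0 := by
  have := (graph_props j V).1
  let W : ULift.{u} Bool → (P j V).left.Opens := fun b => cond b.down (gR j V) (gC j V)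
  have hW : ∀ a b, a ≠ b → Disjoint (W a) (W b) := by
    have h : Disjoint (gR j V) (gC j V) :=
      disjoint_iff.2 (TopologicalSpace.Opens.ext (Set.inter_compl_self _))
    rintro ⟨(_ | _)⟩ ⟨(_ | _)⟩ hab
    · exact absurd rfl hab
    · exact h.symm
    · exact h
    · exact absurd rfl hab
  have hsup : ⨆ a, W a = ⊤ := by
    refine eq_top_iff.2 fun x _ => TopologicalSpace.Opens.mem_iSup.2 ?_
    by_cases hx : x ∈ Set.range (graph j V).left.base
    · exact ⟨⟨true⟩, hx⟩
    · exact ⟨⟨false⟩, hx⟩
  obtain ⟨a, ha⟩ := exists_hom_of_openImmersion (P j V) (gR j V) (graph j V) (fun _ hp => hp)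
  obtain ⟨b, hb⟩ := exists_hom_openObj (P j V) (gR j V) (graph j V) (fun v => ⟨v, rfl⟩)
  have hba : b ≫ a = 𝟙 V := cancel_openImmersion (graph j V) (by
    rw [Category.assoc, ha, hb, Category.id_comp])
  obtain ⟨s, hs⟩ := exists_glue_disjoint (P j V) W hW hsup F fun c =>
    match c with
    | ⟨true⟩ => F.obj.map a.op σ
    | ⟨false⟩ => 0
  refine ⟨s, ⟨?_, hs ⟨false⟩⟩, fun t ht => ext_disjoint (P j V) W hW hsup F t s fun c => ?_⟩
  · rw [← hb, op_comp, Functor.map_comp_apply, show F.obj.map (openHom (P j V) (gR j V)).op s = _ from hs ⟨true⟩]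
    show F.obj.map b.op (F.obj.map a.op σ) = σ
    rw [← Functor.map_comp_apply, ← op_comp, hba, op_id, Functor.map_id_apply]
  · obtain ⟨(_ | _)⟩ := c
    · exact ht.2.trans (hs ⟨false⟩).symm
    · refine Eq.trans ?_ (hs ⟨true⟩).symm
      show F.obj.map (openHom (P j V) (gR j V)).op t = F.obj.map a.op σ
      rw [← ha, op_comp, Functor.map_comp_apply, ht.1]

/-- The section extended by zero. -/
noncomputable def ext0 (F : EtCoh.Ab U) (V : U.Etale) (σ : F.obj.obj (op V)) : F.obj.obj (op (P j V)) :=
  (existsUnique_ext j F V σ).choose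

omit [EtShriek.JCont j] in
lemma ext0_spec (F : EtCoh.Ab U) (V : U.Etale) (σ : F.obj.obj (op V)) :
    F.obj.map (graph j V).op (ext0 j F V σ) = σ ∧
      F.obj.map (openHom (P j V) (gC j V)).op (ext0 j F V σ) = 0 :=
  (existsUnique_ext j F V σ).choose_spec.1

omit [EtShriek.JCont j] in
lemma eq_ext0 (F : EtCoh.Ab U) (V : U.Etale) (σ : F.obj.obj (op V)) (s : F.obj.obj (op (P j V)))
    (h1 : F.obj.map (graph j V).op s = σ) (h2 : F.obj.map (openHom (P j V) (gC j V)).op s = 0) :
    s = ext0 j F V σ :=
  (existsUnique_ext j F V σ).choose_spec.2 s ⟨h1, h2⟩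

omit [EtShriek.JCont j] in
set_option backward.isDefEq.respectTransparency.types false in
lemma ext0_res (F : EtCoh.Ab U) {V' V : U.Etale} (g : V' ⟶ V) (σ : F.obj.obj (op V)) :
    F.obj.map ((EtCoh.bc j).map ((EtShriek.compEtale j).map g)).op (ext0 j F V σ) =
      ext0 j F V' (F.obj.map g.op σ) := by
  let h := (EtCoh.bc j).map ((EtShriek.compEtale j).map g)
  have hf : h.left ≫ pullback.fst (V.hom ≫ j) j = pullback.fst (V'.hom ≫ j) j ≫ g.left :=
    pullback.lift_fst _ _ _
  have hs : h.left ≫ pullback.snd (V.hom ≫ j) j = pullback.snd (V'.hom ≫ j) j := pullback.lift_snd _ _ _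
  have hsq : graph j V' ≫ h = g ≫ graph j V :=
    MorphismProperty.Over.Hom.ext
      (rawGraph_comm V.hom j V'.hom g.left (MorphismProperty.Over.w g) h.left hf hs)
  refine eq_ext0 j F V' _ _ ?_ ?_
  · rw [← Functor.map_comp_apply, ← op_comp, hsq, op_comp, Functor.map_comp_apply, (ext0_spec j F V σ).1]
  · obtain ⟨k, hk⟩ := exists_hom_openObj (P j V) (gC j V) (openHom (P j V') (gC j V') ≫ h) (fun z hz =>
      openHom_mem (P j V') (gC j V') z (rawGraph_preimage V.hom j V'.hom g.left (MorphismProperty.Over.w g)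
        h.left hf hs _ hz))
    rw [← Functor.map_comp_apply, ← op_comp, ← hk, op_comp, Functor.map_comp_apply, (ext0_spec j F V σ).2,
      map_zero]

/-- The map to the restricted direct image. -/
noncomputable def rApp (F : EtCoh.Ab U) : F ⟶ (EtShriek.restrAlong j).obj ((EtCoh.push j).obj F) :=
  ⟨{ app := fun V => AddCommGrpCat.ofHom (AddMonoidHom.mk' (fun σ => ext0 j F V.unop σ) fun a b =>
        (eq_ext0 j F V.unop _ _ (by rw [map_add, (ext0_spec j F _ a).1, (ext0_spec j F _ b).1])
          (by rw [map_add, (ext0_spec j F _ a).2, (ext0_spec j F _ b).2, add_zero])).symm)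
     naturality := fun V V' g => ConcreteCategory.hom_ext _ _ fun σ => (ext0_res j F g.unop σ).symm }⟩

/-- The natural map to the restricted direct image. -/
noncomputable def r : 𝟭 (EtCoh.Ab U) ⟶ EtCoh.push j ⋙ EtShriek.restrAlong j where
  app F := rApp j F
  naturality F G φ := ObjectProperty.hom_ext _ (NatTrans.ext (funext fun V =>
    ConcreteCategory.hom_ext _ _ fun σ => by
      refine (eq_ext0 j G V.unop _ (φ.hom.app (op (P j V.unop)) (ext0 j F V.unop σ)) ?_ ?_).symm
      · rw [← NatTrans.naturality_apply φ.hom, (ext0_spec j F _ σ).1]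
        rfl
      · rw [← NatTrans.naturality_apply φ.hom, (ext0_spec j F _ σ).2, map_zero]))

/-- The map from extension by zero to direct image. -/
noncomputable def τ : EtShriek.extZero j ⟶ EtCoh.push j where
  app F := ((EtShriek.extZeroAdj j).homEquiv _ _).symm ((r j).app F)
  naturality F G φ := by
    rw [← Adjunction.homEquiv_naturality_left_symm, ← Adjunction.homEquiv_naturality_right_symm]
    exact congrArg _ ((r j).naturality φ)

/-- The value of `τ` on a section of `F`. -/
lemma τ_unit (F : EtCoh.Ab U) (V : U.Etale) (σ : F.obj.obj (op V)) :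
    ((τ j).app F).hom.app (op ((EtShriek.compEtale j).obj V))
      (((EtShriek.extZeroAdj j).unit.app F).hom.app (op V) σ) = ext0 j F V σ := by
  have h : (EtShriek.extZeroAdj j).unit.app F ≫ (EtShriek.restrAlong j).map ((τ j).app F) = (r j).app F :=
    ((EtShriek.extZeroAdj j).homEquiv_unit _ _ _).symm.trans (Equiv.apply_symm_apply _ _)
  exact congrArg (fun m : F ⟶ (EtShriek.restrAlong j).obj ((EtCoh.push j).obj F) => m.hom.app (op V) σ) h

variable {Ω : Type u} [Field Ω] [IsSepClosed Ω] (ξ : Spec (CommRingCat.of Ω) ⟶ X)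

/-- The stalk at a lift maps to the stalk of the extension by zero. -/
noncomputable def inc (F : EtCoh.Ab U) (u : PtOver j ξ) :
    (EtCoh.stalk u.1).obj F ⟶ (EtCoh.stalk ξ).obj ((EtShriek.extZero j).obj F) :=
  (Scheme.pointSmallEtale u.1).presheafFiberDesc
    (fun V t => ((EtShriek.extZeroAdj j).unit.app F).hom.app (op V) ≫
      germ ξ ((EtShriek.extZero j).obj F) ((EtShriek.compEtale j).obj V) (compPt j ξ u V t))
    (fun {V V'} g t => ConcreteCategory.hom_ext _ _ fun σ => by
      refine (congrArg (germ ξ ((EtShriek.extZero j).obj F) _ (compPt j ξ u V t))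
        (NatTrans.naturality_apply ((EtShriek.extZeroAdj j).unit.app F).hom g.op σ)).trans ?_
      refine (germ_res ξ _ ((EtShriek.compEtale j).map g) _ _).trans ?_
      exact congrArg (fun z => germ ξ ((EtShriek.extZero j).obj F) _ z _) (Over.OverMorphism.ext rfl))

omit [IsSeparated j] in
lemma inc_germ (F : EtCoh.Ab U) (u : PtOver j ξ) (V : U.Etale) (t : (Scheme.pointSmallEtale u.1).fiber.obj V)
    (σ : F.obj.obj (op V)) :
    inc j ξ F u (germ u.1 F V t σ) =
      germ ξ ((EtShriek.extZero j).obj F) _ (compPt j ξ u V t)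
        (((EtShriek.extZeroAdj j).unit.app F).hom.app (op V) σ) :=
  ConcreteCategory.congr_hom (GrothendieckTopology.Point.toPresheafFiber_presheafFiberDesc _ _ _ V t) σ

set_option backward.isDefEq.respectTransparency.types false in
/-- A lift of `ξ` to `W` and one to `U` give a lift to the base change. -/
noncomputable def pairPt (u : PtOver j ξ) (W : X.Etale) (t : (Scheme.pointSmallEtale ξ).fiber.obj W) :
    (Scheme.pointSmallEtale u.1).fiber.obj ((EtCoh.bc j).obj W) :=
  Over.homMk (pullback.lift t.left u.1 ((Over.w t).trans u.2.symm)) (pullback.lift_snd _ _ _)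

omit [IsSeparated j] [EtShriek.JCont j] in
set_option backward.isDefEq.respectTransparency.types false in
lemma pairPt_map (u : PtOver j ξ) {W' W : X.Etale} (g : W' ⟶ W)
    (t : (Scheme.pointSmallEtale ξ).fiber.obj W') :
    (Scheme.pointSmallEtale u.1).fiber.map ((EtCoh.bc j).map g) (pairPt j ξ u W' t) =
      pairPt j ξ u W ((Scheme.pointSmallEtale ξ).fiber.map g t) := by
  refine Over.OverMorphism.ext (pullback.hom_ext ?_ ?_)
  · show (_ ≫ ((EtCoh.bc j).map g).left) ≫ _ = (pairPt j ξ u W _).left ≫ _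
    rw [Category.assoc, (EtCoh.isPullback_bc_map j g).w]
    exact ((Category.assoc _ _ _).symm.trans (congrArg (· ≫ g.left) (pullback.lift_fst _ _ _))).trans
      (pullback.lift_fst _ _ _).symm
  · refine Eq.trans ?_ (pullback.lift_snd _ _ _).symm
    exact Over.w ((Scheme.pointSmallEtale u.1).fiber.map ((EtCoh.bc j).map g) (pairPt j ξ u W' t))

/-- The projection from the stalk of the direct image to the stalk at a lift. -/
noncomputable def proj (F : EtCoh.Ab U) (u : PtOver j ξ) :
    (EtCoh.stalk ξ).obj ((EtCoh.push j).obj F) ⟶ (EtCoh.stalk u.1).obj F :=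
  (Scheme.pointSmallEtale ξ).presheafFiberDesc
    (fun W t => germ u.1 F ((EtCoh.bc j).obj W) (pairPt j ξ u W t))
    (fun {W W'} g t => ConcreteCategory.hom_ext _ _ fun σ => by
      rw [ConcreteCategory.comp_apply]
      refine (germ_res u.1 F ((EtCoh.bc j).map g) _ _).trans ?_
      rw [pairPt_map]
      rfl)

omit [IsSeparated j] [EtShriek.JCont j] in
lemma proj_germ (F : EtCoh.Ab U) (u : PtOver j ξ) (W : X.Etale) (t : (Scheme.pointSmallEtale ξ).fiber.obj W)
    (σ : F.obj.obj (op ((EtCoh.bc j).obj W))) :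
    proj j ξ F u (germ ξ ((EtCoh.push j).obj F) W t σ) =
      germ u.1 F ((EtCoh.bc j).obj W) (pairPt j ξ u W t) σ :=
  ConcreteCategory.congr_hom ((Scheme.pointSmallEtale ξ).toPresheafFiber_presheafFiberDesc
    (P := ((EtCoh.push j).obj F).obj)
    (fun W t => germ u.1 F ((EtCoh.bc j).obj W) (pairPt j ξ u W t)) _ W t) σ

set_option backward.isDefEq.respectTransparency.types false in
lemma proj_τ_inc (F : EtCoh.Ab U) [DecidableEq (PtOver j ξ)] (u u' : PtOver j ξ)
    (x : (EtCoh.stalk u.1).obj F) :
    proj j ξ F u' ((EtCoh.stalk ξ).map ((τ j).app F) (inc j ξ F u x)) =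
      DirectSum.of (fun v : PtOver j ξ => (EtCoh.stalk v.1).obj F) u x u' := by
  obtain ⟨V, t, σ, rfl⟩ := germ_surjective u.1 F x
  rw [inc_germ, germ_map, τ_unit, proj_germ]
  let z := pairPt j ξ u' ((EtShriek.compEtale j).obj V) (compPt j ξ u V t)
  have hz1 : z.left ≫ pullback.fst (V.hom ≫ j) j = t.left := pullback.lift_fst _ _ _
  have hz2 : z.left ≫ pullback.snd (V.hom ≫ j) j = u'.1 := pullback.lift_snd _ _ _
  by_cases hu : u = u'
  · subst hu
    rw [DirectSum.of_eq_same]
    have h : (Scheme.pointSmallEtale u.1).fiber.map (graph j V) t = z := by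
      refine Over.OverMorphism.ext (pullback.hom_ext ?_ ?_)
      · refine Eq.trans ?_ hz1.symm
        exact (Category.assoc _ _ _).trans ((congrArg (t.left ≫ ·) (graph_fst j V)).trans (Category.comp_id _))
      · refine Eq.trans ?_ hz2.symm
        exact (Category.assoc _ _ _).trans ((congrArg (t.left ≫ ·) (graph_snd j V)).trans (Over.w t))
    show germ u.1 F _ z _ = _
    rw [← h, ← germ_res, (ext0_spec j F V σ).1]
  · rw [DirectSum.of_eq_of_ne _ _ _ (Ne.symm hu)]
    have hmem : fiberPoint u'.1 z ∈ gC j V := by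
      rintro ⟨p, hp⟩
      obtain ⟨q, hq, -⟩ := exists_fiber_lift u'.1 (graph j V) z p hp
      have hq0 : q.left ≫ (graph j V).left = z.left := congrArg (fun m => m.left) hq
      have hq1 : q.left = t.left := by
        refine (Category.comp_id _).symm.trans ((congrArg (q.left ≫ ·) (graph_fst j V).symm).trans ?_)
        exact (Category.assoc _ _ _).symm.trans ((congrArg (· ≫ pullback.fst (V.hom ≫ j) j) hq0).trans hz1)
      refine hu (Subtype.ext ?_)
      exact (Over.w t).symm.trans ((congrArg (· ≫ V.hom) hq1.symm).trans (Over.w q))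
    obtain ⟨p, hp⟩ := exists_openHom_eq (P j V) (gC j V) _ hmem
    obtain ⟨z', hz', -⟩ := exists_fiber_lift u'.1 (openHom (P j V) (gC j V)) z p hp
    show germ u'.1 F _ z _ = _
    rw [← hz', ← germ_res, (ext0_spec j F V σ).2, map_zero]

omit [IsSeparated j] in
lemma inc_jointly_surjective (F : EtCoh.Ab U) [DecidableEq (PtOver j ξ)] :
    Function.Surjective (DirectSum.toAddMonoid fun u : PtOver j ξ => (inc j ξ F u).hom) := by
  let R := (DirectSum.toAddMonoid fun u : PtOver j ξ => (inc j ξ F u).hom).range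
  let M := AddCommGrpCat.of ((EtCoh.stalk ξ).obj ((EtShriek.extZero j).obj F) ⧸ R)
  let h : (EtCoh.stalk ξ).obj ((EtShriek.extZero j).obj F) ⟶ M := AddCommGrpCat.ofHom (QuotientAddGroup.mk' R)
  let adjS := (Scheme.pointSmallEtale ξ).skyscraperSheafAdjunction (A := AddCommGrpCat.{u + 1})
  suffices h = 0 by
    intro z
    exact (QuotientAddGroup.eq_zero_iff z).1 (ConcreteCategory.congr_hom this z)
  refine (adjS.homEquiv _ M).injective (((EtShriek.extZeroAdj j).homEquiv F _).injective ?_)
  rw [adjS.homAddEquiv _ M |>.map_zero |> fun e => (show adjS.homEquiv _ M 0 = 0 from e)]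
  rw [(EtShriek.extZeroAdj j).homEquiv_unit, (EtShriek.extZeroAdj j).homEquiv_unit, Functor.map_zero, comp_zero]
  refine ObjectProperty.hom_ext _ (NatTrans.ext (funext fun V => Pi.hom_ext _ _ fun t => ?_))
  refine ConcreteCategory.hom_ext _ _ fun σ => ?_
  have hψ : (adjS.homEquiv _ M h).hom.app (op ((EtShriek.compEtale j).obj V.unop)) ≫ Pi.π _ t =
      germ ξ ((EtShriek.extZero j).obj F) ((EtShriek.compEtale j).obj V.unop) t ≫ h := by
    erw [GrothendieckTopology.Point.skyscraperSheafAdjunction_homEquiv_apply_hom]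
    simp only [GrothendieckTopology.Point.skyscraperPresheafHomEquiv]
    erw [limit.lift_π]
    rfl
  refine (ConcreteCategory.congr_hom hψ (((EtShriek.extZeroAdj j).unit.app F).hom.app V σ)).trans ?_
  refine Eq.trans ?_ (map_zero (Pi.π (fun _ : (Scheme.pointSmallEtale ξ).fiber.obj ((EtShriek.compEtale j).obj V.unop) => M) t).hom).symm
  refine (QuotientAddGroup.eq_zero_iff _).2 ⟨DirectSum.of _ (basePt j ξ V.unop t)
    (germ (basePt j ξ V.unop t).1 F V.unop (upPt j ξ V.unop t) σ), ?_⟩
  refine (DirectSum.toAddMonoid_of _ _ _).trans ?_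
  refine (inc_germ j ξ F _ V.unop _ σ).trans ?_
  exact congrArg (fun s => germ ξ ((EtShriek.extZero j).obj F) _ s _) (Over.OverMorphism.ext rfl)

lemma mono_τ (F : EtCoh.Ab U) : Mono ((τ j).app F) := by
  classical
  refine mono_of_stalk_injective _ fun s => ?_
  let ξ := geomPoint s
  let a := DirectSum.toAddMonoid fun u : PtOver j ξ => (inc j ξ F u).hom
  rw [injective_iff_map_eq_zero]
  intro z hz
  obtain ⟨x, rfl⟩ := inc_jointly_surjective j ξ F z
  have h : ∀ u', ((proj j ξ F u').hom.comp (((EtCoh.stalk ξ).map ((τ j).app F)).hom.comp a)) =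
      DFinsupp.evalAddMonoidHom (β := fun v : PtOver j ξ => (EtCoh.stalk v.1).obj F) u' := fun u' => by
    refine DirectSum.addHom_ext fun u y => ?_
    show proj j ξ F u' ((EtCoh.stalk ξ).map ((τ j).app F) (a (DirectSum.of _ u y))) = _
    rw [DirectSum.toAddMonoid_of]
    exact proj_τ_inc j ξ F u u' y
  have hx : x = 0 := DFinsupp.ext fun u' => by
    refine (DFunLike.congr_fun (h u') x).symm.trans ?_
    show proj j ξ F u' ((EtCoh.stalk ξ).map ((τ j).app F) (a x)) = 0
    rw [hz, map_zero]
  rw [hx, map_zero]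

end Groth.EtaleBase.ExtZeroPush
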