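import Groth.Agent.EtaleBase.InjCoh
import Groth.Agent.EtaleBase.ExtZeroToPush
import Groth.Agent.EtaleBase.LocConstOps
import Groth.Prelude.Def_EtDual

/-!
# Sections with support in the complement of an open subscheme
-/

set_option autoImplicit false
set_option backward.isDefEq.respectTransparency.types false

universe u

open CategoryTheory CategoryTheory.Limits AlgebraicGeometry Opposite

namespace Groth.EtaleBase.Supp

open Groth.EtaleBase.LocConst Groth.EtaleBase.ExtZeroPush

attribute [local instance] InjCoh.jCont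

variable {X U : Scheme.{u}} (j : U ⟶ X)

section

variable [AlgebraicGeometry.Etale j]

/-- The projection `(V ×_X U → U → X) ⟶ V`. -/
noncomputable def cu (V : X.Etale) : (EtShriek.compEtale j).obj ((EtCoh.bc j).obj V) ⟶ V :=
  MorphismProperty.Over.homMk (pullback.fst V.hom j) pullback.condition

/-- A section vanishes over `U`. -/
def IsSupp (F : EtCoh.Ab X) {V : X.Etale} (s : F.obj.obj (op V)) : Prop :=
  F.obj.map (cu j V).op s = 0

lemma unit_push_pullRestrIso (F : EtCoh.Ab X) :
    EtDual.unitApp j F ≫ (EtCoh.push j).map ((pullRestrIso j).hom.app F) = (restrPushAdj j).unit.app F :=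
  Adjunction.unit_leftAdjointUniq_hom_app (EtCoh.pullPushAdj j) (restrPushAdj j) F

lemma restrPushAdj_unit_app (F : EtCoh.Ab X) (V : X.Etale) (s : F.obj.obj (op V)) :
    ((restrPushAdj j).unit.app F).hom.app (op V) s = F.obj.map (cu j V).op s :=
  rfl

/-- The kernel of `F → j_* j^* F` on sections. -/
theorem unitApp_app_eq_zero_iff (F : EtCoh.Ab X) {V : X.Etale} (s : F.obj.obj (op V)) :
    (EtDual.unitApp j F).hom.app (op V) s = 0 ↔ IsSupp j F s := by
  rw [IsSupp, ← restrPushAdj_unit_app, ← unit_push_pullRestrIso]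
  let e := (EtCoh.push j).map ((pullRestrIso j).hom.app F)
  have : Function.Injective (e.hom.app (op V)) :=
    mono_sections_injective e V
  exact (map_eq_zero_iff _ this).symm

/-- Sections of the supported part are supported. -/
theorem isSupp_ι (F : EtCoh.Ab X) {V : X.Etale} (τ : ((EtDual.secSupp j).obj F).obj.obj (op V)) :
    IsSupp j F ((kernel.ι (EtDual.unitApp j F)).hom.app (op V) τ) :=
  (unitApp_app_eq_zero_iff j F _).1 (ConcreteCategory.congr_hom
    (congrArg (fun m : (EtDual.secSupp j).obj F ⟶ _ => m.hom.app (op V))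
      (kernel.condition (EtDual.unitApp j F))) τ)

/-- Supported sections lift to the supported part. -/
theorem exists_lift (F : EtCoh.Ab X) {V : X.Etale} (s : F.obj.obj (op V)) (hs : IsSupp j F s) :
    ∃ τ : ((EtDual.secSupp j).obj F).obj.obj (op V),
      (kernel.ι (EtDual.unitApp j F)).hom.app (op V) τ = s :=
  exists_kernel_lift _ V s ((unitApp_app_eq_zero_iff j F s).2 hs)

lemma ι_injective (F : EtCoh.Ab X) (V : X.Etale) :
    Function.Injective ((kernel.ι (EtDual.unitApp j F)).hom.app (op V)) :=
  mono_sections_injective _ V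

lemma ι_naturality {F G : EtCoh.Ab X} (f : F ⟶ G) {V : X.Etale}
    (τ : ((EtDual.secSupp j).obj F).obj.obj (op V)) :
    (kernel.ι (EtDual.unitApp j G)).hom.app (op V) (((EtDual.secSupp j).map f).hom.app (op V) τ) =
      f.hom.app (op V) ((kernel.ι (EtDual.unitApp j F)).hom.app (op V) τ) :=
  ConcreteCategory.congr_hom (congrArg (fun m : (EtDual.secSupp j).obj F ⟶ G => m.hom.app (op V))
    (kernel.lift_ι (EtDual.unitApp j G) _ _)) τ

lemma IsSupp.add {F : EtCoh.Ab X} {V : X.Etale} {s t : F.obj.obj (op V)} (hs : IsSupp j F s)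
    (ht : IsSupp j F t) : IsSupp j F (s + t) := by
  unfold IsSupp at *
  rw [map_add, hs, ht, add_zero]

lemma IsSupp.neg {F : EtCoh.Ab X} {V : X.Etale} {s : F.obj.obj (op V)} (hs : IsSupp j F s) :
    IsSupp j F (-s) := by
  unfold IsSupp at *
  rw [map_neg, hs, neg_zero]

lemma IsSupp.res {F : EtCoh.Ab X} {V V' : X.Etale} (g : V' ⟶ V) {s : F.obj.obj (op V)}
    (hs : IsSupp j F s) : IsSupp j F (F.obj.map g.op s) := by
  have hsq : (EtShriek.compEtale j).map ((EtCoh.bc j).map g) ≫ cu j V = cu j V' ≫ g :=
    MorphismProperty.Over.Hom.ext (pullback.lift_fst _ _ _)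
  rw [IsSupp, ← Functor.map_comp_apply, ← op_comp, ← hsq, op_comp, Functor.map_comp_apply,
    show F.obj.map (cu j V).op s = 0 from hs, map_zero]

/-- Morphisms of restrictions preserve supports. -/
theorem IsSupp.app_over {F G : EtCoh.Ab X} {W : X.Etale}
    (φ : EtCoh.restr F W ⟶ EtCoh.restr G W) (Y : Over W) {s : F.obj.obj (op Y.left)}
    (hs : IsSupp j F s) : IsSupp j G (φ.hom.app (op Y) s) := by
  let g : Over.mk (cu j Y.left ≫ Y.hom) ⟶ Y := Over.homMk (cu j Y.left) rfl
  refine (NatTrans.naturality_apply φ.hom g.op s).symm.trans ?_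
  exact (congrArg _ hs).trans (map_zero _)

end

section OpenImmersion

variable [IsOpenImmersion j]

lemma rApp_comp_counit (B : EtCoh.Ab U) :
    (r j).app B ≫ (restrPushAdj j).counit.app B = 𝟙 B :=
  Sheaf.hom_ext (NatTrans.ext (funext fun V => ConcreteCategory.hom_ext _ _ fun σ =>
    (ext0_spec j B V.unop σ).1))

/-- For injective `I` the map `I → j_* j^* I` is a split epimorphism. -/
theorem exists_section (I : EtCoh.Ab X) [Injective I] :
    ∃ t : (EtCoh.push j).obj ((EtCoh.pull j).obj I) ⟶ I, t ≫ EtDual.unitApp j I = 𝟙 _ := by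
  let B := (EtShriek.restrAlong j).obj I
  let ε := (EtShriek.extZeroAdj j).counit.app I
  have := mono_τ j B
  let s : (EtCoh.push j).obj B ⟶ I := Injective.factorThru ε ((τ j).app B)
  let φ := s ≫ (restrPushAdj j).unit.app I
  let R := EtShriek.restrAlong j
  let c := (restrPushAdj j).counit.app B
  have hτ : (EtShriek.extZeroAdj j).unit.app B ≫ R.map ((τ j).app B) = (r j).app B :=
    ((EtShriek.extZeroAdj j).homEquiv_unit _ _ _).symm.trans (Equiv.apply_symm_apply _ _)
  have h1 : (r j).app B ≫ R.map φ ≫ c = 𝟙 B := by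
    rw [← hτ, Category.assoc, ← R.map_comp_assoc, show (τ j).app B ≫ φ = ε ≫ (restrPushAdj j).unit.app I from
      (Injective.comp_factorThru_assoc ε ((τ j).app B) _), R.map_comp, Category.assoc,
      ← Category.assoc ((EtShriek.extZeroAdj j).unit.app B)]
    rw [(EtShriek.extZeroAdj j).right_triangle_components I]
    refine (Category.id_comp _).trans ?_
    exact (restrPushAdj j).left_triangle_components I
  have hc : IsIso (restrPushAdj j).counit := by
    have : IsIso (EtCoh.pullPushAdj j).counit :=
      have := isIso_counit_openImmersion j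
      NatIso.isIso_of_isIso_app _
    have := (EtCoh.pullPushAdj j).fullyFaithfulROfIsIsoCounit.full
    have := (EtCoh.pullPushAdj j).fullyFaithfulROfIsIsoCounit.faithful
    infer_instance
  have : IsIso ((restrPushAdj j).counit.app B) := NatIso.isIso_app_of_isIso _ _
  have : IsIso ((r j).app B ≫ (restrPushAdj j).counit.app B) := by
    rw [rApp_comp_counit]; exact IsIso.id _
  have : IsIso ((r j).app B) := IsIso.of_isIso_comp_right _ ((restrPushAdj j).counit.app B)
  have h2 : R.map φ ≫ c = c :=
    (cancel_epi ((r j).app B)).1 (h1.trans (rApp_comp_counit j B).symm)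
  have h3 : φ = 𝟙 _ := by
    refine ((restrPushAdj j).homEquiv _ _).symm.injective ?_
    rw [Adjunction.homEquiv_symm_apply, Adjunction.homEquiv_symm_apply, CategoryTheory.Functor.map_id, Category.id_comp]
    exact h2
  refine ⟨(EtCoh.push j).map ((pullRestrIso j).hom.app I) ≫ s, ?_⟩
  rw [← cancel_mono ((EtCoh.push j).map ((pullRestrIso j).hom.app I)), Category.assoc, Category.assoc,
    unit_push_pullRestrIso, Category.id_comp]
  exact (congrArg (_ ≫ ·) h3).trans (Category.comp_id _)

/-- The supported part of an injective sheaf is injective. -/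
theorem injective_secSupp (I : EtCoh.Ab X) [Injective I] : Injective ((EtDual.secSupp j).obj I) := by
  obtain ⟨t, ht⟩ := exists_section j I
  let p : I ⟶ (EtDual.secSupp j).obj I := kernel.lift _ (𝟙 I - EtDual.unitApp j I ≫ t) (by
    rw [Preadditive.sub_comp, Category.id_comp, Category.assoc, ht, Category.comp_id, sub_self])
  refine Retract.injective (Y := I) ⟨kernel.ι _, p, ?_⟩
  refine (cancel_mono (kernel.ι (EtDual.unitApp j I))).1 ?_
  rw [Category.assoc, kernel.lift_ι, Preadditive.comp_sub, kernel.condition_assoc, zero_comp, sub_zero,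
    Category.id_comp, Category.comp_id]

end OpenImmersion

end Groth.EtaleBase.Supp
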