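import Groth.Agent.EtaleBase.Stalks
import Groth.Prelude.Def_EtGm
import Mathlib.RingTheory.Etale.StandardEtale
import Mathlib.AlgebraicGeometry.Morphisms.Etale
import Mathlib.FieldTheory.IsAlgClosed.AlgebraicClosure

/-!
Roots of separable monic polynomials exist etale locally.
-/

set_option autoImplicit false

universe u

open CategoryTheory CategoryTheory.Limits AlgebraicGeometry Opposite

namespace Groth.EtaleBase

open Polynomial in
set_option backward.isDefEq.respectTransparency.types false in
lemma exists_etale_root {X : Scheme.{u}} (U : X.Etale) (x : U.left) (P : Polynomial Γ(U.left, ⊤))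
    (hP : P.Monic) (hdeg : P.natDegree ≠ 0)
    (hsep : ∃ p₁ p₂ : Polynomial Γ(U.left, ⊤), derivative P * p₁ + P * p₂ = 1) :
    ∃ (V : X.Etale) (g : V ⟶ U) (v : V.left), g.left.base v = x ∧
      ∃ r : Γ(V.left, ⊤), P.eval₂ g.left.appTop.hom r = 0 := by
  obtain ⟨R, h, hh, ⟨y, hy⟩, -⟩ :=
    Scheme.exists_affine_mem_range_and_range_subset (x := x) (U := (⊤ : U.left.Opens)) trivial
  let θ : Γ(U.left, ⊤) →+* R := (Scheme.ΓSpecIso R).hom.hom.comp h.appTop.hom
  obtain ⟨p₁, p₂, hp⟩ := hsep
  let S : StandardEtalePair R :=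
    { f := P.map θ
      monic_f := hP.map θ
      g := 1
      cond := ⟨p₁.map θ, p₂.map θ, 1, by
        rw [derivative_map, ← Polynomial.map_mul, ← Polynomial.map_mul, ← Polynomial.map_add, hp,
          Polynomial.map_one, one_pow]⟩ }
  let A : CommRingCat.{u} := CommRingCat.of S.Ring
  let φ : R ⟶ A := CommRingCat.ofHom (algebraMap R S.Ring)
  have hφ : Etale (Spec.map φ) :=
    (HasRingHomProperty.Spec_iff (P := @Etale)).2
      (RingHom.etale_algebraMap.2 (inferInstance : Algebra.Etale R S.Ring))
  have : IsOpenImmersion h := hh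
  -- a point over `y`
  let p : Ideal R := (y : PrimeSpectrum R).asIdeal
  let K := AlgebraicClosure p.ResidueField
  have : Nontrivial R := PrimeSpectrum.nontrivial y
  have hd : ((P.map θ).map (algebraMap R K)).degree ≠ 0 := by
    rw [(hP.map θ).degree_map, Polynomial.degree_eq_natDegree (hP.map θ).ne_zero,
      hP.natDegree_map θ]
    exact_mod_cast hdeg
  obtain ⟨a, ha⟩ := IsAlgClosed.exists_root _ hd
  have hmap : S.HasMap a := by
    refine ⟨?_, by simp [S]⟩
    rw [Polynomial.aeval_def, ← Polynomial.eval_map]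
    exact ha
  let q : PrimeSpectrum S.Ring := ⟨RingHom.ker (S.lift a hmap).toRingHom, RingHom.ker_isPrime _⟩
  have hq : (Spec.map φ).base q = y := by
    apply PrimeSpectrum.ext
    change Ideal.comap (algebraMap R S.Ring) (RingHom.ker (S.lift a hmap).toRingHom) = p
    rw [RingHom.comap_ker, show (S.lift a hmap).toRingHom.comp (algebraMap R S.Ring) = algebraMap R K
      from (S.lift a hmap).comp_algebraMap, IsScalarTower.algebraMap_eq R p.ResidueField K,
      RingHom.ker_comp_of_injective _ (RingHom.injective _), Ideal.ker_algebraMap_residueField]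
  refine ⟨Scheme.Etale.mk ((Spec.map φ ≫ h) ≫ U.hom), MorphismProperty.Over.homMk (Spec.map φ ≫ h),
    q, ?_, (Scheme.ΓSpecIso A).inv S.X, ?_⟩
  · exact (congrArg h.base hq).trans hy
  · change P.eval₂ (Spec.map φ ≫ h).appTop.hom _ = 0
    have key : (Spec.map φ ≫ h).appTop.hom =
        (Scheme.ΓSpecIso A).inv.hom.comp (φ.hom.comp θ) := by
      have e : (Spec.map φ ≫ h).appTop =
          (h.appTop ≫ (Scheme.ΓSpecIso R).hom) ≫ φ ≫ (Scheme.ΓSpecIso A).inv := by
        rw [Scheme.Hom.comp_appTop, Scheme.ΓSpecIso_inv_naturality]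
        simp
      rw [e]
      rfl
    rw [key, ← Polynomial.hom_eval₂]
    have h0 : P.eval₂ (φ.hom.comp θ) S.X = 0 := by
      rw [← Polynomial.eval₂_map]
      exact (StandardEtalePair.hasMap_X (P := S)).1
    rw [h0, map_zero]

end Groth.EtaleBase
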