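import Groth.Agent.EtaleBase.GmPic.PicH1
import Groth.Agent.S0108

/-!
# `H¹(X, μ_n)` when the Picard group vanishes
-/

set_option autoImplicit false
set_option backward.isDefEq.respectTransparency.types false

universe u

open CategoryTheory Limits AlgebraicGeometry Opposite
open CategoryTheory.Abelian (Ext)

namespace Groth.EtaleBase.KummerH1

open Groth.EtaleBase.GmPic

variable (X : Scheme.{u}) (n : ℕ)

/-- The Kummer sequence. -/
noncomputable def seq : ShortComplex (EtCoh.Ab X) :=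
  ShortComplex.mk (EtCoh.muι X n) (EtCoh.powMap X n) (kernel.condition _)

theorem seq_shortExact (hn : IsUnit (n : Γ(X, ⊤))) : (seq X n).ShortExact :=
  { exact := (seq X n).exact_of_f_is_kernel (kernelIsKernel (EtCoh.powMap X n))
    mono_f := inferInstanceAs (Mono (kernel.ι _))
    epi_g := Groth.Agent.S0108.result X n hn }

theorem powMap_app (T : X.Etale) (s : (EtCoh.Gm X).obj.obj (op T)) :
    (EtCoh.powMap X n).hom.app (op T) s = n • s := by
  rw [EtCoh.powMap]
  induction n with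
  | zero => simp
  | succ m ih => rw [succ_nsmul, succ_nsmul, ← ih]; rfl

theorem gm_pow (T : X.Etale) (b : (Γ(T.left, ⊤) : Type u)ˣ) : gm T (b ^ n) = n • gm T b := by
  induction n with
  | zero => rw [pow_zero, zero_nsmul]; rfl
  | succ m ih => rw [pow_succ, gm_mul, ih, succ_nsmul]

/-- When the Picard group is trivial, `H¹(X, μ_n)` is the group of units modulo `n`-th powers. -/
theorem exists_units_hom (hn : IsUnit (n : Γ(X, ⊤))) [Subsingleton (EtCoh.H X (EtCoh.Gm X) 1)] :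
    ∃ φ : Additive (Γ(X, ⊤) : Type u)ˣ →+ EtCoh.H X (EtCoh.mu X n) 1, Function.Surjective φ ∧
      ∀ a : (Γ(X, ⊤) : Type u)ˣ, φ (Additive.ofMul a) = 0 ↔ ∃ b, b ^ n = a := by
  have hS := seq_shortExact X n hn
  let T := EtCoh.top X
  let ev := EtLimit.Resn.ev (EtCoh.Gm X)
  let g0 : Additive (Γ(X, ⊤) : Type u)ˣ →+ (EtCoh.Gm X).obj.obj (op T) :=
    AddMonoidHom.mk' (fun a => gm T a.toMul) fun a b => gm_mul T a.toMul b.toMul
  let φ : Additive (Γ(X, ⊤) : Type u)ˣ →+ EtCoh.H X (EtCoh.mu X n) 1 :=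
    AddMonoidHom.mk' (fun a => (Ext.mk₀ (ev.symm (g0 a))).comp hS.extClass (zero_add 1))
      fun a b => by rw [map_add, map_add, Ext.mk₀_add, Ext.add_comp]; rfl
  refine ⟨φ, fun c => ?_, fun a => ⟨fun h => ?_, ?_⟩⟩
  · obtain ⟨y, hy⟩ := Ext.covariant_sequence_exact₁ _ hS c
      (Subsingleton.elim (α := EtCoh.H X (EtCoh.Gm X) 1) _ _) (zero_add 1)
    obtain ⟨z, rfl⟩ := (Ext.mk₀_bijective _ _).2 y
    obtain ⟨a, ha⟩ := gm_surjective T (ev z)
    refine ⟨Additive.ofMul a, ?_⟩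
    change (Ext.mk₀ (ev.symm (gm T a))).comp hS.extClass (zero_add 1) = c
    rw [ha, AddEquiv.symm_apply_apply]
    exact hy
  · obtain ⟨x, hx⟩ := Ext.covariant_sequence_exact₃ _ hS (Ext.mk₀ (ev.symm (gm T a))) (zero_add 1) h
    obtain ⟨x, rfl⟩ := (Ext.mk₀_bijective _ _).2 x
    rw [Ext.mk₀_comp_mk₀] at hx
    obtain ⟨b, hb⟩ := gm_surjective T (ev x)
    refine ⟨b, gm_injective T ?_⟩
    refine (gm_pow X n T b).trans ?_
    rw [hb, ← powMap_app, ← EtLimit.Resn.ev_comp]
    exact (congrArg ev ((Ext.mk₀_bijective _ _).injective hx)).trans (ev.apply_symm_apply _)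
  · rintro ⟨b, rfl⟩
    change (Ext.mk₀ (ev.symm (gm T (b ^ n)))).comp hS.extClass (zero_add 1) = 0
    have h0 : ev.symm (gm T (b ^ n)) = ev.symm (gm T b) ≫ EtCoh.powMap X n :=
      ((congrArg ev.symm (gm_pow X n T b)).trans (map_nsmul ev.symm n _)).trans (by
        rw [EtCoh.powMap, Preadditive.comp_nsmul, Category.comp_id])
    rw [h0]
    exact (Ext.mk₀_comp_mk₀_assoc _ _ _).symm.trans
      ((congrArg (fun w => Ext.comp (Ext.mk₀ _) w (zero_add 1)) hS.comp_extClass).trans (Ext.comp_zero _ _ _ _ _))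

end Groth.EtaleBase.KummerH1
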