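import Groth.Agent.EtaleBase.InjCoh
import Groth.Agent.EtaleBase.PullConstComp

/-!
The Mayer–Vietoris sequence in étale cohomology.
-/

set_option autoImplicit false

universe u

open CategoryTheory CategoryTheory.Limits CategoryTheory.Abelian AlgebraicGeometry Opposite

namespace Groth.EtaleBase.MV

variable {U X : Scheme.{u}} (j : U ⟶ X) [IsOpenImmersion j]

instance etale_of_openImmersion : AlgebraicGeometry.Etale j := inferInstance

/-- Extension by zero is left adjoint to inverse image. -/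
noncomputable def adj : EtShriek.extZero j ⊣ EtCoh.pull j :=
  (EtShriek.extZeroAdj j).ofNatIsoRight (pullRestrIso j).symm

instance : (EtShriek.extZero j).Additive :=
  have : PreservesFiniteLimits (EtShriek.extZero j) := extZero_preservesFiniteLimits j
  Functor.additive_of_preserves_binary_products _
instance : PreservesFiniteLimits (EtShriek.extZero j) := extZero_preservesFiniteLimits j
instance : PreservesFiniteColimits (EtShriek.extZero j) :=
  have : PreservesColimitsOfSize.{0, 0} (EtShriek.extZero j) := (EtShriek.extZeroAdj j).leftAdjoint_preservesColimits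
  PreservesColimitsOfSize.preservesFiniteColimits _

/-- The extension by zero of the constant sheaf `ℤ`. -/
noncomputable abbrev Zj : EtCoh.Ab X := (EtShriek.extZero j).obj (EtCoh.const U ℤ)

variable (F : EtCoh.Ab X) (n : ℕ)

/-- Cohomology of an open as an Ext group on the ambient scheme. -/
noncomputable def psi : EtCoh.H U ((EtCoh.pull j).obj F) n →+ Ext (Zj j) F n :=
  ExtAdj.adjExt (adj j) (EtCoh.const U ℤ) F n

lemma psi_bijective : Function.Bijective (psi j F n) :=
  ExtAdj.adjExt_bijective_of_exact (adj j) (EtCoh.const U ℤ) F n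

/-- The canonical morphism `j_!ℤ ⟶ ℤ`. -/
noncomputable def t : Zj j ⟶ EtCoh.const X ℤ :=
  ((adj j).homEquiv _ _).symm (EtCore.pullConst j ℤ).inv

lemma psi_Hpull [PreservesFiniteLimits (EtCoh.pull j)] (x : EtCoh.H X F n) :
    psi j F n (EtCore.Hpull j F n x) = (Ext.mk₀ (t j)).comp x (zero_add n) := by
  show ExtAdj.adjExt (adj j) _ F n
    ((Ext.mk₀ (EtCore.pullConst j ℤ).inv).comp (x.mapExactFunctor (EtCoh.pull j)) (zero_add n)) = _
  rw [ExtAdj.mk₀_comp_mapExt, ExtAdj.adjExt_apply,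
    ExtAdj.mapExt_natTrans_id (EtCoh.pull j) (EtShriek.extZero j) (adj j).counit, t,
    Adjunction.homEquiv_counit]
  exact Ext.mk₀_comp_mk₀_assoc _ _ _

variable {W : Scheme.{u}} (i : W ⟶ U) (k : W ⟶ X) [IsOpenImmersion k] (w : i ≫ j = k)

/-- The comparison of pullbacks. -/
noncomputable def e : EtCoh.pull j ⋙ EtCoh.pull i ≅ EtCoh.pull k :=
  (EtCore.pullComp i j).symm ≪≫ EtCore.pullCongr w

/-- The composite used for restriction. -/
noncomputable def uRes : EtCoh.const W ℤ ⟶ (EtCoh.pull k).obj (Zj j) :=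
  ((EtCore.pullConst i ℤ).inv ≫ (EtCoh.pull i).map ((adj j).unit.app (EtCoh.const U ℤ))) ≫ (e j i k w).hom.app (Zj j)

/-- The canonical morphism `k_!ℤ ⟶ j_!ℤ`. -/
noncomputable def s : Zj k ⟶ Zj j := ((adj k).homEquiv _ _).symm (uRes j i k w)

lemma psi_HpullVia [PreservesFiniteLimits (EtCoh.pull i)] (y : EtCoh.H U ((EtCoh.pull j).obj F) n) :
    psi k F n (EtCore.HpullVia i j k w F n y) = (Ext.mk₀ (s j i k w)).comp (psi j F n y) (zero_add n) := by
  have hy : y = (Ext.mk₀ ((adj j).unit.app (EtCoh.const U ℤ))).comp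
      ((psi j F n y).mapExactFunctor (EtCoh.pull j)) (zero_add n) :=
    (psi_bijective j F n).1 (ExtAdj.adjExt_unit_map (adj j) (EtCoh.const U ℤ) F n _).symm
  generalize psi j F n y = x at hy ⊢
  subst hy
  show ExtAdj.adjExt (adj k) _ F n
    (((Ext.mk₀ (EtCore.pullConst i ℤ).inv).comp
      (((Ext.mk₀ ((adj j).unit.app (EtCoh.const U ℤ))).comp (x.mapExactFunctor (EtCoh.pull j))
        (zero_add n)).mapExactFunctor (EtCoh.pull i)) (zero_add n)).comp
          (Ext.mk₀ ((e j i k w).hom.app F)) (add_zero n)) = _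
  rw [Ext.mapExactFunctor_comp, Ext.mapExactFunctor_mk₀, Ext.mk₀_comp_mk₀_assoc,
    Ext.comp_assoc_of_third_deg_zero,
    ExtAdj.mapExt_natTrans₂ (EtCoh.pull j) (EtCoh.pull i) (EtCoh.pull k) (e j i k w).hom (Zj j) n F x]
  rw [Ext.mk₀_comp_mk₀_assoc, ExtAdj.mk₀_comp_mapExt, ExtAdj.adjExt_apply,
    ExtAdj.mapExt_natTrans_id (EtCoh.pull k) (EtShriek.extZero k) (adj k).counit, s,
    Adjunction.homEquiv_counit]
  exact Ext.mk₀_comp_mk₀_assoc _ _ _

lemma uRes_t : uRes j i k w ≫ (EtCoh.pull k).map (t j) = (EtCore.pullConst k ℤ).inv := by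
  subst w
  have h : (adj j).unit.app (EtCoh.const U ℤ) ≫ (EtCoh.pull j).map (t j) = (EtCore.pullConst j ℤ).inv := by
    exact ((adj j).homEquiv_unit _ _ _).symm.trans (Equiv.apply_symm_apply _ _)
  have hc := pullConstIso_comp i j (AddCommGrpCat.of (ULift.{u + 1} ℤ))
  refine Eq.trans ?_ hc
  rw [uRes, Category.assoc, Category.assoc]
  refine congrArg ((EtCore.pullConst i ℤ).inv ≫ ·) ?_
  refine (congrArg (_ ≫ ·) ((e j i (i ≫ j) rfl).hom.naturality (t j)).symm).trans ?_
  rw [← Category.assoc, Functor.comp_map, ← Functor.map_comp, h]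
  congr 1

lemma s_t : s j i k w ≫ t j = t k := by
  rw [s, ← Adjunction.homEquiv_naturality_right_symm, uRes_t]
  rfl

lemma isIso_stalk_t {Ω : Type u} [Field Ω] [IsSepClosed Ω] (ξ : Spec (CommRingCat.of Ω) ⟶ X)
    (hξ : ξ.base default ∈ Set.range j.base) : IsIso ((EtCoh.stalk ξ).map (t j)) := by
  have h1 := isIso_stalk_extZero_counit j ξ hξ (EtCoh.const X ℤ)
  have h2 : (adj j).counit.app (EtCoh.const X ℤ) =
      (EtShriek.extZero j).map ((pullRestrIso j).hom.app _) ≫
        (EtShriek.extZeroAdj j).counit.app (EtCoh.const X ℤ) := by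
    have h := Adjunction.homEquiv_ofNatIsoRight_symm_apply (EtShriek.extZeroAdj j) (pullRestrIso j).symm
      (𝟙 ((EtCoh.pull j).obj (EtCoh.const X ℤ)))
    rw [Category.id_comp] at h
    rw [← Adjunction.homEquiv_symm_id]
    exact h.trans (Adjunction.homEquiv_counit _ _ _ _)
  rw [t, Adjunction.homEquiv_counit, h2, Functor.map_comp, Functor.map_comp]
  infer_instance

lemma isZero_stalk_Zj {Ω : Type u} [Field Ω] [IsSepClosed Ω] (ξ : Spec (CommRingCat.of Ω) ⟶ X)
    (hξ : ξ.base default ∉ Set.range j.base) : IsZero ((EtCoh.stalk ξ).obj (Zj j)) :=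
  isZero_stalk_extZero j ξ hξ _

lemma injective_stalk_t {Ω : Type u} [Field Ω] [IsSepClosed Ω] (ξ : Spec (CommRingCat.of Ω) ⟶ X) :
    Function.Injective ((EtCoh.stalk ξ).map (t j)) := by
  by_cases hξ : ξ.base default ∈ Set.range j.base
  · exact ((ConcreteCategory.isIso_iff_bijective _).1 (isIso_stalk_t j ξ hξ)).1
  · exact fun a b _ => @Subsingleton.elim _ (AddCommGrpCat.subsingleton_of_isZero (isZero_stalk_Zj j ξ hξ)) a b

section sequence

variable {V : Scheme.{u}} (l : V ⟶ X) [IsOpenImmersion l] (i' : W ⟶ V) (w' : i' ≫ l = k)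

/-- The Mayer–Vietoris short complex. -/
noncomputable def sc : ShortComplex (EtCoh.Ab X) :=
  ShortComplex.mk (biprod.lift (s j i k w) (s l i' k w')) (biprod.desc (t j) (-t l)) (by
    rw [biprod.lift_desc, s_t, Preadditive.comp_neg, s_t, add_neg_cancel])

lemma shortExact_sc (hcov : ∀ x : X, x ∈ Set.range j.base ∨ x ∈ Set.range l.base)
    (hint : Set.range k.base = Set.range j.base ∩ Set.range l.base) :
    (sc j i k w l i' w').ShortExact := by
  let f : Zj k ⟶ Zj j ⊞ Zj l := biprod.lift (s j i k w) (s l i' k w')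
  let g : Zj j ⊞ Zj l ⟶ EtCoh.const X ℤ := biprod.desc (t j) (-t l)
  have hmono : Mono f := by
    have : Mono (t k) := mono_of_stalk_injective _ fun x => injective_stalk_t k _
    have : Mono (s j i k w) := mono_of_mono_fac (s_t j i k w)
    exact mono_of_mono_fac (biprod.lift_fst (s j i k w) (s l i' k w'))
  have comp_apply : ∀ {A B C : EtCoh.Ab X} (p : A ⟶ B) (q : B ⟶ C) (x : X) (a : (stalkAt x).obj A),
      (stalkAt x).map q ((stalkAt x).map p a) = (stalkAt x).map (p ≫ q) a := fun p q x a => by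
    rw [Functor.map_comp, ConcreteCategory.comp_apply]
  have hepi : Epi g := by
    refine epi_of_stalk_surjective _ fun x z => ?_
    rcases hcov x with hx | hx
    · obtain ⟨a, ha⟩ := ((ConcreteCategory.isIso_iff_bijective _).1
        (isIso_stalk_t j (geomPoint x) (by rwa [geomPoint_apply]))).2 z
      refine ⟨(stalkAt x).map biprod.inl a, ?_⟩
      rw [comp_apply, show biprod.inl ≫ g = t j from biprod.inl_desc _ _]
      exact ha
    · obtain ⟨a, ha⟩ := ((ConcreteCategory.isIso_iff_bijective _).1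
        (isIso_stalk_t l (geomPoint x) (by rwa [geomPoint_apply]))).2 z
      refine ⟨(stalkAt x).map biprod.inr (-a), ?_⟩
      rw [comp_apply, show biprod.inr ≫ g = -t l from biprod.inr_desc _ _, Functor.map_neg]
      show -((stalkAt x).map (t l) (-a)) = z
      rw [map_neg, neg_neg]
      exact ha
  refine { exact := (stalkAt_jointlyReflectIsomorphisms.exact_iff (sc j i k w l i' w')).2 fun x => ?_,
           mono_f := hmono, epi_g := hepi }
  rw [ShortComplex.ab_exact_iff]
  intro z₀ hz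
  let z : (stalkAt x).obj (Zj j ⊞ Zj l) := z₀
  let a := (stalkAt x).map biprod.fst z
  let b := (stalkAt x).map biprod.snd z
  have hz' : (stalkAt x).map (t j) a = (stalkAt x).map (t l) b := by
    have h0 : (stalkAt x).map g z = 0 := hz
    have hg : g = biprod.fst ≫ t j - biprod.snd ≫ t l := by
      rw [show g = biprod.desc (t j) (-t l) from rfl, biprod.desc_eq, Preadditive.comp_neg, sub_eq_add_neg]
    rw [hg, Functor.map_sub, Functor.map_comp, Functor.map_comp] at h0
    exact sub_eq_zero.1 h0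
  have key : ∀ q : (stalkAt x).obj (Zj j ⊞ Zj l), q = (stalkAt x).map biprod.inl ((stalkAt x).map biprod.fst q) +
      (stalkAt x).map biprod.inr ((stalkAt x).map biprod.snd q) := fun q => by
    rw [comp_apply, comp_apply]
    refine Eq.trans ?_ (show ((stalkAt x).map (biprod.fst ≫ biprod.inl + biprod.snd ≫ biprod.inr)) q = _ by
      rw [Functor.map_add]; rfl)
    rw [biprod.total, CategoryTheory.Functor.map_id]
    rfl
  have hz2 : ∀ y : (stalkAt x).obj (Zj k),
      (stalkAt x).map (s j i k w) y = a → (stalkAt x).map (s l i' k w') y = b → (stalkAt x).map f y = z := by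
    intro y ha hb
    have h1 : (stalkAt x).map biprod.fst ((stalkAt x).map f y) = a := by
      rw [comp_apply, show f ≫ biprod.fst = _ from biprod.lift_fst _ _]; exact ha
    have h2 : (stalkAt x).map biprod.snd ((stalkAt x).map f y) = b := by
      rw [comp_apply, show f ≫ biprod.snd = _ from biprod.lift_snd _ _]; exact hb
    rw [key z, key ((stalkAt x).map f y), h1, h2]
  suffices ∃ y : (stalkAt x).obj (Zj k), (stalkAt x).map f y = z from this
  by_cases hk : (geomPoint x).base default ∈ Set.range k.base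
  · obtain ⟨y, hy⟩ := ((ConcreteCategory.isIso_iff_bijective _).1 (isIso_stalk_t k (geomPoint x) hk)).2
      ((stalkAt x).map (t j) a)
    refine ⟨y, hz2 y (injective_stalk_t j _ ?_) (injective_stalk_t l _ ?_)⟩
    · exact (comp_apply _ _ x y).trans ((congrArg (fun m => (stalkAt x).map m y) (s_t j i k w)).trans hy)
    · exact (comp_apply _ _ x y).trans ((congrArg (fun m => (stalkAt x).map m y) (s_t l i' k w')).trans (hy.trans hz'))
  · have h : a = 0 ∧ b = 0 := by
      rw [hint] at hk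
      by_cases hj : (geomPoint x).base default ∈ Set.range j.base
      · have hb : b = 0 := @Subsingleton.elim _
          (AddCommGrpCat.subsingleton_of_isZero (isZero_stalk_Zj l _ fun hl => hk ⟨hj, hl⟩)) _ _
        exact ⟨injective_stalk_t j _ (hz'.trans (by rw [hb, map_zero, map_zero])), hb⟩
      · have ha : a = 0 := @Subsingleton.elim _ (AddCommGrpCat.subsingleton_of_isZero (isZero_stalk_Zj j _ hj)) _ _
        exact ⟨ha, injective_stalk_t l _ (hz'.symm.trans (by rw [ha, map_zero, map_zero]))⟩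
    exact ⟨0, hz2 0 (by rw [map_zero, h.1]) (by rw [map_zero, h.2])⟩

/-- Ext out of the middle term. -/
noncomputable def emb : EtCoh.H U ((EtCoh.pull j).obj F) n × EtCoh.H V ((EtCoh.pull l).obj F) n →+
    Ext (Zj j ⊞ Zj l) F n :=
  ((Ext.mk₀ (biprod.fst : Zj j ⊞ Zj l ⟶ Zj j)).precomp F (zero_add n)).comp
      ((psi j F n).comp (AddMonoidHom.fst _ _)) -
    ((Ext.mk₀ (biprod.snd : Zj j ⊞ Zj l ⟶ Zj l)).precomp F (zero_add n)).comp
      ((psi l F n).comp (AddMonoidHom.snd _ _))

lemma emb_apply (y : EtCoh.H U ((EtCoh.pull j).obj F) n × EtCoh.H V ((EtCoh.pull l).obj F) n) :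
    emb j F n l y = (Ext.mk₀ (biprod.fst : Zj j ⊞ Zj l ⟶ Zj j)).comp (psi j F n y.1) (zero_add n) -
      (Ext.mk₀ (biprod.snd : Zj j ⊞ Zj l ⟶ Zj l)).comp (psi l F n y.2) (zero_add n) := rfl

lemma emb_bijective : Function.Bijective (emb j F n l) := by
  constructor
  · rw [injective_iff_map_eq_zero]
    intro y hy
    rw [emb_apply] at hy
    have h1 := congrArg (fun z => (Ext.mk₀ (biprod.inl : Zj j ⟶ Zj j ⊞ Zj l)).comp z (zero_add n)) hy
    have h2 := congrArg (fun z => (Ext.mk₀ (biprod.inr : Zj l ⟶ Zj j ⊞ Zj l)).comp z (zero_add n)) hy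
    simp only [sub_eq_add_neg, Ext.comp_add, Ext.comp_neg, Ext.mk₀_comp_mk₀_assoc, biprod.inl_fst,
      biprod.inl_snd, biprod.inr_fst, biprod.inr_snd, Ext.mk₀_id_comp, Ext.mk₀_zero, Ext.zero_comp,
      Ext.comp_zero, neg_zero, add_zero, zero_add, neg_eq_zero] at h1 h2
    exact Prod.ext ((psi_bijective j F n).1 (h1.trans (map_zero _).symm))
      ((psi_bijective l F n).1 (h2.trans (map_zero _).symm))
  · intro x
    obtain ⟨a, ha⟩ := (psi_bijective j F n).2 ((Ext.mk₀ (biprod.inl : Zj j ⟶ Zj j ⊞ Zj l)).comp x (zero_add n))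
    obtain ⟨b, hb⟩ := (psi_bijective l F n).2 (-(Ext.mk₀ (biprod.inr : Zj l ⟶ Zj j ⊞ Zj l)).comp x (zero_add n))
    refine ⟨(a, b), ?_⟩
    rw [emb_apply, ha, hb, Ext.comp_neg, sub_neg_eq_add, Ext.mk₀_comp_mk₀_assoc, Ext.mk₀_comp_mk₀_assoc,
      ← Ext.add_comp, ← Ext.mk₀_add, biprod.total, Ext.mk₀_id_comp]

variable [PreservesFiniteLimits (EtCoh.pull j)] [PreservesFiniteLimits (EtCoh.pull l)]
  [PreservesFiniteLimits (EtCoh.pull i)] [PreservesFiniteLimits (EtCoh.pull i')]

/-- The restriction to both opens. -/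
noncomputable abbrev P : EtCoh.H X F n →+
    EtCoh.H U ((EtCoh.pull j).obj F) n × EtCoh.H V ((EtCoh.pull l).obj F) n :=
  AddMonoidHom.prod (EtCore.Hpull j F n) (EtCore.Hpull l F n)

/-- The difference on the intersection. -/
noncomputable abbrev D : EtCoh.H U ((EtCoh.pull j).obj F) n × EtCoh.H V ((EtCoh.pull l).obj F) n →+
    EtCoh.H W ((EtCoh.pull k).obj F) n :=
  (EtCore.HpullVia i j k w F n).comp (AddMonoidHom.fst _ _) -
    (EtCore.HpullVia i' l k w' F n).comp (AddMonoidHom.snd _ _)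

lemma g_comp (x : EtCoh.H X F n) :
    (Ext.mk₀ (sc j i k w l i' w').g).comp x (zero_add n) = emb j F n l (P j F n l x) := by
  show (Ext.mk₀ (biprod.desc (t j) (-t l))).comp x (zero_add n) = _
  rw [emb_apply]
  show _ = (Ext.mk₀ biprod.fst).comp (psi j F n (EtCore.Hpull j F n x)) _ -
    (Ext.mk₀ biprod.snd).comp (psi l F n (EtCore.Hpull l F n x)) _
  rw [psi_Hpull, psi_Hpull, biprod.desc_eq, Preadditive.comp_neg, Ext.mk₀_add, Ext.mk₀_neg, Ext.add_comp,
    Ext.neg_comp, sub_eq_add_neg, Ext.mk₀_comp_mk₀_assoc, Ext.mk₀_comp_mk₀_assoc]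

lemma f_comp (y : EtCoh.H U ((EtCoh.pull j).obj F) n × EtCoh.H V ((EtCoh.pull l).obj F) n) :
    (Ext.mk₀ (sc j i k w l i' w').f).comp (emb j F n l y) (zero_add n) = psi k F n (D j F n i k w l i' w' y) := by
  show (Ext.mk₀ (biprod.lift (s j i k w) (s l i' k w'))).comp (emb j F n l y) (zero_add n) =
    psi k F n (EtCore.HpullVia i j k w F n y.1 - EtCore.HpullVia i' l k w' F n y.2)
  rw [emb_apply, map_sub, psi_HpullVia, psi_HpullVia, sub_eq_add_neg, sub_eq_add_neg, Ext.comp_add,
    Ext.comp_neg, Ext.mk₀_comp_mk₀_assoc, Ext.mk₀_comp_mk₀_assoc, biprod.lift_fst, biprod.lift_snd]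

variable (hcov : ∀ x : X, x ∈ Set.range j.base ∨ x ∈ Set.range l.base)
    (hint : Set.range k.base = Set.range j.base ∩ Set.range l.base)

include hcov hint in
/-- The Mayer–Vietoris sequence. -/
theorem exists_seq :
    ∃ δ : ∀ n : ℕ, EtCoh.H W ((EtCoh.pull k).obj F) n →+ EtCoh.H X F (n + 1),
      (P j F 0 l).ker = ⊥ ∧
      (∀ n : ℕ, (P j F (n + 1) l).ker = (δ n).range) ∧
      (∀ n : ℕ, (D j F n i k w l i' w').ker = (P j F n l).range) ∧
      (∀ n : ℕ, (δ n).ker = (D j F n i k w l i' w').range) := by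
  have hS := shortExact_sc j i k w l i' w' hcov hint
  let δ : ∀ n : ℕ, EtCoh.H W ((EtCoh.pull k).obj F) n →+ EtCoh.H X F (n + 1) := fun n =>
    AddMonoidHom.mk' (fun y => hS.extClass.comp (psi k F n y) (Nat.add_comm 1 n))
      (fun a b => (congrArg (fun z => hS.extClass.comp z (Nat.add_comm 1 n)) (map_add _ a b)).trans (Ext.comp_add _ _ _ _))
  refine ⟨δ, ?_, fun n => ?_, fun n => ?_, fun n => ?_⟩
  · refine (AddSubgroup.eq_bot_iff_forall _).2 fun x hx => ?_
    have h := (g_comp j F 0 i k w l i' w' x).trans ((congrArg (emb j F 0 l) hx).trans (map_zero _))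
    obtain ⟨φ, rfl⟩ := (Ext.mk₀_bijective _ _).2 x
    have := hS.epi_g
    have h' : (sc j i k w l i' w').g ≫ φ = 0 :=
      (Ext.mk₀_bijective _ _).1 ((Ext.mk₀_comp_mk₀ _ _).symm.trans (h.trans (Ext.mk₀_zero _ _).symm))
    exact (congrArg Ext.mk₀ ((cancel_epi (sc j i k w l i' w').g).1 (h'.trans comp_zero.symm))).trans (Ext.mk₀_zero _ _)
  · ext x
    constructor
    · intro hx
      obtain ⟨x₁, hx₁⟩ := Ext.contravariant_sequence_exact₃ hS F x
        ((g_comp j F (n + 1) i k w l i' w' x).trans ((congrArg (emb j F (n + 1) l) hx).trans (map_zero _)))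
        (Nat.add_comm 1 n)
      obtain ⟨y, rfl⟩ := (psi_bijective k F n).2 x₁
      exact ⟨y, hx₁⟩
    · rintro ⟨y, rfl⟩
      refine (emb_bijective j F (n + 1) l).1 (Eq.trans ?_ (map_zero _).symm)
      exact (g_comp j F (n + 1) i k w l i' w' _).symm.trans (hS.comp_extClass_assoc (psi k F n y) (Nat.add_comm 1 n))
  · ext y
    constructor
    · intro hy
      obtain ⟨x, hx⟩ := Ext.contravariant_sequence_exact₂ hS F (emb j F n l y)
        ((f_comp j F n i k w l i' w' y).trans ((congrArg (psi k F n) hy).trans (map_zero _)))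
      exact ⟨x, (emb_bijective j F n l).1 ((g_comp j F n i k w l i' w' x).symm.trans hx)⟩
    · rintro ⟨x, rfl⟩
      refine (psi_bijective k F n).1 (Eq.trans ?_ (map_zero _).symm)
      rw [← f_comp, ← g_comp j F n i k w l i' w' x, Ext.mk₀_comp_mk₀_assoc, ShortComplex.zero, Ext.mk₀_zero,
        Ext.zero_comp]
      rfl
  · ext y
    constructor
    · intro hy
      obtain ⟨x₂, hx₂⟩ := Ext.contravariant_sequence_exact₁ hS F (psi k F n y) (Nat.add_comm 1 n) hy
      obtain ⟨p, rfl⟩ := (emb_bijective j F n l).2 x₂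
      exact ⟨p, (psi_bijective k F n).1 ((f_comp j F n i k w l i' w' p).symm.trans hx₂)⟩
    · rintro ⟨p, rfl⟩
      show hS.extClass.comp (psi k F n (D j F n i k w l i' w' p)) (Nat.add_comm 1 n) = 0
      rw [← f_comp]
      exact hS.extClass_comp_assoc (h := Nat.add_comm 1 n) _

end sequence

end Groth.EtaleBase.MV
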