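import Groth.Agent.EtaleBase.AgreeLocus
import Groth.Agent.EtaleBase.DisjointGlue
import Groth.Prelude.Def_EtCore
import Mathlib.AlgebraicGeometry.Morphisms.QuasiFinite
import Mathlib.FieldTheory.IsAlgClosed.AlgebraicClosure

/-!
Sections of pulled back sheaves along universally submersive maps with connected geometric fibres.
-/

set_option autoImplicit false

universe u

open CategoryTheory CategoryTheory.Limits AlgebraicGeometry Opposite

namespace Groth.EtaleBase.ConnFib

variable {X Y : Scheme.{u}} (f : X ⟶ Y) (P : EtCoh.Ab Y)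

/-- The pulled back section. -/
noncomputable abbrev un (V : Y.Etale) :
    P.obj.obj (op V) ⟶ ((EtCoh.pull f).obj P).obj.obj (op ((EtCoh.bc f).obj V)) :=
  ((EtCoh.pullPushAdj f).unit.app P).hom.app (op V)

/-- Restriction. -/
noncomputable abbrev res {Z : Scheme.{u}} (F : EtCoh.Ab Z) {U W : Z.Etale} (g : W ⟶ U) (σ : F.obj.obj (op U)) :
    F.obj.obj (op W) :=
  F.obj.map g.op σ

lemma res_comp {Z : Scheme.{u}} (F : EtCoh.Ab Z) {U V W : Z.Etale} (g : W ⟶ V) (h : V ⟶ U)
    (σ : F.obj.obj (op U)) : res F (g ≫ h) σ = res F g (res F h σ) :=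
  (congrArg (fun m => m σ) (F.obj.map_comp h.op g.op)).trans (ConcreteCategory.comp_apply _ _ _)

lemma un_res {V W : Y.Etale} (g : W ⟶ V) (a : P.obj.obj (op V)) :
    un f P W (res P g a) = res ((EtCoh.pull f).obj P) ((EtCoh.bc f).map g) (un f P V a) :=
  NatTrans.naturality_apply ((EtCoh.pullPushAdj f).unit.app P).hom g.op a

lemma preimage_vanishSet {Z : Scheme.{u}} (F : EtCoh.Ab Z) {U W : Z.Etale} (g : W ⟶ U)
    (σ : F.obj.obj (op U)) : vanishSet F W (res F g σ) = g.left.base ⁻¹' vanishSet F U σ := by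
  ext w
  obtain ⟨t, ht⟩ := exists_geomPoint_lift W w
  have h1 := germ_eq_zero_iff_mem _ F W (res F g σ) t
  have h2 := germ_eq_zero_iff_mem _ F U σ ((Scheme.pointSmallEtale _).fiber.map g t)
  rw [show fiberPoint _ t = w from ht] at h1
  rw [fiberPoint_map, show fiberPoint _ t = w from ht] at h2
  refine Iff.trans h1.symm (Iff.trans ?_ h2)
  exact Iff.of_eq (congrArg (· = 0) ((Scheme.pointSmallEtale _).toPresheafFiber_w_apply g t F.obj σ))

set_option backward.isDefEq.respectTransparency.types false in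
lemma vanishSet_un (V : Y.Etale) (a : P.obj.obj (op V)) :
    vanishSet ((EtCoh.pull f).obj P) ((EtCoh.bc f).obj V) (un f P V a) =
      (pullback.fst V.hom f).base ⁻¹' vanishSet P V a := by
  ext z
  obtain ⟨t, ht⟩ := exists_geomPoint_lift ((EtCoh.bc f).obj V) z
  let ξ := geomPoint ((((EtCoh.bc f).obj V)).hom.base z)
  let s := bcFiberEquiv f ξ V t
  have hs : pushLift f ξ rfl V s = t := (bcFiberEquiv f ξ V).symm_apply_apply t
  have h3 := stalkPullIso_germ f ξ P V s a
  rw [hs] at h3
  have hinj : Function.Injective ((stalkPullIso f ξ).hom.app P) := fun x y h => by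
    have := congrArg ((stalkPullIso f ξ).inv.app P) h
    simpa using this
  have h1 := germ_eq_zero_iff_mem ξ _ _ (un f P V a) t
  have h2 := germ_eq_zero_iff_mem (ξ ≫ f) P V a s
  rw [show fiberPoint ξ t = z from ht] at h1
  have h4 : fiberPoint (ξ ≫ f) s = (pullback.fst V.hom f).base z :=
    congrArg (pullback.fst V.hom f).base ht
  rw [h4] at h2
  refine Iff.trans h1.symm (Iff.trans ?_ h2)
  constructor
  · intro h0
    exact hinj (h3.trans (h0.trans (map_zero _).symm))
  · intro h0
    exact h3.symm.trans ((congrArg _ h0).trans (map_zero _))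

set_option backward.isDefEq.respectTransparency.types false in
/-- Sections of an inverse image are locally pulled back. -/
lemma exists_local_form (U : X.Etale) (τ : ((EtCoh.pull f).obj P).obj.obj (op U)) (x : U.left) :
    ∃ (W : X.Etale) (g : W ⟶ U) (V : Y.Etale) (h : W ⟶ (EtCoh.bc f).obj V) (a : P.obj.obj (op V))
      (w : W.left), g.left.base w = x ∧
        res ((EtCoh.pull f).obj P) g τ = res ((EtCoh.pull f).obj P) h (un f P V a) := by
  obtain ⟨t, ht⟩ := exists_geomPoint_lift U x
  let ξ := geomPoint (U.hom.base x)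
  obtain ⟨a₀, ha₀⟩ := ((ConcreteCategory.isIso_iff_bijective ((stalkPullIso f ξ).hom.app P)).1 inferInstance).2
    (germ ξ _ U t τ)
  obtain ⟨V, s, a, rfl⟩ := germ_surjective (ξ ≫ f) P a₀
  rw [stalkPullIso_germ] at ha₀
  let Φ := Scheme.pointSmallEtale ξ
  obtain ⟨W₀, pm, qm, -⟩ := IsCofilteredOrEmpty.cone_objs (C := Φ.fiber.Elements)
    (Functor.elementsMk _ ((EtCoh.bc f).obj V) (pushLift f ξ rfl V s)) (Functor.elementsMk _ U t)
  obtain ⟨W, w⟩ := W₀
  let p : W ⟶ (EtCoh.bc f).obj V := pm.1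
  let q : W ⟶ U := qm.1
  have hp : Φ.fiber.map p w = pushLift f ξ rfl V s := pm.2
  have hq : Φ.fiber.map q w = t := qm.2
  have key : germ ξ ((EtCoh.pull f).obj P) W w (res _ q τ) =
      germ ξ ((EtCoh.pull f).obj P) W w (res _ p (un f P V a)) := by
    change Φ.toPresheafFiber W w ((EtCoh.pull f).obj P).obj _ = Φ.toPresheafFiber W w ((EtCoh.pull f).obj P).obj _
    rw [Φ.toPresheafFiber_w_apply, Φ.toPresheafFiber_w_apply]
    erw [hp, hq]
    exact ha₀.symm
  obtain ⟨Z, r, z, hz, heq⟩ := (germ_eq_iff _ _ W w _ _).1 key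
  refine ⟨Z, r ≫ q, V, r ≫ p, a, fiberPoint ξ z, ?_, ?_⟩
  · subst hz
    refine Eq.trans ?_ ht
    erw [← hq]
    rfl
  · rw [res_comp, res_comp]
    exact heq

/-- An unramified point in a fibre is isolated. -/
lemma exists_isolated (V : Y.Etale) (v : V.left) :
    ∃ N : V.left.Opens, v ∈ N ∧ ∀ v' ∈ N, V.hom.base v' = V.hom.base v → v' = v := by
  have : AlgebraicGeometry.Etale V.hom := V.prop
  have h := Scheme.Hom.isDiscrete_preimage_singleton (X := V.left) (Y := Y) V.hom (V.hom.base v)
  have h' := h.to_subtype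
  obtain ⟨N, hN, hN'⟩ := isOpen_induced_iff.1
    (isOpen_discrete ({⟨v, rfl⟩} : Set ↥(V.hom.base ⁻¹' {V.hom.base v})))
  refine ⟨⟨N, hN⟩, ?_, fun v' hv' he => ?_⟩
  · exact (Set.ext_iff.1 hN' ⟨v, rfl⟩).2 rfl
  · exact congrArg Subtype.val ((Set.ext_iff.1 hN' ⟨v', he⟩).1 hv')

set_option backward.isDefEq.respectTransparency.types false in
/-- The vanishing set of a section is closed in each fibre. -/
lemma exists_nhd_disjoint (U : X.Etale) (τ : ((EtCoh.pull f).obj P).obj.obj (op U)) (x : U.left)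
    (hx : x ∉ vanishSet ((EtCoh.pull f).obj P) U τ) :
    ∃ O : U.left.Opens, x ∈ O ∧ ∀ x' ∈ O, f.base (U.hom.base x') = f.base (U.hom.base x) →
      x' ∉ vanishSet ((EtCoh.pull f).obj P) U τ := by
  obtain ⟨W, g, V, h, a, w, hw, he⟩ := exists_local_form f P U τ x
  let q : W.left ⟶ V.left := h.left ≫ pullback.fst V.hom f
  have hq : ∀ w', V.hom.base (q.base w') = f.base (U.hom.base (g.left.base w')) := by
    have e1 : (q ≫ V.hom : W.left ⟶ Y) = g.left ≫ U.hom ≫ f := by
      exact (Category.assoc _ _ _).trans ((congrArg (h.left ≫ ·) pullback.condition).trans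
        ((Category.assoc _ _ _).symm.trans ((congrArg (· ≫ f) ((Over.w h.hom).trans (Over.w g.hom).symm)).trans
          (Category.assoc _ _ _))))
    intro w'
    exact congrArg (fun m : W.left ⟶ Y => m.base w') e1
  have hv : ∀ w', g.left.base w' ∈ vanishSet _ U τ ↔ q.base w' ∈ vanishSet P V a := by
    intro w'
    have h1 := Set.ext_iff.1 (preimage_vanishSet _ g τ) w'
    rw [he] at h1
    have h2 := Set.ext_iff.1 (preimage_vanishSet _ h (un f P V a)) w'
    have h3 := Set.ext_iff.1 (vanishSet_un f P V a) (h.left.base w')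
    exact (h1.symm.trans h2).trans h3
  obtain ⟨N, hvN, hN⟩ := exists_isolated V (q.base w)
  refine ⟨⟨g.left.base '' (q.base ⁻¹' (N : Set V.left)), isOpenMap_left g _ (N.2.preimage q.continuous)⟩,
    ⟨w, hvN, hw⟩, ?_⟩
  rintro _ ⟨w', hw', rfl⟩ hy hz
  have e : q.base w' = q.base w := hN _ hw' (by rw [hq, hq, hw]; exact hy)
  exact hx (hw ▸ (hv w).2 (e ▸ (hv w').1 hz))

set_option backward.isDefEq.respectTransparency.types false in
lemma bc_top_hom_ext {W : X.Etale} (g h : W ⟶ (EtCoh.bc f).obj (EtCoh.top Y)) : g = h := by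
  have h2 : g.left ≫ pullback.snd (𝟙 Y) f = h.left ≫ pullback.snd (𝟙 Y) f :=
    (Over.w g.hom).trans (Over.w h.hom).symm
  refine MorphismProperty.Over.Hom.ext (pullback.hom_ext ?_ h2)
  have e : pullback.fst (𝟙 Y) f = pullback.snd (𝟙 Y) f ≫ f := by
    rw [← pullback.condition, Category.comp_id]
  show g.left ≫ pullback.fst (𝟙 Y) f = h.left ≫ pullback.fst (𝟙 Y) f
  exact (congrArg (g.left ≫ ·) e).trans ((Category.assoc _ _ _).symm.trans ((congrArg (· ≫ f) h2).trans
    ((Category.assoc _ _ _).trans (congrArg (h.left ≫ ·) e).symm)))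

section

variable (hc : ∀ (Ω : Type u) [Field Ω] [IsAlgClosed Ω] (s : Spec (CommRingCat.of Ω) ⟶ Y),
  ConnectedSpace ↥(pullback f s))

include hc

set_option backward.isDefEq.respectTransparency.types false in
/-- Fibres of base changes to etale `Y`-schemes are connected. -/
lemma isPreconnected_fibre {V₀ : Scheme.{u}} (j : V₀ ⟶ Y) (v : V₀) :
    _root_.IsPreconnected ((pullback.fst j f).base ⁻¹' {v}) := by
  let K := AlgebraicClosure (V₀.residueField v)
  let s : Spec (CommRingCat.of K) ⟶ V₀ :=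
    Spec.map (CommRingCat.ofHom (algebraMap (V₀.residueField v) K)) ≫ V₀.fromSpecResidueField v
  have hs : Set.range s.base = {v} := by
    refine Set.eq_singleton_iff_nonempty_unique_mem.2 ⟨Set.range_nonempty _, ?_⟩
    rintro _ ⟨a, rfl⟩
    simp only [s, Scheme.Hom.comp_base, TopCat.comp_app]
    exact Scheme.fromSpecResidueField_apply v _
  let p := pullback.fst (pullback.fst j f) s
  have hP : IsPullback (p ≫ pullback.snd j f) (pullback.snd (pullback.fst j f) s) f (s ≫ j) :=
    ((IsPullback.of_hasPullback (pullback.fst j f) s).flip.paste_vert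
      (IsPullback.of_hasPullback j f)).flip
  have hcon := hc K (s ≫ j)
  have : ConnectedSpace ↥(pullback (pullback.fst j f) s) :=
    hP.isoPullback.inv.surjective.connectedSpace hP.isoPullback.inv.continuous
  rw [← hs, ← Scheme.Pullback.range_fst]
  exact (isPreconnected_range p.continuous)

variable (hsub : ∀ (Y' : Scheme.{u}) (g : Y' ⟶ Y), Topology.IsQuotientMap (pullback.snd f g).base)

include hsub

omit hc in
lemma isQuotientMap_fst {V₀ : Scheme.{u}} (j : V₀ ⟶ Y) :
    Topology.IsQuotientMap (pullback.fst j f).base := by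
  rw [← pullbackSymmetry_hom_comp_snd]
  exact (hsub V₀ j).comp (pullbackSymmetry j f).hom.homeomorph.isQuotientMap

omit hc in
set_option backward.isDefEq.respectTransparency.types false in
lemma eq_zero_of_un_eq_zero (V : Y.Etale) (a : P.obj.obj (op V)) (h : un f P V a = 0) : a = 0 := by
  refine section_eq_zero_of_germs P V a fun v => ?_
  obtain ⟨z, rfl⟩ := (isQuotientMap_fst f hsub V.hom).surjective v
  exact (unit_eq_zero_iff f P V a).1 h ⟨z, rfl⟩

omit hc in
lemma un_injective (V : Y.Etale) : Function.Injective (un f P V) := by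
  rw [injective_iff_map_eq_zero]
  exact fun a ha => eq_zero_of_un_eq_zero f P hsub V a ha

set_option backward.isDefEq.respectTransparency.types false in
/-- A global section of the inverse image is locally on the base pulled back. -/
lemma exists_nhd_eq (σ : ((EtCoh.pull f).obj P).obj.obj (op ((EtCoh.bc f).obj (EtCoh.top Y)))) (y : Y) :
    ∃ (W : Y.Etale) (k : W ⟶ EtCoh.top Y) (a : P.obj.obj (op W)), (∃ w, k.left.base w = y) ∧
      un f P W a = res _ ((EtCoh.bc f).map k) σ := by
  let G := (EtCoh.pull f).obj P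
  obtain ⟨x, hx⟩ := (isQuotientMap_fst f hsub (EtCoh.top Y).hom).surjective y
  obtain ⟨W, g, V, h, a, w, hw, he⟩ := exists_local_form f P _ σ x
  let k : V ⟶ EtCoh.top Y := MorphismProperty.Over.homMk V.hom (Category.comp_id _)
  let τ : G.obj.obj (op ((EtCoh.bc f).obj V)) := un f P V a - res G ((EtCoh.bc f).map k) σ
  let π : ((EtCoh.bc f).obj V).left ⟶ V.left := pullback.fst V.hom f
  let x₁ : ((EtCoh.bc f).obj V).left := h.left.base w
  have hgk : h ≫ (EtCoh.bc f).map k = g := bc_top_hom_ext f _ _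
  have hx₁ : x₁ ∈ vanishSet G ((EtCoh.bc f).obj V) τ := by
    refine (Set.ext_iff.1 (preimage_vanishSet G h τ) w).1 ?_
    have e0 : res G h τ = 0 := by
      show G.obj.map h.op τ = 0
      rw [map_sub, sub_eq_zero]
      refine he.symm.trans ?_
      rw [← hgk, res_comp]
    exact ⟨W, 𝟙 W, ⟨w, rfl⟩, by rw [e0, map_zero]⟩
  have hk : k.left.base (π.base x₁) = y := by
    have e1 : ((EtCoh.bc f).map k).left ≫ pullback.fst (EtCoh.top Y).hom f = π ≫ k.left :=
      pullback.lift_fst _ _ _
    rw [← hx, ← hw, ← hgk]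
    exact (congrArg (fun m : ((EtCoh.bc f).obj V).left ⟶ (EtCoh.top Y).left => m.base x₁) e1).symm
  have hq : Topology.IsQuotientMap π.base := isQuotientMap_fst f hsub V.hom
  let Z : Set ↥((EtCoh.bc f).obj V).left := vanishSet G ((EtCoh.bc f).obj V) τ
  have hZ : ∀ x₂ x₃, π.base x₂ = π.base x₃ → x₂ ∈ Z → x₃ ∈ Z := by
    intro x₂ x₃ e h₂
    by_contra h₃
    let C : Set ↥((EtCoh.bc f).obj V).left := π.base ⁻¹' {π.base x₂}
    let D : Set ↥((EtCoh.bc f).obj V).left := {x' | ∃ O : TopologicalSpace.Opens ↥((EtCoh.bc f).obj V).left,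
      x' ∈ O ∧ ∀ x'' ∈ O, π.base x'' = π.base x₂ → x'' ∉ Z}
    have hD : IsOpen D := by
      rw [isOpen_iff_forall_mem_open]
      rintro x' ⟨O, hO, hO'⟩
      exact ⟨O, fun x'' hx'' => ⟨O, hx'', hO'⟩, O.2, hO⟩
    have hcov : C ⊆ Z ∪ D := by
      intro x' hx'
      by_cases hz : x' ∈ Z
      · exact Or.inl hz
      · obtain ⟨O, hO, hO'⟩ := exists_nhd_disjoint f P ((EtCoh.bc f).obj V) τ x' hz
        refine Or.inr ⟨O, hO, fun x'' hx'' e'' => hO' x'' hx'' ?_⟩
        have hcd : ∀ z, f.base ((pullback.snd V.hom f).base z) = V.hom.base (π.base z) := fun z =>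
          (congrArg (fun m : pullback V.hom f ⟶ Y => m.base z) pullback.condition).symm
        exact ((hcd x'').trans (congrArg V.hom.base (e''.trans (Set.mem_singleton_iff.1 hx').symm))).trans
          (hcd x').symm
    obtain ⟨x', hx', hxZ, O, hO, hO'⟩ := isPreconnected_fibre f hc V.hom (π.base x₂) Z D
      (isOpen_vanishSet G _ τ) hD hcov ⟨x₂, rfl, h₂⟩
      ⟨x₃, e.symm, (hcov e.symm).resolve_left h₃⟩
    exact hO' x' hO hx' hxZ
  let E : Set V.left := {v | ∀ x', π.base x' = v → x' ∈ Z}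
  have hE : π.base ⁻¹' E = Z :=
    Set.ext fun x' => ⟨fun h' => h' x' rfl, fun h' x'' e => hZ x' x'' e.symm h'⟩
  let O : V.left.Opens := ⟨E, hq.isOpen_preimage.1 (hE ▸ isOpen_vanishSet G _ τ)⟩
  have hxO : π.base x₁ ∈ O := fun x' e => hZ x₁ x' e.symm hx₁
  refine ⟨openObj V O, openHom V O ≫ k, res P (openHom V O) a, ⟨⟨_, hxO⟩, hk⟩, ?_⟩
  have e0 : res G ((EtCoh.bc f).map (openHom V O)) τ = 0 := by
    refine (map_eq_zero_iff_range_subset G _ τ).2 ?_
    rintro _ ⟨z, rfl⟩
    change _ ∈ Z
    rw [← hE]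
    have e1 : π.base (((EtCoh.bc f).map (openHom V O)).left.base z) =
        O.ι.base ((pullback.fst (openObj V O).hom f).base z) :=
      congrArg (fun m : pullback (openObj V O).hom f ⟶ V.left => m.base z) (pullback.lift_fst _ _ _)
    show π.base (((EtCoh.bc f).map (openHom V O)).left.base z) ∈ E
    rw [e1]
    exact ((pullback.fst (openObj V O).hom f).base z).2
  rw [un_res, Functor.map_comp, res_comp]
  change G.obj.map _ τ = 0 at e0
  rw [map_sub, sub_eq_zero] at e0
  exact e0

set_option backward.isDefEq.respectTransparency.types false in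
/-- Global sections descend along universally submersive maps with connected geometric fibres. -/
theorem un_top_bijective : Function.Bijective (un f P (EtCoh.top Y)) := by
  refine ⟨un_injective f P hsub _, fun σ => ?_⟩
  let G := (EtCoh.pull f).obj P
  let R : Sieve (EtCoh.top Y) :=
    { arrows := fun T g => ∃ a, un f P T a = res G ((EtCoh.bc f).map g) σ
      downward_closed := fun {T T' g} hg k => by
        obtain ⟨a, ha⟩ := hg
        exact ⟨res P k a, by rw [un_res, ha, Functor.map_comp, res_comp]⟩ }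
  have hR : R ∈ Y.smallEtaleTopology (EtCoh.top Y) := by
    rw [mem_topology_iff]
    intro y
    obtain ⟨W, k, a, ⟨w, hw⟩, ha⟩ := exists_nhd_eq f P hc hsub σ y
    exact ⟨W, k, w, ⟨a, ha⟩, hw⟩
  let x : Presieve.FamilyOfElements (P.obj ⋙ forget AddCommGrpCat.{u + 1}) R.arrows := fun T g hg => hg.choose
  have hx : x.Compatible := by
    intro T₁ T₂ T g₁ g₂ k₁ k₂ hk₁ hk₂ e
    refine un_injective f P hsub T ?_
    show un f P T (res P g₁ hk₁.choose) = un f P T (res P g₂ hk₂.choose)
    rw [un_res, un_res, hk₁.choose_spec, hk₂.choose_spec, ← res_comp, ← res_comp, ← Functor.map_comp,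
      ← Functor.map_comp, e]
  obtain ⟨a, ha, -⟩ := (((isSheaf_iff_isSheaf_of_type _ _).1
    ((sheafCompose Y.smallEtaleTopology (forget AddCommGrpCat.{u + 1})).obj P).2) R hR) x hx
  refine ⟨a, ?_⟩
  refine (((isSheaf_iff_isSheaf_of_type _ _).1
    ((sheafCompose X.smallEtaleTopology (forget AddCommGrpCat.{u + 1})).obj G).2).isSeparated _
      ((EtCoh.coverPreserving_bc f).cover_preserve hR)).ext fun T h hh => ?_
  obtain ⟨T', g, k, hg, rfl⟩ := hh
  show res G (k ≫ (EtCoh.bc f).map g) (un f P _ a) = res G (k ≫ (EtCoh.bc f).map g) σ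
  rw [res_comp, res_comp, ← un_res]
  refine congrArg (res G k) ?_
  rw [show res P g a = hg.choose from ha g hg]
  exact hg.choose_spec

end

end Groth.EtaleBase.ConnFib
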