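import Groth.Agent.EtaleBase.NormalEtale
import Groth.Agent.EtaleBase.ConnectedFibres
import Groth.Agent.EtaleBase.LocConstOps
import Groth.Prelude.Def_EtCore
import Mathlib.AlgebraicGeometry.Morphisms.Preimmersion

/-!
Constant sheaves on normal integral schemes and restriction to a neighbourhood of the generic point.
-/

set_option autoImplicit false

universe u

open CategoryTheory CategoryTheory.Limits AlgebraicGeometry Opposite

namespace Groth.EtaleBase.NormalConst

open ConnFib LocConst

variable {X T : Scheme.{u}} (j : T ⟶ X) (F : EtCoh.Ab X) {M : Type (u + 1)} [AddCommGroup M]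
  (s : M →+ F.obj.obj (op (EtCoh.top X)))

/-- The structure morphism to the final object. -/
noncomputable def toTop {Z : Scheme.{u}} (V : Z.Etale) : V ⟶ EtCoh.top Z :=
  MorphismProperty.Over.homMk V.hom (Category.comp_id _)

set_option backward.isDefEq.respectTransparency.types false in
lemma stalkBij_un (hs : StalkBij F (EtCoh.top X) s) :
    StalkBij ((EtCoh.pull j).obj F) ((EtCoh.bc j).obj (EtCoh.top X))
      ((un j F (EtCoh.top X)).hom.comp s) := by
  intro Ω _ _ ξ t
  let t' := bcFiberEquiv j ξ (EtCoh.top X) t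
  have ht : pushLift j ξ rfl (EtCoh.top X) t' = t := (bcFiberEquiv j ξ (EtCoh.top X)).symm_apply_apply t
  have e : (fun a => germ ξ _ _ t (((un j F (EtCoh.top X)).hom.comp s) a)) =
      fun a => (stalkPullIso j ξ).hom.app F (germ (ξ ≫ j) F (EtCoh.top X) t' (s a)) := funext fun a => by
    rw [stalkPullIso_germ, ht]
    rfl
  rw [e]
  exact ((ConcreteCategory.isIso_iff_bijective ((stalkPullIso j ξ).hom.app F)).1 inferInstance).comp
    (hs _ _ _ _ _)

omit s in
lemma range_base_of_isPullback {P A B C : Scheme.{u}} {p : P ⟶ A} {q : P ⟶ B} {a : A ⟶ C} {b : B ⟶ C}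
    (h : IsPullback p q a b) : Set.range p.base = a.base ⁻¹' Set.range b.base := by
  rw [← h.isoPullback_hom_fst]
  simp only [Scheme.Hom.comp_base, TopCat.coe_comp]
  rw [Set.range_comp, Set.range_eq_univ.2 (Scheme.Hom.surjective _), Set.image_univ, Scheme.Pullback.range_fst]

/-- Vanishing sets in a sheaf with constant stalks are closed. -/
lemma isClosed_vanishSet {Z : Scheme.{u}} (G : EtCoh.Ab Z) (U₀ : Z.Etale) (r : M →+ G.obj.obj (op U₀))
    (hr : StalkBij G U₀ r) {V : Z.Etale} (g : V ⟶ U₀) (σ : G.obj.obj (op V)) :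
    IsClosed (vanishSet G V σ) := by
  rw [← isOpen_compl_iff, isOpen_iff_forall_mem_open]
  intro v hv
  obtain ⟨W, k, m, ⟨w, hw⟩, he⟩ := hr.exists_nhd g σ v
  refine ⟨Set.range k.left.base, ?_, k.left.isOpenMap.isOpen_range, ⟨w, hw⟩⟩
  rintro _ ⟨w', rfl⟩ hz
  have h1 : w' ∈ vanishSet G W (G.obj.map k.op σ) := by
    rw [preimage_vanishSet G k σ]
    exact hz
  rw [he] at h1
  obtain ⟨t, ht⟩ := exists_geomPoint_lift W w'
  have h2 : germ _ G W t (G.obj.map (k ≫ g).op (r m)) = 0 := by
    rw [germ_eq_zero_iff_mem, show fiberPoint _ t = w' from ht]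
    exact h1
  have h3 : m = 0 := (hr.res (k ≫ g) _ _ _ _ t).1 (a₁ := m) (a₂ := 0) (by
    show germ _ G W t (LocConst.res (k ≫ g) r m) = germ _ G W t (LocConst.res (k ≫ g) r 0)
    rw [map_zero, map_zero]
    exact h2)
  refine hv ?_
  rw [← hw]
  exact ⟨W, k, ⟨w, rfl⟩, by rw [he, h3, map_zero, map_zero]⟩

variable [IsIntegral X] [IsPreimmersion j]

set_option backward.isDefEq.respectTransparency.types false in
/-- The unit is an isomorphism on sheaves with constant stalks. -/
theorem isIso_unit (hN : ∀ x : X, IsIntegrallyClosed (X.presheaf.stalk x))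
    (hs : StalkBij F (EtCoh.top X) s) (hj : genericPoint X ∈ Set.range j.base) :
    IsIso ((EtCoh.pullPushAdj j).unit.app F) := by
  suffices h : ∀ V : X.Etale, Function.Bijective (un j F V) by
    have : ∀ V, IsIso (((EtCoh.pullPushAdj j).unit.app F).hom.app V) := fun V =>
      (ConcreteCategory.isIso_iff_bijective _).2 (h V.unop)
    have : IsIso ((EtCoh.pullPushAdj j).unit.app F).hom := NatIso.isIso_of_isIso_app _
    exact (isIso_iff_of_reflects_iso _ (sheafToPresheaf _ _)).1
      (inferInstanceAs (IsIso ((EtCoh.pullPushAdj j).unit.app F).hom))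
  intro V
  have : AlgebraicGeometry.Etale V.hom := V.prop
  let f : V.left ⟶ X := V.hom
  let π : ((EtCoh.bc j).obj V).left ⟶ V.left := pullback.fst V.hom j
  have hπ : IsPreimmersion π := MorphismProperty.pullback_fst _ _ ‹_›
  obtain ⟨y₀, hy₀⟩ := hj
  have hlift : ∀ g : NormalEt.Gen f, ∃ z, π.base z = g.1 := fun g => by
    obtain ⟨z, hz, -⟩ := Scheme.Pullback.exists_preimage_pullback (f := V.hom) (g := j) g.1 y₀
      (g.2.trans hy₀.symm)
    exact ⟨z, hz⟩
  let G := (EtCoh.pull j).obj F
  let r := (un j F (EtCoh.top X)).hom.comp s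
  have hr : StalkBij G ((EtCoh.bc j).obj (EtCoh.top X)) r := stalkBij_un j F s hs
  let k₀ : (EtCoh.bc j).obj V ⟶ (EtCoh.bc j).obj (EtCoh.top X) := (EtCoh.bc j).map (toTop V)
  constructor
  · rw [injective_iff_map_eq_zero]
    intro a ha
    refine section_eq_zero_of_germs F V a fun v => ?_
    obtain ⟨g, ⟨hg, hgv⟩, -⟩ := NormalEt.existsUnique_generic hN f v
    obtain ⟨z, hz⟩ := hlift ⟨g, hg⟩
    exact hgv.mem_closed (isClosed_vanishSet F (EtCoh.top X) s hs (toTop V) a)
      ((unit_eq_zero_iff j F V a).1 ha ⟨z, hz⟩)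
  · intro σ
    choose z hz using hlift
    choose W k m hw he using fun g => hr.exists_nhd k₀ σ (z g)
    let a₀ : ∀ g : NormalEt.Gen f, F.obj.obj (op V) := fun g => ConnFib.res F (toTop V) (s (m g))
    obtain ⟨a, ha⟩ := exists_glue_disjoint V (NormalEt.comp hN f) (fun _ _ => NormalEt.disjoint_comp hN f)
      (NormalEt.iSup_comp hN f) F
      (fun g => ConnFib.res F (openHom V (NormalEt.comp hN f g)) (a₀ g))
    refine ⟨a, ?_⟩
    rw [← sub_eq_zero]
    refine section_eq_zero_of_germs G _ _ fun x => ?_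
    change x ∈ vanishSet G _ (un j F V a - σ)
    obtain ⟨g₀, ⟨hg₀, hgx⟩, -⟩ := NormalEt.existsUnique_generic hN f (π.base x)
    let g : NormalEt.Gen f := ⟨g₀, hg₀⟩
    let O := NormalEt.comp hN f g
    -- the difference with the local constant vanishes on the component
    have h1 : z g ∈ vanishSet G _ (un j F V (a₀ g) - σ) := by
      obtain ⟨w, hw'⟩ := hw g
      refine ⟨W g, k g, ⟨w, hw'⟩, ?_⟩
      rw [map_sub, sub_eq_zero]
      refine Eq.trans ?_ (he g).symm
      show ConnFib.res G (k g) (un j F V (ConnFib.res F (toTop V) (s (m g)))) = _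
      rw [un_res, ← ConnFib.res_comp]
      rfl
    have h2 : x ∈ vanishSet G _ (un j F V (a₀ g) - σ) := by
      have hsp : z g ⤳ x := π.isEmbedding.isInducing.specializes_iff.1 (by rw [hz g]; exact hgx)
      exact hsp.mem_closed (isClosed_vanishSet G _ r hr k₀ _) h1
    obtain ⟨W', k', ⟨w', hw'⟩, he'⟩ := h2
    have hr' : Set.range ((EtCoh.bc j).map (openHom V O)).left.base = π.base ⁻¹' (O : Set V.left) := by
      rw [range_base_of_isPullback (EtCoh.isPullback_bc_map j (openHom V O))]
      exact congrArg _ (Scheme.Opens.range_ι O)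
    obtain ⟨y, hy⟩ : x ∈ Set.range ((EtCoh.bc j).map (openHom V O)).left.base := by
      rw [hr']
      exact specializes_iff_mem_closure.1 hgx
    have h3 : G.obj.map ((EtCoh.bc j).map (openHom V O)).op (un j F V a - un j F V (a₀ g)) = 0 := by
      rw [map_sub, sub_eq_zero]
      show ConnFib.res G _ (un j F V a) = ConnFib.res G _ (un j F V (a₀ g))
      rw [← un_res, ← un_res]
      exact congrArg _ (ha g)
    have h4 : x ∈ vanishSet G _ (un j F V a - un j F V (a₀ g)) := ⟨_, _, ⟨y, hy⟩, h3⟩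
    obtain ⟨t, ht⟩ := exists_geomPoint_lift ((EtCoh.bc j).obj V) x
    rw [← show fiberPoint _ t = x from ht, ← germ_eq_zero_iff_mem] at h4 ⊢
    have h5 : x ∈ vanishSet G _ (un j F V (a₀ g) - σ) := ⟨W', k', ⟨w', hw'⟩, he'⟩
    rw [← show fiberPoint _ t = x from ht, ← germ_eq_zero_iff_mem] at h5
    rw [← sub_add_sub_cancel (un j F V a) (un j F V (a₀ g)) σ, map_add, h4, h5, add_zero]

end Groth.EtaleBase.NormalConst
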