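import Groth.Agent.EtaleBase.PushStalkInt
import Groth.Agent.EtaleBase.Support
import Groth.Prelude.Def_EtCore

/-!
The open locus where two sections agree, and pullbacks.
-/

set_option autoImplicit false

universe u

open CategoryTheory CategoryTheory.Limits AlgebraicGeometry Opposite

namespace Groth.EtaleBase

variable {X Y : Scheme.{u}} (f : X ⟶ Y) (P : EtCoh.Ab Y) (V : Y.Etale) (σ : P.obj.obj (op V))

set_option backward.isDefEq.respectTransparency.types false in
/-- A pulled back section vanishes iff `pullback.fst` lands in the vanishing set. -/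
lemma unit_eq_zero_iff :
    ((EtCoh.pullPushAdj f).unit.app P).hom.app (op V) σ = 0 ↔
      Set.range (pullback.fst V.hom f).base ⊆ vanishSet P V σ := by
  let τ : ((EtCoh.pull f).obj P).obj.obj (op ((EtCoh.bc f).obj V)) :=
    ((EtCoh.pullPushAdj f).unit.app P).hom.app (op V) σ
  have key : ∀ {Ω : Type u} [Field Ω] [IsSepClosed Ω] (ξ : Spec (CommRingCat.of Ω) ⟶ X)
      (t : (Scheme.pointSmallEtale ξ).fiber.obj ((EtCoh.bc f).obj V)),
      germ ξ ((EtCoh.pull f).obj P) ((EtCoh.bc f).obj V) t τ = 0 ↔
        (pullback.fst V.hom f).base (fiberPoint ξ t) ∈ vanishSet P V σ := by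
    intro Ω _ _ ξ t
    let s := bcFiberEquiv f ξ V t
    have ht : pushLift f ξ rfl V s = t := (bcFiberEquiv f ξ V).symm_apply_apply t
    have h2 : fiberPoint (ξ ≫ f) s = (pullback.fst V.hom f).base (fiberPoint ξ t) := rfl
    rw [← h2, ← germ_eq_zero_iff_mem (ξ ≫ f) P V σ s, ← ht]
    have h3 := stalkPullIso_germ f ξ P V s σ
    have hinj : Function.Injective ((stalkPullIso f ξ).hom.app P) := fun a b h => by
      have := congrArg ((stalkPullIso f ξ).inv.app P) h
      simpa using this
    constructor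
    · intro h0
      exact hinj (h3.trans (h0.trans (map_zero _).symm))
    · intro h0
      exact h3.symm.trans ((congrArg _ h0).trans (map_zero _))
  change τ = 0 ↔ _
  constructor
  · rintro h _ ⟨z, rfl⟩
    obtain ⟨t, ht⟩ := exists_geomPoint_lift ((EtCoh.bc f).obj V) z
    have := (key _ t).1 (by rw [h]; exact map_zero _)
    rwa [show fiberPoint _ t = z from ht] at this
  · intro h
    refine section_eq_zero_of_germs _ _ τ fun z => ?_
    obtain ⟨t, ht⟩ := exists_geomPoint_lift ((EtCoh.bc f).obj V) z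
    obtain ⟨W, g, ⟨w, hw⟩, hz⟩ := (germ_eq_zero_iff_mem _ _ _ τ t).1 ((key _ t).2 (h ⟨_, rfl⟩))
    exact ⟨W, g, ⟨w, hw.trans ht⟩, hz⟩

set_option backward.isDefEq.respectTransparency.types false in
/-- The open set on which two global sections agree. -/
theorem exists_open_agree {S : Scheme.{u}} (F : EtCoh.Ab S) (s t : EtCoh.sect F (EtCoh.top S)) :
    ∃ W : S.Opens, ∀ (T : Scheme.{u}) (g : T ⟶ S),
      Set.range g.base ⊆ (W : Set S) ↔
        ((EtCoh.pullPushAdj g).unit.app F).hom.app (op (EtCoh.top S)) s =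
          ((EtCoh.pullPushAdj g).unit.app F).hom.app (op (EtCoh.top S)) t := by
  refine ⟨⟨vanishSet F (EtCoh.top S) (s - t), isOpen_vanishSet F _ _⟩, fun T g => ?_⟩
  refine Iff.trans ?_ sub_eq_zero
  rw [← map_sub]
  refine Iff.trans ?_ (unit_eq_zero_iff g F (EtCoh.top S) (s - t)).symm
  have hr : Set.range (pullback.fst (EtCoh.top S).hom g).base = Set.range g.base := by
    rw [Scheme.Pullback.range_fst]
    exact Set.preimage_id
  rw [hr]
  rfl

end Groth.EtaleBase
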