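import Groth.Agent.EtaleBase.StrictSection
import Groth.Agent.EtaleBase.Stalks
import Groth.Agent.SiteCohomology.BigZariskiCohomology
import Groth.Prelude.Def_EtZar
import Groth.Agent.S10853

/-!
Schemes with strictly henselian local rings: etale cohomology is Zariski cohomology.
-/

set_option autoImplicit false

universe u

open CategoryTheory CategoryTheory.Limits AlgebraicGeometry Opposite TopologicalSpace

namespace Groth.EtaleBase.StrictZar

open Groth.SiteCohomology

variable {S : Scheme.{u}} (hS : ∀ s : S, EtCoh.IsStrictlyHenselianLocalRing (S.presheaf.stalk s))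

set_option backward.isDefEq.respectTransparency.types false in
include hS in
/-- Etale morphisms have local sections. -/
lemma exists_section_nbhd {W : Scheme.{u}} (g : W ⟶ S) [Etale g] (w : W) :
    ∃ (N : S.Opens) (h : (N : Scheme.{u}) ⟶ W), g w ∈ N ∧ h ≫ g = N.ι := by
  let s := g w
  obtain ⟨h1, h2⟩ := hS s
  obtain ⟨z, -, hz⟩ := Scheme.Pullback.exists_preimage_pullback (f := g) (g := S.fromSpecStalk s) w
    (IsLocalRing.closedPoint _) Scheme.fromSpecStalk_closedPoint.symm
  obtain ⟨σ₀, hσ₀, -⟩ := @exists_section_of_etale (S.presheaf.stalk s) _ h1 h2 _ (pullback.snd g (S.fromSpecStalk s)) inferInstance z hz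
  let σ : Spec (S.presheaf.stalk s) ⟶ W := σ₀ ≫ pullback.fst g (S.fromSpecStalk s)
  have hσ : σ ≫ g = S.fromSpecStalk s := by
    show (σ₀ ≫ pullback.fst g _) ≫ g = _
    rw [Category.assoc, pullback.condition, reassoc_of% hσ₀]
  let y := σ (IsLocalRing.closedPoint (S.presheaf.stalk s))
  have e : (𝟙 S : S ⟶ S) s = g y := by
    show s = g (σ _)
    rw [← Scheme.Hom.comp_apply, hσ, Scheme.fromSpecStalk_closedPoint]
  let φ : W.presheaf.stalk y ⟶ S.presheaf.stalk s := Scheme.stalkClosedPointTo σ
  have : IsLocalHom φ.hom := Scheme.isLocalHom_stalkClosedPointTo σ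
  have hφ : Spec.map φ ≫ W.fromSpecStalk y = σ := Scheme.Spec_stalkClosedPointTo_fromSpecStalk σ
  have hcomp : g.stalkMap y ≫ φ =
      S.presheaf.stalkSpecializes (Inseparable.of_eq e).specializes ≫ (𝟙 S : S ⟶ S).stalkMap s := by
    refine Eq.trans ?_ ((congrArg (_ ≫ ·) (Scheme.Hom.stalkMap_id S s)).trans (Category.comp_id _)).symm
    apply Spec.map_injective
    rw [← cancel_mono (S.fromSpecStalk (g y)), Spec.map_comp, Category.assoc,
      Scheme.SpecMap_stalkMap_fromSpecStalk, reassoc_of% hφ, hσ]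
    exact (Scheme.SpecMap_stalkSpecializes_fromSpecStalk _).symm
  obtain ⟨U, hU, f, -, hf⟩ := Groth.Agent.S10853.result (𝟙 S) g e φ hcomp
  exact ⟨U, f, hU, hf.trans (Category.comp_id _)⟩

set_option backward.isDefEq.respectTransparency.types false in
lemma subsingleton_hom {d : S.Etale} (U : S.Opens) : Subsingleton (d ⟶ (EtZar.zarToEt S).obj U) :=
  ⟨fun p q => MorphismProperty.Over.Hom.ext
    ((cancel_mono U.ι).1 ((Over.w p.hom).trans (Over.w q.hom).symm))⟩

lemma exists_lift_ι {V : Scheme.{u}} (f : V ⟶ S) (U : S.Opens) (h : Set.range f ⊆ (U : Set S)) :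
    ∃ l : V ⟶ (U : Scheme.{u}), l ≫ U.ι = f :=
  ⟨IsOpenImmersion.lift U.ι f (by rw [Scheme.Opens.range_ι]; exact h), IsOpenImmersion.lift_fac _ _ _⟩

set_option backward.isDefEq.respectTransparency.types false in
lemma nonempty_hom {d : S.Etale} (U : S.Opens) (h : Set.range d.hom ⊆ (U : Set S)) :
    Nonempty (d ⟶ (EtZar.zarToEt S).obj U) :=
  let ⟨l, hl⟩ := exists_lift_ι d.hom U h
  ⟨MorphismProperty.Over.homMk l hl⟩

set_option backward.isDefEq.respectTransparency.types false in
lemma range_subset_of_hom {d : S.Etale} {U : S.Opens} (x : d ⟶ (EtZar.zarToEt S).obj U) :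
    Set.range d.hom ⊆ (U : Set S) := by
  rintro _ ⟨t, rfl⟩
  have h : x.left ≫ U.ι = d.hom := Over.w x.hom
  rw [← h]
  exact (x.left t).2

theorem locallyFiltered_zarToEt (d : (S.Etale)ᵒᵖ) :
    LocallyFiltered (CostructuredArrow (EtZar.zarToEt S).op d) := by
  refine locallyFiltered_costructuredArrow_op (EtZar.zarToEt S) (fun {d a b c} x y p q _ => ?_)
    (fun {d a b} y p q _ => ⟨b, y, 𝟙 b, (subsingleton_hom b).elim _ _, Subsingleton.elim _ _⟩) d
  obtain ⟨z⟩ := nonempty_hom (d := d) (a ⊓ b)
    (fun t ht => ⟨range_subset_of_hom x ht, range_subset_of_hom y ht⟩)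
  exact ⟨a ⊓ b, z, homOfLE inf_le_left, homOfLE inf_le_right,
    (subsingleton_hom a).elim _ _, (subsingleton_hom b).elim _ _⟩

set_option backward.isDefEq.respectTransparency.types false in
include hS in
theorem isCocontinuous_zarToEt :
    (EtZar.zarToEt S).IsCocontinuous (Opens.grothendieckTopology S) S.smallEtaleTopology where
  cover_lift {U R} hR := by
    intro x hx
    obtain ⟨V, g, v, hg, hv⟩ := (mem_topology_iff R).1 hR (⟨x, hx⟩ : (U : Scheme.{u}))
    have : Etale V.hom := V.prop
    obtain ⟨N, h, hN, hh⟩ := exists_section_nbhd hS V.hom v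
    have hxN : x ∈ N := by
      have e : g.left ≫ U.ι = V.hom := Over.w g.hom
      have : V.hom v = x := by
        rw [← e, Scheme.Hom.comp_apply]
        exact congrArg U.ι hv
      exact this ▸ hN
    let N' : S.Opens := N ⊓ U
    let k : (EtZar.zarToEt S).obj N' ⟶ V := MorphismProperty.Over.homMk (S.homOfLE inf_le_left ≫ h)
      ((Category.assoc _ _ _).trans ((congrArg (_ ≫ ·) hh).trans (S.homOfLE_ι _)))
    refine ⟨N', homOfLE inf_le_right, ?_, ⟨hxN, hx⟩⟩
    show R.arrows ((EtZar.zarToEt S).map (homOfLE (inf_le_right : N' ≤ U)))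
    rw [(subsingleton_hom U).elim ((EtZar.zarToEt S).map (homOfLE (inf_le_right : N' ≤ U))) (k ≫ g)]
    exact R.downward_closed hg k

variable [EtZar.ZarCont S]

set_option backward.isDefEq.respectTransparency.types false in
include hS in
theorem nonempty_H_equiv (F : EtCoh.Ab S) (n : ℕ) :
    Nonempty (EtCoh.H S F n ≃+ EtZar.H ((EtZar.resZar S).obj F) n) := by
  have := isCocontinuous_zarToEt hS
  let L := (EtZar.zarToEt S).sheafPullback AddCommGrpCat.{u + 1} (Opens.grothendieckTopology S) S.smallEtaleTopology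
  let adj : L ⊣ EtZar.resZar S := (EtZar.zarToEt S).sheafAdjunctionContinuous _ _ _
  have : PreservesFiniteLimits L :=
    preservesFiniteLimits_sheafPullback_of_lan_mono _ _ _ _ fun φ hφ =>
      have := hφ
      mono_lan_map_of_locallyFiltered''.{u + 1} _ locallyFiltered_zarToEt φ
  have : PreservesFiniteLimits (EtZar.resZar S) :=
    adj.rightAdjoint_preservesLimits.{0, 0}.preservesFiniteLimits
  have : PreservesFiniteColimits (EtZar.resZar S) := preservesFiniteColimits_sheafPushforward _ _ _ _
  have : (EtZar.resZar S).Additive := Functor.additive_of_preserves_binary_products _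
  have : L.Additive := adj.left_adjoint_additive
  obtain ⟨e⟩ := nonempty_ext_adjunction_equiv adj
    (fun I hI => @injective_map_of_adjunction _ _ _ _ _ _ _ _ adj _ I hI)
    ((constantSheaf (Opens.grothendieckTopology S) AddCommGrpCat.{u + 1}).obj
      (AddCommGrpCat.of (ULift ℤ))) F n
  let T : IsTerminal ((EtZar.zarToEt S).obj ⊤) :=
    IsTerminal.ofUniqueHom (fun d => (nonempty_hom (d := d) ⊤ (Set.subset_univ _)).some)
      (fun d m => (subsingleton_hom ⊤).elim _ _)
  let i : constantSheaf (Opens.grothendieckTopology S) AddCommGrpCat.{u + 1} ⋙ L ≅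
        constantSheaf S.smallEtaleTopology AddCommGrpCat.{u + 1} :=
    ((constantSheafAdj (Opens.grothendieckTopology S) AddCommGrpCat.{u + 1}
      (T := (⊤ : S.Opens)) isTerminalTop).comp adj).leftAdjointUniq
    ((constantSheafAdj S.smallEtaleTopology AddCommGrpCat.{u + 1} T).ofNatIsoRight
      (NatIso.ofComponents (fun F => Iso.refl _)))
  exact ⟨(e.trans (extIsoLeft (i.app (AddCommGrpCat.of (ULift ℤ))) F n).symm).symm⟩

end Groth.EtaleBase.StrictZar
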