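import Groth.Agent.EtaleBase.DisjointGlue
import Mathlib.AlgebraicGeometry.Morphisms.UniversallyOpen

/-!
The etale sheaf condition: Zariski sheaves satisfying descent for surjections of affines.
-/

set_option autoImplicit false

universe w u

open CategoryTheory CategoryTheory.Limits AlgebraicGeometry Opposite

namespace Groth.EtaleBase.AffCrit

variable {X : Scheme.{u}}

/-- The Zariski topology on the small etale site. -/
noncomputable abbrev zar (X : Scheme.{u}) : GrothendieckTopology X.Etale :=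
  X.smallGrothendieckTopology (P := @IsOpenImmersion)

set_option backward.isDefEq.respectTransparency.types false in
lemma mem_zar_iff {U : X.Etale} (R : Sieve U) :
    R ∈ zar X U ↔ ∀ x : U.left, ∃ (Y : X.Etale) (f : Y ⟶ U) (y : Y.left),
      R f ∧ IsOpenImmersion f.left ∧ f.left y = x := by
  have hPQ : (@IsOpenImmersion : MorphismProperty Scheme.{u}) ≤ @AlgebraicGeometry.Etale :=
    fun _ _ f (hf : IsOpenImmersion f) => inferInstanceAs (AlgebraicGeometry.Etale f)
  rw [zar, Scheme.smallGrothendieckTopology_eq_toGrothendieck_smallPretopology X hPQ]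
  exact Scheme.mem_toGrothendieck_smallPretopology U R

/-- The affine opens of an etale scheme, as a covering sieve. -/
noncomputable def affSieve (U : X.Etale) : Sieve U :=
  Sieve.generate (Presieve.ofArrows (fun W : U.left.affineOpens => openObj U W.1) fun W => openHom U W.1)

lemma affSieve_mem (U : X.Etale) : affSieve U ∈ zar X U := by
  rw [mem_zar_iff]
  intro x
  obtain ⟨_, ⟨W, hW, rfl⟩, hx, -⟩ := U.left.isBasis_affineOpens.exists_subset_of_mem_open
    (Set.mem_univ x) isOpen_univ
  exact ⟨_, openHom U W, (⟨x, hx⟩ : W), Sieve.le_generate _ _ _ (Presieve.ofArrows.mk (⟨W, hW⟩ : U.left.affineOpens)),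
    inferInstanceAs (IsOpenImmersion (Scheme.Opens.ι (X := U.left) W)), rfl⟩

instance isAffine_openObj (U : X.Etale) (W : U.left.affineOpens) : IsAffine (openObj U W.1).left :=
  W.2

variable (F : X.Etaleᵒᵖ ⥤ Type w) (hzar : Presieve.IsSheaf (zar X) F)
  (hsing : ∀ (U V : X.Etale) [IsAffine U.left] [IsAffine V.left] (f : V ⟶ U) [Surjective f.left],
    Presieve.IsSheafFor F (Presieve.singleton f))

omit hzar hsing in
lemma isSheafFor_of_eq_top {Y : X.Etale} {S : Sieve Y} (h : S (𝟙 Y)) :
    Presieve.IsSheafFor F (S : Presieve Y) := by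
  rw [(Sieve.id_mem_iff_eq_top.1 h)]
  exact Presieve.isSheafFor_top_sieve F

set_option backward.isDefEq.respectTransparency.types false in
include hzar hsing in
/-- A covering of an affine contains a covering with descent. -/
lemma exists_subsieve (U : X.Etale) [IsAffine U.left] (S : Sieve U) (hS : S ∈ X.smallEtaleTopology U) :
    ∃ S' : Sieve U, S' ≤ S ∧ S' ∈ X.smallEtaleTopology U ∧ Presieve.IsSheafFor F (S' : Presieve U) := by
  classical
  have h : ∀ x : U.left, ∃ (Y : X.Etale) (g : Y ⟶ U), IsAffine Y.left ∧ S g ∧ x ∈ Set.range g.left.base := by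
    intro x
    obtain ⟨Y, g, y, hg, hy⟩ := (mem_topology_iff S).1 hS x
    obtain ⟨_, ⟨W, hW, rfl⟩, hyW, -⟩ := Y.left.isBasis_affineOpens.exists_subset_of_mem_open
      (Set.mem_univ y) isOpen_univ
    exact ⟨openObj Y W, openHom Y W ≫ g, hW, S.downward_closed hg _, ⟨y, hyW⟩, hy⟩
  choose Y g hY hg hmem using h
  obtain ⟨t, ht⟩ := IsCompact.elim_finite_subcover (isCompact_univ (X := U.left))
    (fun x => Set.range (g x).left.base) (fun x => (isOpenMap_left (g x)).isOpen_range)
    (fun x _ => Set.mem_iUnion.2 ⟨x, hmem x⟩)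
  have : AlgebraicGeometry.Etale (Sigma.desc fun i : t => (Y i.1).hom) :=
    IsZariskiLocalAtSource.sigmaDesc (P := @AlgebraicGeometry.Etale) fun i => (Y i.1).prop
  let V : X.Etale := Scheme.Etale.mk (Sigma.desc fun i : t => (Y i.1).hom)
  have : ∀ i : t, IsAffine (Y i.1).left := fun i => hY i.1
  have : IsAffine V.left := inferInstanceAs (IsAffine (∐ fun i : t => (Y i.1).left))
  let κ : ∀ i : t, Y i.1 ⟶ V := fun i =>
    MorphismProperty.Over.homMk (Sigma.ι (fun i : t => (Y i.1).left) i) (Sigma.ι_desc _ _)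
  let f : V ⟶ U := MorphismProperty.Over.homMk (Sigma.desc fun i : t => (g i.1).left)
    (Sigma.hom_ext _ _ fun i => by
      show _ ≫ Sigma.desc _ ≫ U.hom = _ ≫ Sigma.desc _
      rw [← Category.assoc, Sigma.ι_desc, Sigma.ι_desc]
      exact Over.w (g i.1).hom)
  have hκf : ∀ i, κ i ≫ f = g i.1 := fun i =>
    MorphismProperty.Over.Hom.ext (Sigma.ι_desc _ _)
  have : Surjective f.left := ⟨fun x => by
    obtain ⟨i, hi⟩ := Set.mem_iUnion.1 (ht (Set.mem_univ x))
    obtain ⟨hit, y, hy⟩ := Set.mem_iUnion.1 hi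
    exact ⟨(κ ⟨i, hit⟩).left.base y,
      (congrArg (fun m : Y i ⟶ U => m.left.base y) (hκf ⟨i, hit⟩)).trans hy⟩⟩
  let R : Sieve V := Sieve.generate (Presieve.ofArrows (fun i : t => Y i.1) κ)
  have hR : R ∈ zar X V := by
    rw [mem_zar_iff]
    intro v
    obtain ⟨i, y, hy⟩ := (Scheme.IsLocallyDirected.openCover
      (Discrete.functor fun i : t => (Y i.1).left)).exists_eq v
    exact ⟨_, κ i.as, y, Sieve.le_generate _ _ _ (Presieve.ofArrows.mk i.as),
      inferInstanceAs (IsOpenImmersion (Sigma.ι (fun i : t => (Y i.1).left) i.as)), hy⟩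
  let S' : Sieve U := Sieve.generate (Presieve.ofArrows (fun i : t => Y i.1) fun i => g i.1)
  have hS'V : R ≤ S'.pullback f := by
    rw [Sieve.generate_le_iff]
    rintro _ _ ⟨i⟩
    show S' (κ i ≫ f)
    rw [hκf]
    exact Sieve.le_generate _ _ _ (Presieve.ofArrows.mk i)
  refine ⟨S', ?_, ?_, ?_⟩
  · rw [Sieve.generate_le_iff]
    rintro _ _ ⟨i⟩
    exact hg i.1
  · rw [mem_topology_iff]
    intro x
    obtain ⟨i, hi⟩ := Set.mem_iUnion.1 (ht (Set.mem_univ x))
    obtain ⟨hit, y, hy⟩ := Set.mem_iUnion.1 hi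
    exact ⟨_, g i, y, Sieve.le_generate _ _ _ (Presieve.ofArrows.mk (⟨i, hit⟩ : t)), hy⟩
  · refine Presieve.isSheafFor_trans F (Sieve.generate (Presieve.singleton f)) S' ?_ ?_ ?_
    · rw [← Presieve.isSheafFor_iff_generate]
      exact hsing U V f
    · rintro Z h ⟨_, k, _, ⟨i⟩, rfl⟩
      refine (isSheafFor_of_eq_top F ?_).isSeparatedFor
      show Sieve.generate (Presieve.singleton f) (𝟙 Z ≫ k ≫ g i.1)
      rw [Category.id_comp, ← hκf i, ← Category.assoc]
      exact ⟨V, k ≫ κ i, f, Presieve.singleton_self f, rfl⟩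
    · rintro Z h ⟨_, k, _, ⟨⟩, rfl⟩
      refine hzar _ ((zar X).superset_covering ?_ ((zar X).pullback_stable k hR))
      rw [Sieve.pullback_comp]
      exact Sieve.pullback_monotone k hS'V

include hzar hsing in
lemma isSeparatedFor_of_mem (U : X.Etale) (S : Sieve U) (hS : S ∈ X.smallEtaleTopology U) :
    Presieve.IsSeparatedFor F (S : Presieve U) := by
  intro x t₁ t₂ h₁ h₂
  refine (hzar _ (affSieve_mem U)).isSeparatedFor.ext ?_
  rintro Z h ⟨_, k, _, ⟨W⟩, rfl⟩
  rw [op_comp, Functor.map_comp_apply, Functor.map_comp_apply]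
  congr 1
  obtain ⟨S', hle, -, hS'⟩ := exists_subsieve F hzar hsing (openObj U W.1) (S.pullback (openHom U W.1))
    (X.smallEtaleTopology.pullback_stable _ hS)
  refine hS'.isSeparatedFor.ext fun Z' e he => ?_
  rw [← Functor.map_comp_apply, ← Functor.map_comp_apply, ← op_comp]
  exact (h₁ _ (hle _ he)).trans (h₂ _ (hle _ he)).symm

include hzar hsing in
lemma isSheafFor_affine (U : X.Etale) [IsAffine U.left] (S : Sieve U) (hS : S ∈ X.smallEtaleTopology U) :
    Presieve.IsSheafFor F (S : Presieve U) := by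
  obtain ⟨S', hle, hS'mem, hS'⟩ := exists_subsieve F hzar hsing U S hS
  exact Presieve.isSheafFor_subsieve_aux F hle hS' fun Z f _ =>
    isSeparatedFor_of_mem F hzar hsing Z _ (X.smallEtaleTopology.pullback_stable f hS'mem)

include hzar hsing in
lemma isSheaf_etale : Presieve.IsSheaf X.smallEtaleTopology F := by
  intro U S hS
  rw [← Presieve.isSeparatedFor_and_exists_isAmalgamation_iff_isSheafFor]
  refine ⟨isSeparatedFor_of_mem F hzar hsing U S hS, fun x hx => ?_⟩
  have hW : ∀ W : U.left.affineOpens, ∃ y : F.obj (op (openObj U W.1)),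
      ∀ ⦃Z : X.Etale⦄ (e : Z ⟶ openObj U W.1) (he : S (e ≫ openHom U W.1)),
        F.map e.op y = x (e ≫ openHom U W.1) he := by
    intro W
    obtain ⟨y, hy, -⟩ := isSheafFor_affine F hzar hsing (openObj U W.1) (S.pullback (openHom U W.1))
      (X.smallEtaleTopology.pullback_stable _ hS) (fun Z e he => x (e ≫ openHom U W.1) he)
      (fun Z₁ Z₂ Z g₁ g₂ f₁ f₂ h₁ h₂ e => hx g₁ g₂ h₁ h₂ (by rw [← Category.assoc, e, Category.assoc]))
    exact ⟨y, hy⟩
  choose y hy using hW
  have hcov := hzar _ (affSieve_mem U)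
  rw [affSieve, ← Presieve.isSheafFor_iff_generate, Presieve.isSheafFor_arrows_iff] at hcov
  obtain ⟨s, hs, -⟩ := hcov y fun W W' Z p q e => by
    refine (isSeparatedFor_of_mem F hzar hsing Z (S.pullback (p ≫ openHom U W.1))
      (X.smallEtaleTopology.pullback_stable _ hS)).ext fun Z' e' he' => ?_
    have he1 : S ((e' ≫ p) ≫ openHom U W.1) := by rw [Category.assoc]; exact he'
    have he2 : S ((e' ≫ q) ≫ openHom U W'.1) := by rw [Category.assoc, ← e]; exact he'
    rw [← Functor.map_comp_apply, ← Functor.map_comp_apply, ← op_comp, ← op_comp, hy W _ he1, hy W' _ he2]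
    congr 1
    rw [Category.assoc, Category.assoc, e]
  refine ⟨s, fun Z h hh => ?_⟩
  refine ((hzar _ ((zar X).pullback_stable h (affSieve_mem U)))).isSeparatedFor.ext ?_
  rintro Z' e ⟨_, k, _, ⟨W⟩, he⟩
  have h1 : S (k ≫ openHom U W.1) := by rw [he]; exact S.downward_closed hh e
  rw [← Functor.map_comp_apply, ← op_comp, ← he, op_comp, Functor.map_comp_apply, hs W, hy W k h1]
  have h2 := hx (𝟙 Z') e h1 hh (by rw [Category.id_comp]; exact he)
  simpa using h2

set_option backward.isDefEq.respectTransparency.types false in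
theorem isSheaf_iff :
    Presieve.IsSheaf X.smallEtaleTopology F ↔
      Presieve.IsSheaf (zar X) F ∧
        ∀ (U V : X.Etale) [IsAffine U.left] [IsAffine V.left] (f : V ⟶ U) [Surjective f.left],
          Presieve.IsSheafFor F (Presieve.singleton f) := by
  refine ⟨fun h => ⟨fun U R hR => h R ?_, fun U V _ _ f _ => ?_⟩, fun h => isSheaf_etale F h.1 h.2⟩
  · rw [mem_topology_iff]
    intro x
    obtain ⟨Y, f, y, hf, -, hy⟩ := (mem_zar_iff R).1 hR x
    exact ⟨Y, f, y, hf, hy⟩
  · rw [Presieve.isSheafFor_iff_generate]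
    refine h _ ?_
    rw [mem_topology_iff]
    intro x
    obtain ⟨v, hv⟩ := f.left.surjective x
    exact ⟨V, f, v, Sieve.le_generate _ _ _ (Presieve.singleton_self f), hv⟩

end Groth.EtaleBase.AffCrit
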