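import Groth.Agent.EtaleBase.CechInjective
import Groth.Agent.EtaleBase.Stalks
import Mathlib.CategoryTheory.Limits.Preserves.Shapes.Over
import Mathlib.CategoryTheory.Limits.Preserves.Shapes.Products

/-!
Čech cohomology in explicit terms: short exact sequences, gluing from vanishing of `Ȟ¹`, change of
site along a left exact functor.
-/

set_option autoImplicit false

universe w v u v' u'

open CategoryTheory CategoryTheory.Limits Opposite

namespace Groth.EtaleBase.CechInj

variable {C : Type u} [Category.{v} C] [LocallySmall.{w} C] {U : C} {ι : Type w} {Uf : ι → Over U}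
variable [HasFiniteProducts (Over U)]
variable {P Q R : Cᵒᵖ ⥤ AddCommGrpCat.{w}}

/-- Čech cohomology vanishes in a positive degree iff every cocycle is a coboundary. -/
theorem isZero_cechH_iff (I : Cᵒᵖ ⥤ AddCommGrpCat.{w}) (n : ℕ) :
    IsZero (EtCech.cechH Uf I (n + 1)) ↔
      ∀ c : Coch (Uf := Uf) I (n + 1), coboundary I c = 0 → ∃ b, coboundary I b = c := by
  rw [← HomologicalComplex.exactAt_iff_isZero_homology,
    HomologicalComplex.exactAt_iff' _ n (n + 1) (n + 2) (by simp) (by simp),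
    ShortComplex.ab_exact_iff]
  constructor
  · intro h c hc
    obtain ⟨s, rfl⟩ := (comp'_bijective I (n + 1)).2 c
    obtain ⟨b, hb⟩ := h s ((comp'_bijective I (n + 2)).1
      ((comp'_d I (n + 1) s).trans (hc.trans (funext fun σ => (map_zero _).symm))))
    exact ⟨comp' I n b, (comp'_d I n b).symm.trans (congrArg (comp' I (n + 1)) hb)⟩
  · intro h s hs
    obtain ⟨b, hb⟩ := h (comp' (Uf := Uf) I (n + 1) s) ((comp'_d I (n + 1) s).symm.trans
      ((congrArg (comp' I (n + 2)) hs).trans (funext fun σ => map_zero _)))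
    obtain ⟨b, rfl⟩ := (comp'_bijective I n).2 b
    exact ⟨b, (comp'_bijective I (n + 1)).1 ((comp'_d I n b).trans hb)⟩

omit [LocallySmall.{w} C] in
lemma coboundary_sub (I : Cᵒᵖ ⥤ AddCommGrpCat.{w}) {n : ℕ} (a b : Coch (Uf := Uf) I n) :
    coboundary I (a - b) = coboundary I a - coboundary I b := by
  funext σ
  simp [coboundary, Finset.sum_sub_distrib, zsmul_sub]

lemma coboundary_coboundary (I : Cᵒᵖ ⥤ AddCommGrpCat.{w}) {n : ℕ} (c : Coch (Uf := Uf) I n) :
    coboundary I (coboundary I c) = 0 := by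
  obtain ⟨s, rfl⟩ := (comp'_bijective I n).2 c
  rw [← comp'_d, ← comp'_d]
  have h : (EtCech.cechComplex Uf I).d (n + 1) (n + 1 + 1)
      ((EtCech.cechComplex Uf I).d n (n + 1) s) = 0 :=
    ConcreteCategory.congr_hom ((EtCech.cechComplex Uf I).d_comp_d n (n + 1) (n + 1 + 1)) s
  rw [h]
  exact funext fun σ => map_zero _

omit [LocallySmall.{w} C] in
lemma coboundary_map (φ : P ⟶ Q) {n : ℕ} (c : Coch (Uf := Uf) P n) (σ : Fin (n + 2) → ι) :
    coboundary Q (fun τ => φ.app _ (c τ)) σ = φ.app _ (coboundary P c σ) := by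
  refine Eq.trans ?_ (map_sum (φ.app _).hom _ _).symm
  refine Finset.sum_congr rfl fun j _ => ?_
  refine Eq.trans ?_ (map_zsmul (φ.app _).hom _ _).symm
  exact congrArg _ (NatTrans.naturality_apply φ (δW σ j).op (c _)).symm

variable (f : P ⟶ Q) (g : Q ⟶ R)

/-- The long exact sequence piece for a pointwise short exact sequence of presheaves. -/
theorem isZero_cechH_of_exact (hinj : ∀ Z, Function.Injective (f.app Z))
    (hex : ∀ (Z) (x : Q.obj Z), g.app Z x = 0 → ∃ y, f.app Z y = x)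
    (hfg : ∀ (Z) (y : P.obj Z), g.app Z (f.app Z y) = 0)
    (hsurj : ∀ Z, Function.Surjective (g.app Z)) (n : ℕ)
    (hP : IsZero (EtCech.cechH Uf P (n + 2))) (hQ : IsZero (EtCech.cechH Uf Q (n + 1))) :
    IsZero (EtCech.cechH Uf R (n + 1)) := by
  rw [isZero_cechH_iff] at hP hQ ⊢
  intro c hc
  choose b hb using fun σ : Fin (n + 2) → ι => hsurj _ (c σ)
  have hgb : ∀ σ, g.app _ (coboundary Q b σ) = 0 := fun σ => by
    rw [← coboundary_map g b σ, funext hb]
    exact congrFun hc σ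
  choose e he using fun σ => hex _ _ (hgb σ)
  obtain ⟨k, hk⟩ := hP e (funext fun τ => hinj _ (by
    rw [← coboundary_map f e τ, funext he, coboundary_coboundary]
    exact (map_zero _).symm))
  have hz : coboundary Q (b - fun σ => f.app _ (k σ)) = 0 := by
    rw [coboundary_sub, sub_eq_zero]
    funext σ
    rw [coboundary_map f k σ, hk]
    exact (he σ).symm
  obtain ⟨h, hh⟩ := hQ _ hz
  refine ⟨fun τ => g.app _ (h τ), funext fun σ => ?_⟩
  rw [coboundary_map g h σ, hh]
  exact (map_sub (g.app _).hom _ _).trans (by rw [hfg, sub_zero]; exact hb σ)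

omit [HasFiniteProducts (Over U)] in
lemma hom_mk (i : ι) {Z : C} (h : Z ⟶ (Uf i).left) :
    Vx.hom (Uf := Uf) (Z := Z) ⟨i, equivShrink _ h⟩ = h :=
  Equiv.symm_apply_apply _ _

/-- The simplex with one vertex. -/
noncomputable def single (i : ι) {Z : C} (h : Z ⟶ (Uf i).left) : T Uf 0 Z :=
  ⟨fun _ => ⟨i, equivShrink _ h⟩, fun _ _ => rfl⟩

lemma comp_single (i : ι) {Z : C} (h : Z ⟶ (Uf i).left) :
    T.comp h (single (Uf := Uf) i (𝟙 _)) = single i h := by
  refine Subtype.ext (funext fun a => Vx.ext' ?_)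
  refine (Vx.hom_comp h _).trans ?_
  exact ((congrArg (h ≫ ·) (hom_mk i (𝟙 _))).trans (Category.comp_id h)).trans (hom_mk i h).symm

/-- If `Ȟ¹` of the kernel vanishes, local lifts can be corrected to a compatible family of local
lifts. -/
theorem exists_compatible_lifts (hinj : ∀ Z, Function.Injective (f.app Z))
    (hex : ∀ (Z) (x : Q.obj Z), g.app Z x = 0 → ∃ y, f.app Z y = x)
    (hfg : ∀ (Z) (y : P.obj Z), g.app Z (f.app Z y) = 0)
    (hP : IsZero (EtCech.cechH Uf P 1)) (s : R.obj (op U))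
    (t : ∀ i, Q.obj (op (Uf i).left)) (ht : ∀ i, g.app _ (t i) = R.map (Uf i).hom.op s) :
    ∃ t' : ∀ i, Q.obj (op (Uf i).left), (∀ i, g.app _ (t' i) = R.map (Uf i).hom.op s) ∧
      ∀ (i j : ι) (Z : C) (a : Z ⟶ (Uf i).left) (b : Z ⟶ (Uf j).left),
        a ≫ (Uf i).hom = b ≫ (Uf j).hom → Q.map a.op (t' i) = Q.map b.op (t' j) := by
  rw [isZero_cechH_iff] at hP
  let t0 : Coch (Uf := Uf) Q 0 := fun σ => Q.map (proj σ 0).op (t (σ 0))
  have hg0 : ∀ σ : Fin 1 → ι, g.app _ (t0 σ) = R.map (∏ᶜ (Uf ∘ σ)).hom.op s := fun σ => by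
    refine (NatTrans.naturality_apply g (proj σ 0).op (t (σ 0))).trans ?_
    refine (congrArg (R.map (proj σ 0).op) (ht (σ 0))).trans ?_
    rw [← proj_hom σ 0, op_comp, Functor.map_comp]
    rfl
  have hgc : ∀ σ : Fin 2 → ι, g.app _ (coboundary Q t0 σ) = 0 := fun σ => by
    rw [← coboundary_map g t0 σ, funext hg0]
    show ∑ j : Fin 2, _ = _
    rw [Fin.sum_univ_two]
    have e : ∀ j : Fin 2, R.map (δW σ j).op (R.map (∏ᶜ (Uf ∘ (σ ∘ j.succAbove))).hom.op s) =
        R.map (∏ᶜ (Uf ∘ σ)).hom.op s := fun j => by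
      have hw : δW σ j ≫ (∏ᶜ (Uf ∘ (σ ∘ j.succAbove))).hom = (∏ᶜ (Uf ∘ σ)).hom :=
        Over.w (Pi.lift fun a => Pi.π (Uf ∘ σ) (j.succAbove a))
      rw [← hw, op_comp, Functor.map_comp]
      rfl
    rw [e 0, e 1]
    simp
  choose c hc using fun σ => hex _ _ (hgc σ)
  obtain ⟨e, he⟩ := hP c (funext fun τ => hinj _ (by
    rw [← coboundary_map f c τ, funext hc, coboundary_coboundary]
    exact (map_zero _).symm))
  let t1 : Coch (Uf := Uf) Q 0 := t0 - fun σ => f.app _ (e σ)
  have h1 : coboundary Q t1 = 0 := by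
    rw [coboundary_sub, sub_eq_zero]
    funext σ
    rw [coboundary_map f e σ, he]
    exact (hc σ).symm
  have hg1 : ∀ σ : Fin 1 → ι, g.app _ (t1 σ) = R.map (∏ᶜ (Uf ∘ σ)).hom.op s := fun σ => by
    refine (map_sub (g.app _).hom _ _).trans ?_
    rw [hfg, sub_zero]
    exact hg0 σ
  let val : ∀ {Z : C}, T Uf 0 Z → Q.obj (op Z) :=
    fun {Z} x => (ofCoch Q t1).app (op Z) (FreeAbelianGroup.of x)
  refine ⟨fun i => val (single i (𝟙 _)), fun i => ?_, fun i j Z a b hab => ?_⟩
  · refine (congrArg (g.app _) (ofCoch_of Q t1 _)).trans ?_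
    refine (NatTrans.naturality_apply g _ _).trans ?_
    refine (congrArg (R.map _) (hg1 _)).trans ?_
    refine (ConcreteCategory.congr_hom (R.map_comp _ _) s).symm.trans ?_
    rw [← op_comp]
    have : classify (single (Uf := Uf) i (𝟙 _)) ≫ (∏ᶜ (Uf ∘ fun a => ((single (Uf := Uf) i (𝟙 _)).1 a).1)).hom =
        (Uf i).hom := by
      rw [← proj_hom _ (0 : Fin 1), ← Category.assoc, classify_proj]
      exact (congrArg (· ≫ (Uf i).hom) (hom_mk i (𝟙 _))).trans (Category.id_comp _)
    rw [this]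
  · have nat : ∀ {i' : ι} (h : Z ⟶ (Uf i').left),
        Q.map h.op (val (single i' (𝟙 _))) = val (single i' h) := fun {i'} h => by
      refine (NatTrans.naturality_apply (ofCoch Q t1) h.op _).symm.trans ?_
      refine congrArg ((ofCoch Q t1).app (op Z)) ?_
      exact (FreeAbelianGroup.map_of_apply (f := T.comp h) (single (Uf := Uf) i' (𝟙 _))).trans
        (congrArg FreeAbelianGroup.of (comp_single i' h))
    rw [nat a, nat b]
    let vb : Vx Uf Z := ⟨j, equivShrink _ b⟩
    let va : Vx Uf Z := ⟨i, equivShrink _ a⟩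
    let x : T Uf 1 Z := ⟨![vb, va], fun p q => by
      have key : ∀ r : Fin 2, Vx.str (Uf := Uf) (![vb, va] r) = a ≫ (Uf i).hom := fun r => by
        fin_cases r
        · exact (congrArg (· ≫ (Uf j).hom) (hom_mk j b)).trans hab.symm
        · exact congrArg (· ≫ (Uf i).hom) (hom_mk i a)
      exact (key p).trans (key q).symm⟩
    have k := ofCoch_kills Q t1 h1 Z (FreeAbelianGroup.of x)
    rw [bd_of] at k
    rw [Fin.sum_univ_two] at k
    have f0 : face 0 x = single i a := Subtype.ext (funext fun r => by fin_cases r; rfl)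
    have f1 : face 1 x = single j b := Subtype.ext (funext fun r => by fin_cases r; rfl)
    rw [f0, f1] at k
    simp only [Fin.val_zero, Fin.val_one, pow_zero, pow_one, one_zsmul, neg_one_zsmul] at k
    rw [← sub_eq_add_neg] at k
    exact eq_of_sub_eq_zero ((map_sub ((ofCoch Q t1).app (op Z)).hom _ _).symm.trans k)

section ChangeSite

variable {D : Type u'} [Category.{v'} D] [LocallySmall.{w} D] (G : C ⥤ D) [PreservesFiniteLimits G]
variable [HasFiniteProducts (Over (G.obj U))] (M : Dᵒᵖ ⥤ AddCommGrpCat.{w})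

/-- The image of the family. -/
noncomputable abbrev imgFam (Uf : ι → Over U) : ι → Over (G.obj U) :=
  fun i => (Over.post G).obj (Uf i)

omit [LocallySmall.{w} C] [LocallySmall.{w} D] in
lemma exists_iso {n : ℕ} (σ : Fin (n + 1) → ι) :
    ∃ e : G.obj (W (Uf := Uf) σ) ≅ W (Uf := imgFam G Uf) σ,
      ∀ a, e.hom ≫ proj (Uf := imgFam G Uf) σ a = G.map (proj σ a) := by
  let e := PreservesProduct.iso (Over.post G) (Uf ∘ σ)
  refine ⟨(Over.forget _).mapIso e, fun a => ?_⟩
  have h : e.hom ≫ Pi.π (fun b => (Over.post G).obj ((Uf ∘ σ) b)) a =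
      (Over.post G).map (Pi.π (Uf ∘ σ) a) := by
    rw [PreservesProduct.iso_hom, piComparison_comp_π]
  exact congrArg CommaMorphism.left h

/-- Left exact change of site preserves vanishing of positive Čech cohomology. -/
theorem isZero_cechH_comp (n : ℕ) (h : IsZero (EtCech.cechH (imgFam G Uf) M (n + 1))) :
    IsZero (EtCech.cechH Uf (G.op ⋙ M) (n + 1)) := by
  rw [isZero_cechH_iff] at h ⊢
  choose e he using fun (m : ℕ) (σ : Fin (m + 1) → ι) => exists_iso (Uf := Uf) G σ
  let tr : ∀ {m : ℕ}, Coch (Uf := Uf) (G.op ⋙ M) m → Coch (Uf := imgFam G Uf) M m :=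
    fun {m} c σ => M.map (e m σ).inv.op (c σ)
  have hδ : ∀ (m : ℕ) (σ : Fin (m + 2) → ι) (j : Fin (m + 2)),
      δW (Uf := imgFam G Uf) σ j ≫ (e m (σ ∘ j.succAbove)).inv =
        (e (m + 1) σ).inv ≫ G.map (δW σ j) := fun m σ j => by
    rw [Iso.comp_inv_eq, Category.assoc, Iso.eq_inv_comp]
    refine hom_ext _ _ _ fun a => ?_
    refine ((Category.assoc _ _ _).trans ((congrArg ((e (m + 1) σ).hom ≫ ·) (δW_proj σ j a)).trans
      (he (m + 1) σ (j.succAbove a)))).trans ?_
    refine Eq.trans ?_ (Category.assoc _ _ _).symm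
    refine Eq.trans ?_ (congrArg (G.map (δW σ j) ≫ ·) (he m (σ ∘ j.succAbove) a).symm)
    exact (congrArg G.map (δW_proj σ j a).symm).trans (G.map_comp _ _)
  have htr : ∀ {m : ℕ} (c : Coch (Uf := Uf) (G.op ⋙ M) m) (σ : Fin (m + 2) → ι),
      coboundary M (tr c) σ = M.map (e (m + 1) σ).inv.op (coboundary (G.op ⋙ M) c σ) := by
    intro m c σ
    refine Eq.trans ?_ (map_sum (M.map (e (m + 1) σ).inv.op).hom _ _).symm
    refine Finset.sum_congr rfl fun j _ => ?_
    refine Eq.trans ?_ (map_zsmul (M.map (e (m + 1) σ).inv.op).hom _ _).symm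
    refine congrArg _ ((ConcreteCategory.congr_hom (M.map_comp _ _) _).symm.trans ?_)
    rw [← op_comp, hδ, op_comp]
    exact ConcreteCategory.congr_hom (M.map_comp _ _) _
  have back : ∀ {m : ℕ} (σ : Fin (m + 1) → ι) (x y : M.obj (op (G.obj (W (Uf := Uf) σ)))),
      M.map (e m σ).inv.op x = M.map (e m σ).inv.op y → x = y := fun σ x y hxy =>
    (ConcreteCategory.bijective_of_isIso (M.map (e _ σ).inv.op)).1 hxy
  intro c hc
  obtain ⟨b', hb'⟩ := h (tr c) (funext fun σ => by
    rw [htr, hc]; exact map_zero _)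
  have hb : ∀ σ, ∃ x, M.map (e n σ).inv.op x = b' σ := fun σ =>
    (ConcreteCategory.bijective_of_isIso (M.map (e n σ).inv.op)).2 (b' σ)
  choose b hb using hb
  refine ⟨b, funext fun σ => back σ _ _ ?_⟩
  rw [← htr, show tr b = b' from funext hb]
  exact congrFun hb' σ

end ChangeSite

end Groth.EtaleBase.CechInj
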