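import Groth.Prelude.Def_EtCech
import Mathlib.Algebra.Category.Grp.Adjunctions
import Mathlib.Algebra.Category.Grp.Abelian
import Mathlib.CategoryTheory.Abelian.FunctorCategory
import Mathlib.GroupTheory.FreeAbelianGroup

/-!
Čech cohomology of injective presheaves vanishes.
-/

set_option autoImplicit false

universe w v u

open CategoryTheory CategoryTheory.Limits Opposite

namespace Groth.EtaleBase.CechInj

variable {C : Type u} [Category.{v} C] [LocallySmall.{w} C] {U : C} {ι : Type w} (Uf : ι → Over U)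

/-- A member of the family with a map from `Z`. -/
abbrev Vx (Z : C) : Type w := Σ i : ι, Shrink.{w} (Z ⟶ (Uf i).left)

variable {Uf}

/-- The underlying map of a vertex. -/
noncomputable def Vx.hom {Z : C} (x : Vx Uf Z) : Z ⟶ (Uf x.1).left := (equivShrink _).symm x.2

/-- The composite to the base of a vertex. -/
noncomputable def Vx.str {Z : C} (x : Vx Uf Z) : Z ⟶ U := x.hom ≫ (Uf x.1).hom

/-- Precomposition of vertices. -/
noncomputable def Vx.comp {Z Z' : C} (g : Z' ⟶ Z) (x : Vx Uf Z) : Vx Uf Z' :=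
  ⟨x.1, equivShrink _ (g ≫ x.hom)⟩

lemma Vx.hom_comp {Z Z' : C} (g : Z' ⟶ Z) (x : Vx Uf Z) : (x.comp g).hom = g ≫ x.hom :=
  Equiv.symm_apply_apply _ _

lemma Vx.str_comp {Z Z' : C} (g : Z' ⟶ Z) (x : Vx Uf Z) : (x.comp g).str = g ≫ x.str :=
  (congrArg (· ≫ (Uf x.1).hom) (Vx.hom_comp g x)).trans (Category.assoc _ _ _)

lemma Vx.ext' {Z : C} {i : ι} {a b : Shrink.{w} (Z ⟶ (Uf i).left)}
    (h : Vx.hom (Uf := Uf) (Z := Z) ⟨i, a⟩ = Vx.hom (Uf := Uf) (Z := Z) ⟨i, b⟩) : (⟨i, a⟩ : Vx Uf Z) = ⟨i, b⟩ := by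
  rw [show a = b from (equivShrink _).symm.injective h]

variable (Uf)

/-- Simplices over `Z`: tuples of vertices over the same map to `U`. -/
def T (n : ℕ) (Z : C) : Type w :=
  { t : Fin (n + 1) → Vx Uf Z // ∀ a b, (t a).str = (t b).str }

variable {Uf}

/-- Faces. -/
def face {n : ℕ} {Z : C} (j : Fin (n + 2)) (t : T Uf (n + 1) Z) : T Uf n Z :=
  ⟨fun a => t.1 (j.succAbove a), fun _ _ => t.2 _ _⟩

/-- Precomposition of simplices. -/
noncomputable def T.comp {n : ℕ} {Z Z' : C} (g : Z' ⟶ Z) (t : T Uf n Z) : T Uf n Z' :=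
  ⟨fun a => (t.1 a).comp g, fun a b => by rw [Vx.str_comp, Vx.str_comp, t.2 a b]⟩

lemma T.comp_comp {n : ℕ} {Z Z' Z'' : C} (g : Z' ⟶ Z) (h : Z'' ⟶ Z') (t : T Uf n Z) :
    T.comp h (T.comp g t) = T.comp (h ≫ g) t := by
  refine Subtype.ext (funext fun a => ?_)
  show Vx.comp h (Vx.comp g (t.1 a)) = Vx.comp (h ≫ g) (t.1 a)
  refine Vx.ext' ?_
  refine (Vx.hom_comp h (Vx.comp g (t.1 a))).trans ?_
  refine Eq.trans ?_ (Vx.hom_comp (h ≫ g) (t.1 a)).symm
  rw [Category.assoc]
  exact congrArg (h ≫ ·) (Vx.hom_comp g (t.1 a))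

variable (Uf)

/-- The presheaf of free abelian groups on simplices. -/
noncomputable def K (n : ℕ) : Cᵒᵖ ⥤ AddCommGrpCat.{w} where
  obj Z := AddCommGrpCat.of (FreeAbelianGroup (T Uf n Z.unop))
  map g := AddCommGrpCat.ofHom (FreeAbelianGroup.map (T.comp g.unop))
  map_id Z := by
    ext : 1
    apply FreeAbelianGroup.lift_ext
    intro t
    show FreeAbelianGroup.map _ (FreeAbelianGroup.of t) = _
    rw [FreeAbelianGroup.map_of_apply]
    refine congrArg FreeAbelianGroup.of (Subtype.ext (funext fun a => Vx.ext' ?_))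
    exact (Vx.hom_comp _ _).trans (Category.id_comp _)
  map_comp {Z Z' Z''} g h := by
    ext : 1
    apply FreeAbelianGroup.lift_ext
    intro t
    show FreeAbelianGroup.map _ (FreeAbelianGroup.of t) =
      FreeAbelianGroup.map _ (FreeAbelianGroup.map _ (FreeAbelianGroup.of t))
    simp only [FreeAbelianGroup.map_of_apply]
    exact congrArg FreeAbelianGroup.of (T.comp_comp g.unop h.unop t).symm

variable {Uf}

/-- The differential on one simplex. -/
noncomputable def bd {n : ℕ} {Z : C} : FreeAbelianGroup (T Uf (n + 1) Z) →+ FreeAbelianGroup (T Uf n Z) :=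
  FreeAbelianGroup.lift fun t => ∑ j : Fin (n + 2), (-1 : ℤ) ^ (j : ℕ) • FreeAbelianGroup.of (face j t)

lemma bd_of {n : ℕ} {Z : C} (t : T Uf (n + 1) Z) :
    bd (FreeAbelianGroup.of t) = ∑ j : Fin (n + 2), (-1 : ℤ) ^ (j : ℕ) • FreeAbelianGroup.of (face j t) :=
  FreeAbelianGroup.lift_apply_of _ _

variable (Uf) in
/-- The differential. -/
noncomputable def d (n : ℕ) : K Uf (n + 1) ⟶ K Uf n where
  app Z := AddCommGrpCat.ofHom bd
  naturality Z Z' g := by
    ext : 1
    apply FreeAbelianGroup.lift_ext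
    intro t
    show bd (FreeAbelianGroup.map _ (FreeAbelianGroup.of t)) =
      FreeAbelianGroup.map _ (bd (FreeAbelianGroup.of t))
    rw [FreeAbelianGroup.map_of_apply, bd_of, bd_of, map_sum]
    refine Finset.sum_congr rfl fun j _ => ?_
    rw [map_zsmul, FreeAbelianGroup.map_of_apply]
    rfl

/-- A chosen vertex over a map to `U`. -/
noncomputable def basePt {Z : C} (g : Z ⟶ U) (h : ∃ x : Vx Uf Z, x.str = g) : Vx Uf Z := h.choose

/-- Prepend the chosen vertex. -/
noncomputable def cone {n : ℕ} {Z : C} (t : T Uf n Z) : T Uf (n + 1) Z :=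
  ⟨Fin.cons (basePt (t.1 0).str ⟨t.1 0, rfl⟩) t.1, by
    have key : ∀ a, (Fin.cons (α := fun _ => Vx Uf Z) (basePt (t.1 0).str ⟨t.1 0, rfl⟩) t.1 a).str =
        (t.1 0).str := by
      refine Fin.cases ?_ fun a => ?_
      · rw [Fin.cons_zero]
        exact (⟨t.1 0, rfl⟩ : ∃ x : Vx Uf Z, x.str = (t.1 0).str).choose_spec
      · rw [Fin.cons_succ]
        exact t.2 _ _
    exact fun a b => (key a).trans (key b).symm⟩

lemma basePt_congr {Z : C} {g g' : Z ⟶ U} (e : g = g') (h : ∃ x : Vx Uf Z, x.str = g)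
    (h' : ∃ x : Vx Uf Z, x.str = g') : basePt g h = basePt g' h' := by
  subst e; rfl

lemma face_zero_cone {n : ℕ} {Z : C} (t : T Uf n Z) : face 0 (cone t) = t :=
  Subtype.ext (funext fun a => by simp [face, cone])

lemma face_succ_cone {n : ℕ} {Z : C} (j : Fin (n + 2)) (t : T Uf (n + 1) Z) :
    face j.succ (cone t) = cone (face j t) := by
  refine Subtype.ext (funext fun a => ?_)
  refine Fin.cases ?_ (fun a => ?_) a
  · simp only [face, cone, Fin.succ_succAbove_zero, Fin.cons_zero]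
    exact basePt_congr (t.2 _ _) _ _
  · simp [face, cone, Fin.succ_succAbove_succ]

/-- Cycles are boundaries. -/
lemma exists_bd_eq {n : ℕ} {Z : C} (x : FreeAbelianGroup (T Uf (n + 1) Z)) (hx : bd x = 0) :
    ∃ y, bd y = x := by
  let s : ∀ m, FreeAbelianGroup (T Uf m Z) →+ FreeAbelianGroup (T Uf (m + 1) Z) :=
    fun _ => FreeAbelianGroup.map cone
  have key : (bd.comp (s (n + 1)) + (s n).comp bd) = AddMonoidHom.id (FreeAbelianGroup (T Uf (n + 1) Z)) := by
    apply FreeAbelianGroup.lift_ext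
    intro t
    show bd (s (n + 1) (FreeAbelianGroup.of t)) + s n (bd (FreeAbelianGroup.of t)) = _
    simp only [s, FreeAbelianGroup.map_of_apply, bd_of, map_sum, map_zsmul]
    rw [Fin.sum_univ_succ, add_assoc, ← Finset.sum_add_distrib]
    simp [face_zero_cone, face_succ_cone, pow_succ]
  refine ⟨s (n + 1) x, ?_⟩
  have := DFunLike.congr_fun key x
  simpa [hx] using this

variable [HasFiniteProducts (Over U)] (I : Cᵒᵖ ⥤ AddCommGrpCat.{w})

/-- The intersection of members of the family. -/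
noncomputable abbrev W {n : ℕ} (σ : Fin n → ι) : C := (∏ᶜ (Uf ∘ σ)).left

/-- Projections. -/
noncomputable abbrev proj {n : ℕ} (σ : Fin n → ι) (a : Fin n) : W (Uf := Uf) σ ⟶ (Uf (σ a)).left :=
  (Pi.π (Uf ∘ σ) a).left

omit [LocallySmall.{w} C] in
lemma proj_hom {n : ℕ} (σ : Fin n → ι) (a : Fin n) :
    proj (Uf := Uf) σ a ≫ (Uf (σ a)).hom = (∏ᶜ (Uf ∘ σ)).hom :=
  Over.w (Pi.π (Uf ∘ σ) a)

omit [LocallySmall.{w} C] in
lemma hom_ext {n : ℕ} {Z : C} (σ : Fin (n + 1) → ι) (f g : Z ⟶ W (Uf := Uf) σ)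
    (h : ∀ a, f ≫ proj σ a = g ≫ proj σ a) : f = g := by
  have hw : f ≫ (∏ᶜ (Uf ∘ σ)).hom = g ≫ (∏ᶜ (Uf ∘ σ)).hom := by
    rw [← proj_hom σ 0, ← Category.assoc, ← Category.assoc, h 0]
  let f' : Over.mk (g ≫ (∏ᶜ (Uf ∘ σ)).hom) ⟶ ∏ᶜ (Uf ∘ σ) := Over.homMk f hw
  let g' : Over.mk (g ≫ (∏ᶜ (Uf ∘ σ)).hom) ⟶ ∏ᶜ (Uf ∘ σ) := Over.homMk g rfl
  have : f' = g' := Pi.hom_ext _ _ fun a => Over.OverMorphism.ext (h a)
  exact congrArg CommaMorphism.left this

/-- The map to the intersection classifying a simplex. -/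
noncomputable def classify {n : ℕ} {Z : C} (t : T Uf n Z) : Z ⟶ W (Uf := Uf) fun a => (t.1 a).1 :=
  (Pi.lift fun a => (Over.homMk (t.1 a).hom (t.2 a 0) :
    Over.mk (t.1 0).str ⟶ (Uf ∘ fun a => (t.1 a).1) a)).left

lemma classify_proj {n : ℕ} {Z : C} (t : T Uf n Z) (a : Fin (n + 1)) :
    classify t ≫ proj (fun a => (t.1 a).1) a = (t.1 a).hom :=
  congrArg CommaMorphism.left
    (Pi.lift_π (fun a => (Over.homMk (t.1 a).hom (t.2 a 0) :
      Over.mk (t.1 0).str ⟶ (Uf ∘ fun a => (t.1 a).1) a)) a)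

/-- The universal simplex. -/
noncomputable def univT {n : ℕ} (σ : Fin (n + 1) → ι) : T Uf n (W (Uf := Uf) σ) :=
  ⟨fun a => ⟨σ a, equivShrink _ (proj σ a)⟩, fun a b => by
    simp only [Vx.str, Vx.hom, Equiv.symm_apply_apply]
    exact (proj_hom σ a).trans (proj_hom σ b).symm⟩

lemma univT_hom {n : ℕ} (σ : Fin (n + 1) → ι) (a : Fin (n + 1)) :
    ((univT (Uf := Uf) σ).1 a).hom = proj σ a :=
  Equiv.symm_apply_apply _ _

/-- The face maps of intersections. -/
noncomputable def δW {n : ℕ} (σ : Fin (n + 2) → ι) (j : Fin (n + 2)) :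
    W (Uf := Uf) σ ⟶ W (Uf := Uf) (σ ∘ j.succAbove) :=
  (Pi.lift fun a => Pi.π (Uf ∘ σ) (j.succAbove a)).left

omit [LocallySmall.{w} C] in
lemma δW_proj {n : ℕ} (σ : Fin (n + 2) → ι) (j : Fin (n + 2)) (a : Fin (n + 1)) :
    δW (Uf := Uf) σ j ≫ proj (σ ∘ j.succAbove) a = proj σ (j.succAbove a) :=
  congrArg CommaMorphism.left
    (Pi.lift_π (fun a => Pi.π (Uf ∘ σ) (j.succAbove a)) a)

/-- Cochains of `I`. -/
abbrev Coch (n : ℕ) : Type w := ∀ σ : Fin (n + 1) → ι, I.obj (op (W (Uf := Uf) σ))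

/-- The morphism out of `K n` given by a cochain. -/
noncomputable def ofCoch {n : ℕ} (c : Coch (Uf := Uf) I n) : K Uf n ⟶ I where
  app Z := AddCommGrpCat.ofHom (FreeAbelianGroup.lift fun t =>
    I.map (classify t).op (c fun a => (t.1 a).1))
  naturality Z Z' g := by
    ext : 1
    apply FreeAbelianGroup.lift_ext
    intro t
    show FreeAbelianGroup.lift _ (FreeAbelianGroup.map _ (FreeAbelianGroup.of t)) =
      I.map g (FreeAbelianGroup.lift _ (FreeAbelianGroup.of t))
    rw [FreeAbelianGroup.map_of_apply, FreeAbelianGroup.lift_apply_of, FreeAbelianGroup.lift_apply_of,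
      ← ConcreteCategory.comp_apply, ← Functor.map_comp]
    have : classify (T.comp g.unop t) = g.unop ≫ classify t :=
      hom_ext _ _ _ fun a => (classify_proj (T.comp g.unop t) a).trans ((Vx.hom_comp _ _).trans
        ((congrArg (g.unop ≫ ·) (classify_proj t a).symm).trans (Category.assoc _ _ _).symm))
    rw [this]
    rfl

lemma ofCoch_of {n : ℕ} (c : Coch (Uf := Uf) I n) {Z : C} (t : T Uf n Z) :
    (ofCoch I c).app (op Z) (FreeAbelianGroup.of t) = I.map (classify t).op (c fun a => (t.1 a).1) :=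
  FreeAbelianGroup.lift_apply_of _ _

/-- The coboundary. -/
noncomputable def coboundary {n : ℕ} (c : Coch (Uf := Uf) I n) : Coch (Uf := Uf) I (n + 1) :=
  fun σ => ∑ j : Fin (n + 2), (-1 : ℤ) ^ (j : ℕ) • I.map (δW σ j).op (c (σ ∘ j.succAbove))

lemma classify_face {n : ℕ} {Z : C} (j : Fin (n + 2)) (t : T Uf (n + 1) Z) :
    classify (face j t) = classify t ≫ δW (fun a => (t.1 a).1) j :=
  hom_ext _ _ _ fun a => (classify_proj (face j t) a).trans ((classify_proj t (j.succAbove a)).symm.trans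
    ((congrArg (classify t ≫ ·) (δW_proj (fun a => (t.1 a).1) j a).symm).trans (Category.assoc _ _ _).symm))

lemma ofCoch_bd {n : ℕ} (c : Coch (Uf := Uf) I n) {Z : C} (t : T Uf (n + 1) Z) :
    (ofCoch I c).app (op Z) (bd (FreeAbelianGroup.of t)) =
      I.map (classify t).op (coboundary I c fun a => (t.1 a).1) := by
  rw [bd_of]
  refine (map_sum ((ofCoch I c).app (op Z)).hom _ _).trans ?_
  refine Eq.trans ?_ (map_sum (I.map (classify t).op).hom _ _).symm
  refine Finset.sum_congr rfl fun j _ => ?_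
  refine (map_zsmul ((ofCoch I c).app (op Z)).hom _ _).trans ?_
  refine Eq.trans ?_ (map_zsmul (I.map (classify t).op).hom _ _).symm
  refine congrArg _ ((ofCoch_of I c (face j t)).trans ?_)
  rw [classify_face]
  exact ConcreteCategory.congr_hom (I.map_comp (δW (fun a => (t.1 a).1) j).op (classify t).op) _

lemma ofCoch_kills {n : ℕ} (c : Coch (Uf := Uf) I n) (hc : coboundary I c = 0) (Z : C)
    (y : FreeAbelianGroup (T Uf (n + 1) Z)) : (ofCoch I c).app (op Z) (bd y) = 0 := by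
  have : ((ofCoch I c).app (op Z)).hom.comp (bd (n := n)) = 0 := by
    apply FreeAbelianGroup.lift_ext
    intro t
    refine (ofCoch_bd I c t).trans ?_
    rw [hc]
    exact map_zero _
  exact DFunLike.congr_fun this y

lemma kernel_ofCoch {n : ℕ} (c : Coch (Uf := Uf) I (n + 1)) (hc : coboundary I c = 0) :
    kernel.ι (d Uf n) ≫ ofCoch I c = 0 := by
  ext Z z
  have h1 : bd ((kernel.ι (d Uf n)).app Z z) = 0 :=
    congrArg (fun m : kernel (d Uf n) ⟶ K Uf n => m.app Z z) (kernel.condition (d Uf n))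
  obtain ⟨y, hy⟩ := exists_bd_eq _ h1
  show (ofCoch I c).app Z ((kernel.ι (d Uf n)).app Z z) = 0
  exact (congrArg ((ofCoch I c).app Z) hy).symm.trans (ofCoch_kills I c hc _ y)

lemma univT_face {n : ℕ} (σ : Fin (n + 2) → ι) (j : Fin (n + 2)) :
    T.comp (δW σ j) (univT (Uf := Uf) (σ ∘ j.succAbove)) = face j (univT σ) := by
  refine Subtype.ext (funext fun a => Vx.ext' ?_)
  refine (Vx.hom_comp (δW σ j) _).trans ?_
  rw [univT_hom]
  exact (δW_proj σ j a).trans (univT_hom σ (j.succAbove a)).symm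

lemma app_bd_univT {n : ℕ} (φ : K Uf n ⟶ I) (σ : Fin (n + 2) → ι) :
    φ.app (op (W (Uf := Uf) σ)) (bd (FreeAbelianGroup.of (univT σ))) =
      coboundary I (fun τ => φ.app (op (W (Uf := Uf) τ)) (FreeAbelianGroup.of (univT τ))) σ := by
  rw [bd_of]
  refine (map_sum (φ.app (op (W (Uf := Uf) σ))).hom _ _).trans (Finset.sum_congr rfl fun j _ => ?_)
  refine (map_zsmul (φ.app (op (W (Uf := Uf) σ))).hom _ _).trans ?_
  refine congrArg (((-1 : ℤ) ^ (j : ℕ)) • ·) ?_
  refine Eq.trans (congrArg _ ?_) (NatTrans.naturality_apply φ (δW σ j).op _)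
  exact ((FreeAbelianGroup.map_of_apply (f := T.comp (δW σ j)) (univT (σ ∘ j.succAbove))).trans
    (congrArg FreeAbelianGroup.of (univT_face σ j))).symm

lemma ofCoch_univT {n : ℕ} (c : Coch (Uf := Uf) I n) (σ : Fin (n + 1) → ι) :
    (ofCoch I c).app (op (W (Uf := Uf) σ)) (FreeAbelianGroup.of (univT σ)) = c σ := by
  have hid : classify (univT (Uf := Uf) σ) = 𝟙 (W (Uf := Uf) σ) :=
    hom_ext _ _ _ fun a => ((classify_proj (univT σ) a).trans (univT_hom σ a)).trans
      (Category.id_comp _).symm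
  refine (ofCoch_of I c (univT σ)).trans ?_
  rw [hid]
  exact ConcreteCategory.congr_hom (I.map_id (op (W (Uf := Uf) σ))) (c σ)

/-- The Čech complex of an injective presheaf is exact in positive degrees. -/
theorem exists_coboundary_eq [Injective I] {n : ℕ} (c : Coch (Uf := Uf) I (n + 1))
    (hc : coboundary I c = 0) : ∃ b, coboundary I b = c := by
  have hS : (ShortComplex.mk (kernel.ι (d Uf n)) (d Uf n) (kernel.condition _)).Exact :=
    ShortComplex.exact_of_f_is_kernel _ (kernelIsKernel _)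
  obtain ⟨φ, hφ⟩ : ∃ φ : K Uf n ⟶ I, d Uf n ≫ φ = ofCoch I c :=
    ⟨hS.descToInjective (ofCoch I c) (kernel_ofCoch I c hc), hS.comp_descToInjective _ _⟩
  refine ⟨_, funext fun σ => ((app_bd_univT I φ σ).symm.trans ?_).trans (ofCoch_univT I c σ)⟩
  rw [← hφ]
  rfl

/-- The factors of the Čech complex. -/
noncomputable abbrev tupleObj (n : ℕ) : (Fin (n + 1) → ι) → AddCommGrpCat.{w} :=
  fun σ => I.obj (op (W (Uf := Uf) σ))

/-- Components of a cochain of the categorical Čech complex. -/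
noncomputable def comp' (n : ℕ) (s : (EtCech.cechComplex Uf I).X n) : Coch (Uf := Uf) I n :=
  fun σ => Pi.π (tupleObj (Uf := Uf) I n) σ s

lemma comp'_bijective (n : ℕ) : Function.Bijective (comp' (Uf := Uf) I n) :=
  by
  have e : comp' (Uf := Uf) I n = fun s => Limits.Concrete.productEquiv (tupleObj (Uf := Uf) I n) s :=
    funext fun s => funext fun σ =>
      (Limits.Concrete.productEquiv_apply_apply (tupleObj (Uf := Uf) I n) s σ).symm
  rw [e]
  exact (Limits.Concrete.productEquiv (tupleObj (Uf := Uf) I n)).bijective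

lemma hom_sum_apply' {α : Type*} {A B : AddCommGrpCat.{w}} (s : Finset α) (f : α → (A ⟶ B))
    (x : A) : (∑ a ∈ s, f a) x = ∑ a ∈ s, f a x :=
  map_sum (({ toFun := fun φ => φ x, map_zero' := rfl, map_add' := fun _ _ => rfl } :
    (A ⟶ B) →+ B)) f s

lemma hom_zsmul_apply' {A B : AddCommGrpCat.{w}} (c : ℤ) (f : A ⟶ B) (x : A) :
    (c • f) x = c • f x := rfl

lemma comp'_d (n : ℕ) (s : (EtCech.cechComplex Uf I).X n) :
    comp' I (n + 1) ((EtCech.cechComplex Uf I).d n (n + 1) s) = coboundary I (comp' I n s) := by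
  funext σ
  have hd : (EtCech.cechComplex Uf I).d n (n + 1) =
      AlgebraicTopology.AlternatingCofaceMapComplex.objD
        ((FormalCoproduct.cosimplicialObjectFunctor (FormalCoproduct.mk _ Uf).cech).obj
          ((Over.forget U).op ⋙ I)) n :=
    CochainComplex.of_d _ (AlgebraicTopology.AlternatingCofaceMapComplex.objD
      ((FormalCoproduct.cosimplicialObjectFunctor (FormalCoproduct.mk _ Uf).cech).obj
          ((Over.forget U).op ⋙ I))) n
  show Pi.π (tupleObj (Uf := Uf) I (n + 1)) σ _ = ∑ j, _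
  rw [hd, AlgebraicTopology.AlternatingCofaceMapComplex.objD]
  erw [hom_sum_apply', map_sum]
  refine Finset.sum_congr rfl fun j _ => ?_
  erw [hom_zsmul_apply', map_zsmul]
  refine congrArg _ ?_
  have h : ((FormalCoproduct.cosimplicialObjectFunctor (FormalCoproduct.mk _ Uf).cech).obj
      ((Over.forget U).op ⋙ I)).δ j ≫ Pi.π (tupleObj (Uf := Uf) I (n + 1)) σ =
      Pi.π (tupleObj (Uf := Uf) I n) (σ ∘ j.succAbove) ≫ I.map (δW σ j).op :=
    Pi.lift_π _ _
  exact ConcreteCategory.congr_hom h s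

/-- Čech cohomology of an injective presheaf vanishes in positive degrees. -/
theorem isZero_cechH [Injective I] (p : ℕ) : IsZero (EtCech.cechH Uf I (p + 1)) := by
  rw [← HomologicalComplex.exactAt_iff_isZero_homology,
    HomologicalComplex.exactAt_iff' _ p (p + 1) (p + 2) (by simp) (by simp),
    ShortComplex.ab_exact_iff]
  intro s hs
  have h0 : coboundary I (comp' (Uf := Uf) I (p + 1) s) = 0 :=
    (comp'_d I (p + 1) s).symm.trans ((congrArg (comp' I (p + 2)) hs).trans
      (funext fun σ => map_zero _))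
  obtain ⟨b, hb⟩ := exists_coboundary_eq I _ h0
  obtain ⟨b, rfl⟩ := (comp'_bijective I p).2 b
  exact ⟨b, (comp'_bijective I (p + 1)).1 ((comp'_d I p b).trans hb)⟩

end Groth.EtaleBase.CechInj
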