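import Groth.Prelude.Def_EtBC2
import Groth.Agent.CohBase.DerivedShift

/-!
The first edge map of a composite is invertible on acyclic objects.
-/

set_option autoImplicit false

universe v₁ v₂ v₃ u₁ u₂ u₃

open CategoryTheory CategoryTheory.Limits

namespace Groth.EtaleBase

variable {A : Type u₁} [Category.{v₁} A] [Abelian A] [HasInjectiveResolutions A]
  {B : Type u₂} [Category.{v₂} B] [Abelian B] [HasInjectiveResolutions B]
  {C : Type u₃} [Category.{v₃} C] [Abelian C]

/-- If the higher derived functors of `Φ` vanish on `X`, the edge map is an isomorphism. -/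
theorem isIso_edgeIn (Φ : A ⥤ B) [Φ.Additive] [Φ.PreservesInjectiveObjects] [PreservesFiniteLimits Φ]
    (Ψ : B ⥤ C) [Ψ.Additive] (q : ℕ) (X : A) (h : ∀ n, IsZero ((Φ.rightDerived (n + 1)).obj X)) :
    IsIso (RDer.edgeIn Φ Ψ q X) := by
  let R := injectiveResolution X
  let J := injectiveResolution (Φ.obj X)
  let R' := Groth.CohBase.mapResolution Φ R (fun I hI => Φ.injective_obj I) h
  let θ := RDer.descToInjectives (𝟙 (Φ.obj X)) J.cocomplex J.ι
    ((Φ.mapHomologicalComplex _).obj R.cocomplex) (RDer.mapAug Φ R.ι)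
  have h0 : J.ι.f 0 ≫ θ.f 0 = J.ι.f 0 ≫ (InjectiveResolution.homotopyEquiv J R').hom.f 0 := by
    refine (RDer.ι_descToInjectives_f_zero _ _ _ _ _).trans ?_
    refine (Category.id_comp _).trans ?_
    refine Eq.trans ?_ ((Category.id_comp _).symm.trans
      (InjectiveResolution.desc_commutes_zero (𝟙 (Φ.obj X)) R' J).symm)
    refine Eq.trans ?_ (CochainComplex.fromSingle₀Equiv_symm_apply_f_zero
      (C := (Φ.mapHomologicalComplex _).obj R.cocomplex) (Φ.map (Groth.CohBase.resι R))
      (Groth.CohBase.map_resι_d Φ R)).symm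
    simp [RDer.mapAug]
    exact Category.id_comp _
  have hcomm : J.ι ≫ θ = J.ι ≫ (InjectiveResolution.homotopyEquiv J R').hom := by
    apply HomologicalComplex.from_single_hom_ext
    exact h0
  have e : (HomologicalComplex.homologyFunctor C _ q).map ((Ψ.mapHomologicalComplex _).map θ) =
      ((Ψ.mapHomotopyEquiv (InjectiveResolution.homotopyEquiv J R')).toHomologyIso q).hom := by
    refine (Ψ.mapHomotopy (InjectiveResolution.descHomotopy (𝟙 (Φ.obj X)) θ
      (InjectiveResolution.homotopyEquiv J R').hom ?_ ?_)).homologyMap_eq q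
    · exact hcomm.trans (InjectiveResolution.desc_commutes _ R' J)
    · exact InjectiveResolution.desc_commutes _ R' J
  haveI : IsIso ((HomologicalComplex.homologyFunctor C _ q).map ((Ψ.mapHomologicalComplex _).map θ)) := by
    rw [e]; exact Iso.isIso_hom _
  exact @IsIso.comp_isIso _ _ _ _ _ _ _ (Iso.isIso_hom _) (@IsIso.comp_isIso _ _ _ _ _ _ _ this (Iso.isIso_inv _))

end Groth.EtaleBase
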