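import Groth.Agent.EtaleBase.Stalks
import Groth.Agent.EtaleBase.Support
import Groth.Agent.EtaleBase.DisjointGlue
import Groth.Prelude.Def_EtBaseX
import Mathlib.RingTheory.Etale.StandardEtale
import Mathlib.AlgebraicGeometry.Morphisms.Etale
import Mathlib.FieldTheory.IsSepClosed

/-!
The etale local ring at a geometric point is strictly henselian.
-/

set_option autoImplicit false

universe u

open CategoryTheory CategoryTheory.Limits AlgebraicGeometry Opposite Polynomial

namespace Groth.EtaleBase.EtLocalRing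

variable {X : Scheme.{u}} {Ω : Type u} [Field Ω] [IsSepClosed Ω] (ξ : Spec (CommRingCat.of Ω) ⟶ X)

/-- Evaluation of functions at a lift of the geometric point. -/
noncomputable def evAt (U : X.Etale) (t : (Scheme.pointSmallEtale ξ).fiber.obj U) :
    Γ(U.left, ⊤) ⟶ CommRingCat.of Ω :=
  t.left.appTop ≫ (Scheme.ΓSpecIso (CommRingCat.of Ω)).hom

set_option backward.isDefEq.respectTransparency.types false in
lemma evAt_map {V U : X.Etale} (g : V ⟶ U) (t : (Scheme.pointSmallEtale ξ).fiber.obj V) :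
    evAt ξ U ((Scheme.pointSmallEtale ξ).fiber.map g t) = g.left.appTop ≫ evAt ξ V t := by
  show (t.left ≫ g.left).appTop ≫ _ = _
  rw [Scheme.Hom.comp_appTop, Category.assoc]
  rfl

/-- Evaluation on the etale local ring. -/
noncomputable def ev : EtBase.etaleLocalRing ξ ⟶ CommRingCat.of Ω :=
  (Scheme.pointSmallEtale ξ).presheafFiberDesc (P := EtBase.OO X) (fun U t => evAt ξ U t)
    (fun {V U} g t => (evAt_map ξ g t).symm)

/-- The germ of a function. -/
noncomputable abbrev gm (U : X.Etale) (t : (Scheme.pointSmallEtale ξ).fiber.obj U) :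
    Γ(U.left, ⊤) ⟶ EtBase.etaleLocalRing ξ :=
  (Scheme.pointSmallEtale ξ).toPresheafFiber U t (EtBase.OO X)

lemma ev_gm (U : X.Etale) (t : (Scheme.pointSmallEtale ξ).fiber.obj U) (σ : Γ(U.left, ⊤)) :
    ev ξ (gm ξ U t σ) = evAt ξ U t σ :=
  ConcreteCategory.congr_hom ((Scheme.pointSmallEtale ξ).toPresheafFiber_presheafFiberDesc
    (P := EtBase.OO X) (fun U t => evAt ξ U t) (fun {V U} g t => (evAt_map ξ g t).symm) U t) σ

lemma gm_res {V U : X.Etale} (g : V ⟶ U) (t : (Scheme.pointSmallEtale ξ).fiber.obj V) (σ : Γ(U.left, ⊤)) :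
    gm ξ V t (g.left.appTop σ) = gm ξ U ((Scheme.pointSmallEtale ξ).fiber.map g t) σ :=
  (Scheme.pointSmallEtale ξ).toPresheafFiber_w_apply g t (EtBase.OO X) σ

lemma mem_basicOpen_of_isUnit_appTop {Y : Scheme.{u}} (f : Spec (CommRingCat.of Ω) ⟶ Y) (σ : Γ(Y, ⊤))
    (hu : IsUnit (f.appTop σ)) (x : Spec (CommRingCat.of Ω)) : f.base x ∈ Y.basicOpen σ := by
  show x ∈ f ⁻¹ᵁ Y.basicOpen σ
  rw [Scheme.preimage_basicOpen_top, Scheme.basicOpen_of_isUnit _ hu]
  trivial

set_option backward.isDefEq.respectTransparency.types false in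
lemma mem_basicOpen_of_evAt_ne_zero (U : X.Etale) (t : (Scheme.pointSmallEtale ξ).fiber.obj U)
    (σ : Γ(U.left, ⊤)) (h : evAt ξ U t σ ≠ 0) : fiberPoint ξ t ∈ U.left.basicOpen σ := by
  have hu : IsUnit (t.left.appTop σ) :=
    (isUnit_map_iff (Scheme.ΓSpecIso (CommRingCat.of Ω)).commRingCatIsoToRingEquiv _).1
      (isUnit_iff_ne_zero.2 h)
  exact mem_basicOpen_of_isUnit_appTop t.left σ hu default

lemma isUnit_iff_ev_ne_zero (a : EtBase.etaleLocalRing ξ) : IsUnit a ↔ ev ξ a ≠ 0 := by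
  refine ⟨fun h => (h.map (ev ξ).hom).ne_zero, fun h => ?_⟩
  obtain ⟨U, t, σ, rfl⟩ := (Scheme.pointSmallEtale ξ).toPresheafFiber_jointly_surjective (P := EtBase.OO X) a
  replace h : evAt ξ U t σ ≠ 0 := fun e => h ((ev_gm ξ U t σ).trans e)
  let W := U.left.basicOpen σ
  obtain ⟨z, hz⟩ : ∃ z, (openHom U W).left.base z = fiberPoint ξ t :=
    ⟨⟨_, mem_basicOpen_of_evAt_ne_zero ξ U t σ h⟩, rfl⟩
  obtain ⟨t', ht', -⟩ := exists_fiber_lift ξ (openHom U W) t z hz
  subst ht'
  have key := gm_res ξ (openHom U W) t' σ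
  refine (congrArg IsUnit key).mp ?_
  refine IsUnit.map (gm ξ (openObj U W) t').hom ?_
  show IsUnit (W.ι.appTop σ)
  rw [Scheme.Opens.ι_appTop]
  have h1 : (U.left.basicOpen σ).ι ''ᵁ ⊤ = U.left.basicOpen σ := Scheme.Opens.ι_image_top _
  have h2 := RingedSpace.isUnit_res_basicOpen U.left.toLocallyRingedSpace.toRingedSpace σ
  have h3 := h2.map (U.left.presheaf.map (homOfLE h1.le).op).hom
  refine (congrArg IsUnit ?_).mp h3
  exact (ConcreteCategory.congr_hom (U.left.presheaf.map_comp _ _) σ).symm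

instance nontrivial_etaleLocalRing : Nontrivial (EtBase.etaleLocalRing ξ) :=
  RingHom.domain_nontrivial (ev ξ).hom

instance isLocalRing_etaleLocalRing : IsLocalRing (EtBase.etaleLocalRing ξ) :=
  IsLocalRing.of_isUnit_or_isUnit_one_sub_self fun a => by
    rw [isUnit_iff_ev_ne_zero, isUnit_iff_ev_ne_zero, map_sub, map_one]
    by_cases h : ev ξ a = 0
    · exact Or.inr (by rw [h, sub_zero]; exact one_ne_zero)
    · exact Or.inl h

lemma mem_maximalIdeal_iff (a : EtBase.etaleLocalRing ξ) :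
    a ∈ IsLocalRing.maximalIdeal (EtBase.etaleLocalRing ξ) ↔ ev ξ a = 0 := by
  rw [IsLocalRing.mem_maximalIdeal, mem_nonunits_iff, isUnit_iff_ev_ne_zero, not_not]

/-- Finitely many elements come from one neighbourhood. -/
lemma exists_common_gm (n : ℕ) (a : ℕ → EtBase.etaleLocalRing ξ) :
    ∃ (U : X.Etale) (t : (Scheme.pointSmallEtale ξ).fiber.obj U) (σ : ℕ → Γ(U.left, ⊤)),
      ∀ i < n, gm ξ U t (σ i) = a i := by
  induction n with
  | zero =>
    obtain ⟨U, t, σ, -⟩ := (Scheme.pointSmallEtale ξ).toPresheafFiber_jointly_surjective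
      (P := EtBase.OO X) (a 0)
    exact ⟨U, t, fun _ => σ, fun i hi => absurd hi (Nat.not_lt_zero i)⟩
  | succ n ih =>
    obtain ⟨U, t, σ, hσ⟩ := ih
    obtain ⟨V, s, τ, hτ⟩ := (Scheme.pointSmallEtale ξ).toPresheafFiber_jointly_surjective
      (P := EtBase.OO X) (a n)
    obtain ⟨W₀, pm, qm, -⟩ := IsCofilteredOrEmpty.cone_objs (C := (Scheme.pointSmallEtale ξ).fiber.Elements)
      (Functor.elementsMk _ U t) (Functor.elementsMk _ V s)
    let p : W₀.1 ⟶ U := pm.1
    let q : W₀.1 ⟶ V := qm.1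
    refine ⟨W₀.1, W₀.2, fun i => if i < n then p.left.appTop (σ i) else q.left.appTop τ, fun i hi => ?_⟩
    by_cases h : i < n
    · show gm ξ W₀.1 W₀.2 (if i < n then p.left.appTop (σ i) else q.left.appTop τ) = a i
      rw [if_pos h, gm_res ξ p]
      exact (congrArg (fun z => gm ξ U z (σ i)) pm.2).trans (hσ i h)
    · show gm ξ W₀.1 W₀.2 (if i < n then p.left.appTop (σ i) else q.left.appTop τ) = a i
      rw [if_neg h, gm_res ξ q, show i = n by omega]
      exact (congrArg (fun z => gm ξ V z τ) qm.2).trans hτ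

/-- A monic polynomial comes from one neighbourhood. -/
lemma exists_monic_rep (f : Polynomial (EtBase.etaleLocalRing ξ)) (hf : f.Monic) :
    ∃ (U : X.Etale) (t : (Scheme.pointSmallEtale ξ).fiber.obj U) (P : Polynomial Γ(U.left, ⊤)),
      P.Monic ∧ P.map (gm ξ U t).hom = f := by
  obtain ⟨U, t, σ, hσ⟩ := exists_common_gm ξ f.natDegree f.coeff
  refine ⟨U, t, Polynomial.X ^ f.natDegree + ∑ i ∈ Finset.range f.natDegree, C (σ i) * Polynomial.X ^ i,
    monic_X_pow_add ?_, ?_⟩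
  · refine (degree_sum_le _ _).trans_lt ((Finset.sup_lt_iff (WithBot.bot_lt_coe _)).2 fun i hi => ?_)
    exact (degree_C_mul_X_pow_le i _).trans_lt (WithBot.coe_lt_coe.2 (Finset.mem_range.1 hi))
  · conv_rhs => rw [hf.as_sum]
    simp only [Polynomial.map_add, Polynomial.map_pow, Polynomial.map_X, Polynomial.map_sum, Polynomial.map_mul,
      Polynomial.map_C]
    refine congrArg (_ + ·) (Finset.sum_congr rfl fun i hi => ?_)
    rw [hσ i (Finset.mem_range.1 hi)]

set_option backward.isDefEq.respectTransparency.types false in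
/-- A simple root at the geometric point lifts to an etale neighbourhood. -/
lemma exists_root_nbhd (U : X.Etale) (t : (Scheme.pointSmallEtale ξ).fiber.obj U)
    (P : Polynomial Γ(U.left, ⊤)) (hP : P.Monic) (β : Ω) (h0 : P.eval₂ (evAt ξ U t).hom β = 0)
    (h1 : (derivative P).eval₂ (evAt ξ U t).hom β ≠ 0) :
    ∃ (V : X.Etale) (g : V ⟶ U) (v : (Scheme.pointSmallEtale ξ).fiber.obj V) (r : Γ(V.left, ⊤)),
      (Scheme.pointSmallEtale ξ).fiber.map g v = t ∧ P.eval₂ g.left.appTop.hom r = 0 ∧ evAt ξ V v r = β := by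
  obtain ⟨R, h, hh, ⟨y, hy⟩, -⟩ :=
    Scheme.exists_affine_mem_range_and_range_subset (x := fiberPoint ξ t) (U := (⊤ : U.left.Opens)) trivial
  have : IsOpenImmersion h := hh
  let t' : Spec (CommRingCat.of Ω) ⟶ Spec R := IsOpenImmersion.lift h t.left (by
    rintro _ ⟨z, rfl⟩
    exact ⟨y, hy.trans (by rw [Subsingleton.elim z default]; rfl)⟩)
  have ht' : t' ≫ h = t.left := IsOpenImmersion.lift_fac _ _ _
  let χ : R ⟶ CommRingCat.of Ω := Spec.preimage t'
  let θ : Γ(U.left, ⊤) →+* R := (Scheme.ΓSpecIso R).hom.hom.comp h.appTop.hom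
  have hθ : χ.hom.comp θ = (evAt ξ U t).hom := by
    have e : h.appTop ≫ (Scheme.ΓSpecIso R).hom ≫ χ = evAt ξ U t := by
      rw [← Scheme.ΓSpecIso_naturality, show Spec.map χ = t' from Spec.map_preimage t', ← Category.assoc,
        ← Scheme.Hom.comp_appTop, ht']
      rfl
    rw [← e]
    rfl
  let S : StandardEtalePair R := ⟨P.map θ, hP.map θ, derivative (P.map θ), 1, 0, 1, by simp⟩
  let : Algebra R Ω := χ.hom.toAlgebra
  have hmap : S.HasMap β := by
    refine ⟨?_, isUnit_iff_ne_zero.2 ?_⟩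
    · show (P.map θ).eval₂ χ.hom β = 0
      rw [eval₂_map, hθ, h0]
    · show (derivative (P.map θ)).eval₂ χ.hom β ≠ 0
      rw [derivative_map, eval₂_map, hθ]
      exact h1
  let A : CommRingCat.{u} := CommRingCat.of S.Ring
  let φ : R ⟶ A := CommRingCat.ofHom (algebraMap R S.Ring)
  have hφ : Etale (Spec.map φ) :=
    (HasRingHomProperty.Spec_iff (P := @Etale)).2
      (RingHom.etale_algebraMap.2 (inferInstance : Algebra.Etale R S.Ring))
  let ℓ : A ⟶ CommRingCat.of Ω := CommRingCat.ofHom (S.lift β hmap).toRingHom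
  have hℓ : φ ≫ ℓ = χ := CommRingCat.hom_ext (S.lift β hmap).comp_algebraMap
  have hv : Spec.map ℓ ≫ Spec.map φ ≫ h = t.left := by
    rw [← Category.assoc, ← Spec.map_comp, hℓ, show Spec.map χ = t' from Spec.map_preimage t', ht']
  refine ⟨Scheme.Etale.mk ((Spec.map φ ≫ h) ≫ U.hom), MorphismProperty.Over.homMk (Spec.map φ ≫ h),
    Over.homMk (Spec.map ℓ) ?_, (Scheme.ΓSpecIso A).inv S.X, Over.OverMorphism.ext hv, ?_, ?_⟩
  · refine (Eq.trans ?_ (Over.w t))
    show Spec.map ℓ ≫ ((Spec.map φ ≫ h) ≫ U.hom) = t.left ≫ U.hom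
    exact (Category.assoc _ _ _).symm.trans (congrArg (· ≫ U.hom) hv)
  · change P.eval₂ (Spec.map φ ≫ h).appTop.hom _ = 0
    have key : (Spec.map φ ≫ h).appTop.hom = (Scheme.ΓSpecIso A).inv.hom.comp (φ.hom.comp θ) := by
      have e : (Spec.map φ ≫ h).appTop =
          (h.appTop ≫ (Scheme.ΓSpecIso R).hom) ≫ φ ≫ (Scheme.ΓSpecIso A).inv := by
        rw [Scheme.Hom.comp_appTop, Scheme.ΓSpecIso_inv_naturality]
        simp
      rw [e]
      rfl
    rw [key, ← Polynomial.hom_eval₂]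
    have h0' : P.eval₂ (φ.hom.comp θ) S.X = 0 := by
      rw [← Polynomial.eval₂_map]
      exact (StandardEtalePair.hasMap_X (P := S)).1
    rw [h0', map_zero]
  · show ((Scheme.ΓSpecIso A).inv ≫ (Spec.map ℓ).appTop ≫ (Scheme.ΓSpecIso (CommRingCat.of Ω)).hom) S.X = β
    rw [Scheme.ΓSpecIso_naturality, Iso.inv_hom_id_assoc]
    exact S.lift_X β hmap

/-- A simple root at the geometric point lifts to the etale local ring. -/
lemma exists_root (f : Polynomial (EtBase.etaleLocalRing ξ)) (hf : f.Monic) (β : Ω)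
    (h0 : f.eval₂ (ev ξ).hom β = 0) (h1 : (derivative f).eval₂ (ev ξ).hom β ≠ 0) :
    ∃ a, f.IsRoot a ∧ ev ξ a = β := by
  obtain ⟨U, t, P, hP, rfl⟩ := exists_monic_rep ξ f hf
  have hc : (ev ξ).hom.comp (gm ξ U t).hom = (evAt ξ U t).hom := RingHom.ext (ev_gm ξ U t)
  rw [eval₂_map, hc] at h0
  rw [derivative_map, eval₂_map, hc] at h1
  obtain ⟨V, g, v, r, hg, hr, hv⟩ := exists_root_nbhd ξ U t P hP β h0 h1
  refine ⟨gm ξ V v r, ?_, (ev_gm ξ V v r).trans hv⟩
  have hgm : (gm ξ U t).hom = (gm ξ V v).hom.comp g.left.appTop.hom :=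
    RingHom.ext fun σ => ((gm_res ξ g v σ).trans (congrArg (fun z => gm ξ U z σ) hg)).symm
  rw [IsRoot, eval_map, hgm]
  exact (Polynomial.hom_eval₂ P g.left.appTop.hom (gm ξ V v).hom r).symm.trans (by rw [hr, map_zero])

/-- The etale local ring at a geometric point is strictly henselian. -/
theorem isStrictlyHenselian : EtCoh.IsStrictlyHenselianLocalRing (EtBase.etaleLocalRing ξ) := by
  have hhens : HenselianLocalRing (EtBase.etaleLocalRing ξ) := ⟨fun f hf a₀ hm hu => by
    obtain ⟨a, ha, hev⟩ := exists_root ξ f hf (ev ξ a₀)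
      ((eval₂_at_apply (ev ξ).hom a₀).trans ((mem_maximalIdeal_iff ξ _).1 hm))
      (fun e => (isUnit_iff_ev_ne_zero ξ _).1 hu ((eval₂_at_apply (ev ξ).hom a₀).symm.trans e))
    exact ⟨a, ha, (mem_maximalIdeal_iff ξ _).2 (by rw [map_sub, hev, sub_self])⟩⟩
  refine ⟨hhens, ?_⟩
  let κ := IsLocalRing.ResidueField (EtBase.etaleLocalRing ξ)
  have : IsLocalHom (ev ξ).hom := ⟨fun a ha => (isUnit_iff_ev_ne_zero ξ a).2 ha.ne_zero⟩
  let L : κ →+* Ω := IsLocalRing.ResidueField.lift (ev ξ).hom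
  refine IsSepClosed.of_exists_root _ fun p hp hirr hsep => ?_
  obtain ⟨f, hfmap, -, hf⟩ := lifts_and_degree_eq_and_monic
    (Polynomial.map_surjective _ IsLocalRing.residue_surjective p :
      p ∈ lifts (IsLocalRing.residue (EtBase.etaleLocalRing ξ))) hp
  have hdeg : (p.map L).degree ≠ 0 := by
    rw [degree_map_eq_of_injective L.injective]
    exact (degree_pos_of_irreducible hirr).ne'
  have hs : (p.map L).Separable := hsep.map
  obtain ⟨β, hβ⟩ := IsSepClosed.exists_root (p.map L) hdeg hs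
  have hcomp : L.comp (IsLocalRing.residue _) = (ev ξ).hom := IsLocalRing.ResidueField.lift_comp_residue _
  have e0 : f.eval₂ (ev ξ).hom β = 0 := by
    rw [← hcomp, ← eval₂_map, hfmap, ← eval_map]
    exact hβ
  have e1 : (derivative f).eval₂ (ev ξ).hom β ≠ 0 := by
    rw [← hcomp, ← eval₂_map, ← derivative_map, hfmap, ← eval_map, ← derivative_map]
    exact hs.aeval_derivative_ne_zero (x := β) hβ
  obtain ⟨a, ha, hev⟩ := exists_root ξ f hf β e0 e1
  refine ⟨IsLocalRing.residue _ a, L.injective ?_⟩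
  rw [map_zero, ← eval₂_at_apply, ← eval_map, show L (IsLocalRing.residue _ a) = β from
    (RingHom.congr_fun hcomp a).trans hev]
  exact hβ

end Groth.EtaleBase.EtLocalRing
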