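import Groth.Agent.EtaleBase.PullStalk
import Groth.Agent.EtaleBase.Support
import Groth.Prelude.Def_EtShriek2

/-!
Stalks of extension by zero along étale morphisms.
-/

set_option autoImplicit false

universe u

open CategoryTheory CategoryTheory.Limits AlgebraicGeometry Opposite

namespace Groth.EtaleBase

variable {U X : Scheme.{u}} (j : U ⟶ X) [AlgebraicGeometry.Etale j] [EtShriek.JCont j]
  {Ω : Type u} [Field Ω] [IsSepClosed Ω] (ξ : Spec (CommRingCat.of Ω) ⟶ X)

/-- The lifts of a geometric point of `X` to `U`. -/
abbrev PtOver : Type u := {u : Spec (CommRingCat.of Ω) ⟶ U // u ≫ j = ξ}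

set_option backward.isDefEq.respectTransparency.types false in
/-- A lift to `V → U` of a lift of `ξ` gives a lift of `ξ` to `V → U → X`. -/
noncomputable def compPt (u : PtOver j ξ) (V : U.Etale)
    (t : (Scheme.pointSmallEtale u.1).fiber.obj V) :
    (Scheme.pointSmallEtale ξ).fiber.obj ((EtShriek.compEtale j).obj V) :=
  Over.homMk t.left ((Category.assoc _ _ _).symm.trans ((congrArg (· ≫ j) (Over.w t)).trans u.2))

set_option backward.isDefEq.respectTransparency.types false in
/-- The lift of `ξ` to `U` under a lift to `V → U → X`. -/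
noncomputable def basePt (V : U.Etale)
    (t : (Scheme.pointSmallEtale ξ).fiber.obj ((EtShriek.compEtale j).obj V)) : PtOver j ξ :=
  ⟨t.left ≫ V.hom, (Category.assoc _ _ _).trans (Over.w t)⟩

set_option backward.isDefEq.respectTransparency.types false in
/-- A lift of `ξ` to `V → U → X` as a lift of a lift of `ξ`. -/
noncomputable def upPt (V : U.Etale)
    (t : (Scheme.pointSmallEtale ξ).fiber.obj ((EtShriek.compEtale j).obj V)) :
    (Scheme.pointSmallEtale (basePt j ξ V t).1).fiber.obj V :=
  Over.homMk t.left rfl

set_option backward.isDefEq.respectTransparency.types false in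
/-- Restricted skyscrapers map to the skyscrapers at the lifts. -/
noncomputable def skyProj (M : AddCommGrpCat.{u + 1}) (u : PtOver j ξ) :
    (EtShriek.restrAlong j).obj ((Scheme.pointSmallEtale ξ).skyscraperSheafFunctor.obj M) ⟶
      (Scheme.pointSmallEtale u.1).skyscraperSheafFunctor.obj M :=
  ⟨{ app := fun V => Pi.lift fun t =>
        Pi.π (fun _ : (Scheme.pointSmallEtale ξ).fiber.obj ((EtShriek.compEtale j).obj V.unop) => M)
          (compPt j ξ u V.unop t)
     naturality := fun V W g => by
        refine Pi.hom_ext _ _ fun t => ?_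
        erw [Category.assoc, Category.assoc, Pi.map'_comp_π, limit.lift_π, limit.lift_π_assoc]
        erw [Category.comp_id, Pi.map'_comp_π, Category.comp_id]
        rfl }⟩

lemma skyProj_π (M : AddCommGrpCat.{u + 1}) (u : PtOver j ξ) (V : U.Etaleᵒᵖ)
    (t : (Scheme.pointSmallEtale u.1).fiber.obj V.unop) :
    (skyProj j ξ M u).hom.app V ≫ Pi.π (fun _ : (Scheme.pointSmallEtale u.1).fiber.obj V.unop => M) t =
      Pi.π (fun _ : (Scheme.pointSmallEtale ξ).fiber.obj ((EtShriek.compEtale j).obj V.unop) => M)
        (compPt j ξ u V.unop t) :=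
  limit.lift_π _ _

variable {j ξ}

set_option backward.isDefEq.respectTransparency.types false in
/-- The section of the restricted skyscraper glued from sections of the skyscrapers at the lifts. -/
noncomputable def skyPair {F : EtCoh.Ab U} {M : AddCommGrpCat.{u + 1}}
    (ψ : ∀ u : PtOver j ξ, F ⟶ (Scheme.pointSmallEtale u.1).skyscraperSheafFunctor.obj M) :
    F ⟶ (EtShriek.restrAlong j).obj ((Scheme.pointSmallEtale ξ).skyscraperSheafFunctor.obj M) :=
  ⟨{ app := fun V => Pi.lift fun t =>
        (ψ (basePt j ξ V.unop t)).hom.app V ≫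
          Pi.π (fun _ : (Scheme.pointSmallEtale (basePt j ξ V.unop t).1).fiber.obj V.unop => M)
            (upPt j ξ V.unop t)
     naturality := fun V W g => by
        refine Pi.hom_ext _ _ fun t => ?_
        erw [Category.assoc, Category.assoc, limit.lift_π, Pi.map'_comp_π, Category.comp_id,
          limit.lift_π]
        refine (Category.assoc _ _ _).symm.trans ?_
        erw [(ψ _).hom.naturality g]
        rw [Category.assoc]
        have hb : basePt j ξ W.unop t =
            basePt j ξ V.unop ((Scheme.pointSmallEtale ξ).fiber.map ((EtShriek.compEtale j).map g.unop) t) :=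
          Subtype.ext ((congrArg (t.left ≫ ·) (Over.w g.unop.hom).symm).trans
            (Category.assoc _ _ _).symm)
        have key : ∀ (a b : PtOver j ξ) (_ : a = b) (x : (Scheme.pointSmallEtale a.1).fiber.obj V.unop)
            (y : (Scheme.pointSmallEtale b.1).fiber.obj V.unop), x.left = y.left →
            (ψ a).hom.app V ≫ Pi.π (fun _ : (Scheme.pointSmallEtale a.1).fiber.obj V.unop => M) x =
              (ψ b).hom.app V ≫
                Pi.π (fun _ : (Scheme.pointSmallEtale b.1).fiber.obj V.unop => M) y := by
          rintro a b rfl x y h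
          rw [show x = y from Over.OverMorphism.ext h]
        refine Eq.trans ?_ (key _ _ hb
          ((Scheme.pointSmallEtale (basePt j ξ W.unop t).1).fiber.map g.unop (upPt j ξ W.unop t))
          (upPt j ξ V.unop _) rfl)
        refine congrArg ((ψ (basePt j ξ W.unop t)).hom.app V ≫ ·) ?_
        erw [Pi.map'_comp_π, Category.comp_id]
        rfl }⟩

lemma skyPair_π {F : EtCoh.Ab U} {M : AddCommGrpCat.{u + 1}}
    (ψ : ∀ u : PtOver j ξ, F ⟶ (Scheme.pointSmallEtale u.1).skyscraperSheafFunctor.obj M)
    (V : U.Etaleᵒᵖ) (t : (Scheme.pointSmallEtale ξ).fiber.obj ((EtShriek.compEtale j).obj V.unop)) :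
    (skyPair ψ).hom.app V ≫
        Pi.π (fun _ : (Scheme.pointSmallEtale ξ).fiber.obj ((EtShriek.compEtale j).obj V.unop) => M) t =
      (ψ (basePt j ξ V.unop t)).hom.app V ≫
        Pi.π (fun _ : (Scheme.pointSmallEtale (basePt j ξ V.unop t).1).fiber.obj V.unop => M)
          (upPt j ξ V.unop t) :=
  limit.lift_π _ _

variable (j ξ)

set_option backward.isDefEq.respectTransparency.types false in
/-- Maps to restricted skyscrapers. -/
noncomputable def skyEquiv (F : EtCoh.Ab U) (M : AddCommGrpCat.{u + 1}) :
    (F ⟶ (EtShriek.restrAlong j).obj ((Scheme.pointSmallEtale ξ).skyscraperSheafFunctor.obj M)) ≃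
      ∀ u : PtOver j ξ, F ⟶ (Scheme.pointSmallEtale u.1).skyscraperSheafFunctor.obj M where
  toFun φ u := φ ≫ skyProj j ξ M u
  invFun := skyPair
  left_inv φ := by
    refine ObjectProperty.hom_ext _ (NatTrans.ext (funext fun V => Pi.hom_ext _ _ fun t => ?_))
    refine (skyPair_π _ V t).trans ?_
    exact (Category.assoc _ _ _).trans (congrArg (φ.hom.app V ≫ ·) (skyProj_π j ξ M _ V _))
  right_inv ψ := by
    refine funext fun u => ObjectProperty.hom_ext _ (NatTrans.ext (funext fun V => Pi.hom_ext _ _ fun t => ?_))
    refine (Category.assoc _ _ _).trans ((congrArg ((skyPair ψ).hom.app V ≫ ·)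
      (skyProj_π j ξ M u V t)).trans ((skyPair_π ψ V _).trans ?_))
    have key : ∀ (a : PtOver j ξ) (_ : a = u) (x : (Scheme.pointSmallEtale a.1).fiber.obj V.unop),
        x.left = t.left →
        (ψ a).hom.app V ≫ Pi.π (fun _ : (Scheme.pointSmallEtale a.1).fiber.obj V.unop => M) x =
          (ψ u).hom.app V ≫ Pi.π (fun _ : (Scheme.pointSmallEtale u.1).fiber.obj V.unop => M) t := by
      rintro a rfl x h
      rw [show x = t from Over.OverMorphism.ext h]
    exact key _ (Subtype.ext (Over.w t)) _ rfl

/-- The sum of the stalks at the lifts of `ξ`. -/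
noncomputable def sumStalks : EtCoh.Ab U ⥤ AddCommGrpCat.{u + 1} where
  obj F := ∐ fun u : PtOver j ξ => (EtCoh.stalk u.1).obj F
  map φ := Limits.Sigma.map fun u => (EtCoh.stalk u.1).map φ

set_option backward.isDefEq.respectTransparency.types false in
/-- The sum of the stalks at the lifts is left adjoint to restricted skyscrapers. -/
noncomputable def sumStalksAdj :
    sumStalks j ξ ⊣ (Scheme.pointSmallEtale ξ).skyscraperSheafFunctor ⋙ EtShriek.restrAlong j :=
  Adjunction.mkOfHomEquiv
    { homEquiv := fun F M =>
        { toFun := fun a => (skyEquiv j ξ F M).symm fun u =>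
            (Scheme.pointSmallEtale u.1).skyscraperSheafAdjunction.homEquiv F M (Sigma.ι (fun u : PtOver j ξ => (EtCoh.stalk u.1).obj F) u ≫ a)
          invFun := fun φ => Sigma.desc fun u =>
            ((Scheme.pointSmallEtale u.1).skyscraperSheafAdjunction.homEquiv F M).symm
              (skyEquiv j ξ F M φ u)
          left_inv := fun a => Sigma.hom_ext _ _ fun u => by
            rw [Sigma.ι_desc, Equiv.apply_symm_apply, Equiv.symm_apply_apply]
          right_inv := fun φ => (skyEquiv j ξ F M).symm_apply_eq.2 (funext fun u => by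
            rw [Sigma.ι_desc, Equiv.apply_symm_apply]) }
      homEquiv_naturality_left_symm := fun {F F' M} α φ => Sigma.hom_ext _ _ fun u => by
        refine (Sigma.ι_desc _ _).trans (Eq.symm ?_)
        refine (Category.assoc _ _ _).symm.trans ((congrArg (· ≫ _) (Sigma.ι_map _ _)).trans
          ((Category.assoc _ _ _).trans ((congrArg (fun x => (EtCoh.stalk u.1).map α ≫ x) (Sigma.ι_desc (f := fun u : PtOver j ξ => (EtCoh.stalk u.1).obj F') _ u)).trans ?_)))
        refine (Adjunction.homEquiv_naturality_left_symm _ _ _).symm.trans ?_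
        exact congrArg _ (Category.assoc _ _ _).symm
      homEquiv_naturality_right := fun {F M M'} a b => by
        refine (skyEquiv j ξ F M').injective
          (((skyEquiv j ξ F M').apply_symm_apply _).trans (funext fun u => ?_))
        show _ = (_ ≫ (EtShriek.restrAlong j).map _) ≫ skyProj j ξ M' u
        have h1 : (EtShriek.restrAlong j).map
              ((Scheme.pointSmallEtale ξ).skyscraperSheafFunctor.map b) ≫ skyProj j ξ M' u =
            skyProj j ξ M u ≫ (Scheme.pointSmallEtale u.1).skyscraperSheafFunctor.map b := by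
          refine ObjectProperty.hom_ext _ (NatTrans.ext (funext fun V => Pi.hom_ext _ _ fun t => ?_))
          refine (Category.assoc _ _ _).trans ((congrArg (_ ≫ ·) (skyProj_π j ξ M' u V t)).trans ?_)
          refine Eq.trans ?_ (Category.assoc _ _ _).symm
          refine Eq.trans ?_ (congrArg (fun x => (skyProj j ξ M u).hom.app V ≫ x) (Pi.map_π (fun _ : (Scheme.pointSmallEtale u.1).fiber.obj V.unop => b) t)).symm
          refine (Pi.map_π (fun _ : (Scheme.pointSmallEtale ξ).fiber.obj ((EtShriek.compEtale j).obj V.unop) => b)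
            (compPt j ξ u V.unop t)).trans ?_
          exact ((Category.assoc _ _ _).symm.trans (congrArg (· ≫ b) (skyProj_π j ξ M u V t))).symm
        rw [Category.assoc, h1, ← Category.assoc]
        refine (congrArg _ (Category.assoc _ _ _).symm).trans ?_
        refine (Adjunction.homEquiv_naturality_right _ _ _).trans ?_
        exact congrArg (· ≫ _) (congrFun ((skyEquiv j ξ F M).apply_symm_apply fun u =>
          (Scheme.pointSmallEtale u.1).skyscraperSheafAdjunction.homEquiv F M
            (Sigma.ι (fun u : PtOver j ξ => (EtCoh.stalk u.1).obj F) u ≫ a)) u).symm }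

/-- The stalk of an extension by zero is the sum of the stalks at the lifts. -/
noncomputable def stalkExtZeroIso : EtShriek.extZero j ⋙ EtCoh.stalk ξ ≅ sumStalks j ξ :=
  ((EtShriek.extZeroAdj j).comp
    (Scheme.pointSmallEtale ξ).skyscraperSheafAdjunction).leftAdjointUniq (sumStalksAdj j ξ)

end Groth.EtaleBase
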