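import Groth.Agent.EtaleBase.ExtZeroProps
import Mathlib.CategoryTheory.Adjunction.Unique

/-!
Extension by zero commutes with inverse image.
-/

set_option autoImplicit false

universe u

open CategoryTheory CategoryTheory.Limits AlgebraicGeometry Opposite

namespace Groth.EtaleBase.ExtZeroBC

variable {V' V Y X : Scheme.{u}} (j : V ⟶ X) [AlgebraicGeometry.Etale j] (f : Y ⟶ X) (j' : V' ⟶ Y)
  [AlgebraicGeometry.Etale j'] (f' : V' ⟶ V) (h : IsPullback j' f' f j)

include h

/-- The pasted square. -/
lemma isPullback_paste {W : Scheme.{u}} (w : W ⟶ V) :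
    IsPullback (pullback.fst w f') (pullback.snd w f' ≫ j') (w ≫ j) f :=
  (IsPullback.of_hasPullback w f').paste_vert h.flip

set_option backward.isDefEq.respectTransparency.types false in
/-- The comparison of the functors of sites. -/
noncomputable def siteIso : EtCoh.bc f' ⋙ EtShriek.compEtale j' ≅ EtShriek.compEtale j ⋙ EtCoh.bc f :=
  NatIso.ofComponents
    (fun W => MorphismProperty.Over.isoMk ((isPullback_paste j f j' f' h W.hom).isoPullback)
      ((isPullback_paste j f j' f' h W.hom).isoPullback_hom_snd))
    (fun {W W'} g => by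
      refine MorphismProperty.Over.Hom.ext (pullback.hom_ext ?_ ?_)
      · show (((EtCoh.bc f').map g).left ≫ (isPullback_paste j f j' f' h W'.hom).isoPullback.hom) ≫
            pullback.fst (W'.hom ≫ j) f =
          ((isPullback_paste j f j' f' h W.hom).isoPullback.hom ≫
            ((EtCoh.bc f).map ((EtShriek.compEtale j).map g)).left) ≫ pullback.fst (W'.hom ≫ j) f
        rw [Category.assoc, Category.assoc]
        refine (congrArg (_ ≫ ·) ((isPullback_paste j f j' f' h W'.hom).isoPullback_hom_fst)).trans ?_
        refine (EtCoh.isPullback_bc_map f' g).w.trans ?_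
        refine Eq.trans ?_ (congrArg ((isPullback_paste j f j' f' h W.hom).isoPullback.hom ≫ ·)
          (EtCoh.isPullback_bc_map f ((EtShriek.compEtale j).map g)).w.symm)
        exact ((congrArg (· ≫ g.left) (isPullback_paste j f j' f' h W.hom).isoPullback_hom_fst).symm).trans
          (Category.assoc _ _ _)
      · show (((EtCoh.bc f').map g).left ≫ (isPullback_paste j f j' f' h W'.hom).isoPullback.hom) ≫
            pullback.snd (W'.hom ≫ j) f =
          ((isPullback_paste j f j' f' h W.hom).isoPullback.hom ≫
            ((EtCoh.bc f).map ((EtShriek.compEtale j).map g)).left) ≫ pullback.snd (W'.hom ≫ j) f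
        rw [Category.assoc, Category.assoc]
        refine (congrArg (_ ≫ ·) ((isPullback_paste j f j' f' h W'.hom).isoPullback_hom_snd)).trans ?_
        refine Eq.trans ?_ (congrArg ((isPullback_paste j f j' f' h W.hom).isoPullback.hom ≫ ·)
          (MorphismProperty.Over.w ((EtCoh.bc f).map ((EtShriek.compEtale j).map g)))).symm
        refine Eq.trans ?_ (isPullback_paste j f j' f' h W.hom).isoPullback_hom_snd.symm
        exact (Category.assoc _ _ _).symm.trans
          (congrArg (· ≫ j') (MorphismProperty.Over.w ((EtCoh.bc f').map g))))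

variable [EtShriek.JCont j] [EtShriek.JCont j']

set_option backward.isDefEq.respectTransparency.types false in
/-- The comparison of the right adjoints. -/
noncomputable def rightIso :
    EtCoh.push f ⋙ EtShriek.restrAlong j ≅ EtShriek.restrAlong j' ⋙ EtCoh.push f' :=
  NatIso.ofComponents (fun G => (fullyFaithfulSheafToPresheaf _ _).preimageIso
      (Functor.isoWhiskerRight (NatIso.op (siteIso j f j' f' h)) G.obj))
    (fun {G H} φ => ObjectProperty.hom_ext _ (NatTrans.ext (funext fun W =>
      (φ.hom.naturality ((siteIso j f j' f' h).hom.app W.unop).op).symm)))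

/-- Extension by zero commutes with inverse image. -/
noncomputable def baseChangeIso : EtCoh.pull f' ⋙ EtShriek.extZero j' ≅ EtShriek.extZero j ⋙ EtCoh.pull f :=
  ((EtCoh.pullPushAdj f').comp (EtShriek.extZeroAdj j')).leftAdjointUniq
    (((EtShriek.extZeroAdj j).comp (EtCoh.pullPushAdj f)).ofNatIsoRight (rightIso j f j' f' h))

end Groth.EtaleBase.ExtZeroBC
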