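import Groth.Agent.SGA7.QLinear
import Mathlib.FieldTheory.IsAlgClosed.Basic
import Mathlib.LinearAlgebra.TensorProduct.Basis
import Mathlib.RingTheory.Flat.FaithfullyFlat.Algebra

/-!
Fixed vectors of Frobenius-semilinear maps.
-/

set_option autoImplicit false

universe u v

open Polynomial TensorProduct Groth.SGA7.QLin

namespace Groth.EtaleBase

variable {k : Type u} [Field k] [IsAlgClosed k] {V : Type v} [AddCommGroup V] [Module k V]
  [FiniteDimensional k V] (p : ℕ) [Fact p.Prime] [CharP k p] (F : V →+ V)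
  (hF : ∀ (c : k) (v : V), F (c • v) = c ^ p • F v)

include hF

theorem frob_sub_surjective : Function.Surjective fun v => F v - v := fun w => by
  obtain ⟨v, hv⟩ := sub_surjective (q := p) (φ := F) (Fact.out : p.Prime).one_lt (CharP.cast_eq_zero k p) hF (-w)
  exact ⟨v, by simp only at hv ⊢; rw [← neg_sub, hv, neg_neg]⟩

/-- The part on which `F` is bijective has a fixed basis and contains the fixed vectors. -/
theorem exists_fixed_basis :
    ∃ (d N : ℕ) (_ : d ≤ Module.finrank k V) (b : Fin d → V), LinearIndependent k b ∧ (∀ i, F (b i) = b i) ∧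
      ∀ v, (⇑F)^[N] v ∈ Submodule.span k (Set.range b) := by
  obtain ⟨W, N, hW, -, hNW, hlin, hss⟩ := exists_ss_restrict (k := k) (q := p) (φ := F) hF
  obtain ⟨b, hb⟩ := exists_basis_fixed (Fact.out : p.Prime).one_lt (CharP.cast_eq_zero k p) hlin hss
  refine ⟨_, N, W.finrank_le, fun i => (b i : V), b.linearIndependent.map' W.subtype W.ker_subtype,
    fun i => congrArg (fun t : W => (t : V)) (hb i), fun v => ?_⟩
  have h : Submodule.span k (Set.range fun i => (b i : V)) = W := by
    rw [show (fun i => (b i : V)) = W.subtype ∘ b from rfl, Set.range_comp, ← Submodule.map_span, b.span_eq,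
      Submodule.map_top, Submodule.range_subtype]
  rw [h]
  exact hNW v

theorem finite_fixed :
    Set.Finite {v : V | F v = v} ∧ Nat.card {v : V | F v = v} ≤ p ^ Module.finrank k V := by
  classical
  obtain ⟨d, N, hd, b, hli, hb, hN⟩ := exists_fixed_basis p F hF
  have h1 : 1 < p := (Fact.out : p.Prime).one_lt
  let P : k[X] := X ^ p - X
  have hPd : P.natDegree = p := by
    simp only [P]
    rw [natDegree_sub_eq_left_of_natDegree_lt] <;> simp [h1]
  have hP : P ≠ 0 := fun h => by rw [h, natDegree_zero] at hPd; omega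
  let R := P.roots.toFinset
  have hR : R.card ≤ p := (Multiset.toFinset_card_le _).trans ((card_roots' P).trans hPd.le)
  let f : (Fin d → R) → V := fun c => ∑ i, (c i : k) • b i
  have hsub : {v : V | F v = v} ⊆ Set.range f := by
    intro v hv
    obtain ⟨c, hc⟩ := (Submodule.mem_span_range_iff_exists_fun k).1
      (show v ∈ Submodule.span k (Set.range b) from (Function.iterate_fixed hv N) ▸ hN v)
    have hc' : ∑ i, (c i ^ p - c i) • b i = 0 := by
      simp only [sub_smul, Finset.sum_sub_distrib]
      rw [hc, sub_eq_zero]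
      conv_rhs => rw [← hv, ← hc, map_sum]
      exact Finset.sum_congr rfl fun i _ => by rw [hF, hb]
    have h0 := Fintype.linearIndependent_iff.1 hli _ hc'
    refine ⟨fun i => ⟨c i, ?_⟩, hc⟩
    rw [Multiset.mem_toFinset, mem_roots hP]
    simpa [P] using h0 i
  have hfin := (Set.finite_range f).subset hsub
  refine ⟨hfin, ?_⟩
  refine (Nat.card_mono (Set.finite_range f) hsub).trans ?_
  have hs : Function.Surjective (Set.rangeFactorization f) := Set.rangeFactorization_surjective
  refine (Nat.card_le_card_of_surjective _ hs).trans ?_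
  rw [Nat.card_eq_fintype_card, Fintype.card_fun, Fintype.card_coe, Fintype.card_fin]
  exact (Nat.pow_le_pow_left hR d).trans (Nat.pow_le_pow_right (by omega) hd)

theorem fixed_baseChange_bijOn {k' : Type u} [Field k'] [Algebra k k'] (F' : k' ⊗[k] V →+ k' ⊗[k] V)
    (hF' : ∀ (c : k') (v : V), F' (c ⊗ₜ[k] v) = (c ^ p) ⊗ₜ[k] F v) :
    Set.BijOn (fun v : V => (1 : k') ⊗ₜ[k] v) {v : V | F v = v} {w : k' ⊗[k] V | F' w = w} := by
  classical
  have h1 : 1 < p := (Fact.out : p.Prime).one_lt
  have : CharP k' p := charP_of_injective_algebraMap (algebraMap k k').injective p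
  refine ⟨fun v (hv : F v = v) => by
      show F' ((1 : k') ⊗ₜ[k] v) = (1 : k') ⊗ₜ[k] v
      rw [hF', one_pow, hv],
    (Module.FaithfullyFlat.tensorProduct_mk_injective (A := k) (B := k') V).injOn, fun w (hw : F' w = w) => ?_⟩
  obtain ⟨d, N, -, b, hli, hb, hN⟩ := exists_fixed_basis p F hF
  have hmem : ∀ z : k' ⊗[k] V, (⇑F')^[N] z ∈ Submodule.span k' (Set.range fun i => (1 : k') ⊗ₜ[k] b i) := by
    intro z
    induction z with
    | zero => rw [iterate_map_zero]; exact zero_mem _
    | tmul c v =>
      have : ∀ n, (⇑F')^[n] (c ⊗ₜ[k] v) = (c ^ p ^ n) ⊗ₜ[k] (⇑F)^[n] v := fun n => by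
        induction n with
        | zero => simp
        | succ n ih => rw [Function.iterate_succ_apply', ih, hF', Function.iterate_succ_apply', ← pow_mul, pow_succ]
      obtain ⟨a, ha⟩ := (Submodule.mem_span_range_iff_exists_fun k).1 (hN v)
      rw [this, ← ha, TensorProduct.tmul_sum]
      refine Submodule.sum_mem _ fun i _ => ?_
      have : (c ^ p ^ N) ⊗ₜ[k] (a i • b i) = ((a i) • c ^ p ^ N) • ((1 : k') ⊗ₜ[k] b i) := by
        rw [← TensorProduct.smul_tmul, TensorProduct.smul_tmul', smul_eq_mul, mul_one]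
      rw [this]
      exact Submodule.smul_mem _ _ (Submodule.subset_span ⟨i, rfl⟩)
    | add x y hx hy => rw [iterate_map_add]; exact add_mem hx hy
  obtain ⟨c, hc⟩ := (Submodule.mem_span_range_iff_exists_fun k').1 (Function.iterate_fixed hw N ▸ hmem w)
  have hsm : ∀ i, c i • ((1 : k') ⊗ₜ[k] b i) = c i ⊗ₜ[k] b i := fun i => by
    rw [TensorProduct.smul_tmul', smul_eq_mul, mul_one]
  have hli' : LinearIndependent k' fun i => (1 : k') ⊗ₜ[k] b i :=
    Module.Flat.linearIndependent_one_tmul hli
  have hc' : ∑ i, (c i ^ p - c i) • ((1 : k') ⊗ₜ[k] b i) = 0 := by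
    rw [Finset.sum_congr rfl fun i _ => sub_smul (c i ^ p) (c i) ((1 : k') ⊗ₜ[k] b i),
      Finset.sum_sub_distrib]
    rw [hc, sub_eq_zero]
    conv_rhs => rw [← hw, ← hc, map_sum]
    refine Finset.sum_congr rfl fun i _ => ?_
    rw [hsm, hF', hb, TensorProduct.smul_tmul', smul_eq_mul, mul_one]
  have h0 := Fintype.linearIndependent_iff.1 hli' _ hc'
  have hk : ∀ i, ∃ a : k, algebraMap k k' a = c i := fun i => by
    have hint : IsIntegral k (c i) := ⟨X ^ p - X, monic_X_pow_sub (degree_X_le.trans_lt (by exact_mod_cast h1)),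
      by simpa using h0 i⟩
    exact hint.mem_range_algebraMap_of_minpoly_splits (R := k) (K := k) (IsAlgClosed.splits _)
  choose a ha using hk
  refine ⟨∑ i, a i • b i, ?_, ?_⟩
  · show F _ = _
    rw [map_sum]
    refine Finset.sum_congr rfl fun i _ => ?_
    rw [hF, hb]
    congr 1
    refine (algebraMap k k').injective ?_
    rw [map_pow, ha]
    exact sub_eq_zero.1 (h0 i)
  · show (1 : k') ⊗ₜ[k] _ = w
    rw [TensorProduct.tmul_sum, ← hc]
    refine Finset.sum_congr rfl fun i _ => ?_
    rw [hsm, ← TensorProduct.smul_tmul, Algebra.smul_def, mul_one, ha]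

end Groth.EtaleBase
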