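import Groth.Agent.EtaleBase.DisjointGlue
import Groth.Prelude.Def_EtCore

/-!
Sheaf condition for Galois coverings.
-/

set_option autoImplicit false

universe u w

open CategoryTheory CategoryTheory.Limits AlgebraicGeometry Opposite

namespace Groth.EtaleBase

variable {X : Scheme.{u}}

/-- A morphism landing in an open subscheme factors through it. -/
lemma exists_lift_opens {V U : Scheme.{u}} (W : U.Opens) (h : V ⟶ U)
    (hh : Set.range h.base ⊆ (W : Set U)) : ∃ l : V ⟶ (W : Scheme.{u}), l ≫ W.ι = h :=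
  ⟨IsOpenImmersion.lift W.ι h (by rwa [Scheme.Opens.range_ι]), IsOpenImmersion.lift_fac _ _ _⟩

set_option backward.isDefEq.respectTransparency.types false in
/-- The injections of a coproduct in the small etale site are jointly surjective. -/
lemma exists_inj_of_isColimit {ι : Type*} {Z : ι → X.Etale} (c : Cofan Z) (hc : IsColimit c)
    (u : c.pt.left) : ∃ i, ∃ z, (c.inj i).left.base z = u := by
  by_contra h
  simp only [not_exists] at h
  let W : c.pt.left.Opens := ⟨⋃ i, Set.range (c.inj i).left.base,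
    isOpen_iUnion fun i => (isOpenMap_left (c.inj i)).isOpen_range⟩
  have hl : ∀ i, ∃ l : (Z i).left ⟶ (W : Scheme.{u}), l ≫ W.ι = (c.inj i).left := fun i =>
    exists_lift_opens W _ (Set.subset_iUnion (fun i => Set.range (c.inj i).left.base) i)
  choose l hl using hl
  let g : ∀ i, Z i ⟶ openObj c.pt W := fun i =>
    MorphismProperty.Over.homMk (l i) (by
      show l i ≫ W.ι ≫ c.pt.hom = (Z i).hom
      rw [← Category.assoc, hl i]
      exact Over.w (c.inj i).hom)
  have e : Cofan.IsColimit.desc hc g ≫ openHom c.pt W = 𝟙 c.pt := Cofan.IsColimit.hom_ext hc _ _ fun i => by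
    rw [← Category.assoc, Cofan.IsColimit.fac]
    refine (MorphismProperty.Over.Hom.ext ?_).trans (Category.comp_id _).symm
    exact hl i
  have h1 := congrArg (fun m : c.pt ⟶ c.pt => m.left.base u) e
  have h2 : u ∈ W := by
    have h1' : W.ι.base ((Cofan.IsColimit.desc hc g).left.base u) = u := h1
    rw [← h1']
    exact ((Cofan.IsColimit.desc hc g).left.base u).2
  obtain ⟨i, hi⟩ := Set.mem_iUnion.1 h2
  obtain ⟨z, hz⟩ := hi
  exact h i z hz

variable (Y : X.Etale) {G : Type u} [Group G] (σ : G →* Aut Y) (hT : IsTerminal (EtCoh.top X))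

/-- The sheaf condition for a Galois covering is invariance. -/
lemma isSheafFor_galois_iff (P : X.Etaleᵒᵖ ⥤ Type w)
    (hP : Function.Injective (fun s : P.obj (op (Y ⨯ Y)) => fun g : G =>
      P.map (prod.lift (𝟙 Y) (σ g).hom).op s)) :
    Presieve.IsSheafFor P (Presieve.singleton (hT.from Y)) ↔
      (Function.Injective (P.map (hT.from Y).op) ∧
        Set.range (P.map (hT.from Y).op) = {s | ∀ g : G, P.map (σ g).hom.op s = s}) := by
  have key : ∀ x : P.obj (op Y),
      (∀ {Z : X.Etale} (p₁ p₂ : Z ⟶ Y), p₁ ≫ hT.from Y = p₂ ≫ hT.from Y →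
        P.map p₁.op x = P.map p₂.op x) ↔ ∀ g : G, P.map (σ g).hom.op x = x := by
    intro x
    constructor
    · intro h g
      have := h (σ g).hom (𝟙 Y) (hT.hom_ext _ _)
      simpa using this
    · intro h Z p₁ p₂ _
      have hx : P.map (prod.fst : Y ⨯ Y ⟶ Y).op x = P.map (prod.snd : Y ⨯ Y ⟶ Y).op x := by
        refine hP (funext fun g => ?_)
        show P.map _ (P.map _ x) = P.map _ (P.map _ x)
        rw [← Functor.map_comp_apply, ← Functor.map_comp_apply, ← op_comp, ← op_comp, prod.lift_fst,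
          prod.lift_snd, h g]
        simp
      have := congrArg (P.map (prod.lift p₁ p₂).op) hx
      rwa [← Functor.map_comp_apply, ← Functor.map_comp_apply, ← op_comp, ← op_comp, prod.lift_fst,
        prod.lift_snd] at this
  rw [Presieve.isSheafFor_singleton]
  constructor
  · intro h
    refine ⟨fun a b hab => (h (P.map (hT.from Y).op a) fun p₁ p₂ he => ?_).unique rfl hab.symm,
      Set.ext fun s => ⟨?_, fun hs => ?_⟩⟩
    · rw [← Functor.map_comp_apply, ← Functor.map_comp_apply, ← op_comp, ← op_comp, he]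
    · rintro ⟨t, rfl⟩ g
      rw [← Functor.map_comp_apply, ← op_comp, hT.hom_ext ((σ g).hom ≫ hT.from Y) (hT.from Y)]
    · exact (h s ((key s).2 hs)).exists
  · rintro ⟨hi, hr⟩ x hx
    obtain ⟨t, ht⟩ : x ∈ Set.range (P.map (hT.from Y).op) := hr.symm ▸ (key x).1 hx
    exact ⟨t, ht, fun y hy => hi (hy.trans ht.symm)⟩

set_option backward.isDefEq.respectTransparency.types false in
/-- Sections invariant under the group of a Galois covering descend. -/
theorem galois_sections (hY : Function.Surjective Y.hom.base)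
    (hgal : Nonempty (IsColimit (Cofan.mk (Y ⨯ Y) (fun g : G => prod.lift (𝟙 Y) (σ g).hom))))
    (F : EtCoh.Ab X) :
    Function.Injective (F.obj.map (hT.from Y).op) ∧
      Set.range (F.obj.map (hT.from Y).op) =
        {s : EtCoh.sect F Y | ∀ g : G, F.obj.map (σ g).hom.op s = s} := by
  obtain ⟨hc⟩ := hgal
  have hP : Function.Injective (fun s : (F.obj ⋙ forget AddCommGrpCat.{u + 1}).obj (op (Y ⨯ Y)) =>
      fun g : G => (F.obj ⋙ forget AddCommGrpCat.{u + 1}).map (prod.lift (𝟙 Y) (σ g).hom).op s) := by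
    intro s t h
    rw [← sub_eq_zero (G := F.obj.obj (op (Y ⨯ Y)))]
    refine section_eq_zero_of_germs F _ _ fun u => ?_
    obtain ⟨g, z, hz⟩ := exists_inj_of_isColimit _ hc u
    exact ⟨Y, prod.lift (𝟙 Y) (σ g).hom, ⟨z, hz⟩, (map_sub _ _ _).trans (sub_eq_zero.2 (congrFun h g))⟩
  have hS : Sieve.generate (Presieve.singleton (hT.from Y)) ∈ X.smallEtaleTopology (EtCoh.top X) := by
    rw [mem_topology_iff]
    intro x
    obtain ⟨y, hy⟩ := hY x
    exact ⟨Y, hT.from Y, y, Sieve.le_generate _ _ _ (Presieve.singleton_self _),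
      (congrArg (fun m : Y.left ⟶ X => m.base y)
        ((Category.comp_id _).symm.trans (Over.w (hT.from Y).hom))).trans hy⟩
  have hF := ((isSheaf_iff_isSheaf_of_type _ _).1
    ((sheafCompose X.smallEtaleTopology (forget AddCommGrpCat.{u + 1})).obj F).2) _ hS
  rw [← Presieve.isSheafFor_iff_generate] at hF
  exact (isSheafFor_galois_iff Y σ hT (F.obj ⋙ forget AddCommGrpCat.{u + 1}) hP).1 hF

end Groth.EtaleBase
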