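import Groth.Agent.EtaleBase.GmPic.PicH1
import Groth.Agent.EtaleBase.GmPic.Field
import Groth.Agent.PicAux.UFDExtend

/-!
# Extending local lifts of sections of a quotient by `𝔾ₘ` over a point with factorial local ring
-/

set_option autoImplicit false
set_option backward.isDefEq.respectTransparency.types false
set_option maxHeartbeats 1000000

universe u

open CategoryTheory CategoryTheory.Limits AlgebraicGeometry Opposite TopologicalSpace

namespace Groth.EtaleBase.GmExtend

open Groth.EtaleBase Groth.EtaleBase.GmPic Groth.PicAux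

variable {X : Scheme.{u}}

/-- Sections glue along an open covering of an open. -/
theorem exists_glueOn (F : EtCoh.Ab X) {O : X.Opens} {ι : Type u} (U : ι → X.Opens) (hUO : ∀ i, U i ≤ O)
    (hU : O ≤ ⨆ i, U i) (s : ∀ i, F.obj.obj (op (wet (U i))))
    (h : ∀ i j, resW F (inf_le_left : U i ⊓ U j ≤ U i) (s i) = resW F inf_le_right (s j)) :
    ∃! t : F.obj.obj (op (wet O)), ∀ i, resW F (hUO i) t = s i := by
  have hcov : Sieve.generate (Presieve.ofArrows _ fun i => wetMap (hUO i)) ∈
      X.smallEtaleTopology (wet O) := by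
    rw [mem_topology_iff]
    intro x
    obtain ⟨i, hi⟩ := Opens.mem_iSup.1 (hU (range_wet O x))
    refine ⟨_, wetMap (hUO i), ⟨_, hi⟩, Sieve.le_generate _ _ _ (Presieve.ofArrows.mk i), ?_⟩
    refine O.ι.isOpenEmbedding.injective ?_
    exact (Scheme.Hom.comp_apply _ _ _).symm.trans
      (congrArg (fun m : (U i : Scheme.{u}) ⟶ X => m ⟨_, hi⟩) (X.homOfLE_ι (hUO i)))
  have hF := ((isSheaf_iff_isSheaf_of_type _ _).1
    ((sheafCompose X.smallEtaleTopology (forget AddCommGrpCat.{u + 1})).obj F).2) _ hcov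
  rw [← Presieve.isSheafFor_iff_generate, Presieve.isSheafFor_arrows_iff] at hF
  refine hF s fun i j Z gi gj _ => ?_
  have hr : Sits Z (U i ⊓ U j) :=
    fun x => ⟨range_subset gi (range_wet _) x, range_subset gj (range_wet _) x⟩
  change F.obj.map gi.op (s i) = F.obj.map gj.op (s j)
  rw [map_wet F gi (toWet Z _ hr ≫ wetMap inf_le_left), map_wet F gj (toWet Z _ hr ≫ wetMap inf_le_right),
    op_comp, op_comp, Functor.map_comp_apply, Functor.map_comp_apply]
  exact congrArg _ (h i j)

section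

variable {I Q : EtCoh.Ab X} (f : EtCoh.Gm X ⟶ I) (g : I ⟶ Q) {w : f ≫ g = 0}
  (hS : (ShortComplex.mk f g w).ShortExact)

/-- A unit as a section of the middle sheaf. -/
noncomputable def kl {W : X.Opens} (a : Γ(X, W)ˣ) : I.obj.obj (op (wet W)) :=
  f.hom.app (op (wet W)) (gm (wet W) (PicH1.uW a))

theorem kl_mul {W : X.Opens} (a b : Γ(X, W)ˣ) : kl f (a * b) = kl f a + kl f b := by
  have e : PicH1.uW (a * b) = PicH1.uW a * PicH1.uW b := map_mul _ a b
  rw [kl, e, gm_mul]
  exact (f.hom.app (op (wet W))).hom.map_add _ _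

theorem kl_res {V W : X.Opens} (h : V ≤ W) (a : Γ(X, W)ˣ) :
    resW I h (kl f a) = kl f (Units.map (resX X h).toMonoidHom a) := by
  refine (resW_app f h _).symm.trans (congrArg _ ?_)
  exact (gm_map (wetMap h) (PicH1.uW a)).trans (congrArg (gm _) (PicH1.uW_res h a))

include hS

theorem kl_injective {W : X.Opens} : Function.Injective (kl f (W := W)) :=
  ((EtLimit.sections_exact hS (op (wet W))).1.comp (gm_injective _)).comp PicH1.uW_bijective.1

theorem g_kl {W : X.Opens} (a : Γ(X, W)ˣ) : g.hom.app (op (wet W)) (kl f a) = 0 :=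
  (EtLimit.sections_exact hS (op (wet W))).2.2 _

theorem exists_kl {W : X.Opens} {s : I.obj.obj (op (wet W))} (hs : g.hom.app (op (wet W)) s = 0) :
    ∃ a, kl f a = s := by
  obtain ⟨z, hz⟩ := (EtLimit.sections_exact hS (op (wet W))).2.1 s hs
  obtain ⟨z, rfl⟩ := gm_surjective _ z
  obtain ⟨z, rfl⟩ := PicH1.uW_bijective.2 z
  exact ⟨z, hz⟩

/-- Local lifts of a section over an open. -/
theorem exists_lift_near (O : X.Opens) (q : Q.obj.obj (op (wet O))) (x : X) (hx : x ∈ O) :
    ∃ (U : X.Opens) (h : U ≤ O), x ∈ U ∧ ∃ t : I.obj.obj (op (wet U)),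
      g.hom.app _ t = resW Q h q := by
  obtain ⟨U', hxU', t, ht⟩ := exists_open_lift_at f g w hS (wet O) q ⟨x, hx⟩
  let U' : (O : Scheme.{u}).Opens := U'
  have hle : O.ι ''ᵁ U' ≤ O := by
    rintro _ ⟨z, -, rfl⟩
    exact range_wet O z
  let m : wet (O.ι ''ᵁ U') ⟶ openObj (wet O) U' :=
    MorphismProperty.Over.homMk (O.ι.isoImage U').inv (O.ι.isoImage_inv_ι U')
  refine ⟨O.ι ''ᵁ U', hle, ⟨⟨x, hx⟩, hxU', rfl⟩, I.obj.map m.op t, ?_⟩
  refine (NatTrans.naturality_apply g.hom m.op t).trans ?_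
  refine (congrArg _ ht).trans ?_
  refine (Functor.map_comp_apply Q.obj _ _ _).symm.trans ?_
  exact map_wet Q (m ≫ openHom (wet O) U') (wetMap hle) q

/-- Local lifts glue near a point with factorial local ring. -/
theorem exists_lift_extend [IsLocallyNoetherian X] (O : X.Opens) (q : Q.obj.obj (op (wet O))) (y : X)
    [IsDomain (X.presheaf.stalk y)] [UniqueFactorizationMonoid (X.presheaf.stalk y)] :
    ∃ (W : X.Opens), y ∈ W ∧ ∃ a : I.obj.obj (op (wet (W ⊓ O))),
      g.hom.app _ a = resW Q inf_le_right q := by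
  choose U hUO hxU t ht using fun x : {x : X // x ∈ O} => exists_lift_near f g hS O q x.1 x.2
  have hd : ∀ i k, ∃ a, kl f a = resW I (inf_le_left : U i ⊓ U k ≤ U i) (t i) -
      resW I (inf_le_right : U i ⊓ U k ≤ U k) (t k) := fun i k => exists_kl f g hS (by
    rw [map_sub, resW_app, resW_app, ht, ht, resW_resW, resW_resW]
    exact sub_self _)
  choose η hη using hd
  obtain ⟨V, hyV, -, h, hu, hrel⟩ := exists_extend_at U (fun i k => (η i k : Γ(X, U i ⊓ U k)))
    (fun i k => (η i k).isUnit) (fun i k l => by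
      refine congrArg Units.val (kl_injective f g hS
        (a₁ := Units.map (resX X (inf_le_inf_right (U l) inf_le_left)).toMonoidHom (η i l))
        (a₂ := Units.map (resX X inf_le_left).toMonoidHom (η i k) *
          Units.map (resX X (inf_le_inf_right (U l) inf_le_right)).toMonoidHom (η k l)) ?_)
      rw [kl_mul, ← kl_res, ← kl_res, ← kl_res, hη, hη, hη, map_sub, map_sub, map_sub]
      simp only [resW_resW]
      abel) y
  let s : ∀ i, I.obj.obj (op (wet (V ⊓ U i))) := fun i =>
    resW I inf_le_right (t i) + kl f (hu i).unit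
  have hcompat : ∀ i k, resW I (inf_le_left : (V ⊓ U i) ⊓ (V ⊓ U k) ≤ V ⊓ U i) (s i) =
      resW I inf_le_right (s k) := by
    intro i k
    have hle : (V ⊓ U i) ⊓ (V ⊓ U k) ≤ V ⊓ U i ⊓ U k :=
      le_inf inf_le_left (inf_le_right.trans inf_le_right)
    have e : Units.map (resX X (cle₂ U V i k)).toMonoidHom (hu k).unit =
        Units.map (resX X (cle₁ U V i k)).toMonoidHom (hu i).unit *
          Units.map (resX X (cle₃ U V i k)).toMonoidHom (η i k) := Units.ext (hrel i k)
    have e' := congrArg (kl f) e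
    rw [kl_mul, ← kl_res, ← kl_res, ← kl_res, hη, map_sub] at e'
    have e'' := congrArg (resW I hle) e'
    simp only [map_add, map_sub, resW_resW] at e''
    simp only [s, map_add, resW_resW]
    rw [e'']
    abel
  obtain ⟨a, ha, -⟩ := exists_glueOn I (O := V ⊓ O) (fun i => V ⊓ U i)
    (fun i => inf_le_inf_left V (hUO i))
    (fun x hx => Opens.mem_iSup.2 ⟨⟨x, hx.2⟩, hx.1, hxU ⟨x, hx.2⟩⟩) s hcompat
  refine ⟨V, hyV, a, ?_⟩
  obtain ⟨b, -, hbu⟩ := exists_glueOn Q (O := V ⊓ O) (fun i => V ⊓ U i)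
    (fun i => inf_le_inf_left V (hUO i))
    (fun x hx => Opens.mem_iSup.2 ⟨⟨x, hx.2⟩, hx.1, hxU ⟨x, hx.2⟩⟩)
    (fun i => resW Q (inf_le_right.trans (hUO i)) q) (fun i k => by rw [resW_resW, resW_resW])
  refine (hbu _ fun i => ?_).trans (hbu _ fun i => resW_resW _ _ _ _).symm
  rw [← resW_app, ha, map_add, resW_app, ht, g_kl f g hS, add_zero, resW_resW]

end

end Groth.EtaleBase.GmExtend
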