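import Mathlib.RingTheory.Etale.QuasiFinite
import Mathlib.RingTheory.Etale.StandardEtale
import Mathlib.RingTheory.Smooth.NoetherianDescent
import Mathlib.RingTheory.Unramified.Finite
import Mathlib.RingTheory.Unramified.LocalStructure
import Mathlib.RingTheory.Flat.EquationalCriterion
import Mathlib.RingTheory.Finiteness.ModuleFinitePresentation
import Mathlib.FieldTheory.IsAlgClosed.Basic
import Mathlib.RingTheory.Polynomial.SeparableDegree
import Mathlib.Algebra.CharP.Reduced

/-!
Étale neighbourhoods of a geometric point of `Spec A` and sections of étale algebras over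
integral `A`-algebras: points of an étale algebra over `B` lying over all the geometric points of an
integral `A`-algebra `B` extend to a section after an étale neighbourhood.
-/

set_option autoImplicit false

universe u

open TensorProduct Polynomial

namespace Groth.EtaleBase.IntegralAlg

variable {A : Type u} [CommRing A] {Ω : Type u} [Field Ω] [Algebra A Ω]

/-- An étale neighbourhood of the geometric point `A → Ω`. -/
structure Nbhd (A : Type u) [CommRing A] (Ω : Type u) [Field Ω] [Algebra A Ω] where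
  R : Type u
  [commRing : CommRing R]
  [algebra : Algebra A R]
  [etale : Algebra.Etale A R]
  pt : R →ₐ[A] Ω

attribute [instance] Nbhd.commRing Nbhd.algebra Nbhd.etale

/-- The point of `N.R ⊗ S` given by the point of `N` and a point of `S`. -/
noncomputable def Nbhd.ev (N : Nbhd A Ω) {S : Type u} [CommRing S] [Algebra A S]
    (χ : S →ₐ[A] Ω) : N.R ⊗[A] S →ₐ[A] Ω :=
  Algebra.TensorProduct.lift N.pt χ fun _ _ => Commute.all _ _

@[simp]
lemma Nbhd.ev_tmul (N : Nbhd A Ω) {S : Type u} [CommRing S] [Algebra A S] (χ : S →ₐ[A] Ω)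
    (r : N.R) (s : S) : N.ev χ (r ⊗ₜ s) = N.pt r * χ s := by
  simp [Nbhd.ev]

/-- The common refinement of two neighbourhoods. -/
noncomputable def Nbhd.inf (M N : Nbhd A Ω) : Nbhd A Ω :=
  have : Algebra.Etale A (M.R ⊗[A] N.R) := Algebra.Etale.comp A M.R (M.R ⊗[A] N.R)
  { R := M.R ⊗[A] N.R
    pt := Algebra.TensorProduct.lift M.pt N.pt fun _ _ => Commute.all _ _ }

/-- Localisation of a neighbourhood at an element not vanishing at the point. -/
noncomputable def Nbhd.away (N : Nbhd A Ω) (a : N.R) (ha : N.pt a ≠ 0) : Nbhd A Ω :=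
  have : Algebra.Etale N.R (Localization.Away a) :=
    Algebra.Etale.of_isLocalizationAway a
  have : Algebra.Etale A (Localization.Away a) := Algebra.Etale.comp A N.R (Localization.Away a)
  { R := Localization.Away a
    pt := IsLocalization.Away.liftAlgHom a (f := N.pt) ha.isUnit }

section kill

/-- An integral algebra without points over `ρ` is killed by some element not vanishing at `ρ`. -/
lemma exists_algebraMap_eq_zero [IsAlgClosed Ω] {D : Type u} [CommRing D] [Algebra A D]
    [Algebra.IsIntegral A D] (h : (D →ₐ[A] Ω) → False) :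
    ∃ a : A, algebraMap A Ω a ≠ 0 ∧ algebraMap A D a = 0 := by
  by_contra! hc
  let P : Ideal A := RingHom.ker (algebraMap A Ω)
  have hP : P.IsPrime := RingHom.ker_isPrime _
  have hle : (⊥ : Ideal D).comap (algebraMap A D) ≤ P := fun a ha =>
    by_contra fun hn => hc a hn ha
  obtain ⟨Q, -, hQ, hQP⟩ := Ideal.exists_ideal_over_prime_of_isIntegral P (⊥ : Ideal D) hle
  have : Q.LiesOver P := ⟨hQP.symm⟩
  let : Algebra (A ⧸ P) Ω := (Ideal.Quotient.lift P (algebraMap A Ω) fun a ha => ha).toAlgebra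
  have : IsScalarTower A (A ⧸ P) Ω := .of_algebraMap_eq' rfl
  have : FaithfulSMul (A ⧸ P) Ω := (faithfulSMul_iff_algebraMap_injective _ _).2
    (RingHom.lift_injective_of_ker_le_ideal P _ le_rfl)
  have : Algebra.IsIntegral (A ⧸ P) (D ⧸ Q) := Algebra.IsIntegral.tower_top (R := A)
  exact h (((IsAlgClosed.lift : D ⧸ Q →ₐ[A ⧸ P] Ω).restrictScalars A).comp (Ideal.Quotient.mkₐ A Q))

end kill

section core

variable {R' B' D : Type u} [CommRing R'] [CommRing B'] [CommRing D] [Algebra A R']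
  [Algebra R' Ω] [Algebra R' B'] [Algebra R' D] [Algebra B' D] [IsScalarTower R' B' D]

/-- A finite flat unramified algebra with the same geometric points over `R' → Ω` has a section
after inverting an element of `R'` not vanishing at the point. -/
lemma exists_section_of_points [IsAlgClosed Ω] [Module.Finite R' D] [Algebra.IsIntegral R' B']
    [Algebra.Etale B' D]
    (hex : ∀ φ : B' →ₐ[R'] Ω, ∃ ω : D →ₐ[R'] Ω, ω.comp (IsScalarTower.toAlgHom R' B' D) = φ)
    (huniq : ∀ ω ω' : D →ₐ[R'] Ω, ω.comp (IsScalarTower.toAlgHom R' B' D) =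
      ω'.comp (IsScalarTower.toAlgHom R' B' D) → ω = ω') :
    ∃ a : R', algebraMap R' Ω a ≠ 0 ∧
      Nonempty (D →ₐ[B'] Localization.Away (algebraMap R' B' a)) := by
  have hfin : Module.Finite B' D := Module.Finite.of_restrictScalars_finite R' B' D
  -- step 1 : the diagonal
  obtain ⟨t, ht, ht1⟩ := Algebra.FormallyUnramified.iff_exists_tensorProduct.1
    (inferInstance : Algebra.FormallyUnramified B' D)
  let E := (D ⊗[B'] D)
  let J : Ideal E := Ideal.span {t}
  have : Algebra.IsIntegral R' E := by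
    have : Algebra.IsIntegral B' E := Algebra.IsIntegral.of_finite B' E
    exact Algebra.IsIntegral.trans B'
  obtain ⟨a₁, ha₁, ha₁'⟩ := exists_algebraMap_eq_zero (A := R') (D := E ⧸ J) fun ω => by
    let w : E →ₐ[R'] Ω := ω.comp (Ideal.Quotient.mkₐ R' J)
    have hwt : w t = 0 := by
      show ω (Ideal.Quotient.mk J t) = 0
      rw [Ideal.Quotient.eq_zero_iff_mem.2 (Ideal.mem_span_singleton_self t), map_zero]
    let l : D →ₐ[R'] E := (Algebra.TensorProduct.includeLeft : D →ₐ[R'] E)
    let r : D →ₐ[R'] E := (Algebra.TensorProduct.includeRight : D →ₐ[B'] E).restrictScalars R'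
    have he : w.comp l = w.comp r := huniq _ _ (AlgHom.ext fun b => by
      show w (algebraMap B' D b ⊗ₜ 1) = w (1 ⊗ₜ algebraMap B' D b)
      rw [Algebra.TensorProduct.tmul_one_eq_one_tmul])
    have hmul : ∀ x : E, w x = w.comp l (Algebra.TensorProduct.lmul' B' x) := by
      intro x
      induction x using TensorProduct.induction_on with
      | zero => simp
      | tmul u v =>
        have hx : u ⊗ₜ[B'] v = (u ⊗ₜ 1) * (1 ⊗ₜ v : E) := by simp
        rw [Algebra.TensorProduct.lmul'_apply_tmul, map_mul, hx, map_mul,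
          show w (1 ⊗ₜ v) = (w.comp r) v from rfl, ← he]
        rfl
      | add a b ha hb => rw [map_add, map_add, map_add, ha, hb]
    have := hmul t
    rw [hwt, ht1, map_one] at this
    exact zero_ne_one this
  have hdiag : ∀ x : D, algebraMap R' E a₁ * (1 ⊗ₜ x - x ⊗ₜ 1) = 0 := by
    intro x
    rw [IsScalarTower.algebraMap_apply R' E (E ⧸ J)] at ha₁'
    obtain ⟨c, hc⟩ := Ideal.mem_span_singleton'.1 (Ideal.Quotient.eq_zero_iff_mem.1 ha₁')
    rw [← hc, mul_assoc, mul_comm t, ht, mul_zero]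
  -- step 2 : a linear form
  have : Module.FinitePresentation B' D := Module.FinitePresentation.of_finite_of_finitePresentation B' D
  have : Module.Projective B' D := Module.Flat.projective_of_finitePresentation
  let ev1 : Module.Dual B' D →ₗ[B'] B' := LinearMap.applyₗ (1 : D)
  let O : Ideal B' := LinearMap.range ev1
  obtain ⟨a₂, ha₂, ha₂'⟩ := exists_algebraMap_eq_zero (A := R') (D := B' ⧸ O) fun ω => by
    obtain ⟨w, hw⟩ := hex (ω.comp (Ideal.Quotient.mkₐ R' O))
    obtain ⟨s, hs⟩ := Module.projective_def'.1 (inferInstance : Module.Projective B' D)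
    have h1 : (1 : D) ∈ O.map (algebraMap B' D) := by
      have e := DFunLike.congr_fun hs 1
      rw [LinearMap.comp_apply, Finsupp.linearCombination_apply] at e
      rw [show (1 : D) = (LinearMap.id : D →ₗ[B'] D) 1 from rfl, ← e]
      refine Ideal.sum_mem _ fun i _ => ?_
      show (s 1) i • id i ∈ _
      rw [Algebra.smul_def]
      exact Ideal.mul_mem_right _ _ (Ideal.mem_map_of_mem _ ⟨(Finsupp.lapply i).comp s, rfl⟩)
    have h0 : O.map (algebraMap B' D) ≤ RingHom.ker w := by
      rw [Ideal.map_le_iff_le_comap]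
      intro o ho
      show w (algebraMap B' D o) = 0
      have := DFunLike.congr_fun hw o
      simp only [AlgHom.comp_apply, IsScalarTower.coe_toAlgHom'] at this
      rw [this, show Ideal.Quotient.mkₐ R' O o = 0 from Ideal.Quotient.eq_zero_iff_mem.2 ho,
        map_zero]
    exact one_ne_zero ((map_one w).symm.trans (h0 h1))
  rw [IsScalarTower.algebraMap_apply R' B' (B' ⧸ O), Ideal.Quotient.algebraMap_eq,
    Ideal.Quotient.eq_zero_iff_mem] at ha₂'
  obtain ⟨φ, hφ⟩ := ha₂'
  have hφ1 : φ 1 = algebraMap R' B' a₂ := hφ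
  -- step 3
  let α := algebraMap R' B' a₁
  let β := algebraMap R' B' a₂
  have key : ∀ x : D, (α * β) • x = (α * φ x) • (1 : D) := by
    intro x
    have e := congrArg (TensorProduct.lift ((LinearMap.lsmul B' D).comp φ) : E →ₗ[B'] D) (hdiag x)
    rw [IsScalarTower.algebraMap_apply R' B' E, mul_sub, ← Algebra.smul_def, ← Algebra.smul_def,
      map_sub, map_zero, map_smul, map_smul] at e
    simp only [TensorProduct.lift.tmul, LinearMap.comp_apply, LinearMap.lsmul_apply, hφ1,
      smul_smul, sub_eq_zero] at e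
    exact e
  let L := Localization.Away (algebraMap R' B' (a₁ * a₂))
  have hu : IsUnit (algebraMap B' L (algebraMap R' B' (a₁ * a₂))) :=
    IsLocalization.Away.algebraMap_isUnit _
  have hu' : algebraMap B' L (algebraMap R' B' (a₁ * a₂)) = algebraMap B' L α * algebraMap B' L β :=
    (congrArg (algebraMap B' L) (map_mul (algebraMap R' B') a₁ a₂)).trans (map_mul _ _ _)
  obtain ⟨huα, huβ⟩ : IsUnit (algebraMap B' L α) ∧ IsUnit (algebraMap B' L β) :=
    IsUnit.mul_iff.1 (hu' ▸ hu)
  let f : D →ₗ[B'] L := (↑huβ.unit⁻¹ : L) • ((Algebra.linearMap B' L).comp φ)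
  have hf : ∀ x, algebraMap B' L β * f x = algebraMap B' L (φ x) := fun x => by
    simp only [f, LinearMap.smul_apply, LinearMap.comp_apply, Algebra.linearMap_apply, smul_eq_mul,
      ← mul_assoc, IsUnit.mul_val_inv, one_mul]
  refine ⟨a₁ * a₂, by rw [map_mul]; exact mul_ne_zero ha₁ ha₂,
    ⟨AlgHom.ofLinearMap f ?_ fun x y => ?_⟩⟩
  · apply huβ.mul_left_cancel
    rw [hf, mul_one, hφ1]
  · have k2 : ((α * β) * (α * β)) • (x * y) = ((α * φ x) * (α * φ y)) • (1 : D) := by
      rw [← smul_mul_smul_comm, key, key, smul_mul_smul_comm, mul_one]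
    have k3 := congrArg (fun z => algebraMap B' L (φ z)) k2
    simp only [map_smul, hφ1, smul_eq_mul, map_mul] at k3
    rw [show algebraMap B' L (algebraMap R' B' a₂) = algebraMap B' L β from rfl, ← hf x, ← hf y,
      ← hf (x * y)] at k3
    apply (huα.mul huα).mul_left_cancel
    apply ((huβ.mul huβ).mul huβ).mul_left_cancel
    linear_combination k3

end core

section residue

variable (A Ω)

/-- The kernel of the geometric point. -/
abbrev ptKer : Ideal A := RingHom.ker (algebraMap A Ω)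

instance ptKer_isPrime : (ptKer A Ω).IsPrime := RingHom.ker_isPrime _

/-- The residue field of the geometric point inside `Ω`. -/
@[reducible]
noncomputable def residueAlgebra : Algebra (ptKer A Ω).ResidueField Ω :=
  (Ideal.ResidueField.lift (ptKer A Ω) (algebraMap A Ω) le_rfl
    fun x hx => IsUnit.mk0 _ hx).toAlgebra

attribute [local instance] residueAlgebra

instance residue_isScalarTower : IsScalarTower A (ptKer A Ω).ResidueField Ω :=
  .of_algebraMap_eq fun _ => (Ideal.ResidueField.lift_algebraMap (I := ptKer A Ω) _ _ _ _).symm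

variable {A Ω}

lemma exists_fraction (x : (ptKer A Ω).ResidueField) :
    ∃ a t : A, algebraMap A Ω t ≠ 0 ∧
      algebraMap A _ t * x = algebraMap A (ptKer A Ω).ResidueField a := by
  obtain ⟨⟨a, ⟨t, ht⟩⟩, e⟩ := IsLocalization.surj (nonZeroDivisors (A ⧸ ptKer A Ω)) x
  obtain ⟨a, rfl⟩ := Ideal.Quotient.mk_surjective a
  obtain ⟨t, rfl⟩ := Ideal.Quotient.mk_surjective t
  refine ⟨a, t, fun h => nonZeroDivisors.ne_zero ht (Ideal.Quotient.eq_zero_iff_mem.2 h), ?_⟩
  rw [mul_comm]
  exact e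

/-- Separable elements over the residue field are fractions on an étale neighbourhood. -/
lemma exists_nbhd_separable (y : Ω) (g : (ptKer A Ω).ResidueField[X]) (hg : g.Separable)
    (hgm : g.Monic) (hy : aeval y g = 0) :
    ∃ (N : Nbhd A Ω) (a t : N.R), N.pt t ≠ 0 ∧ N.pt t * y = N.pt a := by
  let k := (ptKer A Ω).ResidueField
  let d := g.natDegree
  obtain ⟨⟨b, hb⟩, hint⟩ := IsLocalization.exist_integer_multiples
    (nonZeroDivisors (A ⧸ ptKer A Ω)) (Finset.range d) g.coeff
  obtain ⟨t, rfl⟩ := Ideal.Quotient.mk_surjective b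
  have ht : algebraMap A Ω t ≠ 0 := fun h =>
    nonZeroDivisors.ne_zero hb (Ideal.Quotient.eq_zero_iff_mem.2 h)
  have ht' : algebraMap A k t ≠ 0 := fun h => ht (by
    rw [IsScalarTower.algebraMap_apply A k Ω, h, map_zero])
  set τ := algebraMap A k t with hτ
  let G : k[X] := g.scaleRoots τ
  have hG : G ∈ Polynomial.lifts (algebraMap A k) := by
    rw [lifts_iff_coeff_lifts]
    intro i
    rw [coeff_scaleRoots]
    rcases lt_trichotomy i d with hi | rfl | hi
    · obtain ⟨c, hc⟩ := hint i (Finset.mem_range.2 hi)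
      obtain ⟨c, rfl⟩ := Ideal.Quotient.mk_surjective c
      refine ⟨c * t ^ (d - i - 1), ?_⟩
      have hc' : algebraMap A k c = τ * g.coeff i := hc.trans (Algebra.smul_def _ _)
      obtain ⟨m, hm⟩ : ∃ m, g.natDegree - i = m + 1 := ⟨d - i - 1, by omega⟩
      have hm' : d - i - 1 = m := by omega
      rw [map_mul, map_pow, hc', hm', hm, pow_succ, hτ]
      ring
    · exact ⟨1, by simp [d, hgm.coeff_natDegree]⟩
    · exact ⟨0, by simp [coeff_eq_zero_of_natDegree_lt hi]⟩
  obtain ⟨F, hF, -, hFm⟩ := lifts_and_natDegree_eq_and_monic hG ((monic_scaleRoots_iff τ).2 hgm)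
  let P : StandardEtalePair A := ⟨F, hFm, derivative F, 1, 0, 1, by simp⟩
  let z : Ω := algebraMap A Ω t * y
  have hz : P.HasMap z := by
    have hGeq : G = C (τ ^ d) * g.comp (C τ⁻¹ * X) := by
      ext i
      rw [coeff_C_mul, comp_C_mul_X_coeff, coeff_scaleRoots]
      rcases le_or_gt i d with hi | hi
      · rw [show τ ^ (g.natDegree - i) = τ ^ d * τ⁻¹ ^ i by
          rw [inv_pow, pow_sub₀ _ ht' hi]]
        ring
      · simp [coeff_eq_zero_of_natDegree_lt hi]
    have hzy : aeval z (C τ⁻¹ * X : k[X]) = y := by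
      rw [map_mul, aeval_C, aeval_X, map_inv₀, ← IsScalarTower.algebraMap_apply A k Ω,
        inv_mul_cancel_left₀ ht]
    refine ⟨?_, ?_⟩
    · show aeval z F = 0
      rw [← aeval_map_algebraMap k, hF, hGeq, map_mul, aeval_comp, hzy, hy, mul_zero]
    · show IsUnit (aeval z (derivative F))
      rw [← aeval_map_algebraMap k, ← derivative_map, hF, hGeq, derivative_C_mul, derivative_comp,
        map_mul, map_mul, aeval_comp, hzy, derivative_C_mul, derivative_X, mul_one, aeval_C,
        aeval_C]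
      refine IsUnit.mul ?_ (IsUnit.mul ?_ ?_)
      · exact (pow_ne_zero _ ht').isUnit.map _
      · exact (inv_ne_zero ht').isUnit.map _
      · exact (hg.aeval_derivative_ne_zero hy).isUnit
  exact ⟨⟨P.Ring, P.lift z hz⟩, P.X, algebraMap A P.Ring t,
    by rw [AlgHom.commutes]; exact ht, by rw [AlgHom.commutes, StandardEtalePair.lift_X]⟩

/-- The statement that `y` is, up to inseparability, a fraction on `N`. -/
def Nbhd.HasRadical (N : Nbhd A Ω) (q : ℕ) (y : Ω) : Prop :=
  ∃ (n : ℕ) (a t : N.R), N.pt t ≠ 0 ∧ N.pt t * y ^ q ^ n = N.pt a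

lemma Nbhd.HasRadical.mono {M N : Nbhd A Ω} {q : ℕ} {y : Ω} (h : M.HasRadical q y)
    (g : M.R →ₐ[A] N.R) (hg : N.pt.comp g = M.pt) : N.HasRadical q y := by
  obtain ⟨n, a, t, ht, e⟩ := h
  exact ⟨n, g a, g t, by rwa [← hg] at ht, by rwa [← hg] at e⟩

/-- Algebraic elements over the residue field are fractions up to inseparability on an étale
neighbourhood. -/
lemma exists_nbhd_algebraic (q : ℕ) [hq : ExpChar Ω q] (y : Ω)
    (hy : IsIntegral (ptKer A Ω).ResidueField y) : ∃ N : Nbhd A Ω, N.HasRadical q y := by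
  let k := (ptKer A Ω).ResidueField
  have : ExpChar k q := (RingHom.expChar_iff (algebraMap k Ω) (algebraMap k Ω).injective q).2 hq
  obtain ⟨g, hgs, n, hge⟩ := Irreducible.hasSeparableContraction q (minpoly.irreducible hy)
  have h0 : aeval (y ^ q ^ n) g = 0 := by rw [← expand_aeval, hge, minpoly.aeval]
  have hgm : g.Monic := (monic_expand_iff (pow_pos (expChar_pos k q) n)).1
    (hge ▸ minpoly.monic hy)
  obtain ⟨N, a, t, ht, e⟩ := exists_nbhd_separable (y ^ q ^ n) g hgs hgm h0
  exact ⟨N, n, a, t, ht, e⟩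

/-- Finitely many algebraic elements are simultaneously fractions up to inseparability. -/
lemma exists_nbhd_algebraic_finite (q : ℕ) [ExpChar Ω q] (Y : Finset Ω)
    (hY : ∀ y ∈ Y, IsIntegral (ptKer A Ω).ResidueField y) :
    ∃ N : Nbhd A Ω, ∀ y ∈ Y, N.HasRadical q y := by
  classical
  induction Y using Finset.induction_on with
  | empty => exact ⟨⟨A, Algebra.ofId A Ω⟩, by simp⟩
  | insert y Y _ ih =>
    obtain ⟨M, hM⟩ := ih fun z hz => hY z (Finset.mem_insert_of_mem hz)
    obtain ⟨N, hN⟩ := exists_nbhd_algebraic q y (hY y (Finset.mem_insert_self y Y))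
    refine ⟨M.inf N, fun z hz => ?_⟩
    rcases Finset.mem_insert.1 hz with rfl | hz
    · exact hN.mono (N := M.inf N) Algebra.TensorProduct.includeRight
        (Algebra.TensorProduct.lift_comp_includeRight _ _ fun _ _ => Commute.all _ _)
    · exact (hM z hz).mono (N := M.inf N) Algebra.TensorProduct.includeLeft
        (Algebra.TensorProduct.lift_comp_includeLeft _ _ fun _ _ => Commute.all _ _)

/-- Points of quasi-finite algebras are algebraic over the residue field. -/
lemma isIntegral_apply_point {S : Type u} [CommRing S] [Algebra A S] [Algebra.QuasiFinite A S]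
    (χ : S →ₐ[A] Ω) (s : S) : IsIntegral (ptKer A Ω).ResidueField (χ s) := by
  let k := (ptKer A Ω).ResidueField
  let F : (ptKer A Ω).Fiber S →ₐ[k] Ω :=
    Algebra.TensorProduct.lift (Algebra.ofId k Ω) χ fun _ _ => Commute.all _ _
  have : F (1 ⊗ₜ s) = χ s := by simp [F]
  exact this ▸ (Algebra.IsIntegral.isIntegral (R := k) (1 ⊗ₜ s : (ptKer A Ω).Fiber S)).map F

end residue

section isolate

variable {S : Type u} [CommRing S] [Algebra A S]

/-- An idempotent with finite corner in `N.R ⊗ S` whose geometric points are the members of `X`. -/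
structure Isolates (N : Nbhd A Ω) (X : Set (S →ₐ[A] Ω)) (e : N.R ⊗[A] S) : Prop where
  idem : IsIdempotentElem e
  finite : ∃ G : Finset (N.R ⊗[A] S), ∀ x, e * x ∈ Submodule.span N.R (G : Set (N.R ⊗[A] S))
  pt : ∀ χ : S →ₐ[A] Ω, N.ev χ e = 1 ↔ χ ∈ X

lemma Isolates.mono {M N : Nbhd A Ω} {X : Set (S →ₐ[A] Ω)} {e : M.R ⊗[A] S}
    (h : Isolates M X e) (g : M.R →ₐ[A] N.R) (hg : N.pt.comp g = M.pt) :
    Isolates N X (Algebra.TensorProduct.map g (AlgHom.id A S) e) := by
  classical
  let φ := Algebra.TensorProduct.map g (AlgHom.id A S)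
  obtain ⟨G, hG⟩ := h.finite
  have hφ : ∀ y ∈ Submodule.span M.R (G : Set (M.R ⊗[A] S)),
      φ y ∈ Submodule.span N.R ((G.image φ : Finset _) : Set (N.R ⊗[A] S)) := by
    intro y hy
    induction hy using Submodule.span_induction with
    | mem y hy => exact Submodule.subset_span (Finset.mem_coe.2 (Finset.mem_image_of_mem φ hy))
    | zero => simp
    | add a b _ _ ha hb => rw [map_add]; exact add_mem ha hb
    | smul r y _ hy =>
      rw [Algebra.smul_def, map_mul, show φ (algebraMap M.R _ r) = algebraMap N.R _ (g r) by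
        simp [φ, Algebra.TensorProduct.algebraMap_apply], ← Algebra.smul_def]
      exact Submodule.smul_mem _ _ hy
  refine ⟨h.idem.map φ, ⟨G.image φ, fun x => ?_⟩, fun χ => ?_⟩
  · induction x using TensorProduct.induction_on with
    | zero => simp
    | tmul r s =>
      rw [show r ⊗ₜ[A] s = r • φ (1 ⊗ₜ s) by simp [φ, TensorProduct.smul_tmul'], mul_smul_comm,
        ← map_mul]
      exact Submodule.smul_mem _ _ (hφ _ (hG _))
    | add a b ha hb => rw [mul_add]; exact add_mem ha hb
  · have : (N.ev χ).comp φ = M.ev χ := by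
      refine Algebra.TensorProduct.ext ?_ ?_
      · refine AlgHom.ext fun r => ?_
        simp [φ, ← hg]
      · refine AlgHom.ext fun s => ?_
        simp [φ]
    rw [← h.pt χ, ← this]
    rfl

lemma Nbhd.ev_idem (N : Nbhd A Ω) {e : N.R ⊗[A] S} (he : IsIdempotentElem e) (χ : S →ₐ[A] Ω) :
    N.ev χ e = 0 ∨ N.ev χ e = 1 :=
  IsIdempotentElem.iff_eq_zero_or_one.1 (he.map (N.ev χ))

variable [Algebra.QuasiFinite A S] [Algebra.FiniteType A S]

set_option backward.isDefEq.respectTransparency.types false in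
/-- A point of a quasi-finite algebra is isolated on some étale neighbourhood. -/
lemma exists_isolates_point (χ : S →ₐ[A] Ω) :
    ∃ (N : Nbhd A Ω) (e : N.R ⊗[A] S), Isolates N {χ} e := by
  classical
  obtain ⟨q, _⟩ := ExpChar.exists Ω
  obtain ⟨G, hG⟩ := Algebra.FiniteType.out (R := A) (A := S)
  obtain ⟨N₁, hN₁⟩ := exists_nbhd_algebraic_finite q (G.image χ) fun y hy => by
    obtain ⟨s, -, rfl⟩ := Finset.mem_image.1 hy
    exact isIntegral_apply_point χ s
  letI : Algebra N₁.R Ω := N₁.pt.toAlgebra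
  haveI : IsScalarTower A N₁.R Ω := .of_algebraMap_eq fun a => (N₁.pt.commutes a).symm
  let p₁ : Ideal N₁.R := ptKer N₁.R Ω
  let q₁ : Ideal (N₁.R ⊗[A] S) := RingHom.ker (N₁.ev χ)
  have : q₁.IsPrime := RingHom.ker_isPrime _
  have hev₁ : ∀ (χ' : S →ₐ[A] Ω) (r : N₁.R), N₁.ev χ' (algebraMap N₁.R (N₁.R ⊗[A] S) r) = algebraMap N₁.R Ω r := by
    intro χ' r
    simp [Algebra.TensorProduct.algebraMap_apply, RingHom.algebraMap_toAlgebra]
  have : q₁.LiesOver p₁ := ⟨Ideal.ext fun r => by
    simp only [Ideal.mem_comap, p₁, q₁, RingHom.mem_ker, hev₁]⟩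
  obtain ⟨R', _, _, _, P, _, _, e, he, P', _, _, hP'q, heP', hres, hfin, huniq⟩ :=
    Algebra.exists_etale_isIdempotentElem_forall_liesOver_eq p₁ q₁
  -- the point of the new neighbourhood
  let ι : p₁.ResidueField ≃ₐ[N₁.R] P.ResidueField :=
    AlgEquiv.ofBijective (Ideal.ResidueField.mapₐ p₁ P (Algebra.ofId _ _) (P.over_def p₁)) hres
  letI := residueAlgebra N₁.R Ω
  let pt' : R' →ₐ[N₁.R] Ω := (IsScalarTower.toAlgHom N₁.R p₁.ResidueField Ω).comp
    (ι.symm.toAlgHom.comp (IsScalarTower.toAlgHom N₁.R R' P.ResidueField))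
  have hker : ∀ r, pt' r = 0 ↔ r ∈ P := fun r => by
    show algebraMap p₁.ResidueField Ω (ι.symm (algebraMap R' P.ResidueField r)) = 0 ↔ _
    rw [map_eq_zero, EmbeddingLike.map_eq_zero_iff, Ideal.algebraMap_residueField_eq_zero]
  letI : Algebra A R' := ((algebraMap N₁.R R').comp (algebraMap A N₁.R)).toAlgebra
  haveI : IsScalarTower A N₁.R R' := .of_algebraMap_eq' rfl
  haveI : Algebra.Etale A R' := Algebra.Etale.comp A N₁.R R'
  let N : Nbhd A Ω := { R := R', pt := pt'.restrictScalars A }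
  let h : (R' ⊗[N₁.R] (N₁.R ⊗[A] S)) →ₐ[R'] R' ⊗[A] S :=
    Algebra.TensorProduct.lift (Algebra.ofId R' _)
      (Algebra.TensorProduct.map (Algebra.ofId N₁.R R') (AlgHom.id A S)) fun _ _ => Commute.all _ _
  let ω : (S →ₐ[A] Ω) → ((R' ⊗[N₁.R] (N₁.R ⊗[A] S)) →ₐ[N₁.R] Ω) := fun χ' =>
    Algebra.TensorProduct.lift pt' (Algebra.TensorProduct.lift (Algebra.ofId N₁.R Ω) χ'
      fun _ _ => Commute.all _ _) fun _ _ => Commute.all _ _
  have hω : ∀ χ' (x : (R' ⊗[N₁.R] (N₁.R ⊗[A] S))), N.ev χ' (h x) = ω χ' x := by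
    intro χ' x
    induction x using TensorProduct.induction_on with
    | zero => simp
    | tmul r z =>
      induction z using TensorProduct.induction_on with
      | zero => simp
      | tmul r₁ s =>
        simp [h, ω, N, Nbhd.ev, Algebra.TensorProduct.algebraMap_apply, mul_assoc,
          RingHom.algebraMap_toAlgebra]
      | add a b ha hb => simp only [TensorProduct.tmul_add, map_add, ha, hb]
    | add a b ha hb => simp only [map_add, ha, hb]
  have hω₁ : ∀ χ' (z : (N₁.R ⊗[A] S)), ω χ' (1 ⊗ₜ z) = N₁.ev χ' z := by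
    intro χ' z
    induction z using TensorProduct.induction_on with
    | zero => simp
    | tmul r₁ s => simp [ω, Nbhd.ev, RingHom.algebraMap_toAlgebra]
    | add a b ha hb => simp only [TensorProduct.tmul_add, map_add, ha, hb]
  have hωP : ∀ χ' (r : R'), ω χ' (r ⊗ₜ 1) = pt' r := fun χ' r => by simp [ω]
  have hover : ∀ χ', (RingHom.ker (ω χ')).LiesOver P := fun χ' => ⟨Ideal.ext fun r => by
    simp [Algebra.TensorProduct.algebraMap_apply, hωP, hker]⟩
  -- the residue field does not grow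
  have hfrac : ∀ x : (R' ⊗[N₁.R] (N₁.R ⊗[A] S)), ∃ (t : N₁.R) (z : (N₁.R ⊗[A] S)), algebraMap N₁.R Ω t ≠ 0 ∧
      algebraMap N₁.R (R' ⊗[N₁.R] (N₁.R ⊗[A] S)) t * x - 1 ⊗ₜ z ∈ P.map (algebraMap R' (R' ⊗[N₁.R] (N₁.R ⊗[A] S))) := by
    intro x
    induction x using TensorProduct.induction_on with
    | zero => exact ⟨1, 0, by simp, by simp⟩
    | tmul r z =>
      obtain ⟨a, t, ht, hat⟩ := exists_fraction (ι.symm (algebraMap R' P.ResidueField r))
      refine ⟨t, a • z, ht, ?_⟩
      have hmem : algebraMap N₁.R R' t * r - algebraMap N₁.R R' a ∈ P := by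
        rw [← Ideal.algebraMap_residueField_eq_zero, map_sub, map_mul,
          ← IsScalarTower.algebraMap_apply, ← IsScalarTower.algebraMap_apply, sub_eq_zero]
        apply ι.symm.injective
        simpa using hat
      have : algebraMap N₁.R (R' ⊗[N₁.R] (N₁.R ⊗[A] S)) t * r ⊗ₜ z - 1 ⊗ₜ (a • z) =
          algebraMap R' (R' ⊗[N₁.R] (N₁.R ⊗[A] S)) (algebraMap N₁.R R' t * r - algebraMap N₁.R R' a) * (1 ⊗ₜ z) := by
        rw [TensorProduct.tmul_smul, TensorProduct.smul_tmul', Algebra.algebraMap_eq_smul_one (R := N₁.R) (A := (R' ⊗[N₁.R] (N₁.R ⊗[A] S))),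
          smul_mul_assoc, one_mul, TensorProduct.smul_tmul', map_sub, sub_mul]
        simp [Algebra.TensorProduct.algebraMap_apply, Algebra.smul_def]
      rw [this]
      exact Ideal.mul_mem_right _ _ (Ideal.mem_map_of_mem _ hmem)
    | add x y hx hy =>
      obtain ⟨t, z, ht, hxz⟩ := hx
      obtain ⟨t', z', ht', hyz⟩ := hy
      refine ⟨t * t', t' • z + t • z', by rw [map_mul]; exact mul_ne_zero ht ht', ?_⟩
      have : algebraMap N₁.R (R' ⊗[N₁.R] (N₁.R ⊗[A] S)) (t * t') * (x + y) - 1 ⊗ₜ (t' • z + t • z') =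
          algebraMap N₁.R (R' ⊗[N₁.R] (N₁.R ⊗[A] S)) t' * (algebraMap N₁.R (R' ⊗[N₁.R] (N₁.R ⊗[A] S)) t * x - 1 ⊗ₜ z) +
          algebraMap N₁.R (R' ⊗[N₁.R] (N₁.R ⊗[A] S)) t * (algebraMap N₁.R (R' ⊗[N₁.R] (N₁.R ⊗[A] S)) t' * y - 1 ⊗ₜ z') := by
        rw [TensorProduct.tmul_add, TensorProduct.tmul_smul, TensorProduct.tmul_smul,
          ← algebraMap_smul (R' ⊗[N₁.R] (N₁.R ⊗[A] S)) t', ← algebraMap_smul (R' ⊗[N₁.R] (N₁.R ⊗[A] S)) t,
          smul_eq_mul, smul_eq_mul, map_mul]
        ring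
      rw [this]
      exact add_mem (Ideal.mul_mem_left _ _ hxz) (Ideal.mul_mem_left _ _ hyz)
  have hP'ker : RingHom.ker (ω χ) = P' := by
    ext x
    obtain ⟨t, z, ht, hx⟩ := hfrac x
    have key : ∀ Q : Ideal (R' ⊗[N₁.R] (N₁.R ⊗[A] S)), Q.IsPrime → Q.LiesOver P → (x ∈ Q ↔
        z ∈ Q.comap (Algebra.TensorProduct.includeRight : (N₁.R ⊗[A] S) →ₐ[N₁.R] (R' ⊗[N₁.R] (N₁.R ⊗[A] S))).toRingHom) := by
      intro Q hQ hQP
      have hle : P.map (algebraMap R' (R' ⊗[N₁.R] (N₁.R ⊗[A] S))) ≤ Q := Ideal.map_le_iff_le_comap.2 (Q.over_def P).le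
      have htQ : algebraMap N₁.R (R' ⊗[N₁.R] (N₁.R ⊗[A] S)) t ∉ Q := fun hm => by
        have : algebraMap N₁.R R' t ∈ P := by
          rw [Q.over_def P]
          simpa [← IsScalarTower.algebraMap_apply] using hm
        exact ht ((Ideal.ext_iff.1 (P.over_def p₁) t).2 this)
      rw [Ideal.mem_comap, ← (hQ.mul_mem_iff_mem_or_mem.trans (or_iff_right htQ))]
      exact ⟨fun h => (Submodule.sub_mem_iff_right _ h).1 (hle hx),
        fun h => (Submodule.sub_mem_iff_left _ h).1 (hle hx)⟩
    rw [key _ (RingHom.ker_isPrime _) (hover χ), key P' inferInstance inferInstance, hP'q]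
    simp [q₁, hω₁]
  -- the finite corner
  obtain ⟨gens, hgens⟩ := hfin.fg_top
  have hnum : ∀ d : Localization.Away e, ∃ x : (R' ⊗[N₁.R] (N₁.R ⊗[A] S)), algebraMap (R' ⊗[N₁.R] (N₁.R ⊗[A] S)) (Localization.Away e) x = d := by
    intro d
    obtain ⟨⟨x, ⟨_, n, rfl⟩⟩, hx⟩ := IsLocalization.surj (Submonoid.powers e) d
    refine ⟨x, ?_⟩
    have h1 : algebraMap (R' ⊗[N₁.R] (N₁.R ⊗[A] S)) (Localization.Away e) e = 1 :=
      ((IsLocalization.Away.algebraMap_isUnit e).mul_eq_left).1 (by rw [← map_mul, he.eq])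
    rw [← hx, map_pow, h1, one_pow, mul_one]
  choose num hnum using hnum
  have hcorner : ∀ x : (R' ⊗[N₁.R] (N₁.R ⊗[A] S)), e * x ∈ Submodule.span R' (((gens.image fun d => e * num d) : Finset (R' ⊗[N₁.R] (N₁.R ⊗[A] S))) : Set (R' ⊗[N₁.R] (N₁.R ⊗[A] S))) := by
    intro x
    have : algebraMap (R' ⊗[N₁.R] (N₁.R ⊗[A] S)) (Localization.Away e) x ∈ Submodule.span R' (gens : Set (Localization.Away e)) :=
      hgens ▸ Submodule.mem_top
    obtain ⟨c, hc⟩ := Submodule.mem_span_finset'.1 this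
    have h0 : algebraMap (R' ⊗[N₁.R] (N₁.R ⊗[A] S)) (Localization.Away e) x =
        algebraMap (R' ⊗[N₁.R] (N₁.R ⊗[A] S)) (Localization.Away e) (∑ d : gens, c d • num d) := by
      rw [← hc, map_sum]
      refine Finset.sum_congr rfl fun d _ => ?_
      rw [← algebraMap_smul (R' ⊗[N₁.R] (N₁.R ⊗[A] S)) (c d) (num d), smul_eq_mul, map_mul, hnum,
        ← IsScalarTower.algebraMap_apply, ← Algebra.smul_def]
    obtain ⟨⟨_, n, rfl⟩, hn⟩ := (IsLocalization.eq_iff_exists (Submonoid.powers e) _).1 h0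
    have : e * x = e * ∑ d : gens, c d • num d := by
      rcases Nat.eq_zero_or_pos n with rfl | hpos
      · simp only [pow_zero, one_mul] at hn
        rw [hn]
      · simpa [he.pow_eq hpos.ne'] using hn
    rw [this, Finset.mul_sum]
    refine Submodule.sum_mem _ fun d _ => ?_
    rw [mul_smul_comm]
    exact Submodule.smul_mem _ _ (Submodule.subset_span
      (Finset.mem_coe.2 (Finset.mem_image_of_mem (fun d => e * num d) d.2)))
  refine ⟨N, h e, he.map h, ⟨(gens.image fun d => e * num d).image h, fun y => ?_⟩, fun χ' => ?_⟩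
  · induction y using TensorProduct.induction_on with
    | zero => simp
    | tmul r s =>
      have : r ⊗ₜ[A] s = h (r ⊗ₜ (1 ⊗ₜ s)) := by
        simp [h, Algebra.TensorProduct.algebraMap_apply]
      rw [this, ← map_mul, Finset.coe_image]
      refine (Submodule.map_span h.toLinearMap _).le ?_
      exact Submodule.mem_map_of_mem (hcorner _)
    | add a b ha hb => rw [mul_add]; exact add_mem ha hb
  · rw [hω, Set.mem_singleton_iff]
    constructor
    · intro h1
      have hk : RingHom.ker (ω χ') = P' := by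
        have := hover χ'
        exact huniq _ (RingHom.ker_isPrime _) this (by simp [h1])
      refine AlgHom.ext_of_adjoin_eq_top hG fun s hs => ?_
      obtain ⟨n, a, t, ht, hat⟩ := hN₁ (χ s) (Finset.mem_image_of_mem χ hs)
      have hu : N₁.ev χ (t ⊗ₜ (s ^ q ^ n) - a ⊗ₜ 1) = 0 := by simp [hat]
      have hu' : N₁.ev χ' (t ⊗ₜ (s ^ q ^ n) - a ⊗ₜ 1) = 0 := by
        rw [← hω₁, ← RingHom.mem_ker, hk, ← hP'ker, RingHom.mem_ker, hω₁]
        exact hu
      simp only [map_sub, Nbhd.ev_tmul, map_one, mul_one, map_pow, sub_eq_zero] at hu'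
      exact iterateFrobenius_inj Ω q n (by
        simpa [iterateFrobenius_def] using mul_left_cancel₀ ht (hu'.trans hat.symm))
    · rintro rfl
      have : e ∉ RingHom.ker (ω χ') := by rw [hP'ker]; exact heP'
      exact (IsIdempotentElem.iff_eq_zero_or_one.1 (he.map (ω χ'))).resolve_left this

/-- Finitely many points are isolated on an étale neighbourhood. -/
lemma exists_isolates_finite (X : Finset (S →ₐ[A] Ω)) :
    ∃ (N : Nbhd A Ω) (e : N.R ⊗[A] S), Isolates N (X : Set (S →ₐ[A] Ω)) e := by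
  classical
  induction X using Finset.induction_on with
  | empty => exact ⟨⟨A, Algebra.ofId A Ω⟩, 0, .zero, ⟨∅, by simp⟩, by simp⟩
  | insert χ X _ ih =>
    obtain ⟨M₀, e₀, h₀⟩ := ih
    obtain ⟨M₁, e₁, h₁⟩ := exists_isolates_point χ
    let M := M₀.inf M₁
    have k₀ := h₀.mono (N := M) Algebra.TensorProduct.includeLeft
      (Algebra.TensorProduct.lift_comp_includeLeft _ _ fun _ _ => Commute.all _ _)
    have k₁ := h₁.mono (N := M) Algebra.TensorProduct.includeRight
      (Algebra.TensorProduct.lift_comp_includeRight _ _ fun _ _ => Commute.all _ _)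
    obtain ⟨f₀, k₀⟩ : ∃ f, Isolates M (X : Set (S →ₐ[A] Ω)) f := ⟨_, k₀⟩
    obtain ⟨f₁, k₁⟩ : ∃ f, Isolates M ({χ} : Set (S →ₐ[A] Ω)) f := ⟨_, k₁⟩
    refine ⟨M, f₀ + f₁ - f₀ * f₁, ?_, ?_, fun χ' => ?_⟩
    · show _ * _ = _
      linear_combination (1 - 2 * f₁ + f₁ * f₁) * k₀.idem.eq + (1 - f₀) * k₁.idem.eq
    · obtain ⟨G₀, hG₀⟩ := k₀.finite
      obtain ⟨G₁, hG₁⟩ := k₁.finite
      refine ⟨G₀ ∪ G₁, fun x => ?_⟩
      rw [show (f₀ + f₁ - f₀ * f₁) * x = f₀ * x + f₁ * (x - f₀ * x) by ring, Finset.coe_union,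
        Submodule.span_union]
      exact add_mem (Submodule.mem_sup_left (hG₀ x)) (Submodule.mem_sup_right (hG₁ _))
    · have p₀ := k₀.pt χ'
      have p₁ := k₁.pt χ'
      rcases M.ev_idem k₀.idem χ' with e₀' | e₀' <;>
        rcases M.ev_idem k₁.idem χ' with e₁' | e₁' <;>
        simp_all

end isolate

section sections

variable {B C : Type u} [CommRing B] [CommRing C] [Algebra A B] [Algebra A C] [Algebra B C]
  [IsScalarTower A B C]

lemma etale_quotient_idempotent {R T : Type u} [CommRing R] [CommRing T] [Algebra R T]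
    [Algebra.Etale R T] {e : T} (he : IsIdempotentElem e) :
    Algebra.Etale R (T ⧸ Ideal.span {1 - e}) := by
  have : IsLocalization.Away e (T ⧸ Ideal.span {1 - e}) :=
    IsLocalization.away_of_isIdempotentElem he
      Ideal.mk_ker Ideal.Quotient.mk_surjective
  have : Algebra.Etale T (T ⧸ Ideal.span {1 - e}) := Algebra.Etale.of_isLocalizationAway e
  exact Algebra.Etale.comp R T _

lemma finite_points_of_finite [Module.Finite A B] : Finite (B →ₐ[A] Ω) := by
  obtain ⟨G, hG⟩ := (inferInstance : Algebra.FiniteType A B).out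
  let roots : B → Set Ω := fun b =>
    {x | ((minpoly A b).map (algebraMap A Ω)).IsRoot x}
  have hroots : ∀ b, (roots b).Finite := fun b =>
    Polynomial.finite_setOf_isRoot ((minpoly.monic (Algebra.IsIntegral.isIntegral b)).map _).ne_zero
  have (g : G) : Finite (roots g) := (hroots g).to_subtype
  have hmem : ∀ (ψ : B →ₐ[A] Ω) (b : B), ψ b ∈ roots b := fun ψ b => by
    show IsRoot _ _
    rw [IsRoot.def, eval_map_algebraMap, aeval_algHom_apply, minpoly.aeval, map_zero]
  refine Finite.of_injective (fun ψ (g : G) => (⟨ψ g, hmem ψ g⟩ : roots g)) fun ψ ψ' h =>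
    AlgHom.ext_of_adjoin_eq_top hG fun x hx => ?_
  exact congrArg Subtype.val (congrFun h ⟨x, hx⟩)

attribute [local instance] Algebra.TensorProduct.rightAlgebra

set_option backward.isDefEq.respectTransparency.types false in
/-- An étale algebra over a finite algebra has a section through prescribed geometric points over
all the geometric points of the finite algebra, after an étale neighbourhood of the base. -/
lemma exists_section_finite [IsAlgClosed Ω] [Module.Finite A B] [Algebra.Etale B C]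
    (χ : (B →ₐ[A] Ω) → (C →ₐ[A] Ω))
    (hχ : ∀ ψ, (χ ψ).comp (IsScalarTower.toAlgHom A B C) = ψ) :
    ∃ (N : Nbhd A Ω) (σ : C →ₐ[B] B ⊗[A] N.R), ∀ ψ x,
      Algebra.TensorProduct.lift ψ N.pt (fun _ _ => Commute.all _ _) (σ x) = χ ψ x := by
  have : Algebra.QuasiFinite A C := Algebra.QuasiFinite.trans A B C
  have : Algebra.FiniteType A C := Algebra.FiniteType.trans (S := B) inferInstance inferInstance
  have := finite_points_of_finite (A := A) (Ω := Ω) (B := B)
  obtain ⟨N, e, hNe⟩ := exists_isolates_finite (Set.finite_range χ).toFinset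
  simp only [Set.Finite.coe_toFinset] at hNe
  let R := N.R
  letI : Algebra R Ω := N.pt.toAlgebra
  haveI : IsScalarTower A R Ω := .of_algebraMap_eq fun a => (N.pt.commutes a).symm
  let B' := B ⊗[A] N.R
  let C' := (B ⊗[A] N.R) ⊗[B] C
  have : IsScalarTower N.R (B ⊗[A] N.R) C' := inferInstance
  have : IsScalarTower A N.R C' := inferInstance
  let j : N.R ⊗[A] C →ₐ[N.R] C' := Algebra.TensorProduct.lift (Algebra.ofId N.R C')
    ((Algebra.TensorProduct.includeRight : C →ₐ[B] C').restrictScalars A) fun _ _ => Commute.all _ _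
  have hj : ∀ (r : N.R) (x : C), j (r ⊗ₜ x) = ((1 : B) ⊗ₜ[A] r) ⊗ₜ[B] x := fun r x => by
    show algebraMap N.R C' r * (1 ⊗ₜ x : C') = _
    show ((1 : B) ⊗ₜ[A] r) ⊗ₜ[B] (1 : C) * (1 ⊗ₜ x : C') = _
    rw [Algebra.TensorProduct.tmul_mul_tmul, mul_one, one_mul]
  have hjsurj : Function.Surjective j := fun y => by
    induction y using TensorProduct.induction_on with
    | zero => exact ⟨0, map_zero j⟩
    | tmul u x =>
      induction u using TensorProduct.induction_on with
      | zero => exact ⟨0, by simp⟩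
      | tmul b r =>
        refine ⟨r ⊗ₜ (b • x), ?_⟩
        rw [hj, TensorProduct.tmul_smul, TensorProduct.smul_tmul', TensorProduct.smul_tmul',
          smul_eq_mul, mul_one]
      | add a b ha hb =>
        obtain ⟨a', ha⟩ := ha
        obtain ⟨b', hb⟩ := hb
        exact ⟨a' + b', by rw [map_add, ha, hb, TensorProduct.add_tmul]⟩
    | add a b ha hb =>
      obtain ⟨a', rfl⟩ := ha
      obtain ⟨b', rfl⟩ := hb
      exact ⟨a' + b', map_add j a' b'⟩
  let J : Ideal C' := Ideal.span {1 - j e}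
  have hje : Ideal.Quotient.mk J (j e) = 1 := by
    rw [eq_comm, ← map_one (Ideal.Quotient.mk J), Ideal.Quotient.eq]
    exact Ideal.mem_span_singleton_self _
  have hfin : Module.Finite N.R (C' ⧸ J) := by
    classical
    obtain ⟨G, hG⟩ := hNe.finite
    let f : N.R ⊗[A] C →ₐ[N.R] C' ⧸ J := (Ideal.Quotient.mkₐ N.R J).comp j
    refine ⟨⟨G.image f, eq_top_iff.2 fun d _ => ?_⟩⟩
    obtain ⟨y, rfl⟩ := Ideal.Quotient.mk_surjective d
    obtain ⟨x, rfl⟩ := hjsurj y
    have : Ideal.Quotient.mk J (j x) = f (e * x) := by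
      show _ = Ideal.Quotient.mk J (j (e * x))
      rw [map_mul, map_mul, hje]
      exact (one_mul (Ideal.Quotient.mk J (j x))).symm
    rw [this, Finset.coe_image]
    exact (Submodule.map_span f.toLinearMap _).le (Submodule.mem_map_of_mem (hG x))
  have : Algebra.Etale (B ⊗[A] N.R) (C' ⧸ J) :=
    etale_quotient_idempotent (hNe.idem.map j)
  -- restriction of points of the corner to points of `C`
  let res : (C' ⧸ J →ₐ[N.R] Ω) → (C →ₐ[A] Ω) := fun w =>
    ((w.restrictScalars A).comp (Ideal.Quotient.mkₐ A J)).comp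
      ((Algebra.TensorProduct.includeRight : C →ₐ[B] C').restrictScalars A)
  have hev : ∀ w x, w (Ideal.Quotient.mk J (j x)) = N.ev (res w) x := by
    intro w x
    induction x using TensorProduct.induction_on with
    | zero => simp
    | tmul r x =>
      rw [Nbhd.ev_tmul, hj, show ((1 : B) ⊗ₜ[A] r) ⊗ₜ[B] x =
        algebraMap N.R C' r * ((1 : B ⊗[A] N.R) ⊗ₜ x) by
          show _ = ((1 : B) ⊗ₜ[A] r) ⊗ₜ[B] (1 : C) * _
          rw [Algebra.TensorProduct.tmul_mul_tmul, mul_one, one_mul], map_mul, map_mul]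
      exact congrArg (· * _) (w.commutes r)
    | add a b ha hb => rw [map_add, map_add, map_add, map_add, ha, hb]
  have hresψ : ∀ w, ∃ ψ, χ ψ = res w := fun w => by
    refine (hNe.pt (res w)).1 ?_
    rw [← hev, hje, map_one]
  have hresB : ∀ (w : C' ⧸ J →ₐ[N.R] Ω) (b : B), w (Ideal.Quotient.mk J ((b ⊗ₜ[A] (1 : N.R)) ⊗ₜ[B] (1 : C))) = res w (algebraMap B C b) := by
    intro w b
    show w (Ideal.Quotient.mk J ((b ⊗ₜ[A] (1 : N.R)) ⊗ₜ[B] (1 : C))) =
      w (Ideal.Quotient.mk J ((1 : B ⊗[A] N.R) ⊗ₜ[B] algebraMap B C b))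
    congr 2
    rw [Algebra.algebraMap_eq_smul_one, TensorProduct.tmul_smul, TensorProduct.smul_tmul',
      Algebra.TensorProduct.one_def, TensorProduct.smul_tmul', smul_eq_mul, mul_one]
  have hexist : ∀ ψ : B →ₐ[A] Ω, ∃ w : C' ⧸ J →ₐ[N.R] Ω, res w = χ ψ := by
    intro ψ
    letI : Algebra B Ω := ψ.toRingHom.toAlgebra
    haveI : IsScalarTower A B Ω := .of_algebraMap_eq fun a => (ψ.commutes a).symm
    let φ : B ⊗[A] N.R →ₐ[B] Ω :=
      Algebra.TensorProduct.lift (Algebra.ofId B Ω) N.pt fun _ _ => Commute.all _ _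
    let cB : C →ₐ[B] Ω := { (χ ψ).toRingHom with
      commutes' := fun b => DFunLike.congr_fun (hχ ψ) b }
    let w₀ : C' →ₐ[B] Ω := Algebra.TensorProduct.lift φ cB fun _ _ => Commute.all _ _
    let w₁ : C' →ₐ[N.R] Ω := { w₀.toRingHom with
      commutes' := fun r => by
        show w₀ (((1 : B) ⊗ₜ[A] r) ⊗ₜ[B] (1 : C)) = N.pt r
        erw [Algebra.TensorProduct.lift_tmul, Algebra.TensorProduct.lift_tmul]
        rw [map_one, map_one, mul_one, one_mul] }
    have h1 : ∀ x, w₁ (j x) = N.ev (χ ψ) x := by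
      intro x
      induction x using TensorProduct.induction_on with
      | zero => simp
      | tmul r x =>
        show w₀ (j (r ⊗ₜ x)) = _
        rw [hj, Nbhd.ev_tmul]
        show w₀ (((1 : B) ⊗ₜ[A] r) ⊗ₜ[B] x) = _
        erw [Algebra.TensorProduct.lift_tmul, Algebra.TensorProduct.lift_tmul]
        rw [map_one, one_mul]
        rfl
      | add a b ha hb => rw [map_add, map_add, map_add, ha, hb]
    refine ⟨Ideal.Quotient.liftₐ J w₁ fun a ha => ?_, AlgHom.ext fun x => ?_⟩
    · obtain ⟨c, rfl⟩ := Ideal.mem_span_singleton'.1 ha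
      rw [map_mul, map_sub, map_one, h1, (hNe.pt _).2 ⟨ψ, rfl⟩, sub_self, mul_zero]
    · show w₀ ((1 : B ⊗[A] N.R) ⊗ₜ[B] x) = _
      erw [Algebra.TensorProduct.lift_tmul]
      rw [map_one, one_mul]
      rfl
  have huniq : ∀ w w' : C' ⧸ J →ₐ[N.R] Ω, (∀ b : B, res w (algebraMap B C b) = res w' (algebraMap B C b)) →
      w = w' := by
    intro w w' hww
    obtain ⟨ψ, hψ⟩ := hresψ w
    obtain ⟨ψ', hψ'⟩ := hresψ w'
    obtain rfl : ψ = ψ' := by
      rw [← hχ ψ, ← hχ ψ', hψ, hψ']
      exact AlgHom.ext hww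
    refine AlgHom.ext fun d => ?_
    obtain ⟨y, rfl⟩ := Ideal.Quotient.mk_surjective d
    obtain ⟨x, rfl⟩ := hjsurj y
    rw [hev, hev, ← hψ, ← hψ']
  have : Module.Finite N.R (B ⊗[A] N.R) :=
    Module.Finite.equiv (Algebra.TensorProduct.commRight A N.R B).toLinearEquiv
  obtain ⟨a, ha, ⟨s⟩⟩ := exists_section_of_points (Ω := Ω) (R' := N.R) (B' := B ⊗[A] N.R) (D := C' ⧸ J)
    (fun φ => by
      obtain ⟨w, hw⟩ := hexist ((φ.restrictScalars A).comp Algebra.TensorProduct.includeLeft)
      refine ⟨w, AlgHom.ext fun u => ?_⟩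
      induction u using TensorProduct.induction_on with
      | zero => simp
      | tmul b r =>
        have hbr : b ⊗ₜ[A] r = b ⊗ₜ[A] (1 : N.R) * algebraMap N.R (B ⊗[A] N.R) r := by
          show _ = b ⊗ₜ[A] (1 : N.R) * (1 : B) ⊗ₜ r
          rw [Algebra.TensorProduct.tmul_mul_tmul, mul_one, one_mul]
        rw [hbr, map_mul, map_mul, AlgHom.commutes, AlgHom.commutes]
        congr 1
        show w (Ideal.Quotient.mk J ((b ⊗ₜ[A] (1 : N.R)) ⊗ₜ[B] (1 : C))) = _
        rw [hresB, hw]
        exact DFunLike.congr_fun (hχ _) b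
      | add a b ha hb => rw [map_add, map_add, ha, hb])
    (fun w w' h => huniq w w' fun b => by
      rw [← hresB, ← hresB]
      exact DFunLike.congr_fun h (b ⊗ₜ[A] (1 : N.R)))
  let N' := N.away a ha
  let f : B ⊗[A] N.R →ₐ[B] B ⊗[A] N'.R :=
    Algebra.TensorProduct.map (AlgHom.id B B) (IsScalarTower.toAlgHom A N.R (Localization.Away a))
  have hfa : IsUnit (f (algebraMap N.R (B ⊗[A] N.R) a)) := by
    show IsUnit (f ((1 : B) ⊗ₜ[A] a))
    rw [show f ((1 : B) ⊗ₜ[A] a) = (1 : B) ⊗ₜ[A] algebraMap N.R (Localization.Away a) a from rfl]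
    exact (IsLocalization.Away.algebraMap_isUnit a).map
      (Algebra.TensorProduct.includeRight : Localization.Away a →ₐ[A] B ⊗[A] Localization.Away a)
  let κ : Localization.Away (algebraMap N.R (B ⊗[A] N.R) a) →ₐ[B] B ⊗[A] N'.R :=
    IsLocalization.Away.liftAlgHom (algebraMap N.R (B ⊗[A] N.R) a) (f := f) hfa
  refine ⟨N', κ.comp ((s.restrictScalars B).comp ((Ideal.Quotient.mkₐ B J).comp
    Algebra.TensorProduct.includeRight)), fun ψ x => ?_⟩
  let L := Algebra.TensorProduct.lift ψ N'.pt fun _ _ => Commute.all _ _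
  have hκ : ∀ u, κ (algebraMap (B ⊗[A] N.R) _ u) = f u := fun u =>
    IsLocalization.lift_eq _ u
  have hLf : ∀ b r, L (f (b ⊗ₜ r)) = ψ b * N.pt r := fun b r => by
    show Algebra.TensorProduct.lift ψ _ _ (b ⊗ₜ[A] algebraMap N.R (Localization.Away a) r) = _
    rw [Algebra.TensorProduct.lift_tmul]
    congr 1
    exact IsLocalization.lift_eq _ r
  let wσ : C' ⧸ J →ₐ[N.R] Ω :=
    { (L.toRingHom.comp κ.toRingHom).comp s.toRingHom with
      commutes' := fun r => by
        show L (κ (s (algebraMap N.R (C' ⧸ J) r))) = N.pt r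
        rw [IsScalarTower.algebraMap_apply N.R (B ⊗[A] N.R) (C' ⧸ J), s.commutes, hκ]
        show L (f ((1 : B) ⊗ₜ r)) = _
        rw [hLf, map_one, one_mul] }
  obtain ⟨w, hw⟩ := hexist ψ
  have : wσ = w := huniq _ _ fun b => by
    rw [← hresB wσ b, hw]
    have hs : s (Ideal.Quotient.mk J (algebraMap (B ⊗[A] N.R) C' (b ⊗ₜ[A] (1 : N.R)))) =
        algebraMap (B ⊗[A] N.R) _ (b ⊗ₜ[A] (1 : N.R)) :=
      s.commutes _
    show L (κ (s (Ideal.Quotient.mk J (algebraMap (B ⊗[A] N.R) C' (b ⊗ₜ[A] (1 : N.R)))))) = _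
    rw [hs, hκ, hLf, map_one, mul_one]
    exact (DFunLike.congr_fun (hχ ψ) b).symm
  rw [← hw, ← this]
  rfl

set_option backward.isDefEq.respectTransparency.types false in
/-- An étale algebra over an integral algebra has a section, through a prescribed geometric point,
after an étale neighbourhood of a geometric point of the base, provided all geometric points of the
integral algebra lift. -/
theorem exists_section_integral [IsAlgClosed Ω] [Algebra.IsIntegral A B] [Algebra.Etale B C]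
    (hC : ∀ ψ : B →ₐ[A] Ω, ∃ χ : C →ₐ[A] Ω, χ.comp (IsScalarTower.toAlgHom A B C) = ψ)
    (χ₁ : Option (C →ₐ[A] Ω)) :
    ∃ (N : Nbhd A Ω) (σ : C →ₐ[B] B ⊗[A] N.R), ∀ χ ∈ χ₁, ∀ x,
      Algebra.TensorProduct.lift (χ.comp (IsScalarTower.toAlgHom A B C)) N.pt
        (fun _ _ => Commute.all _ _) (σ x) = χ x := by
  classical
  obtain ⟨B₀, C₀, _, _, hfg, hC₀, ⟨E⟩⟩ := Algebra.Etale.exists_subalgebra_fg (R := A) (A := B) (B := C)
  have : Algebra.FiniteType A B₀ := (Subalgebra.fg_iff_finiteType B₀).1 hfg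
  have : Algebra.IsIntegral A B₀ :=
    ⟨fun b => (isIntegral_algHom_iff B₀.val Subtype.val_injective).1 (Algebra.IsIntegral.isIntegral _)⟩
  have : Module.Finite A B₀ := Algebra.IsIntegral.finite
  letI : Algebra A C₀ := ((algebraMap B₀ C₀).comp (algebraMap A B₀)).toAlgebra
  haveI : IsScalarTower A B₀ C₀ := .of_algebraMap_eq' rfl
  let i : C₀ →ₐ[A] C := ((E.symm.toAlgHom.restrictScalars B₀).comp
    (Algebra.TensorProduct.includeRight : C₀ →ₐ[B₀] B ⊗[B₀] C₀)).restrictScalars A
  have hi : ∀ b : B₀, i (algebraMap B₀ C₀ b) = algebraMap B C (b : B) := fun b => by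
    show E.symm ((1 : B) ⊗ₜ[B₀] algebraMap B₀ C₀ b) = _
    rw [Algebra.algebraMap_eq_smul_one (R := B₀), TensorProduct.tmul_smul, TensorProduct.smul_tmul',
      ← E.symm.commutes (b : B)]
    congr 1
    show ((b : B) • (1 : B)) ⊗ₜ[B₀] (1 : C₀) = _
    rw [smul_eq_mul, mul_one]
    rfl
  -- extend points
  have hext : ∀ ψ₀ : B₀ →ₐ[A] Ω, ∃ ψ : B →ₐ[A] Ω, ψ.comp B₀.val = ψ₀ := by
    intro ψ₀
    letI : Algebra B₀ Ω := ψ₀.toRingHom.toAlgebra
    haveI : IsScalarTower A B₀ Ω := .of_algebraMap_eq fun a => (ψ₀.commutes a).symm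
    haveI : Algebra.IsIntegral B₀ B := Algebra.IsIntegral.tower_top (R := A)
    by_contra! hne
    obtain ⟨b, hb, hb0⟩ := exists_algebraMap_eq_zero (A := B₀) (Ω := Ω) (D := B) fun w =>
      hne (w.restrictScalars A) (AlgHom.ext fun b => w.commutes b)
    have : b = 0 := Subtype.val_injective hb0
    exact hb (by rw [this, map_zero])
  choose ext hext using hext
  choose lift hlift using hC
  let χ₀ : (B₀ →ₐ[A] Ω) → (C₀ →ₐ[A] Ω) := fun ψ₀ =>
    match χ₁ with
    | none => (lift (ext ψ₀)).comp i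
    | some χ => if (χ.comp (IsScalarTower.toAlgHom A B C)).comp B₀.val = ψ₀ then χ.comp i
        else (lift (ext ψ₀)).comp i
  have hlift' : ∀ ψ₀, ((lift (ext ψ₀)).comp i).comp (IsScalarTower.toAlgHom A B₀ C₀) = ψ₀ := fun ψ₀ =>
    AlgHom.ext fun b => by
      show lift (ext ψ₀) (i (algebraMap B₀ C₀ b)) = _
      rw [hi]
      exact (DFunLike.congr_fun (hlift (ext ψ₀)) (b : B)).trans (DFunLike.congr_fun (hext ψ₀) b)
  obtain ⟨N, σ₀, hσ₀⟩ := exists_section_finite (A := A) (B := B₀) (C := C₀) χ₀ fun ψ₀ => by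
    rcases χ₁ with _ | χ
    · exact hlift' ψ₀
    · simp only [χ₀]
      split
      next h =>
        refine AlgHom.ext fun b => ?_
        rw [← h]
        show χ (i (algebraMap B₀ C₀ b)) = _
        rw [hi]
        rfl
      next h => exact hlift' ψ₀
  let g : B₀ ⊗[A] N.R →ₐ[A] B ⊗[A] N.R := Algebra.TensorProduct.map B₀.val (AlgHom.id A N.R)
  let gσ : C₀ →ₐ[B₀] B ⊗[A] N.R := { g.toRingHom.comp σ₀.toRingHom with
    commutes' := fun b => by
      show g (σ₀ (algebraMap B₀ C₀ b)) = _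
      rw [σ₀.commutes]
      rfl }
  let τ : B ⊗[B₀] C₀ →ₐ[B] B ⊗[A] N.R :=
    Algebra.TensorProduct.lift (Algebra.ofId B _) gσ fun _ _ => Commute.all _ _
  refine ⟨N, τ.comp E.toAlgHom, fun χ hχ x => ?_⟩
  obtain rfl : χ₁ = some χ := hχ
  let ψ := χ.comp (IsScalarTower.toAlgHom A B C)
  let L := Algebra.TensorProduct.lift ψ N.pt fun _ _ => Commute.all _ _
  obtain ⟨y, rfl⟩ := E.symm.surjective x
  show L (τ (E (E.symm y))) = _
  rw [AlgEquiv.apply_symm_apply]
  induction y using TensorProduct.induction_on with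
  | zero => simp
  | tmul b c =>
    have h1 : τ (b ⊗ₜ c) = algebraMap B (B ⊗[A] N.R) b * g (σ₀ c) := by simp [τ, gσ]
    have h2 : E.symm (b ⊗ₜ c) = algebraMap B C b * i c := by
      rw [← E.symm.commutes]
      show _ = E.symm (b ⊗ₜ[B₀] (1 : C₀)) * E.symm ((1 : B) ⊗ₜ[B₀] c)
      rw [← map_mul, Algebra.TensorProduct.tmul_mul_tmul, mul_one, one_mul]
    rw [h1, h2, map_mul, map_mul]
    congr 1
    · simp [L, ψ, Algebra.TensorProduct.algebraMap_apply]
    · have h3 : L (g (σ₀ c)) =
          Algebra.TensorProduct.lift (ψ.comp B₀.val) N.pt (fun _ _ => Commute.all _ _) (σ₀ c) := by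
        generalize σ₀ c = z
        induction z using TensorProduct.induction_on with
        | zero => simp
        | tmul u r => simp [L, g]
        | add a b ha hb => simp only [map_add, ha, hb]
      rw [h3, hσ₀]
      simp [χ₀, ψ]
  | add a b ha hb => simp only [map_add, ha, hb]

end sections

end Groth.EtaleBase.IntegralAlg
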