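import Groth.Agent.EtaleBase.IntegralAlg

/-!
Descent of maps to étale algebras over integral algebras, from an arbitrary algebra with a geometric
point to an étale neighbourhood of that geometric point.
-/

set_option autoImplicit false

universe u

open TensorProduct

namespace Groth.EtaleBase.IntegralAlg

variable {A : Type u} [CommRing A] {Ω : Type u} [Field Ω] [Algebra A Ω]
  {B : Type u} [CommRing B] [Algebra A B]

/-- Points of integral subalgebras extend. -/
lemma exists_extend_point [IsAlgClosed Ω] [Algebra.IsIntegral A B] (B₀ : Subalgebra A B)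
    (ψ₀ : B₀ →ₐ[A] Ω) : ∃ ψ : B →ₐ[A] Ω, ψ.comp B₀.val = ψ₀ := by
  let _ : Algebra B₀ Ω := ψ₀.toRingHom.toAlgebra
  have : IsScalarTower A B₀ Ω := .of_algebraMap_eq fun a => (ψ₀.commutes a).symm
  have : Algebra.IsIntegral B₀ B := Algebra.IsIntegral.tower_top (R := A)
  by_contra! hne
  obtain ⟨b, hb, hb0⟩ := exists_algebraMap_eq_zero (A := B₀) (Ω := Ω) (D := B) fun w =>
    hne (w.restrictScalars A) (AlgHom.ext fun b => w.commutes b)
  have : b = 0 := Subtype.val_injective hb0
  exact hb (by rw [this, map_zero])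

/-- The value at a tensor only depends on finitely many values of the point. -/
lemma exists_finset_lift_eq {R' : Type u} [CommRing R'] [Algebra A R'] (pt' : R' →ₐ[A] Ω)
    (z : B ⊗[A] R') : ∃ S : Finset B, ∀ ψ ψ' : B →ₐ[A] Ω, (∀ b ∈ S, ψ b = ψ' b) →
      Algebra.TensorProduct.lift ψ pt' (fun _ _ => Commute.all _ _) z =
        Algebra.TensorProduct.lift ψ' pt' (fun _ _ => Commute.all _ _) z := by
  classical
  induction z using TensorProduct.induction_on with
  | zero => exact ⟨∅, fun _ _ _ => by simp⟩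
  | tmul b r => exact ⟨{b}, fun ψ ψ' h => by simp [h b (Finset.mem_singleton_self b)]⟩
  | add x y hx hy =>
    obtain ⟨S, hS⟩ := hx
    obtain ⟨T, hT⟩ := hy
    exact ⟨S ∪ T, fun ψ ψ' h => by
      rw [map_add, map_add, hS ψ ψ' fun b hb => h b (Finset.mem_union_left _ hb),
        hT ψ ψ' fun b hb => h b (Finset.mem_union_right _ hb)]⟩

variable {C : Type u} [CommRing C] [Algebra A C] [Algebra B C] [IsScalarTower A B C]

set_option backward.isDefEq.respectTransparency.types false in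
/-- A map from an étale algebra over an integral algebra `B` to `B ⊗ R'` agrees, at all geometric
points over a given one, with a map to `B ⊗ N.R` for an étale neighbourhood `N`. -/
theorem exists_descend_hom [IsAlgClosed Ω] [Algebra.IsIntegral A B] [Algebra.Etale B C]
    {R' : Type u} [CommRing R'] [Algebra A R'] (pt' : R' →ₐ[A] Ω) (q : C →ₐ[B] B ⊗[A] R') :
    ∃ (N : Nbhd A Ω) (σ : C →ₐ[B] B ⊗[A] N.R), ∀ (ψ : B →ₐ[A] Ω) (x : C),
      Algebra.TensorProduct.lift ψ N.pt (fun _ _ => Commute.all _ _) (σ x) =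
        Algebra.TensorProduct.lift ψ pt' (fun _ _ => Commute.all _ _) (q x) := by
  classical
  obtain ⟨B₀, C₀, _, _, hfg, hC₀, ⟨E⟩⟩ := Algebra.Etale.exists_subalgebra_fg (R := A) (A := B) (B := C)
  let k : C₀ →ₐ[B₀] C := (E.symm.toAlgHom.restrictScalars B₀).comp
    (Algebra.TensorProduct.includeRight : C₀ →ₐ[B₀] B ⊗[B₀] C₀)
  -- finitely many elements of `B` controlling the values
  obtain ⟨G, hG⟩ := (inferInstance : Algebra.FiniteType B₀ C₀).out
  choose S hS using fun c : C₀ => exists_finset_lift_eq pt' (q (k c))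
  let B₁ : Subalgebra A B := B₀ ⊔ Algebra.adjoin A ((G.biUnion S : Finset B) : Set B)
  have hle : B₀ ≤ B₁ := le_sup_left
  have hS₁ : ∀ c ∈ G, ∀ b ∈ S c, b ∈ B₁ := fun c hc b hb =>
    (le_sup_right : _ ≤ B₁) (Algebra.subset_adjoin (Finset.mem_biUnion.2 ⟨c, hc, hb⟩))
  have : Algebra.FiniteType A B₁ :=
    (Subalgebra.fg_iff_finiteType B₁).1 (hfg.sup (Subalgebra.fg_adjoin_finset _))
  have : Algebra.IsIntegral A B₁ :=
    ⟨fun b => (isIntegral_algHom_iff B₁.val Subtype.val_injective).1 (Algebra.IsIntegral.isIntegral _)⟩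
  have : Module.Finite A B₁ := Algebra.IsIntegral.finite
  let _ : Algebra B₀ B₁ := (Subalgebra.inclusion hle).toRingHom.toAlgebra
  have : IsScalarTower A B₀ B₁ := .of_algebraMap_eq fun a => Subtype.ext rfl
  let v : B₁ →ₐ[B₀] B := { B₁.val.toRingHom with commutes' := fun b => rfl }
  let C₁ := B₁ ⊗[B₀] C₀
  let K : C₁ →ₐ[B₀] C :=
    Algebra.TensorProduct.lift ((IsScalarTower.toAlgHom B₀ B C).comp v) k fun _ _ => Commute.all _ _
  have hK : ∀ b : B₁, K (algebraMap B₁ C₁ b) = algebraMap B C (b : B) := fun b => by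
    show K (b ⊗ₜ[B₀] (1 : C₀)) = _
    rw [Algebra.TensorProduct.lift_tmul, map_one, mul_one]
    rfl
  choose ext hext using exists_extend_point (Ω := Ω) B₁
  let val : (B →ₐ[A] Ω) → C → Ω := fun ψ x =>
    Algebra.TensorProduct.lift ψ pt' (fun _ _ => Commute.all _ _) (q x)
  have hvalB : ∀ ψ (b : B), val ψ (algebraMap B C b) = ψ b := fun ψ b => by
    show Algebra.TensorProduct.lift ψ pt' _ (q (algebraMap B C b)) = _
    rw [q.commutes]
    show Algebra.TensorProduct.lift ψ pt' _ (b ⊗ₜ[A] (1 : R')) = _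
    rw [Algebra.TensorProduct.lift_tmul, map_one, mul_one]
  let χ : (B₁ →ₐ[A] Ω) → (C₁ →ₐ[A] Ω) := fun ψ₁ =>
    ((Algebra.TensorProduct.lift (ext ψ₁) pt' fun _ _ => Commute.all _ _).comp
      (q.restrictScalars A)).comp (K.restrictScalars A)
  have hχval : ∀ ψ₁ y, χ ψ₁ y = val (ext ψ₁) (K y) := fun _ _ => rfl
  obtain ⟨N, σ₁, hσ₁⟩ := exists_section_finite (A := A) (B := B₁) (C := C₁) (Ω := Ω) χ fun ψ₁ =>
    AlgHom.ext fun b => by
      show χ ψ₁ (algebraMap B₁ C₁ b) = _
      rw [hχval, hK, hvalB]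
      exact DFunLike.congr_fun (hext ψ₁) b
  let g : B₁ ⊗[A] N.R →ₐ[A] B ⊗[A] N.R := Algebra.TensorProduct.map B₁.val (AlgHom.id A N.R)
  let gσ : C₀ →ₐ[B₀] B ⊗[A] N.R :=
    { (g.toRingHom.comp σ₁.toRingHom).comp
        (Algebra.TensorProduct.includeRight : C₀ →ₐ[B₀] C₁).toRingHom with
      commutes' := fun b => by
        show g (σ₁ ((1 : B₁) ⊗ₜ[B₀] algebraMap B₀ C₀ b)) = _
        rw [show (1 : B₁) ⊗ₜ[B₀] algebraMap B₀ C₀ b = algebraMap B₁ C₁ (algebraMap B₀ B₁ b) by
          show _ = algebraMap B₀ B₁ b ⊗ₜ[B₀] (1 : C₀)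
          rw [Algebra.algebraMap_eq_smul_one, Algebra.algebraMap_eq_smul_one, TensorProduct.tmul_smul,
            TensorProduct.smul_tmul'], σ₁.commutes]
        rfl }
  let τ : B ⊗[B₀] C₀ →ₐ[B] B ⊗[A] N.R :=
    Algebra.TensorProduct.lift (Algebra.ofId B _) gσ fun _ _ => Commute.all _ _
  refine ⟨N, τ.comp E.toAlgHom, fun ψ x => ?_⟩
  let ψ₁ := ψ.comp B₁.val
  let L := Algebra.TensorProduct.lift ψ N.pt fun _ _ => Commute.all _ _
  -- independence of the extension
  have hind : ∀ c : C₀, val (ext ψ₁) (k c) = val ψ (k c) := by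
    intro c
    have hc : c ∈ Algebra.adjoin B₀ (G : Set C₀) := hG ▸ Algebra.mem_top
    induction hc using Algebra.adjoin_induction with
    | mem c hc =>
      exact hS c _ _ fun b hb => DFunLike.congr_fun (hext ψ₁) (⟨b, hS₁ c hc b hb⟩ : B₁)
    | algebraMap b =>
      rw [k.commutes, IsScalarTower.algebraMap_apply B₀ B C, hvalB, hvalB]
      exact DFunLike.congr_fun (hext ψ₁) (⟨b.1, hle b.2⟩ : B₁)
    | add a b _ _ ha hb => simp only [val, map_add] at ha hb ⊢; rw [ha, hb]
    | mul a b _ _ ha hb => simp only [val, map_mul] at ha hb ⊢; rw [ha, hb]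
  have hg : ∀ z, L (g z) =
      Algebra.TensorProduct.lift ψ₁ N.pt (fun _ _ => Commute.all _ _) z := fun z => by
    induction z using TensorProduct.induction_on with
    | zero => simp
    | tmul u r => simp [L, g, ψ₁]
    | add a b ha hb => simp only [map_add, ha, hb]
  obtain ⟨y, rfl⟩ := E.symm.surjective x
  show L (τ (E (E.symm y))) = val ψ (E.symm y)
  rw [AlgEquiv.apply_symm_apply]
  induction y using TensorProduct.induction_on with
  | zero => simp [val]
  | tmul b c =>
    have h2 : E.symm (b ⊗ₜ c) = algebraMap B C b * k c := by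
      rw [← E.symm.commutes]
      show _ = E.symm (b ⊗ₜ[B₀] (1 : C₀)) * E.symm ((1 : B) ⊗ₜ[B₀] c)
      rw [← map_mul, Algebra.TensorProduct.tmul_mul_tmul, mul_one, one_mul]
    have h3 : K ((1 : B₁) ⊗ₜ[B₀] c) = k c := by
      rw [Algebra.TensorProduct.lift_tmul, map_one, one_mul]
    rw [h2, show τ (b ⊗ₜ c) = algebraMap B (B ⊗[A] N.R) b * gσ c by simp [τ], map_mul,
      show val ψ (algebraMap B C b * k c) = val ψ (algebraMap B C b) * val ψ (k c) by
        simp only [val, map_mul], hvalB]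
    congr 1
    · simp [L, Algebra.TensorProduct.algebraMap_apply]
    · show L (g (σ₁ ((1 : B₁) ⊗ₜ[B₀] c))) = _
      rw [hg, hσ₁, hχval, h3, hind]
  | add a b ha hb => simp only [val, map_add] at ha hb ⊢; rw [ha, hb]

end Groth.EtaleBase.IntegralAlg
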