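import Groth.Agent.EtaleBase.Sections
import Groth.Prelude.Def_EtBase
import Mathlib.AlgebraicGeometry.Morphisms.ClosedImmersion

/-!
Extending morphisms of étale schemes from a closed subscheme.
-/

set_option autoImplicit false

universe u

open CategoryTheory CategoryTheory.Limits AlgebraicGeometry

namespace Groth.EtaleBase

attribute [local simp] pullback.lift_fst pullback.lift_snd pullback.lift_fst_assoc pullback.lift_snd_assoc

set_option backward.isDefEq.respectTransparency.types false in
lemma exists_extend_hom {Z X : Scheme.{u}} (i : Z ⟶ X) [IsClosedImmersion i] (U U' : X.Etale)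
    (h : (EtCoh.bc i).obj U ⟶ (EtCoh.bc i).obj U') :
    ∃ (W : X.Etale) (a : W ⟶ U) (b : W ⟶ U'), IsIso ((EtCoh.bc i).map a) ∧
      (EtCoh.bc i).map a ≫ h = (EtCoh.bc i).map b := by
  let hl : pullback U.hom i ⟶ pullback U'.hom i := h.left
  have hlw : hl ≫ pullback.snd U'.hom i = pullback.snd U.hom i := CategoryTheory.Over.w h.toCommaMorphism
  let q : pullback U.hom U'.hom ⟶ X := pullback.fst _ _ ≫ U.hom
  let p : pullback q i ⟶ pullback U.hom i :=
    pullback.lift (pullback.fst _ _ ≫ pullback.fst _ _) (pullback.snd _ _)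
      (by rw [Category.assoc]; exact pullback.condition)
  have : Etale q := inferInstance
  have hp : Etale p := by
    have : Etale (p ≫ pullback.snd U.hom i) := by
      rw [pullback.lift_snd]; infer_instance
    exact Etale.of_comp p (pullback.snd U.hom i)
  let γ : pullback U.hom i ⟶ pullback q i :=
    pullback.lift (pullback.lift (pullback.fst _ _) (hl ≫ pullback.fst _ _) (by
      rw [Category.assoc, pullback.condition, pullback.condition]
      exact ((Category.assoc _ _ _).symm.trans (congrArg (· ≫ i) hlw)).symm))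
      (pullback.snd _ _) (by
        simp [q, pullback.condition]
        exact (Category.assoc _ _ _).symm.trans (congrArg (· ≫ i) hlw))
  have hγ : γ ≫ p = 𝟙 _ := by apply pullback.hom_ext <;> simp [γ, p]
  have : IsOpenImmersion γ := isOpenImmersion_section p γ hγ
  let c : pullback q i ⟶ pullback U.hom U'.hom := pullback.fst q i
  have : IsClosedImmersion c := inferInstanceAs (IsClosedImmersion (pullback.fst q i))
  obtain ⟨O₀, hO₀, hO⟩ := c.isClosedEmbedding.isInducing.isOpen_iff.1 γ.isOpenEmbedding.isOpen_range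
  let O : (pullback U.hom U'.hom).Opens := ⟨O₀, hO₀⟩
  let W : X.Etale := Scheme.Etale.mk (O.ι ≫ q)
  let a : W ⟶ U := MorphismProperty.Over.homMk (O.ι ≫ pullback.fst U.hom U'.hom)
    (Category.assoc _ _ _)
  let b : W ⟶ U' := MorphismProperty.Over.homMk (O.ι ≫ pullback.snd U.hom U'.hom)
    ((Category.assoc _ _ _).trans (congrArg (O.ι ≫ ·) pullback.condition.symm))
  refine ⟨W, a, b, ?_⟩
  let κ : pullback (O.ι ≫ q) i ⟶ pullback q i :=
    pullback.map _ _ _ _ O.ι (𝟙 _) (𝟙 _) (by simp) (by simp)
  have : Mono κ := ⟨fun {T} x y e => by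
    apply pullback.hom_ext
    · have := congrArg (fun m => m ≫ pullback.fst q i) e
      simpa [κ, ← cancel_mono O.ι] using this
    · have := congrArg (fun m => m ≫ pullback.snd q i) e
      simpa [κ] using this⟩
  have hκ : Set.range κ.base ⊆ Set.range γ.base := by
    rintro _ ⟨z, rfl⟩
    rw [← hO]
    show c.base (κ.base z) ∈ O₀
    rw [← Scheme.Hom.comp_apply, show κ ≫ c = pullback.fst _ _ ≫ O.ι from pullback.lift_fst _ _ _,
      Scheme.Hom.comp_apply]
    exact ((pullback.fst (O.ι ≫ q) i).base z).2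
  let ρ : pullback (O.ι ≫ q) i ⟶ pullback U.hom i := IsOpenImmersion.lift γ κ hκ
  have hρ : ρ ≫ γ = κ := IsOpenImmersion.lift_fac _ _ _
  have hρ' : ρ = κ ≫ p := by rw [← hρ, Category.assoc, hγ, Category.comp_id]
  let δ : pullback U.hom i ⟶ pullback (O.ι ≫ q) i :=
    pullback.lift (IsOpenImmersion.lift O.ι (γ ≫ c) (by
      rintro _ ⟨z, rfl⟩
      rw [Scheme.Opens.range_ι, Scheme.Hom.comp_apply]
      exact hO.superset ⟨z, rfl⟩)) (pullback.snd _ _) (by
      rw [IsOpenImmersion.lift_fac_assoc, Category.assoc, show c ≫ q = pullback.snd q i ≫ i from pullback.condition]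
      simp [γ])
  have hδ : δ ≫ κ = γ := by
    apply pullback.hom_ext
    · simp [δ, κ, c]
    · simp [δ, κ, γ]
  have ha1 : ((EtCoh.bc i).map a).left ≫ pullback.fst U.hom i =
      pullback.fst (O.ι ≫ q) i ≫ O.ι ≫ pullback.fst U.hom U'.hom := pullback.lift_fst _ _ _
  have ha2 : ((EtCoh.bc i).map a).left ≫ pullback.snd U.hom i = pullback.snd (O.ι ≫ q) i :=
    pullback.lift_snd _ _ _
  have hb1 : ((EtCoh.bc i).map b).left ≫ pullback.fst U'.hom i =
      pullback.fst (O.ι ≫ q) i ≫ O.ι ≫ pullback.snd U.hom U'.hom := pullback.lift_fst _ _ _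
  have hb2 : ((EtCoh.bc i).map b).left ≫ pullback.snd U'.hom i = pullback.snd (O.ι ≫ q) i :=
    pullback.lift_snd _ _ _
  have hbca : ((EtCoh.bc i).map a).left = ρ := by
    rw [hρ']
    apply pullback.hom_ext
    · refine ha1.trans ?_
      exact ((Category.assoc _ _ _).trans ((congrArg (κ ≫ ·) (pullback.lift_fst _ _ _)).trans
        ((pullback.lift_fst_assoc _ _ _ _).trans (Category.assoc _ _ _)))).symm
    · refine ha2.trans ?_
      exact ((Category.assoc _ _ _).trans ((congrArg (κ ≫ ·) (pullback.lift_snd _ _ _)).trans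
        ((pullback.lift_snd _ _ _).trans (Category.comp_id _)))).symm
  have h1 : δ ≫ ρ = 𝟙 _ := by rw [hρ', reassoc_of% hδ, hγ]
  have h2 : ρ ≫ δ = 𝟙 _ := by rw [← cancel_mono κ, Category.assoc, hδ, hρ, Category.id_comp]
  let δ' : (EtCoh.bc i).obj U ⟶ (EtCoh.bc i).obj W :=
    MorphismProperty.Over.homMk δ (pullback.lift_snd _ _ _)
  refine ⟨⟨δ', ?_, ?_⟩, ?_⟩
  · apply MorphismProperty.Over.Hom.ext
    show ((EtCoh.bc i).map a).left ≫ δ = _
    rw [hbca]; exact h2
  · apply MorphismProperty.Over.Hom.ext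
    show δ ≫ ((EtCoh.bc i).map a).left = _
    rw [hbca]; exact h1
  · apply MorphismProperty.Over.Hom.ext
    show ((EtCoh.bc i).map a).left ≫ hl = ((EtCoh.bc i).map b).left
    rw [hbca]
    apply pullback.hom_ext
    · refine Eq.trans ?_ hb1.symm
      have := congrArg (fun m => m ≫ pullback.fst q i ≫ pullback.snd U.hom U'.hom) hρ
      simp [γ, κ] at this
      exact this
    · refine Eq.trans ?_ hb2.symm
      refine (Category.assoc _ _ _).trans ((congrArg (ρ ≫ ·) hlw).trans ?_)
      rw [hρ']
      simp [κ, p]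

end Groth.EtaleBase
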