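import Groth.Agent.EtaleBase.DisjointGlue
import Groth.Prelude.Def_EtGm
import Groth.Prelude.Def_EtCore
import Mathlib.RingTheory.Polynomial.Cyclotomic.Roots
import Mathlib.RingTheory.Coprime.Lemmas
import Mathlib.CategoryTheory.Sites.LocallyBijective

/-!
`μ_n` is constant in the presence of a primitive root of unity.
-/

set_option autoImplicit false

universe u

open CategoryTheory CategoryTheory.Limits AlgebraicGeometry Opposite

namespace Groth.EtaleBase

section algebra

variable {R : Type*} [CommRing R] {n : ℕ} {ζ : R}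
  (hζ : Polynomial.aeval ζ (Polynomial.cyclotomic n ℤ) = 0) (hn : IsUnit (n : R))

include hζ

lemma pow_eq_one_of_cyclotomic : ζ ^ n = 1 := by
  obtain ⟨q, hq⟩ := Polynomial.cyclotomic.dvd_X_pow_sub_one n ℤ
  have h := congrArg (Polynomial.aeval ζ) hq
  rw [map_sub, map_pow, Polynomial.aeval_X, map_one, map_mul, hζ, zero_mul] at h
  exact sub_eq_zero.1 h

include hn

lemma isUnit_pow_sub_pow {a b : ℕ} (ha : a < n) (hb : b < n) (hab : a ≠ b) :
    IsUnit (ζ ^ a - ζ ^ b) := by
  by_contra h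
  obtain ⟨m, hm, hmem⟩ := exists_max_ideal_of_mem_nonunits h
  let := Ideal.Quotient.field m
  let π := Ideal.Quotient.mk m
  have : NeZero (n : R ⧸ m) := ⟨by
    have := (hn.map π).ne_zero
    rwa [map_natCast] at this⟩
  have hroot : (Polynomial.cyclotomic n (R ⧸ m)).IsRoot (π ζ) := by
    rw [← Polynomial.map_cyclotomic n (Int.castRingHom (R ⧸ m)), Polynomial.IsRoot, Polynomial.eval_map,
      ← algebraMap_int_eq, ← Polynomial.aeval_def]
    have := congrArg π hζ
    rw [map_zero] at this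
    rw [← this]
    exact Polynomial.aeval_algHom_apply π.toIntAlgHom ζ _
  refine hab ((Polynomial.isRoot_cyclotomic_iff.1 hroot).pow_inj ha hb ?_)
  rw [← sub_eq_zero, ← map_pow, ← map_pow, ← map_sub]
  exact Ideal.Quotient.eq_zero_iff_mem.2 hmem

lemma prod_sub_pow (x : R) : ∏ i ∈ Finset.range n, (x - ζ ^ i) = x ^ n - 1 := by
  rcases subsingleton_or_nontrivial R with h | h
  · exact Subsingleton.elim _ _
  have hn0 : n ≠ 0 := fun h0 => hn.ne_zero (by simp [h0])
  let P : Polynomial R := ∏ i ∈ Finset.range n, (Polynomial.X - Polynomial.C (ζ ^ i))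
  have hP : P.Monic := Polynomial.monic_prod_of_monic _ _ fun i _ => Polynomial.monic_X_sub_C _
  have hdvd : P ∣ Polynomial.X ^ n - Polynomial.C 1 := by
    refine Finset.prod_dvd_of_coprime (fun a ha b hb hab => ?_) fun i _ => ?_
    · simp only [Finset.coe_range, Set.mem_Iio] at ha hb
      exact Polynomial.isCoprime_X_sub_C_of_isUnit_sub (isUnit_pow_sub_pow hζ hn ha hb hab)
    · rw [Polynomial.dvd_iff_isRoot, Polynomial.IsRoot, Polynomial.eval_sub, Polynomial.eval_pow,
        Polynomial.eval_X, Polynomial.eval_C, ← pow_mul, mul_comm i n, pow_mul,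
        pow_eq_one_of_cyclotomic hζ, one_pow, sub_self]
  have hdeg : (Polynomial.X ^ n - Polynomial.C (1 : R)).natDegree ≤ P.natDegree := by
    rw [Polynomial.natDegree_X_pow_sub_C, Polynomial.natDegree_prod_of_monic _ _
      fun i _ => Polynomial.monic_X_sub_C _,
      Finset.sum_congr rfl fun i _ => Polynomial.natDegree_X_sub_C _]
    simp
  have := Polynomial.eq_of_monic_of_dvd_of_natDegree_le hP (Polynomial.monic_X_pow_sub_C 1 hn0) hdvd hdeg
  have := congrArg (Polynomial.eval x) this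
  simpa [P, Polynomial.eval_prod] using this.symm

end algebra

variable {X : Scheme.{u}}

/-- The unit underlying a section of `G_m`. -/
noncomputable def gmVal {U : X.Etale} (a : (EtCoh.Gm X).obj.obj (op U)) : Γ(U.left, ⊤)ˣ :=
  Additive.toMul a.down

/-- The section of `G_m` attached to a unit. -/
noncomputable def gmEl (U : X.Etale) (u : Γ(U.left, ⊤)ˣ) : (EtCoh.Gm X).obj.obj (op U) :=
  ULift.up (Additive.ofMul u)

lemma gmVal_injective {U : X.Etale} : Function.Injective (gmVal (U := U)) :=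
  fun a b h => ULift.ext a b (Additive.toMul.injective h)

lemma gmVal_gmEl (U : X.Etale) (u : Γ(U.left, ⊤)ˣ) : gmVal (gmEl U u) = u := rfl

lemma gmVal_map {U V : X.Etale} (g : V ⟶ U) (a : (EtCoh.Gm X).obj.obj (op U)) :
    (gmVal ((EtCoh.Gm X).obj.map g.op a) : Γ(V.left, ⊤)) = g.left.appTop (gmVal a : Γ(U.left, ⊤)) := rfl

lemma gmVal_nsmul {U : X.Etale} (m : ℕ) (a : (EtCoh.Gm X).obj.obj (op U)) :
    gmVal (m • a) = gmVal a ^ m := rfl

lemma powMap_app (X : Scheme.{u}) (n : ℕ) (U : X.Etale) (a : (EtCoh.Gm X).obj.obj (op U)) :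
    (EtCoh.powMap X n).hom.app (op U) a = n • a := by
  induction n with
  | zero => simp [EtCoh.powMap]
  | succ n ih =>
    simp only [EtCoh.powMap, succ_nsmul] at ih ⊢
    simp [ih]

/-- Sections of `μ_n` are the `n`-torsion sections of `G_m`. -/
lemma muι_sections (X : Scheme.{u}) (n : ℕ) (U : X.Etale) :
    Function.Injective ((EtCoh.muι X n).hom.app (op U)) ∧
      ∀ a : (EtCoh.Gm X).obj.obj (op U), n • a = 0 → ∃ b, (EtCoh.muι X n).hom.app (op U) b = a := by
  let E : EtCoh.Ab X ⥤ AddCommGrpCat.{u + 1} :=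
    sheafToPresheaf X.smallEtaleTopology _ ⋙ (evaluation X.Etaleᵒᵖ _).obj (op U)
  have : Mono (EtCoh.muι X n) := inferInstanceAs (Mono (kernel.ι _))
  have : Mono (E.map (EtCoh.muι X n)) := inferInstance
  refine ⟨(AddCommGrpCat.mono_iff_injective _).1 this, fun a ha => ?_⟩
  let S := ShortComplex.mk (EtCoh.muι X n) (EtCoh.powMap X n) (kernel.condition _)
  have hS : S.Exact := ShortComplex.exact_of_f_is_kernel S (kernelIsKernel _)
  have hE := hS.map_of_mono_of_preservesKernel E ‹_› inferInstance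
  exact (ShortComplex.ab_exact_iff _).1 hE a ((powMap_app X n U a).trans ha)

variable (n : ℕ) (hn : 1 ≤ n) (hunit : IsUnit (n : Γ(X, ⊤))) (ζ : Γ(X, ⊤))
  (hζ : Polynomial.aeval ζ (Polynomial.cyclotomic n ℤ) = 0)

set_option backward.isDefEq.respectTransparency.types false in
include hn hunit hζ in
/-- `μ_n` is constant when there is a primitive `n`-th root of unity. -/
theorem nonempty_mu_iso_const : Nonempty (EtCoh.mu X n ≅ EtCoh.const X (ZMod n)) := by
  have : NeZero n := ⟨by omega⟩
  let res : ∀ U : X.Etale, Γ(X, ⊤) →+* Γ(U.left, ⊤) := fun U => U.hom.appTop.hom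
  have hres : ∀ {U V : X.Etale} (g : V ⟶ U) (r : Γ(X, ⊤)), g.left.appTop (res U r) = res V r := by
    intro U V g r
    have h : g.left ≫ U.hom = V.hom := Over.w g.hom
    show (U.hom.appTop ≫ g.left.appTop) r = V.hom.appTop r
    rw [← Scheme.Hom.comp_appTop, h]
  have hpow : ∀ U : X.Etale, (res U ζ) ^ n = 1 := fun U => by
    rw [← map_pow, pow_eq_one_of_cyclotomic hζ, map_one]
  have hu : ∀ U : X.Etale, IsUnit (n : Γ(U.left, ⊤)) := fun U => by
    simpa using hunit.map (res U)
  have hr : ∀ U : X.Etale, Polynomial.aeval (res U ζ) (Polynomial.cyclotomic n ℤ) = 0 := fun U => by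
    exact (Polynomial.aeval_algHom_apply (res U).toIntAlgHom ζ _).trans
      ((congrArg (res U) hζ).trans (map_zero _))
  let zu : ∀ U : X.Etale, Γ(U.left, ⊤)ˣ := fun U => Units.ofPowEqOne _ n (hpow U) (by omega)
  have hel : ∀ U : X.Etale, ∃ b, (EtCoh.muι X n).hom.app (op U) b = gmEl U (zu U) := fun U =>
    (muι_sections X n U).2 _ (gmVal_injective (by
      rw [gmVal_nsmul, gmVal_gmEl]
      exact (Units.pow_ofPowEqOne (hpow U) (by omega)).trans rfl))
  choose el hel using hel
  have hel_map : ∀ {U V : X.Etale} (g : V ⟶ U), (EtCoh.mu X n).obj.map g.op (el U) = el V := by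
    intro U V g
    refine (muι_sections X n V).1 ?_
    rw [hel V, NatTrans.naturality_apply, hel U]
    exact gmVal_injective (Units.ext ((gmVal_map g _).trans (hres g ζ)))
  have hnel : ∀ U : X.Etale, n • el U = 0 := fun U => (muι_sections X n U).1 (by
    rw [map_nsmul, map_zero, hel U]
    exact gmVal_injective ((gmVal_nsmul n _).trans ((Units.pow_ofPowEqOne (hpow U) (by omega)).trans rfl)))
  let φ : ∀ U : X.Etale, ZMod n →+ (EtCoh.mu X n).obj.obj (op U) := fun U =>
    ZMod.lift n ⟨zmultiplesHom _ (el U), by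
      show ((n : ℤ) • el U) = 0
      rw [natCast_zsmul]; exact hnel U⟩
  have hφ : ∀ (U : X.Etale) (k : ℕ), φ U (k : ZMod n) = k • el U := fun U k => by
    rw [← Int.cast_natCast]
    show ZMod.lift n _ ((k : ℤ) : ZMod n) = _
    rw [ZMod.lift_coe]
    exact natCast_zsmul _ _
  let ψ : (Functor.const X.Etaleᵒᵖ).obj (AddCommGrpCat.of (ULift.{u + 1} (ZMod n))) ⟶ (EtCoh.mu X n).obj :=
    { app := fun U => AddCommGrpCat.ofHom ((φ U.unop).comp AddEquiv.ulift.toAddMonoidHom)
      naturality := fun U V g => by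
        ext ⟨k⟩
        obtain ⟨k, rfl⟩ := ZMod.natCast_zmod_surjective k
        show φ V.unop (k : ZMod n) = (EtCoh.mu X n).obj.map g (φ U.unop (k : ZMod n))
        rw [hφ, hφ, map_nsmul]
        exact congrArg (k • ·) (hel_map g.unop).symm }
  have hval : ∀ (U : X.Etale) (k : ℕ),
      (gmVal ((EtCoh.muι X n).hom.app (op U) (ψ.app (op U) ⟨(k : ZMod n)⟩)) : Γ(U.left, ⊤)) =
        (res U ζ) ^ k := by
    intro U k
    show (gmVal ((EtCoh.muι X n).hom.app (op U) (φ U (k : ZMod n))) : Γ(U.left, ⊤)) = _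
    rw [hφ, map_nsmul, hel U, gmVal_nsmul, gmVal_gmEl, Units.val_pow_eq_pow_val]
    rfl
  have h_inj : Presheaf.IsLocallyInjective X.smallEtaleTopology ψ := by
    refine ⟨fun {U} a b h => ?_⟩
    rw [mem_topology_iff]
    intro x
    refine (?_ : a = b) ▸ ⟨U.unop, 𝟙 _, x, rfl, rfl⟩
    obtain ⟨a⟩ := a
    obtain ⟨b⟩ := b
    obtain ⟨a, ha, rfl⟩ : ∃ m : ℕ, m < n ∧ (m : ZMod n) = a :=
      ⟨a.val, ZMod.val_lt _, ZMod.natCast_zmod_val _⟩
    obtain ⟨b, hb, rfl⟩ : ∃ m : ℕ, m < n ∧ (m : ZMod n) = b :=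
      ⟨b.val, ZMod.val_lt _, ZMod.natCast_zmod_val _⟩
    congr 2
    by_contra hab
    have he := congrArg (fun z => (gmVal ((EtCoh.muι X n).hom.app U z) : Γ(U.unop.left, ⊤))) h
    have hs := isUnit_pow_sub_pow (hr U.unop) (hu U.unop) ha hb hab
    rw [(hval U.unop a).symm.trans (he.trans (hval U.unop b)), sub_self] at hs
    exact (U.unop.left.basicOpen_zero ⊤).le (Scheme.basicOpen_of_isUnit _ hs ▸ TopologicalSpace.Opens.mem_top x)
  have h_surj : Presheaf.IsLocallySurjective X.smallEtaleTopology ψ := by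
    refine ⟨fun {U} s => ?_⟩
    rw [mem_topology_iff]
    intro x
    let v : Γ(U.left, ⊤) := gmVal ((EtCoh.muι X n).hom.app (op U) s)
    have hv : v ^ n = 1 := by
      rw [← Units.val_pow_eq_pow_val, ← gmVal_nsmul, ← powMap_app X n U,
        show (EtCoh.powMap X n).hom.app (op U) ((EtCoh.muι X n).hom.app (op U) s) = 0 from
          congrArg (fun m : EtCoh.mu X n ⟶ EtCoh.Gm X => m.hom.app (op U) s) (kernel.condition _)]
      rfl
    let ev := U.left.Γevaluation x
    have hprod : ∏ i ∈ Finset.range n, (ev v - ev (res U ζ) ^ i) = 0 := by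
      have : ev (∏ i ∈ Finset.range n, (v - res U ζ ^ i)) = ∏ i ∈ Finset.range n, (ev v - ev (res U ζ) ^ i) := by
        simp [map_prod]
      rw [← this, prod_sub_pow (hr U) (hu U), hv, sub_self, map_zero]
    obtain ⟨i, hi, hi0⟩ := Finset.prod_eq_zero_iff.1 hprod
    rw [Finset.mem_range] at hi
    let Q : Γ(U.left, ⊤) := ∏ j ∈ (Finset.range n).erase i, (v - res U ζ ^ j)
    have hxQ : x ∈ U.left.basicOpen Q := by
      rw [← Scheme.evaluation_ne_zero_iff_mem_basicOpen _ x (TopologicalSpace.Opens.mem_top x)]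
      show ev Q ≠ 0
      rw [map_prod, Finset.prod_ne_zero_iff]
      intro j hj
      rw [Finset.mem_erase, Finset.mem_range] at hj
      have h1 : ev (res U ζ ^ i - res U ζ ^ j) ≠ 0 :=
        ((isUnit_pow_sub_pow (hr U) (hu U) hi hj.2 (Ne.symm hj.1)).map ev.hom).ne_zero
      rw [sub_eq_zero] at hi0
      simp only [map_sub, map_pow] at h1 hi0 ⊢
      rwa [hi0]
    let W := U.left.basicOpen Q
    refine ⟨openObj U W, openHom U W, ⟨x, hxQ⟩, ⟨⟨(i : ZMod n)⟩, ?_⟩, rfl⟩
    refine (muι_sections X n _).1 (gmVal_injective (Units.ext ?_))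
    rw [NatTrans.naturality_apply, gmVal_map]
    refine (hval (openObj U W) i).trans ?_
    show res (openObj U W) ζ ^ i = (openHom U W).left.appTop v
    rw [← hres (openHom U W) ζ, ← map_pow]
    have hQu : IsUnit ((openHom U W).left.appTop Q) := by
      refine RingedSpace.isUnit_of_isUnit_germ _ _ _ fun w _ => ?_
      rw [← Scheme.mem_basicOpen]
      rw [← Scheme.preimage_basicOpen_top]
      exact w.2
    have h0 : (openHom U W).left.appTop (v - res U ζ ^ i) * (openHom U W).left.appTop Q = 0 := by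
      rw [← map_mul, Finset.mul_prod_erase _ (fun j => v - res U ζ ^ j) (Finset.mem_range.2 hi),
        prod_sub_pow (hr U) (hu U), hv, sub_self, map_zero]
    rw [hQu.mul_left_eq_zero, map_sub, sub_eq_zero] at h0
    exact h0.symm
  have hW : X.smallEtaleTopology.W ψ := X.smallEtaleTopology.W_of_isLocallyBijective ψ
  have : IsIso ((presheafToSheaf X.smallEtaleTopology AddCommGrpCat.{u + 1}).map ψ) :=
    (GrothendieckTopology.W_iff _ ψ).1 hW
  exact ⟨sheafificationIso (EtCoh.mu X n) ≪≫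
    (asIso ((presheafToSheaf X.smallEtaleTopology AddCommGrpCat.{u + 1}).map ψ)).symm⟩

end Groth.EtaleBase
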