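import Groth.Agent.EtaleBase.NormalEtale
import Groth.Agent.S9436

/-!
Etale schemes over closed subschemes of affine normal schemes with separably closed function field.
-/

set_option autoImplicit false

universe u

open CategoryTheory CategoryTheory.Limits AlgebraicGeometry TopologicalSpace TensorProduct Topology

namespace Groth.EtaleBase.NormalEt

variable {V Z X : Scheme.{u}}

/-- Affine etale schemes over a closed subscheme of an affine scheme lift. -/
theorem exists_affine_lift [IsAffine X] (i : Z ⟶ X) [IsClosedImmersion i] (φ : V ⟶ Z) [Etale φ]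
    [IsAffine V] : ∃ (Y : Scheme.{u}) (p : Y ⟶ X) (q : V ⟶ Y), IsAffine Y ∧ Etale p ∧ IsPullback q φ p i := by
  have : IsAffine Z := isAffine_of_isAffineHom i
  let A := Γ(X, ⊤)
  let a : A ⟶ Γ(Z, ⊤) := i.appTop
  have ha : Function.Surjective a.hom := i.app_surjective ⊤ (isAffineOpen_top X)
  let I : Ideal A := RingHom.ker a.hom
  let e0 : A ⧸ I ≃+* Γ(Z, ⊤) := RingHom.quotientKerEquivOfSurjective ha
  let r : Γ(Z, ⊤) ⟶ CommRingCat.of (A ⧸ I) := CommRingCat.ofHom e0.symm.toRingHom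
  have hr : a ≫ r = CommRingCat.ofHom (algebraMap A (A ⧸ I)) := by
    ext x
    show e0.symm (a.hom x) = Ideal.Quotient.mk I x
    rw [RingEquiv.symm_apply_eq]
    rfl
  have : IsIso r := ConcreteCategory.isIso_iff_bijective r |>.2 e0.symm.bijective
  let ζ : Spec (CommRingCat.of (A ⧸ I)) ⟶ Z := Spec.map r ≫ Z.isoSpec.inv
  have hζ : ζ ≫ i = Spec.map (CommRingCat.ofHom (algebraMap A (A ⧸ I))) ≫ X.isoSpec.inv := by
    rw [← hr, Spec.map_comp, Category.assoc, Category.assoc, ← Scheme.isoSpec_inv_naturality]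
  let ψ : CommRingCat.of (A ⧸ I) ⟶ Γ(V, ⊤) := Spec.preimage (V.isoSpec.inv ≫ φ ≫ inv ζ)
  have hψ : Spec.map ψ = V.isoSpec.inv ≫ φ ≫ inv ζ := Spec.map_preimage _
  let : Algebra (A ⧸ I) Γ(V, ⊤) := ψ.hom.toAlgebra
  have : Algebra.Etale (A ⧸ I) Γ(V, ⊤) := by
    have : Etale (Spec.map ψ) := hψ ▸ inferInstance
    exact RingHom.etale_algebraMap.1 ((HasRingHomProperty.Spec_iff (P := @Etale)).1 this)
  obtain ⟨S, _, _, hS, ⟨e⟩⟩ := Groth.Agent.S9436.result A I Γ(V, ⊤)
  let p' : Spec (CommRingCat.of S) ⟶ Spec A := Spec.map (CommRingCat.ofHom (algebraMap A S))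
  let p : Spec (CommRingCat.of S) ⟶ X := p' ≫ X.isoSpec.inv
  have : Etale p' := (HasRingHomProperty.Spec_iff (P := @Etale)).2 (RingHom.etale_algebraMap.2 hS)
  let eC : CommRingCat.of ((A ⧸ I) ⊗[A] S) ⟶ Γ(V, ⊤) := CommRingCat.ofHom e.toAlgHom.toRingHom
  have : IsIso eC := ConcreteCategory.isIso_iff_bijective eC |>.2 e.bijective
  let θ := V.isoSpec.hom ≫ Spec.map eC ≫ (pullbackSpecIso A (A ⧸ I) S).inv
  have hθ : θ ≫ pullback.fst _ _ = φ ≫ inv ζ := by
    simp only [θ, Category.assoc, pullbackSpecIso_inv_fst]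
    rw [← Spec.map_comp, show CommRingCat.ofHom _ ≫ eC = ψ from CommRingCat.hom_ext e.toAlgHom.comp_algebraMap,
      hψ, Iso.hom_inv_id_assoc]
  have : IsIso θ := inferInstance
  refine ⟨Spec (CommRingCat.of S), p, θ ≫ pullback.snd _ _, inferInstance, inferInstance, ?_⟩
  refine (IsPullback.of_hasPullback (Spec.map (CommRingCat.ofHom (algebraMap A (A ⧸ I)))) p').flip.of_iso
    (asIso θ).symm (Iso.refl _) (asIso ζ) X.isoSpec.symm ?_ ?_ ?_ ?_
  · simp [p']
  · show pullback.fst _ _ ≫ ζ = inv θ ≫ φ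
    rw [IsIso.eq_inv_comp, reassoc_of% hθ, IsIso.inv_hom_id, Category.comp_id]
  · simp [p, Iso.symm_hom]
  · simpa [Iso.symm_hom] using hζ.symm

variable [IsIntegral X] [IsSepClosed X.functionField] (hN : ∀ x : X, IsIntegrallyClosed (X.presheaf.stalk x))

include hN in
/-- An affine etale scheme over a closed subscheme splits into finitely many opens. -/
theorem exists_decomposition_closed [IsAffine X] (i : Z ⟶ X) [IsClosedImmersion i] (φ : V ⟶ Z) [Etale φ]
    [IsAffine V] :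
    ∃ (ι : Type u) (_ : Finite ι) (W : ι → Z.Opens) (l : ∀ k, (W k : Scheme.{u}) ⟶ V),
      (∀ k, IsOpenImmersion (l k)) ∧ (∀ k, l k ≫ φ = (W k).ι) ∧
      Pairwise (Function.onFun Disjoint fun k => Set.range (l k).base) ∧
      ∀ v : V, ∃ k, v ∈ Set.range (l k).base := by
  obtain ⟨Y, p, q, _, _, hP⟩ := exists_affine_lift i φ
  have := isOpenImmersion_comp hN p
  have : IsClosedImmersion q := MorphismProperty.of_isPullback (P := @IsClosedImmersion) hP.flip ‹_›
  let C := comp hN p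
  let U : Gen p → X.Opens := fun g => ((C g).ι ≫ p).opensRange
  let k : ∀ g, (U g : Scheme.{u}) ⟶ Y := fun g =>
    (IsOpenImmersion.isoOfRangeEq (U g).ι ((C g).ι ≫ p) (by rw [Scheme.Opens.range_ι]; rfl)).hom ≫ (C g).ι
  have hk : ∀ g, k g ≫ p = (U g).ι := fun g => by
    simp only [k, Category.assoc, IsOpenImmersion.isoOfRangeEq_hom_fac]
  have hkr : ∀ g, Set.range (k g).base = (C g : Set Y) := fun g => by
    simp only [k, Scheme.Hom.comp_base, TopCat.coe_comp]
    rw [Set.range_comp, Set.range_eq_univ.2 (Scheme.Hom.surjective _), Set.image_univ, Scheme.Opens.range_ι]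
  let W : Gen p → Z.Opens := fun g => i ⁻¹ᵁ U g
  let l : ∀ g, (W g : Scheme.{u}) ⟶ V := fun g =>
    hP.lift ((i ∣_ U g) ≫ k g) (W g).ι (by rw [Category.assoc, hk, morphismRestrict_ι])
  have hlq : ∀ g, l g ≫ q = (i ∣_ U g) ≫ k g := fun g => hP.lift_fst _ _ _
  have hlφ : ∀ g, l g ≫ φ = (W g).ι := fun g => hP.lift_snd _ _ _
  have hl : ∀ g, IsOpenImmersion (l g) := fun g => by
    have : Etale (l g ≫ φ) := (hlφ g).symm ▸ inferInstance
    have : Etale (l g) := Etale.of_comp (l g) φ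
    have : Mono (l g) := mono_of_mono_fac (hlφ g)
    exact IsOpenImmersion.of_flat_of_mono _
  have hrange : ∀ g, Set.range (l g).base = q.base ⁻¹' (C g : Set Y) := fun g => by
    apply Set.Subset.antisymm
    · rintro _ ⟨w, rfl⟩
      rw [Set.mem_preimage, ← hkr, ← Scheme.Hom.comp_apply, hlq, Scheme.Hom.comp_apply]
      exact ⟨_, rfl⟩
    · intro v hv
      rw [Set.mem_preimage, ← hkr] at hv
      obtain ⟨y, hy⟩ := hv
      have hzU : φ.base v ∈ W g := by
        show i.base (φ.base v) ∈ U g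
        rw [← Scheme.Hom.comp_apply, ← hP.w, Scheme.Hom.comp_apply, ← hy, ← Scheme.Hom.comp_apply, hk]
        exact y.2
      refine ⟨⟨_, hzU⟩, q.isClosedEmbedding.injective ?_⟩
      rw [← hy, ← Scheme.Hom.comp_apply, hlq, Scheme.Hom.comp_apply]
      refine congrArg (k g).base (Subtype.ext ?_)
      show (U g).ι ((i ∣_ U g) ⟨_, hzU⟩) = (U g).ι y
      rw [← hk, Scheme.Hom.comp_apply _ p y, hy, ← Scheme.Hom.comp_apply q p, hP.w, hk,
        ← Scheme.Hom.comp_apply, morphismRestrict_ι]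
      rfl
  have hdisj : ∀ g g', g ≠ g' → Disjoint (Set.range (l g).base) (Set.range (l g').base) := fun g g' h => by
    rw [hrange, hrange]
    exact ((Opens.coe_disjoint).2 (disjoint_comp hN p h)).preimage _
  have hcov : ∀ v : V, ∃ g, v ∈ Set.range (l g).base := fun v => by
    obtain ⟨g, hg⟩ := Opens.mem_iSup.1 (show q.base v ∈ ⨆ g, C g by rw [iSup_comp hN p]; trivial)
    exact ⟨g, by rw [hrange]; exact hg⟩
  obtain ⟨S, hS⟩ := isCompact_univ.elim_finite_subcover (fun g => Set.range (l g).base)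
    (fun g => (l g).isOpenEmbedding.isOpen_range) (fun v _ => Set.mem_iUnion.2 (hcov v))
  refine ⟨{g // g ∈ S}, inferInstance, fun g => W g.1, fun g => l g.1, fun g => hl g.1, fun g => hlφ g.1,
    fun g g' h => hdisj _ _ fun e => h (Subtype.ext e), fun v => ?_⟩
  obtain ⟨g, hg⟩ := Set.mem_iUnion.1 (hS (Set.mem_univ v))
  obtain ⟨hg', hv⟩ := Set.mem_iUnion.1 hg
  exact ⟨⟨g, hg'⟩, hv⟩

include hN in
theorem exists_split_closed [IsAffine X] (i : Z ⟶ X) [IsClosedImmersion i] (φ : V ⟶ Z) [Etale φ]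
    [IsAffine V] :
    ∃ (ι : Type u) (_ : Finite ι) (W : ι → Z.Opens) (e : (∐ fun k => (W k : Scheme.{u})) ≅ V),
      ∀ k, Sigma.ι (fun k => (W k : Scheme.{u})) k ≫ e.hom ≫ φ = (W k).ι := by
  obtain ⟨ι, hι, W, l, hl, hlφ, hd, hc⟩ := exists_decomposition_closed hN i φ
  obtain ⟨hcol⟩ := nonempty_isColimit_cofanMk_of l
    (eq_top_iff.2 fun v _ => Opens.mem_iSup.2 (hc v))
    (fun a b hab => Opens.coe_disjoint.1 (hd hab))
  refine ⟨ι, hι, W, (colimit.isColimit _).coconePointUniqueUpToIso hcol, fun g => ?_⟩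
  rw [← Category.assoc]
  have := (colimit.isColimit (Discrete.functor fun i => (W i : Scheme.{u}))).comp_coconePointUniqueUpToIso_hom hcol ⟨g⟩
  exact (congrArg (· ≫ φ) this).trans (hlφ g)

include hN in
/-- Surjective finite etale maps onto closed subschemes have sections. -/
theorem exists_section_closed [IsAffine X] (i : Z ⟶ X) [IsClosedImmersion i] (φ : V ⟶ Z) [Etale φ]
    [IsFinite φ] [Surjective φ] : ∃ s : Z ⟶ V, s ≫ φ = 𝟙 Z := by
  have : IsAffine Z := isAffine_of_isAffineHom i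
  have : IsAffine V := isAffine_of_isAffineHom φ
  obtain ⟨ι, hι, W, l, hl, hlφ, hd, hc⟩ := exists_decomposition_closed hN i φ
  -- the opens are clopen
  have hWr : ∀ k, (W k : Set Z) = φ.base '' Set.range (l k).base := fun k => by
    rw [← Set.range_comp, ← TopCat.coe_comp, ← Scheme.Hom.comp_base, hlφ, Scheme.Opens.range_ι]
  have hWc : ∀ k, IsClosed (W k : Set Z) := fun k => by
    rw [hWr]
    refine φ.isClosedMap _ ?_
    have : (Set.range (l k).base)ᶜ = ⋃ k' ∈ {k' | k' ≠ k}, Set.range (l k').base := by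
      ext v
      simp only [Set.mem_compl_iff, Set.mem_iUnion, Set.mem_setOf_eq, exists_prop]
      refine ⟨fun h => ?_, fun ⟨k', hk', hv⟩ hv' => Set.disjoint_left.1 (hd hk') hv hv'⟩
      obtain ⟨k', hk'⟩ := hc v
      exact ⟨k', fun e => h (e ▸ hk'), hk'⟩
    rw [← isOpen_compl_iff, this]
    exact isOpen_biUnion fun k' _ => (l k').isOpenEmbedding.isOpen_range
  cases nonempty_fintype ι
  let n := Fintype.equivFin ι
  have hDo : ∀ k, IsOpen ((W k : Set Z) \ ⋃ k' ∈ {k' | n k' < n k}, (W k' : Set Z)) := fun k =>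
    (W k).isOpen.sdiff ((Set.toFinite _).isClosed_biUnion fun k' _ => hWc k')
  let D : ι → Z.Opens := fun k => ⟨_, hDo k⟩
  have hDW : ∀ k, D k ≤ W k := fun k z hz => hz.1
  have hDd : Pairwise (Function.onFun Disjoint fun k => (D k).ι.opensRange) := by
    intro a b hab
    simp only [Function.onFun, Scheme.Opens.opensRange_ι]
    rw [← Opens.coe_disjoint, Set.disjoint_left]
    intro z ha hb
    rcases lt_trichotomy (n a) (n b) with h | h | h
    · exact hb.2 (Set.mem_biUnion (show a ∈ {k' | n k' < n b} from h) ha.1)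
    · exact hab (n.injective h)
    · exact ha.2 (Set.mem_biUnion (show b ∈ {k' | n k' < n a} from h) hb.1)
  have hDc : ⨆ k, (D k).ι.opensRange = ⊤ := by
    refine eq_top_iff.2 fun z _ => ?_
    simp only [Scheme.Opens.opensRange_ι]
    classical
    have hne : (Finset.univ.filter fun k => z ∈ W k).Nonempty := by
      obtain ⟨v, rfl⟩ := φ.surjective z
      obtain ⟨k, y, rfl⟩ := hc v
      refine ⟨k, Finset.mem_filter.2 ⟨Finset.mem_univ _, ?_⟩⟩
      rw [← Scheme.Hom.comp_apply, hlφ]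
      exact y.2
    obtain ⟨k, hk, hmin⟩ := Finset.exists_min_image _ n hne
    refine Opens.mem_iSup.2 ⟨k, (Finset.mem_filter.1 hk).2, ?_⟩
    simp only [Set.mem_iUnion, not_exists]
    exact fun k' hk' hz => (hmin k' (Finset.mem_filter.2 ⟨Finset.mem_univ _, hz⟩)).not_gt hk'
  obtain ⟨hcol⟩ := nonempty_isColimit_cofanMk_of (fun k => (D k).ι) hDc hDd
  refine ⟨Cofan.IsColimit.desc hcol fun k => Z.homOfLE (hDW k) ≫ l k, Cofan.IsColimit.hom_ext hcol _ _ fun k => ?_⟩
  show (D k).ι ≫ _ = (D k).ι ≫ _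
  have := Cofan.IsColimit.fac hcol (fun k => Z.homOfLE (hDW k) ≫ l k) k
  simp only [cofan_mk_inj] at this
  rw [← Category.assoc, this, Category.assoc, hlφ, Scheme.homOfLE_ι, Category.comp_id]

end Groth.EtaleBase.NormalEt
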