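import Groth.Agent.Pi1Normal.Covers
import Groth.Agent.EtaleBase.Stalks
import Groth.Agent.EtaleBase.Sections
import Mathlib.AlgebraicGeometry.FunctionField
import Mathlib.AlgebraicGeometry.Morphisms.FlatMono
import Mathlib.AlgebraicGeometry.Limits

/-!
Etale schemes over normal integral schemes decompose along their points over the generic point.
-/

set_option autoImplicit false

universe u

open CategoryTheory CategoryTheory.Limits AlgebraicGeometry TopologicalSpace Topology

namespace Groth.EtaleBase.NormalEt

variable {X Y : Scheme.{u}} [IsIntegral X]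

lemma isNormalScheme (hN : ∀ x : X, IsIntegrallyClosed (X.presheaf.stalk x)) : Pi1.IsNormalScheme X :=
  fun x => ⟨inferInstance, hN x⟩

variable (hN : ∀ x : X, IsIntegrallyClosed (X.presheaf.stalk x)) (f : Y ⟶ X) [Etale f]

include hN in
/-- Every point of an etale scheme over a normal integral scheme specializes from exactly one point
over the generic point. -/
theorem existsUnique_generic (y : Y) : ∃! g : Y, f g = genericPoint X ∧ g ⤳ y := by
  have hgen : ∀ y : Y, ∃ η, η ⤳ y ∧ (∀ y', y' ⤳ y → η ⤳ y') ∧ f η = genericPoint X := fun y => by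
    obtain ⟨η, hη, hmax⟩ := Groth.PropsBasic.exists_greatest_generization
      ((Groth.Pi1Normal.isNormalScheme_of_etale (isNormalScheme hN) f) y).1
    refine ⟨η, hη, hmax, ?_⟩
    obtain ⟨η', hη', hfη'⟩ := Flat.generalizingMap f (genericPoint_specializes (f η))
    rw [(hmax η' (hη'.trans hη)).antisymm hη' |>.eq]
    exact hfη'
  obtain ⟨η, hη, hmax, hfη⟩ := hgen y
  refine ⟨η, ⟨hfη, hη⟩, fun g ⟨hfg, hgy⟩ => ?_⟩
  have hT1 : T1Space (f ⁻¹' {genericPoint X}) := by
    have := (f.isDiscrete_preimage_singleton (genericPoint X)).1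
    infer_instance
  have hs : (⟨η, hfη⟩ : f ⁻¹' {genericPoint X}) ⤳ ⟨g, hfg⟩ := (subtype_specializes_iff _ _).2 (hmax g hgy)
  exact (congrArg Subtype.val hs.eq).symm

include hN in
/-- The closure of a point over the generic point is open. -/
theorem isOpen_closure_generic {g : Y} (hg : f g = genericPoint X) : IsOpen (closure ({g} : Set Y)) := by
  rw [isOpen_iff_forall_mem_open]
  intro y hy
  rw [← specializes_iff_mem_closure] at hy
  obtain ⟨_, ⟨V, hV, rfl⟩, hyV, -⟩ :=
    X.isBasis_affineOpens.exists_subset_of_mem_open (Set.mem_univ (f y)) isOpen_univ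
  obtain ⟨_, ⟨W, hW, rfl⟩, hyW, hWV⟩ :=
    Y.isBasis_affineOpens.exists_subset_of_mem_open (show y ∈ f ⁻¹ᵁ V from hyV) (f ⁻¹ᵁ V).isOpen
  have : IsAffine (W : Scheme) := hW
  have : IsAffine (V : Scheme) := hV
  let fW := f.resLE V W hWV
  have hηV : genericPoint X ∈ V := ((genericPoint_spec X).mem_open_set_iff V.isOpen).2 ⟨f y, trivial, hyV⟩
  have hfin : ((W : Set Y) ∩ f ⁻¹' {genericPoint X}).Finite := by
    refine ((fW.finite_preimage_singleton ⟨genericPoint X, hηV⟩).image (Scheme.Opens.ι W)).subset ?_
    rintro z ⟨hz, hzf⟩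
    refine ⟨⟨z, hz⟩, ?_, rfl⟩
    refine Set.mem_singleton_iff.2 (Subtype.ext ?_)
    show Scheme.Opens.ι V (fW ⟨z, hz⟩) = genericPoint X
    rw [← Scheme.Hom.comp_apply, Scheme.Hom.resLE_comp_ι]
    exact hzf
  let C : Set Y := ⋃ h ∈ ((W : Set Y) ∩ f ⁻¹' {genericPoint X}) \ {g}, closure {h}
  refine ⟨(W : Set Y) \ C, ?_, W.isOpen.sdiff ((hfin.subset Set.sdiff_subset).isClosed_biUnion
    fun _ _ => isClosed_closure), hyW, ?_⟩
  · rintro z ⟨hzW, hzC⟩
    obtain ⟨η, hη, -⟩ := existsUnique_generic hN f z
    rw [← specializes_iff_mem_closure]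
    by_cases h : η = g
    · exact h ▸ hη.2
    · exact absurd (Set.mem_biUnion (t := fun h => closure {h})
        (show η ∈ ((W : Set Y) ∩ f ⁻¹' {genericPoint X}) \ {g} from ⟨⟨hη.2.mem_open W.isOpen hzW, hη.1⟩, h⟩)
        (specializes_iff_mem_closure.1 hη.2)) hzC
  · simp only [C, Set.mem_iUnion, not_exists]
    rintro h ⟨⟨-, hh⟩, hne⟩ hhy
    exact hne ((existsUnique_generic hN f y).unique ⟨hh, specializes_iff_mem_closure.2 hhy⟩ ⟨hg, hy⟩)

/-- The index set of the components. -/
abbrev Gen : Type u := {g : Y // f g = genericPoint X}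

/-- The component of a point over the generic point. -/
def comp (g : Gen f) : Y.Opens := ⟨closure {g.1}, isOpen_closure_generic hN f g.2⟩

lemma mem_comp {g : Gen f} {y : Y} : y ∈ comp hN f g ↔ g.1 ⤳ y := specializes_iff_mem_closure.symm

lemma disjoint_comp {g g' : Gen f} (h : g ≠ g') : Disjoint (comp hN f g) (comp hN f g') := by
  rw [disjoint_iff]
  refine Opens.ext (Set.eq_empty_iff_forall_notMem.2 fun y ⟨h1, h2⟩ => h (Subtype.ext ?_))
  exact (existsUnique_generic hN f y).unique ⟨g.2, (mem_comp hN f).1 h1⟩ ⟨g'.2, (mem_comp hN f).1 h2⟩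

lemma iSup_comp : ⨆ g, comp hN f g = ⊤ := by
  refine eq_top_iff.2 fun y _ => ?_
  obtain ⟨g, hg, -⟩ := existsUnique_generic hN f y
  exact Opens.mem_iSup.2 ⟨⟨g, hg.1⟩, (mem_comp hN f).2 hg.2⟩

variable [IsSepClosed X.functionField]

include hN in
/-- An etale scheme over a normal scheme with separably closed function field, with one point over the
generic point, is an open subscheme as soon as it is separated. -/
theorem isOpenImmersion_of_subsingleton [IsSeparated f] (h : Subsingleton (Gen f)) : IsOpenImmersion f := by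
  let s : Spec (CommRingCat.of X.functionField) ⟶ X := X.fromSpecStalk (genericPoint X)
  have : IsPreimmersion s := inferInstanceAs (IsPreimmersion (X.fromSpecStalk (genericPoint X)))
  have hs : ∀ a, s a = genericPoint X := fun a => by
    rw [Subsingleton.elim a (IsLocalRing.closedPoint _)]
    exact Scheme.fromSpecStalk_closedPoint
  -- field valued points over the generic point are unique
  have huniq : ∀ l l' : Spec (CommRingCat.of X.functionField) ⟶ Y, l ≫ f = s → l' ≫ f = s → l = l' := by
    intro l l' hl hl'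
    let P := pullback.snd f s
    let m := pullback.lift l (𝟙 _) (by rw [hl, Category.id_comp])
    let m' := pullback.lift l' (𝟙 _) (by rw [hl', Category.id_comp])
    have hsub : Subsingleton ↥(pullback f s) := by
      refine ⟨fun a b => (pullback.fst f s).isEmbedding.injective ?_⟩
      have hmem : ∀ z, f ((pullback.fst f s) z) = genericPoint X := fun z => by
        rw [← Scheme.Hom.comp_apply, pullback.condition, Scheme.Hom.comp_apply, hs]
      exact congrArg Subtype.val (h.elim ⟨_, hmem a⟩ ⟨_, hmem b⟩)
    have e : m = m' := Groth.EtaleBase.section_eq_of_range_eq P m m' (pullback.lift_snd _ _ _)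
      (pullback.lift_snd _ _ _) (by
        have : Surjective m := ⟨fun a => ⟨default, Subsingleton.elim _ _⟩⟩
        have : Surjective m' := ⟨fun a => ⟨default, Subsingleton.elim _ _⟩⟩
        rw [Set.range_eq_univ.2 m.surjective, Set.range_eq_univ.2 m'.surjective])
    exact ((pullback.lift_fst _ _ _).symm.trans (congrArg (· ≫ pullback.fst f s) e)).trans (pullback.lift_fst _ _ _)
  -- hence the diagonal is surjective
  let π : pullback f f ⟶ X := pullback.fst f f ≫ f
  have hδ : Surjective (pullback.diagonal f) := by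
    refine ⟨fun z => ?_⟩
    have hcl : IsClosed (Set.range (pullback.diagonal f)) := (pullback.diagonal f).isClosedEmbedding.isClosed_range
    obtain ⟨g, ⟨hg, hgz⟩, -⟩ := existsUnique_generic hN π z
    refine hgz.mem_closed hcl ?_
    obtain ⟨l, hl, hlg⟩ := Scheme.exists_fac_of_etale_of_isSepClosed π s g (by rw [hg, hs])
    have e := huniq (l ≫ pullback.fst f f) (l ≫ pullback.snd f f) (by rw [Category.assoc]; exact hl)
      (by rw [Category.assoc, ← pullback.condition]; exact hl)
    refine ⟨(l ≫ pullback.fst f f) default, ?_⟩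
    rw [← hlg, ← Scheme.Hom.comp_apply]
    refine congrArg (fun m : _ ⟶ pullback f f => m default) ?_
    apply pullback.hom_ext
    · simp
    · simp [e]
  have : IsIso (pullback.diagonal f) := isIso_of_isOpenImmersion_of_opensRange_eq_top _
    (Opens.ext (Set.range_eq_univ.2 hδ.1))
  have : Mono f := (pullback.isIso_diagonal_iff f).1 inferInstance
  exact IsOpenImmersion.of_flat_of_mono f

include hN in
/-- Components of separated etale schemes are open subschemes of the base. -/
theorem isOpenImmersion_comp [IsSeparated f] (g : Gen f) : IsOpenImmersion ((comp hN f g).ι ≫ f) := by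
  refine isOpenImmersion_of_subsingleton hN _ ⟨fun a b => Subtype.ext ?_⟩
  have key : ∀ c : Gen ((comp hN f g).ι ≫ f), c.1.1 = g.1 := fun c =>
    (existsUnique_generic hN f c.1.1).unique ⟨c.2, specializes_rfl⟩ ⟨g.2, (mem_comp hN f).1 c.1.2⟩
  exact Subtype.ext ((key a).trans (key b).symm)

include hN in
/-- A separated etale scheme over a normal integral scheme with separably closed function field is a
disjoint union of open subschemes of the base. -/
theorem exists_decomposition [IsSeparated f] :
    ∃ (ι : Type u) (V : ι → X.Opens) (e : (∐ fun i => (V i : Scheme.{u})) ≅ Y),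
      ∀ i, Sigma.ι (fun i => (V i : Scheme.{u})) i ≫ e.hom ≫ f = (V i).ι := by
  have := isOpenImmersion_comp hN f
  let V : Gen f → X.Opens := fun g => ((comp hN f g).ι ≫ f).opensRange
  let k : ∀ g, (V g : Scheme.{u}) ⟶ Y := fun g =>
    (IsOpenImmersion.isoOfRangeEq (V g).ι ((comp hN f g).ι ≫ f) (by rw [Scheme.Opens.range_ι]; rfl)).hom ≫
      (comp hN f g).ι
  have hk : ∀ g, k g ≫ f = (V g).ι := fun g => by
    simp only [k, Category.assoc, IsOpenImmersion.isoOfRangeEq_hom_fac]
  have hr : ∀ g, (k g).opensRange = comp hN f g := fun g => by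
    apply Opens.ext
    simp only [Scheme.Hom.coe_opensRange, k, Scheme.Hom.comp_base, TopCat.coe_comp]
    rw [Set.range_comp, Set.range_eq_univ.2 (Scheme.Hom.surjective _), Set.image_univ, Scheme.Opens.range_ι]
  obtain ⟨hc⟩ := nonempty_isColimit_cofanMk_of k (by simp only [hr]; exact iSup_comp hN f)
    (fun a b hab => by simpa [Function.onFun, hr] using disjoint_comp hN f hab)
  refine ⟨Gen f, V, (colimit.isColimit _).coconePointUniqueUpToIso hc, fun g => ?_⟩
  rw [← Category.assoc]
  have := (colimit.isColimit (Discrete.functor fun i => (V i : Scheme.{u}))).comp_coconePointUniqueUpToIso_hom hc ⟨g⟩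
  exact (congrArg (· ≫ f) this).trans (hk g)

end Groth.EtaleBase.NormalEt
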