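import Mathlib.AlgebraicGeometry.Morphisms.ClosedImmersion
import Mathlib.AlgebraicGeometry.Morphisms.FormallyUnramified
import Mathlib.AlgebraicGeometry.Morphisms.Finite
import Mathlib.AlgebraicGeometry.Morphisms.Etale
import Mathlib.AlgebraicGeometry.ResidueField
import Mathlib.RingTheory.Unramified.LocalRing
import Mathlib.LinearAlgebra.Matrix.Charpoly.LinearMap
import Mathlib.AlgebraicGeometry.Morphisms.FlatMono
import Mathlib.AlgebraicGeometry.Morphisms.UniversallyOpen

/-!
Finite unramified morphisms with a one-point trivial fibre.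
-/

set_option autoImplicit false

universe u

open CategoryTheory AlgebraicGeometry

namespace Groth.EtaleBase

section algebra

variable {R S : Type u} [CommRing R] [CommRing S] [Algebra R S] [Module.Finite R S]
  {p : Ideal R} [p.IsPrime] {q : Ideal S} [q.IsPrime]

/-- A finite unramified algebra with one point over `p` and trivial residue extension is cyclic near
`p`. -/
lemma exists_notMem_smul_mem_range (hq : p.primesOver S = {q}) [Algebra.IsUnramifiedAt R q]
    (hres : ∀ b : S, ∃ a s : R, algebraMap R S s ∉ q ∧ algebraMap R S s * b - algebraMap R S a ∈ q) :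
    ∃ d ∉ p, ∀ b : S, ∃ a : R, algebraMap R S a = algebraMap R S d * b := by
  classical
  have : q.LiesOver p := (hq.ge rfl).2
  let A := Localization.AtPrime p
  let _ : Algebra (Localization.AtPrime p) (Localization.AtPrime q) :=
    (Localization.localRingHom p q (algebraMap R S) (q.over_def p)).toAlgebra
  have : Algebra.IsUnramifiedAt R q := inferInstance
  let N : Submodule R S := LinearMap.range (Algebra.linearMap R S)
  let T : Submodule R S := N ⊔ p • ⊤
  have hq' : ∀ c ∈ q, ∃ r ∉ p, r • c ∈ T := by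
    intro c hc
    have h1 : (p.map (algebraMap R S)).map (algebraMap S (Localization.AtPrime q)) =
        IsLocalRing.maximalIdeal (Localization.AtPrime q) := by
      rw [Ideal.map_map, ← IsScalarTower.algebraMap_eq]
      exact ((Algebra.isUnramifiedAt_iff_map_eq R p q).1 inferInstance).2
    have h2 : algebraMap S (Localization.AtPrime q) c ∈
        (p.map (algebraMap R S)).map (algebraMap S (Localization.AtPrime q)) := by
      rw [h1]
      exact (IsLocalization.AtPrime.to_map_mem_maximal_iff _ q c).2 hc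
    obtain ⟨⟨⟨a, ha⟩, ⟨t, ht⟩⟩, e⟩ := (IsLocalization.mem_map_algebraMap_iff q.primeCompl _).1 h2
    rw [← map_mul, IsLocalization.eq_iff_exists q.primeCompl] at e
    obtain ⟨⟨w, hw⟩, e⟩ := e
    obtain ⟨r, hr, v, hv⟩ := Ideal.exists_notMem_dvd_algebraMap_of_primesOver_eq_singleton hq _
      ((inferInstance : q.IsPrime).mul_notMem hw ht)
    refine ⟨r, hr, Submodule.mem_sup_right ?_⟩
    rw [Ideal.smul_top_eq_map, Submodule.restrictScalars_mem, Algebra.smul_def, hv]
    have : w * t * v * c = (w * a) * v := by linear_combination v * e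
    rw [this]
    exact Ideal.mul_mem_right _ _ (Ideal.mul_mem_left _ _ ha)
  have hb : ∀ b : S, ∃ r ∉ p, r • b ∈ T := by
    intro b
    obtain ⟨a, s, hs, hm⟩ := hres b
    obtain ⟨r, hr, hT⟩ := hq' _ hm
    refine ⟨r * s, (inferInstance : p.IsPrime).mul_notMem hr ?_, ?_⟩
    · rw [q.over_def p]; exact hs
    · have : (r * s) • b = r • (algebraMap R S s * b - algebraMap R S a) + algebraMap R S (r * a) := by
        simp only [Algebra.smul_def, map_mul]; ring
      rw [this]
      exact add_mem hT (Submodule.mem_sup_left ⟨r * a, rfl⟩)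
  choose r hr hrT using hb
  obtain ⟨G, hG⟩ := Module.Finite.fg_top (R := R) (M := S)
  let e := ∏ b ∈ G, r b
  have he : e ∉ p := prod_mem (S := p.primeCompl) fun b _ => hr b
  let f : Module.End R (S ⧸ N) := e • LinearMap.id
  have hf : LinearMap.range f ≤ p • ⊤ := by
    rintro _ ⟨m, rfl⟩
    obtain ⟨m, rfl⟩ := N.mkQ_surjective m
    have hm : m ∈ Submodule.span R (G : Set S) := hG ▸ Submodule.mem_top
    have : e • m ∈ T := by
      induction hm using Submodule.span_induction with
      | mem b hb =>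
        obtain ⟨k, hk⟩ : r b ∣ e := Finset.dvd_prod_of_mem r hb
        rw [hk, mul_comm, mul_smul]
        exact T.smul_mem k (hrT b)
      | zero => simp
      | add x y _ _ hx hy => rw [smul_add]; exact add_mem hx hy
      | smul c x _ hx => rw [smul_comm]; exact T.smul_mem c hx
    obtain ⟨n, hn, t, ht, hnt⟩ := Submodule.mem_sup.1 this
    show e • N.mkQ m ∈ _
    rw [← map_smul, ← hnt, map_add, show N.mkQ n = 0 from (Submodule.Quotient.mk_eq_zero N).2 hn,
      zero_add]
    have : N.mkQ t ∈ Submodule.map N.mkQ (p • ⊤) := Submodule.mem_map_of_mem ht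
    rw [Submodule.map_smul'', Submodule.map_top, Submodule.range_mkQ] at this
    exact this
  obtain ⟨P, hPm, -, hP, hP0⟩ :=
    LinearMap.exists_monic_and_natDegree_eq_and_coeff_mem_pow_and_aeval_eq_zero _ f p hf
  refine ⟨P.eval e, fun hd => ?_, fun b => ?_⟩
  · have h1 : P.map (Ideal.Quotient.mk p) = Polynomial.X ^ P.natDegree := by
      ext k
      rw [Polynomial.coeff_map, Polynomial.coeff_X_pow]
      rcases lt_trichotomy k P.natDegree with hk | rfl | hk
      · rw [if_neg hk.ne, Ideal.Quotient.eq_zero_iff_mem]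
        exact (Ideal.pow_le_self (by omega)) (hP k)
      · rw [if_pos rfl, hPm.coeff_natDegree, map_one]
      · rw [if_neg hk.ne', Polynomial.coeff_eq_zero_of_natDegree_lt hk, map_zero]
    have h2 : Ideal.Quotient.mk p (P.eval e) = Ideal.Quotient.mk p e ^ P.natDegree := by
      rw [← Polynomial.eval_map_apply, h1, Polynomial.eval_X_pow]
    rw [Ideal.Quotient.eq_zero_iff_mem.2 hd] at h2
    exact he (Ideal.Quotient.eq_zero_iff_mem.1 (pow_eq_zero_iff'.1 h2.symm).1)
  · have h3 : (Polynomial.aeval f P) (N.mkQ b) = N.mkQ (P.eval e • b) := by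
      have hfe : f = algebraMap R (Module.End R (S ⧸ N)) e := LinearMap.ext fun m => rfl
      rw [hfe, Polynomial.aeval_algebraMap_apply_eq_algebraMap_eval, Module.algebraMap_end_apply,
        map_smul]
    rw [hP0] at h3
    obtain ⟨a, ha⟩ := (Submodule.Quotient.mk_eq_zero N).1 h3.symm
    exact ⟨a, by rw [show algebraMap R S a = P.eval e • b from ha, Algebra.smul_def]⟩

end algebra

variable {X S : Scheme.{u}}

lemma mem_primeIdealOf_iff {U : X.Opens} (hU : IsAffineOpen U) (x : U) (r : Γ(X, U)) :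
    r ∈ (hU.primeIdealOf x).asIdeal ↔ X.evaluation U x.1 x.2 r = 0 := by
  rw [Scheme.evaluation_eq_zero_iff_notMem_basicOpen, iff_not_comm]
  conv_lhs => rw [show (x.1 : X) = hU.fromSpec (hU.primeIdealOf x) from (hU.fromSpec_primeIdealOf x).symm]
  show hU.primeIdealOf x ∈ hU.fromSpec ⁻¹ᵁ X.basicOpen r ↔ _
  rw [hU.fromSpec_preimage_basicOpen]
  rfl

set_option backward.isDefEq.respectTransparency.types false in
theorem exists_nhd_isClosedImmersion (f : X ⟶ S) [IsFinite f] [FormallyUnramified f] (s : S) (x : X)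
    (hx : f.base ⁻¹' {s} = {x}) (hκ : Function.Surjective (f.residueFieldMap x)) :
    ∃ U : S.Opens, s ∈ U ∧ IsClosedImmersion (f ∣_ U) := by
  obtain ⟨_, ⟨U, hU, rfl⟩, hsU, -⟩ := S.isBasis_affineOpens.exists_subset_of_mem_open
    (Set.mem_univ s) isOpen_univ
  have hfx : f.base x = s := hx.ge rfl
  subst hfx
  have hV : IsAffineOpen (f ⁻¹ᵁ U) := hU.preimage f
  let φ := f.app U
  let _ : Algebra Γ(S, U) Γ(X, f ⁻¹ᵁ U) := φ.hom.toAlgebra
  have : Module.Finite Γ(S, U) Γ(X, f ⁻¹ᵁ U) := IsFinite.finite_app f U hU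
  have hunr : Algebra.FormallyUnramified Γ(S, U) Γ(X, f ⁻¹ᵁ U) := by
    have := HasRingHomProperty.appLE @FormallyUnramified f ‹_› ⟨U, hU⟩ ⟨_, hV⟩ le_rfl
    rw [← Scheme.Hom.app_eq_appLE] at this
    exact this
  let p := (hU.primeIdealOf ⟨f.base x, hsU⟩).asIdeal
  let q := (hV.primeIdealOf ⟨x, hsU⟩).asIdeal
  have hev : ∀ (z : X) (hz : z ∈ f ⁻¹ᵁ U) (a : Γ(S, U)),
      a ∈ (hU.primeIdealOf ⟨f.base z, hz⟩).asIdeal ↔ φ a ∈ (hV.primeIdealOf ⟨z, hz⟩).asIdeal := by
    intro z hz a
    rw [mem_primeIdealOf_iff, mem_primeIdealOf_iff]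
    rw [← (f.residueFieldMap z).hom.injective.eq_iff, map_zero]
    rw [Scheme.evaluation_naturality_apply]
  have hcomap : ∀ (z : X) (hz : z ∈ f ⁻¹ᵁ U),
      (hU.primeIdealOf ⟨f.base z, hz⟩).asIdeal = (hV.primeIdealOf ⟨z, hz⟩).asIdeal.under Γ(S, U) :=
    fun z hz => Ideal.ext (hev z hz)
  have hq : p.primesOver Γ(X, f ⁻¹ᵁ U) = {q} := by
    refine Set.eq_singleton_iff_unique_mem.2 ⟨⟨inferInstance, ⟨hcomap x hsU⟩⟩, ?_⟩
    rintro P ⟨hP, hPp⟩
    let z' : Spec Γ(X, f ⁻¹ᵁ U) := ⟨P, hP⟩
    have hzV : hV.fromSpec z' ∈ f ⁻¹ᵁ U := hV.range_fromSpec.subset ⟨z', rfl⟩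
    have hzP : hV.primeIdealOf ⟨hV.fromSpec z', hzV⟩ = z' :=
      hV.fromSpec.isOpenEmbedding.injective (hV.fromSpec_primeIdealOf _)
    have h1 : hU.primeIdealOf ⟨f.base (hV.fromSpec z'), hzV⟩ = hU.primeIdealOf ⟨f.base x, hsU⟩ := by
      apply PrimeSpectrum.ext
      rw [hcomap _ hzV, hzP]
      exact hPp.over.symm
    have h2 := congrArg hU.fromSpec.base h1
    erw [hU.fromSpec_primeIdealOf, hU.fromSpec_primeIdealOf] at h2
    have h3 : hV.fromSpec z' = x := hx.subset h2
    show z'.asIdeal = q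
    rw [← hzP]
    simp only [h3]
    rfl
  have : Algebra.IsUnramifiedAt Γ(S, U) q := inferInstance
  obtain ⟨d, hd, hsurj⟩ := exists_notMem_smul_mem_range (p := p) (q := q) hq (fun b => by
    let _ : Algebra Γ(S, U) (S.presheaf.stalk (f.base x)) :=
      S.presheaf.algebra_section_stalk (⟨f.base x, hsU⟩ : U)
    have : IsLocalization.AtPrime (S.presheaf.stalk (f.base x)) p := hU.isLocalization_stalk ⟨f.base x, hsU⟩
    obtain ⟨y, hy⟩ := hκ (X.evaluation (f ⁻¹ᵁ U) x hsU b)
    obtain ⟨y, rfl⟩ := IsLocalRing.residue_surjective y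
    obtain ⟨⟨a, t⟩, ht⟩ := IsLocalization.surj p.primeCompl y
    refine ⟨a, t.1, fun h => t.2 ((hev x hsU t.1).2 h), ?_⟩
    show φ t.1 * b - φ a ∈ q
    rw [mem_primeIdealOf_iff, map_sub, map_mul, sub_eq_zero, ← Scheme.evaluation_naturality_apply f x hsU,
      ← Scheme.evaluation_naturality_apply f x hsU, ← hy, ← map_mul, mul_comm]
    refine congrArg (f.residueFieldMap x) ?_
    exact ((map_mul (IsLocalRing.residue (S.presheaf.stalk (f.base x))) _ _).symm.trans
      (congrArg (IsLocalRing.residue (S.presheaf.stalk (f.base x))) ht)))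
  refine ⟨S.basicOpen d, ?_, ?_⟩
  · rw [← Scheme.evaluation_ne_zero_iff_mem_basicOpen _ _ hsU]
    exact fun h => hd ((mem_primeIdealOf_iff hU ⟨f.base x, hsU⟩ d).2 h)
  · have hD : IsAffineOpen (S.basicOpen d) := hU.basicOpen d
    have : IsAffine (S.basicOpen d : Scheme.{u}) := hD
    have : IsAffine (f ⁻¹ᵁ S.basicOpen d : Scheme.{u}) := hD.preimage f
    refine IsClosedImmersion.of_surjective_of_isAffine _ ?_
    suffices h : Function.Surjective (f.app (S.basicOpen d)) by
      have h' : Function.Surjective (f.app ((S.basicOpen d).ι ''ᵁ ⊤)) := by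
        rw [Scheme.Opens.ι_image_top]; exact h
      rw [morphismRestrict_appTop]
      intro b
      obtain ⟨c, rfl⟩ := (ConcreteCategory.bijective_of_isIso
        (X.presheaf.map (eqToHom (image_morphismRestrict_preimage f (S.basicOpen d) ⊤)).op)).2 b
      obtain ⟨a, rfl⟩ := h' c
      exact ⟨a, rfl⟩
    intro b
    have := hU.isLocalization_basicOpen d
    have := hV.isLocalization_basicOpen (φ d)
    have hpre : f ⁻¹ᵁ S.basicOpen d = X.basicOpen (φ d) := Scheme.preimage_basicOpen f d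
    let res := X.presheaf.map (homOfLE (hpre.trans_le (X.basicOpen_le _))).op
    obtain ⟨⟨c, ⟨_, n, rfl⟩⟩, hc⟩ := IsLocalization.surj (Submonoid.powers (φ d))
      (X.presheaf.map (eqToHom hpre.symm).op b)
    obtain ⟨a, ha⟩ := hsurj c
    let a' : Γ(S, S.basicOpen d) :=
      IsLocalization.mk' _ a (⟨d ^ (n + 1), n + 1, rfl⟩ : Submonoid.powers d)
    refine ⟨a', ?_⟩
    apply ((ConcreteCategory.bijective_of_isIso (X.presheaf.map (eqToHom hpre.symm).op)).1)
    set L := algebraMap Γ(X, f ⁻¹ᵁ U) Γ(X, X.basicOpen (φ d)) with hL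
    have hu : IsUnit (L (φ d) ^ (n + 1)) := (IsLocalization.Away.algebraMap_isUnit _).pow _
    apply hu.mul_right_cancel
    have hnat : ∀ c : Γ(S, U), X.presheaf.map (eqToHom hpre.symm).op
        (f.app (S.basicOpen d) (algebraMap Γ(S, U) Γ(S, S.basicOpen d) c)) = L (φ c) := fun c => by
      show X.presheaf.map _ (f.app _ (S.presheaf.map (homOfLE (S.basicOpen_le d)).op c)) = _
      rw [← ConcreteCategory.comp_apply (S.presheaf.map _), f.naturality,
        ← ConcreteCategory.comp_apply, Category.assoc, ← Functor.map_comp]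
      rfl
    let G := (f.app (S.basicOpen d) ≫ X.presheaf.map (eqToHom hpre.symm).op).hom
    have e1 : L (φ d) ^ (n + 1) = G (algebraMap Γ(S, U) _ (d ^ (n + 1))) := by
      rw [← map_pow, ← map_pow φ.hom]
      exact (hnat _).symm
    show G a' * L (φ d) ^ (n + 1) = X.presheaf.map (eqToHom hpre.symm).op b * _
    conv_lhs => rw [e1, ← map_mul, IsLocalization.mk'_spec,
      show G (algebraMap Γ(S, U) _ a) = L (φ a) from hnat a,
      show φ a = φ d * c from ha, map_mul, ← hc, map_pow]
    ring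

set_option backward.isDefEq.respectTransparency.types false in
theorem exists_nhd_isIso (f : X ⟶ S) [IsFinite f] [Etale f] (s : S) (x : X)
    (hx : f.base ⁻¹' {s} = {x}) (hκ : Function.Surjective (f.residueFieldMap x)) :
    ∃ U : S.Opens, s ∈ U ∧ IsIso (f ∣_ U) := by
  obtain ⟨U, hsU, hU⟩ := exists_nhd_isClosedImmersion f s x hx hκ
  have hfx : f.base x = s := hx.ge rfl
  let U' : S.Opens := U ⊓ ⟨Set.range f.base, f.isOpenMap.isOpen_range⟩
  have hle : U' ≤ U := inf_le_left
  have : IsClosedImmersion (f ∣_ U') := by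
    have := IsZariskiLocalAtTarget.restrict (P := @IsClosedImmersion) hU (U.ι ⁻¹ᵁ U')
    exact (MorphismProperty.arrow_mk_iso_iff @IsClosedImmersion
      (morphismRestrictRestrict f U (U.ι ⁻¹ᵁ U') ≪≫ morphismRestrictEq f (by
        rw [Scheme.Hom.image_preimage_eq_opensRange_inf, Scheme.Opens.opensRange_ι, inf_eq_right.2 hle]))).1 this
  have : Etale (f ∣_ U') := inferInstance
  have : IsOpenImmersion (f ∣_ U') := IsOpenImmersion.of_flat_of_mono _
  have : Surjective (f ∣_ U') := ⟨fun y => by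
    obtain ⟨z, hz⟩ := (y.2 : (y.1 : S) ∈ U ⊓ _).2
    have hzU : f.base z ∈ U' := by rw [hz]; exact y.2
    exact ⟨⟨z, hzU⟩, Subtype.ext ((morphismRestrict_base_coe f U' _).trans hz)⟩⟩
  exact ⟨U', ⟨hsU, x, hfx⟩, (isIso_iff_isOpenImmersion_and_surjective _).2 ⟨‹_›, ‹_›⟩⟩

end Groth.EtaleBase
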