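import Groth.Agent.EtaleBase.IntegralCond
import Mathlib.AlgebraicGeometry.ZariskisMainTheorem

/-!
Separated locally quasi-finite morphisms satisfy condition (A).
-/

set_option autoImplicit false

universe u

open CategoryTheory CategoryTheory.Limits AlgebraicGeometry TopologicalSpace

namespace Groth.EtaleBase

set_option backward.isDefEq.respectTransparency.types false in
theorem propA_of_locallyQuasiFinite {X Y : Scheme.{u}} (f : X ⟶ Y) [IsSeparated f]
    [LocallyQuasiFinite f] [LocallyOfFiniteType f] : BigSite.PropA f := by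
  intro U g _ u
  have hq : f.QuasiFiniteAt (g.base u) := f.quasiFiniteAt _
  obtain ⟨T, t, _, -, V, W₀, v, hc, hfin, hv⟩ := exists_etale_isCompl_of_quasiFiniteAt f rfl hq
  have hVc : IsClosed (V : Set ↥(pullback f t)) := by
    rw [← isOpen_compl_iff, show (V : Set ↥(pullback f t))ᶜ = W₀ from
      (eq_compl_iff_isCompl.mpr (hc.map TopologicalSpace.Opens.frameHom).symm).symm]
    exact W₀.isOpen
  let f₁ : (V : Scheme.{u}) ⟶ T := V.ι ≫ pullback.snd f t
  have : IsFinite f₁ := hfin
  let g₁ := pullback.snd g (V.ι ≫ pullback.fst f t)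
  have : Etale g₁ := inferInstance
  obtain ⟨u₁, hu₁, -⟩ := Scheme.Pullback.exists_preimage_pullback (f := g) (g := V.ι ≫ pullback.fst f t)
    u v (by rw [Scheme.Hom.comp_apply, Scheme.Opens.ι_apply]; exact hv.symm)
  obtain ⟨T', t', _, W, hW, h, hh, hu⟩ := propA_of_isIntegralHom f₁ _ g₁ u₁
  let c : pullback f₁ t' ⟶ pullback (pullback.snd f t) t' :=
    pullback.map f₁ t' (pullback.snd f t) t' V.ι (𝟙 _) (𝟙 _) (by simp [f₁]) (by simp)
  let j : pullback f₁ t' ⟶ pullback f (t' ≫ t) := c ≫ (pullbackLeftPullbackSndIso f t t').hom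
  have hcl : IsClosedImmersion V.ι := .of_isPreimmersion _ (by rwa [Scheme.Opens.range_ι])
  have : IsClosedImmersion c := MorphismProperty.pullbackMap (P := @IsClosedImmersion) hcl
    (inferInstance : IsClosedImmersion (𝟙 T')) rfl (Category.id_comp _).symm
  have : IsOpenImmersion j := inferInstance
  have hjc : Topology.IsClosedEmbedding j.base :=
    (inferInstance : IsClosedImmersion j).base_closed
  have hj : j ≫ pullback.fst f (t' ≫ t) = pullback.fst f₁ t' ≫ V.ι ≫ pullback.fst f t := by
    simp [j, c]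
    exact (pullback.lift_fst_assoc _ _ _ _).trans (Category.assoc _ _ _)
  refine ⟨T', t' ≫ t, inferInstance, j ''ᵁ W, hjc.isClosedMap _ hW,
    (j.isoImage W).inv ≫ h ≫ pullback.fst g (V.ι ≫ pullback.fst f t), ?_, ?_⟩
  · rw [Category.assoc, Category.assoc, Iso.inv_comp_eq, pullback.condition, ← Category.assoc h,
      show h ≫ pullback.snd g (V.ι ≫ pullback.fst f t) = W.ι ≫ pullback.fst f₁ t' from hh,
      ← Category.assoc (j.isoImage W).hom, Scheme.Hom.isoImage_hom_ι, Category.assoc, Category.assoc, hj]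
  · obtain ⟨a, rfl⟩ := hu
    refine ⟨(j.isoImage W).hom.base a, ?_⟩
    rw [← Scheme.Hom.comp_apply, Iso.hom_inv_id_assoc, Scheme.Hom.comp_apply]
    exact hu₁

end Groth.EtaleBase
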