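import Groth.Agent.EtaleBase.ExtZeroBC
import Groth.Agent.EtaleBase.PushEssImage
import Mathlib.AlgebraicGeometry.Morphisms.Finite

/-!
Finite direct images commute with extension by zero.
-/

set_option autoImplicit false

universe u

open CategoryTheory CategoryTheory.Limits AlgebraicGeometry Opposite

namespace Groth.EtaleBase

set_option backward.isDefEq.respectTransparency.types false in
/-- A direct image along a closed map has zero stalk at `η` if the sheaf has zero stalks above `η`. -/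
lemma isZero_stalk_push_of_fibre {X Y : Scheme.{u}} (f : X ⟶ Y) [IsFinite f] (G : EtCoh.Ab X)
    {Ω : Type u} [Field Ω] [IsSepClosed Ω] (η : Spec (CommRingCat.of Ω) ⟶ Y)
    (hG : ∀ x : X, f.base x = η.base default → IsZero ((stalkAt x).obj G)) :
    IsZero ((EtCoh.stalk η).obj ((EtCoh.push f).obj G)) := by
  suffices Subsingleton ((EtCoh.stalk η).obj ((EtCoh.push f).obj G)) from
    AddCommGrpCat.isZero_of_subsingleton _
  refine ⟨fun a b => sub_eq_zero.1 ?_⟩
  generalize a - b = c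
  obtain ⟨U, t, σ, rfl⟩ := germ_surjective η _ c
  rw [germ_eq_zero_iff]
  let fU : pullback U.hom f ⟶ U.left := pullback.fst _ _
  have : IsFinite fU := inferInstanceAs (IsFinite (pullback.fst U.hom f))
  have hclosed : IsClosed (fU.base '' (vanishSet G ((EtCoh.bc f).obj U) σ)ᶜ) :=
    fU.isClosedMap _ (isOpen_vanishSet G _ σ).isClosed_compl
  let O : U.left.Opens := ⟨(fU.base '' (vanishSet G ((EtCoh.bc f).obj U) σ)ᶜ)ᶜ, hclosed.isOpen_compl⟩
  have hO : fiberPoint η t ∈ O := by
    rintro ⟨z, hz, hzt⟩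
    apply hz
    obtain ⟨s, hs⟩ := exists_geomPoint_lift ((EtCoh.bc f).obj U) z
    have h0 : germ _ G _ s σ = 0 :=
      @Subsingleton.elim _ (AddCommGrpCat.subsingleton_of_isZero (hG _ (by
        refine Eq.trans ?_ (hom_fiberPoint η t)
        rw [← hzt]
        exact congrArg (fun m : pullback U.hom f ⟶ Y => m.base z) (pullback.condition (f := U.hom) (g := f)).symm))) _ _
    exact hs ▸ (germ_eq_zero_iff_mem _ G _ σ s).1 h0
  let W : Y.Etale := Scheme.Etale.mk (O.ι ≫ U.hom)
  let k : W ⟶ U := MorphismProperty.Over.homMk O.ι rfl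
  obtain ⟨w, hw, -⟩ := exists_fiber_lift η k t ⟨_, hO⟩ rfl
  refine ⟨W, k, w, hw, ?_⟩
  show G.obj.map ((EtCoh.bc f).map k).op σ = 0
  rw [map_eq_zero_iff_range_subset]
  rintro _ ⟨z, rfl⟩
  by_contra hn
  exact ((pullback.fst (O.ι ≫ U.hom) f).base z).2 ⟨_, hn,
    congrArg (fun m : pullback (O.ι ≫ U.hom) f ⟶ U.left => m.base z)
      (pullback.lift_fst _ _ _ : ((EtCoh.bc f).map k).left ≫ fU = pullback.fst (O.ι ≫ U.hom) f ≫ O.ι)⟩

/-- Finite direct images commute with extension by zero. -/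
theorem nonempty_push_extZero {U X V Y : Scheme.{u}} (f : X ⟶ Y) [IsFinite f] (j : V ⟶ Y)
    [IsOpenImmersion j] [AlgebraicGeometry.Etale j] [EtShriek.JCont j] (j' : U ⟶ X) [IsOpenImmersion j']
    [AlgebraicGeometry.Etale j'] [EtShriek.JCont j'] (g : U ⟶ V) (h : IsPullback j' g f j) (F : EtCoh.Ab U) :
    Nonempty ((EtCoh.push f).obj ((EtShriek.extZero j').obj F) ≅ (EtShriek.extZero j).obj ((EtCoh.push g).obj F)) := by
  refine nonempty_iso_extZero j _ _ ?_ ?_
  · have := isIso_extZero_unit j' F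
    exact ⟨(ExtZeroBC.rightIso j f j' g h).app _ ≪≫
      (EtCoh.push g).mapIso (asIso ((EtShriek.extZeroAdj j').unit.app F)).symm⟩
  · intro Ω _ _ η hη
    refine isZero_stalk_push_of_fibre f _ η fun x hx => isZero_stalk_extZero j' _ ?_ F
    rw [geomPoint_apply]
    rintro ⟨u, rfl⟩
    refine hη ⟨default, hx.symm⟩ ⟨g.base u, ?_⟩
    rw [← Scheme.Hom.comp_apply, ← Scheme.Hom.comp_apply, h.w]

end Groth.EtaleBase
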