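import Groth.Agent.EtaleBase.PullStalk
import Groth.Agent.EtaleBase.Support
import Groth.Agent.EtaleBase.PointLift

/-!
Stalks of direct images along universally injective integral morphisms.
-/

set_option autoImplicit false

universe u

open CategoryTheory CategoryTheory.Limits AlgebraicGeometry Opposite

namespace Groth.EtaleBase

variable {X Y : Scheme.{u}} (f : X ⟶ Y) {Ω : Type u} [Field Ω] [IsSepClosed Ω]
  (ξ : Spec (CommRingCat.of Ω) ⟶ X)

/-- The point of `Y` under `ξ`. -/
noncomputable abbrev comapPt : GrothendieckTopology.Point.{u} Y.smallEtaleTopology :=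
  (Scheme.pointSmallEtale ξ).comap (EtCoh.bc f) (EtCoh.coverPreserving_bc f)

/-- The counit of `f⁻¹ ⊣ f_*` on stalks. -/
noncomputable def stalkCounit (F : EtCoh.Ab X) :
    (comapPt f ξ).sheafFiber.obj ((EtCoh.push f).obj F) ⟶ (EtCoh.stalk ξ).obj F :=
  (GrothendieckTopology.Point.sheafFiberComapIso (Scheme.pointSmallEtale ξ) (EtCoh.bc f)
      (EtCoh.coverPreserving_bc f) AddCommGrpCat.{u + 1}).hom.app _ ≫
    (EtCoh.stalk ξ).map ((EtCoh.pullPushAdj f).counit.app F)

set_option backward.isDefEq.respectTransparency.types false in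
lemma toPresheafFiber_stalkCounit (F : EtCoh.Ab X) (V : Y.Etale)
    (t : (Scheme.pointSmallEtale ξ).fiber.obj ((EtCoh.bc f).obj V)) :
    (comapPt f ξ).toPresheafFiber V t ((EtCoh.push f).obj F).obj ≫ stalkCounit f ξ F =
      germ ξ F ((EtCoh.bc f).obj V) t := by
  let adjA := EtCoh.pullPushAdj f
  let adjS := (Scheme.pointSmallEtale ξ).skyscraperSheafAdjunction (A := AddCommGrpCat.{u + 1})
  let adj₂ := (comapPt f ξ).skyscraperSheafAdjunction (A := AddCommGrpCat.{u + 1})
  have h1 : adj₂.homEquiv _ _ (stalkCounit f ξ F) = (EtCoh.push f).map (adjS.unit.app F) := by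
    rw [Adjunction.homEquiv_unit, stalkCounit, Functor.map_comp, ← Category.assoc]
    have h2 := unit_conjugateEquiv_symm (adjA.comp adjS) adj₂
      ((Scheme.pointSmallEtale ξ).skyscraperSheafFunctorCompSheafPushforwardContinuous (EtCoh.bc f)
        (EtCoh.coverPreserving_bc f) AddCommGrpCat.{u + 1}).hom ((EtCoh.push f).obj F)
    erw [← h2]
    simp only [GrothendieckTopology.Point.skyscraperSheafFunctorCompSheafPushforwardContinuous,
      Iso.refl_hom, Adjunction.comp_unit_app]
    erw [Category.comp_id]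
    show (adjA.unit.app _ ≫ (EtCoh.push f).map (adjS.unit.app _)) ≫
      (EtCoh.push f).map ((Scheme.pointSmallEtale ξ).skyscraperSheafFunctor.map
        ((EtCoh.stalk ξ).map (adjA.counit.app F))) = _
    rw [Category.assoc, ← Functor.map_comp]
    erw [← adjS.unit.naturality (adjA.counit.app F)]
    rw [Functor.id_map, Functor.map_comp, ← Category.assoc,
      adjA.right_triangle_components]
    exact Category.id_comp _
  rw [← (adj₂.homEquiv _ _).symm_apply_apply (stalkCounit f ξ F), h1]
  erw [GrothendieckTopology.Point.skyscraperSheafAdjunction_homEquiv_symm_apply]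
  simp only [GrothendieckTopology.Point.skyscraperPresheafHomEquiv, Equiv.coe_fn_symm_mk]
  refine (colimit.ι_desc _ _).trans ?_
  show (adjS.unit.app F).hom.app (op ((EtCoh.bc f).obj V)) ≫ Pi.π _ t = _
  rw [← Adjunction.homEquiv_id]
  erw [GrothendieckTopology.Point.skyscraperSheafAdjunction_homEquiv_apply_hom]
  simp only [GrothendieckTopology.Point.skyscraperPresheafHomEquiv]
  erw [limit.lift_π]
  exact Category.comp_id _

set_option backward.isDefEq.respectTransparency.types false in
/-- Neighbourhoods of `ξ` receive base changes of neighbourhoods of `ξ ≫ f`. -/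
lemma exists_bc_nbhd [IsIntegralHom f] [UniversallyInjective f] (U : X.Etale)
    (t : (Scheme.pointSmallEtale ξ).fiber.obj U) :
    ∃ (V : Y.Etale) (g : (EtCoh.bc f).obj V ⟶ U)
      (s : (Scheme.pointSmallEtale ξ).fiber.obj ((EtCoh.bc f).obj V)),
      (Scheme.pointSmallEtale ξ).fiber.map g s = t := by
  obtain ⟨V, v, hv, h, t₀, ht₀, hh, hl⟩ := exists_nbhd_of_point f U.hom ξ t.left (Over.w t)
    (fun x hx => ⟨fiberPoint ξ t, by
      rw [hom_fiberPoint]
      exact f.injective ((Scheme.Hom.comp_apply ξ f default).symm.trans hx.symm)⟩)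
  exact ⟨Scheme.Etale.mk v, MorphismProperty.Over.homMk h hh,
    Over.homMk (pullback.lift t₀ ξ ht₀) (pullback.lift_snd _ _ _), Over.OverMorphism.ext hl⟩

set_option backward.isDefEq.respectTransparency.types false in
lemma bijective_stalkCounit [IsIntegralHom f] [UniversallyInjective f] (F : EtCoh.Ab X) :
    Function.Bijective (stalkCounit f ξ F) := by
  have key : ∀ (V : Y.Etale) (t : (Scheme.pointSmallEtale ξ).fiber.obj ((EtCoh.bc f).obj V))
      (σ : F.obj.obj (op ((EtCoh.bc f).obj V))),
      stalkCounit f ξ F ((comapPt f ξ).toPresheafFiber V t ((EtCoh.push f).obj F).obj σ) =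
        germ ξ F _ t σ := fun V t σ =>
    ConcreteCategory.congr_hom (toPresheafFiber_stalkCounit f ξ F V t) σ
  constructor
  · rw [injective_iff_map_eq_zero]
    intro a ha
    obtain ⟨V, t, σ, rfl⟩ := (comapPt f ξ).toPresheafFiber_jointly_surjective
      (P := ((EtCoh.push f).obj F).obj) a
    rw [key] at ha
    have hmem : fiberPoint ξ t ∈ vanishSet F _ σ := (germ_eq_zero_iff_mem ξ F _ σ t).1 ha
    -- the closed complement of the vanishing locus, pushed to `V`
    let fV : pullback V.hom f ⟶ V.left := pullback.fst _ _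
    have hclosed : IsClosed (fV.base '' (vanishSet F _ σ)ᶜ) := by
      have : IsIntegralHom fV := inferInstanceAs (IsIntegralHom (pullback.fst V.hom f))
      exact fV.isClosedMap _ (isOpen_vanishSet F _ σ).isClosed_compl
    let O : V.left.Opens := ⟨(fV.base '' (vanishSet F _ σ)ᶜ)ᶜ, hclosed.isOpen_compl⟩
    have hO : fV.base (fiberPoint ξ t) ∈ O := by
      rintro ⟨z, hz, hzt⟩
      have : UniversallyInjective fV := MorphismProperty.pullback_fst _ _ ‹_›
      exact hz (fV.injective hzt ▸ hmem)
    let W : Y.Etale := Scheme.Etale.mk (O.ι ≫ V.hom)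
    let j : W ⟶ V := MorphismProperty.Over.homMk O.ι rfl
    have hz : F.obj.map ((EtCoh.bc f).map j).op σ = 0 := by
      rw [map_eq_zero_iff_range_subset]
      rintro _ ⟨w, rfl⟩
      by_contra hn
      have h1 : ((EtCoh.bc f).map j).left ≫ fV = pullback.fst (O.ι ≫ V.hom) f ≫ O.ι :=
        pullback.lift_fst _ _ _
      exact ((pullback.fst (O.ι ≫ V.hom) f).base w).2 ⟨_, hn,
        congrArg (fun m : pullback (O.ι ≫ V.hom) f ⟶ V.left => m.base w) h1⟩
    obtain ⟨w, hw⟩ : fV.base (fiberPoint ξ t) ∈ Set.range O.ι.base := ⟨⟨_, hO⟩, rfl⟩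
    obtain ⟨z, hz1, hz2⟩ := Scheme.Pullback.exists_preimage_pullback (f := pullback.fst V.hom f)
      (g := O.ι) (fiberPoint ξ t) w hw.symm
    let κ : pullback (pullback.fst V.hom f) O.ι ⟶ pullback (O.ι ≫ V.hom) f :=
      pullback.lift (pullback.snd _ _) (pullback.fst _ _ ≫ pullback.snd _ _) (by
        rw [← reassoc_of% pullback.condition, pullback.condition, Category.assoc])
    obtain ⟨s, hs, -⟩ := exists_fiber_lift ξ ((EtCoh.bc f).map j) t (κ.base z) (by
      have h1 : κ ≫ ((EtCoh.bc f).map j).left = pullback.fst _ _ := by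
        apply pullback.hom_ext
        · refine (Category.assoc _ _ _).trans ((congrArg (κ ≫ ·) (pullback.lift_fst _ _ _)).trans ?_)
          exact (pullback.lift_fst_assoc _ _ _ _).trans pullback.condition.symm
        · refine (Category.assoc _ _ _).trans ((congrArg (κ ≫ ·) (pullback.lift_snd _ _ _)).trans ?_)
          exact pullback.lift_snd _ _ _
      exact (congrArg (fun m : pullback (pullback.fst V.hom f) O.ι ⟶ pullback V.hom f => m.base z) h1).trans
        (by assumption))
    rw [← hs]
    refine ((comapPt f ξ).toPresheafFiber_w_apply j s ((EtCoh.push f).obj F).obj σ).symm.trans ?_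
    show (comapPt f ξ).toPresheafFiber W s ((EtCoh.push f).obj F).obj (F.obj.map ((EtCoh.bc f).map j).op σ) = 0
    rw [hz]
    exact map_zero _
  · intro a
    obtain ⟨U, t, σ, rfl⟩ := germ_surjective ξ F a
    obtain ⟨V, g, s, rfl⟩ := exists_bc_nbhd f ξ U t
    refine ⟨(comapPt f ξ).toPresheafFiber V s ((EtCoh.push f).obj F).obj (F.obj.map g.op σ), ?_⟩
    rw [key]
    exact (Scheme.pointSmallEtale ξ).toPresheafFiber_w_apply g s F.obj σ

instance isIso_stalkCounit [IsIntegralHom f] [UniversallyInjective f] (F : EtCoh.Ab X) :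
    IsIso (stalkCounit f ξ F) :=
  (ConcreteCategory.isIso_iff_bijective _).2 (bijective_stalkCounit f ξ F)

omit ξ in
theorem isIso_counit [IsIntegralHom f] [UniversallyInjective f] (F : EtCoh.Ab X) :
    IsIso ((EtCoh.pullPushAdj f).counit.app F) := by
  have hs : ∀ s : X, IsIso ((stalkAt s).map ((EtCoh.pullPushAdj f).counit.app F)) := fun s =>
    IsIso.of_isIso_fac_left (f := (GrothendieckTopology.Point.sheafFiberComapIso
      (Scheme.pointSmallEtale (geomPoint s)) (EtCoh.bc f) (EtCoh.coverPreserving_bc f)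
      AddCommGrpCat.{u + 1}).hom.app _) (h := stalkCounit f (geomPoint s) F) rfl
  exact stalkAt_jointlyReflectIsomorphisms.isIso _

/-- The stalk of a direct image at the image of a geometric point. -/
noncomputable def stalkPushIso [IsIntegralHom f] [UniversallyInjective f] (F : EtCoh.Ab X) :
    (EtCoh.stalk (ξ ≫ f)).obj ((EtCoh.push f).obj F) ≅ (EtCoh.stalk ξ).obj F :=
  (({ hom := (comapPointIso f ξ).hom.sheafFiber
      inv := (comapPointIso f ξ).inv.sheafFiber
      hom_inv_id := by rw [← GrothendieckTopology.Point.Hom.sheafFiber_comp, Iso.inv_hom_id,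
        GrothendieckTopology.Point.Hom.sheafFiber_id]
      inv_hom_id := by rw [← GrothendieckTopology.Point.Hom.sheafFiber_comp, Iso.hom_inv_id,
        GrothendieckTopology.Point.Hom.sheafFiber_id] } :
    (Scheme.pointSmallEtale (ξ ≫ f)).sheafFiber (A := AddCommGrpCat.{u + 1}) ≅
      (comapPt f ξ).sheafFiber).app _) ≪≫ asIso (stalkCounit f ξ F)

end Groth.EtaleBase
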