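import Groth.Agent.EtaleBase.ExtZeroProps
import Groth.Agent.EtaleBase.PushStalkInt

/-!
The short exact sequence of extension by zero and direct image from the closed complement.
-/

set_option autoImplicit false

universe u

open CategoryTheory CategoryTheory.Limits AlgebraicGeometry Opposite

namespace Groth.EtaleBase

variable {Z X : Scheme.{u}} (i : Z ⟶ X) [IsClosedImmersion i]

set_option backward.isDefEq.respectTransparency.types false in
/-- On stalks at points of the closed subscheme the unit is an isomorphism. -/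
lemma isIso_stalk_unit_closedImmersion {Ω : Type u} [Field Ω] [IsSepClosed Ω]
    (ξ : Spec (CommRingCat.of Ω) ⟶ X) (hξ : ξ.base default ∈ Set.range i.base) (F : EtCoh.Ab X) :
    IsIso ((EtCoh.stalk ξ).map ((EtCoh.pullPushAdj i).unit.app F)) := by
  obtain ⟨z, hz⟩ := hξ
  obtain ⟨ζ, rfl⟩ : ∃ ζ, ζ ≫ i = ξ := by
    obtain ⟨z', hz'⟩ := Scheme.Pullback.exists_preimage_pullback (f := i) (g := ξ) z default hz
    have : IsClosedImmersion (pullback.snd i ξ) := inferInstance
    have : Surjective (pullback.snd i ξ) := ⟨fun a => ⟨z', by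
      rw [hz'.2]; exact Subsingleton.elim _ _⟩⟩
    have : IsReduced (Spec (CommRingCat.of Ω)) := inferInstance
    have : IsIso (pullback.snd i ξ) := isIso_of_isClosedImmersion_of_surjective _
    exact ⟨inv (pullback.snd i ξ) ≫ pullback.fst i ξ, by
      rw [Category.assoc, pullback.condition, IsIso.inv_hom_id_assoc]⟩
  have : IsIso (evPush i ζ ((EtCoh.pull i).obj F)) := by
    have : IsIso (stalkCounit i ζ ((EtCoh.pull i).obj F)) := isIso_stalkCounit i ζ _
    have : IsIso ((comapPointIso i ζ).hom.sheafFiber (A := AddCommGrpCat.{u + 1})) :=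
      ⟨(comapPointIso i ζ).inv.sheafFiber,
        by rw [← GrothendieckTopology.Point.Hom.sheafFiber_comp, Iso.inv_hom_id,
          GrothendieckTopology.Point.Hom.sheafFiber_id],
        by rw [← GrothendieckTopology.Point.Hom.sheafFiber_comp, Iso.hom_inv_id,
          GrothendieckTopology.Point.Hom.sheafFiber_id]⟩
    unfold evPush
    infer_instance
  have h : (EtCoh.stalk (ζ ≫ i)).map ((EtCoh.pullPushAdj i).unit.app F) ≫
      evPush i ζ ((EtCoh.pull i).obj F) = (stalkPullIso i ζ).hom.app F := by
    refine ConcreteCategory.hom_ext _ _ fun a => ?_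
    obtain ⟨V, s, σ, rfl⟩ := germ_surjective (ζ ≫ i) F a
    rw [ConcreteCategory.comp_apply, stalkPullIso_germ]
    erw [germ_map]
    exact evPush_germ i ζ _ V s _
  have : IsIso ((EtCoh.stalk (ζ ≫ i)).map ((EtCoh.pullPushAdj i).unit.app F) ≫
      evPush i ζ ((EtCoh.pull i).obj F)) := by rw [h]; infer_instance
  exact IsIso.of_isIso_comp_right _ (evPush i ζ ((EtCoh.pull i).obj F))

set_option backward.isDefEq.respectTransparency.types false in
theorem exists_shortExact_recollement (U : X.Opens) (hU : (U : Set X) = (Set.range i.base)ᶜ)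
    [AlgebraicGeometry.Etale U.ι] [EtShriek.JCont U.ι] (F : EtCoh.Ab X) :
    ∃ w : (EtShriek.extZeroAdj U.ι).counit.app F ≫ (EtCoh.pullPushAdj i).unit.app F = 0,
      (ShortComplex.mk _ _ w).ShortExact := by
  have hout : ∀ s : X, s ∈ U → IsZero ((stalkAt s).obj ((EtCoh.push i).obj ((EtCoh.pull i).obj F))) :=
    fun s hs => isZero_stalk_push i i.isClosedEmbedding.isClosed_range _
      (by rw [geomPoint_apply]; exact fun h => (hU.subset hs) h) _
  have hin : ∀ s : X, s ∉ U →
      IsZero ((stalkAt s).obj ((EtShriek.extZero U.ι).obj ((EtShriek.restrAlong U.ι).obj F))) :=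
    fun s hs => isZero_stalk_extZero U.ι _ (by rwa [geomPoint_apply, Scheme.Opens.range_ι]) _
  have w : (EtShriek.extZeroAdj U.ι).counit.app F ≫ (EtCoh.pullPushAdj i).unit.app F = 0 := by
    let q := (EtShriek.extZeroAdj U.ι).counit.app F ≫ (EtCoh.pullPushAdj i).unit.app F
    have hq : ∀ s : X, (stalkAt s).map q = 0 := fun s => by
      by_cases hs : s ∈ U
      · exact (hout s hs).eq_of_tgt _ _
      · exact (hin s hs).eq_of_src _ _
    refine stalkAt_jointlyReflectIsomorphisms.jointlyFaithful.map_injective fun s => ?_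
    rw [hq s, Functor.map_zero]
  refine ⟨w, (stalkAt_jointlyReflectIsomorphisms.shortExact_iff _).2 fun s => ?_⟩
  by_cases hs : s ∈ U
  · have h0 := hout s hs
    have := isIso_stalk_extZero_counit U.ι (geomPoint s)
      (by rw [geomPoint_apply, Scheme.Opens.range_ι]; exact hs) F
    have : Epi ((stalkAt s).map ((EtCoh.pullPushAdj i).unit.app F)) := ⟨fun _ _ _ => h0.eq_of_src _ _⟩
    refine ShortComplex.ShortExact.mk' ?_ (inferInstanceAs (Mono ((stalkAt s).map _))) this
    exact (ShortComplex.exact_iff_epi _ (h0.eq_of_tgt _ _)).2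
      (inferInstanceAs (Epi ((stalkAt s).map _)))
  · have h0 := hin s hs
    have := isIso_stalk_unit_closedImmersion i (geomPoint s) (by
      rw [geomPoint_apply]
      by_contra h
      exact hs (hU.superset h)) F
    refine ShortComplex.ShortExact.mk' ?_ ⟨fun _ _ _ => h0.eq_of_tgt _ _⟩
      (inferInstanceAs (Epi ((stalkAt s).map _)))
    exact (ShortComplex.exact_iff_mono _ (h0.eq_of_src _ _)).2
      (inferInstanceAs (Mono ((stalkAt s).map _)))

end Groth.EtaleBase
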