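import Groth.Agent.EtaleBase.SuppNested
import Groth.Agent.EtaleBase.LocConst

/-!
# Étale excision for cohomology with supports
-/

set_option autoImplicit false
set_option backward.isDefEq.respectTransparency.types false
set_option maxHeartbeats 1000000

universe u

open CategoryTheory CategoryTheory.Limits AlgebraicGeometry Opposite

namespace Groth.EtaleBase.Supp

attribute [local instance] InjCoh.jCont

/-- Two geometric points with the same image, through a morphism with trivial residue extension. -/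
lemma eq_of_residueFieldMap_surjective {X X' : Scheme.{u}} (f : X' ⟶ X) {Ω : Type u} [Field Ω]
    (p q : Spec (CommRingCat.of Ω) ⟶ X') (hpq : p ≫ f = q ≫ f) (x' : X') (hp : p.base default = x')
    (hq : q.base default = x') (hs : Function.Surjective (f.residueFieldMap x')) : p = q := by
  obtain ⟨⟨x, a⟩, rfl⟩ := (Scheme.SpecToEquivOfField Ω X').symm.surjective p
  obtain ⟨⟨y, b⟩, rfl⟩ := (Scheme.SpecToEquivOfField Ω X').symm.surjective q
  simp only [Scheme.SpecToEquivOfField_symm_apply] at hp hq hpq ⊢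
  have hx : x = x' := by
    rw [← hp]
    exact (Scheme.fromSpecResidueField_apply x _).symm
  have hy : y = x' := by
    rw [← hq]
    exact (Scheme.fromSpecResidueField_apply y _).symm
  subst hx
  subst hy
  rw [Category.assoc, Category.assoc, ← Scheme.Hom.SpecMap_residueFieldMap_fromSpecResidueField,
    ← Spec.map_comp_assoc, ← Spec.map_comp_assoc] at hpq
  have h := (Scheme.SpecToEquivOfField Ω X).symm.injective
    (a₁ := ⟨f.base y, f.residueFieldMap y ≫ a⟩) (a₂ := ⟨f.base y, f.residueFieldMap y ≫ b⟩) hpq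
  have : Epi (f.residueFieldMap y) := ConcreteCategory.epi_of_surjective _ hs
  have hab : a = b := (cancel_epi (f.residueFieldMap y)).1 (eq_of_heq (Sigma.mk.inj_iff.1 h).2)
  rw [hab]

variable {X X' U U' : Scheme.{u}} (f : X' ⟶ X) [AlgebraicGeometry.Etale f] (j : U ⟶ X)
  [IsOpenImmersion j] (j' : U' ⟶ X') [IsOpenImmersion j']
  (hU' : Set.range j'.base = f.base ⁻¹' Set.range j.base)

include hU'

lemma isSupp_restr_etale_iff {F : EtCoh.Ab X} (t : F.obj.obj (op ((EtShriek.compEtale f).obj (EtCoh.top X')))) :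
    IsSupp j' ((EtShriek.restrAlong f).obj F) (V := EtCoh.top X') t ↔
      f.base ⁻¹' Set.range j.base ⊆ vanishSet F ((EtShriek.compEtale f).obj (EtCoh.top X')) t := by
  have e : f.base ⁻¹' Set.range j.base =
      Set.range ((EtShriek.compEtale f).map (cu j' (EtCoh.top X'))).left.base := by
    change _ = Set.range (cu j' (EtCoh.top X')).left.base
    rw [range_cu, ← hU']
    rfl
  rw [e]
  exact map_eq_zero_iff_range_subset F ((EtShriek.compEtale f).map (cu j' (EtCoh.top X'))) t

/-- The étale neighbourhood as a member over the base. -/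
noncomputable def mEt : (EtShriek.compEtale f).obj (EtCoh.top X') ⟶ EtCoh.top X :=
  MorphismProperty.Over.homMk f ((Category.comp_id f).trans (Category.id_comp f).symm)

lemma IsSupp.restrEt {F : EtCoh.Ab X} {s : F.obj.obj (op (EtCoh.top X))} (h : IsSupp j F s) :
    IsSupp j' ((EtShriek.restrAlong f).obj F) (V := EtCoh.top X')
      (F.obj.map (mEt f).op s) := by
  rw [isSupp_restr_etale_iff f j j' hU', vanishSet_res]
  exact fun z hz => (isSupp_iff j s).1 h hz

variable (hZ : Set.BijOn f.base (Set.range j'.base)ᶜ (Set.range j.base)ᶜ)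
  (hκ : ∀ x' : X', x' ∉ Set.range j'.base → Function.Surjective (f.residueFieldMap x'))

include hZ in
lemma eq_zero_of_res {F : EtCoh.Ab X} {s : F.obj.obj (op (EtCoh.top X))} (h : IsSupp j F s)
    (h0 : F.obj.map (mEt f).op s = 0) : s = 0 := by
  refine section_eq_zero_of_germs F _ s fun x => ?_
  change x ∈ vanishSet F (EtCoh.top X) s
  by_cases hx : x ∈ Set.range j.base
  · exact (isSupp_iff j s).1 h hx
  · obtain ⟨x', -, rfl⟩ := hZ.surjOn hx
    rw [map_eq_zero_iff_range_subset] at h0
    exact h0 ⟨x', rfl⟩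

include hZ hκ in
lemma res_eq_res {F : EtCoh.Ab X} (t : F.obj.obj (op ((EtShriek.compEtale f).obj (EtCoh.top X'))))
    (ht : f.base ⁻¹' Set.range j.base ⊆ vanishSet F ((EtShriek.compEtale f).obj (EtCoh.top X')) t)
    {Z : X.Etale} (a b : Z ⟶ (EtShriek.compEtale f).obj (EtCoh.top X')) :
    F.obj.map a.op t = F.obj.map b.op t := by
  rw [← sub_eq_zero]
  refine section_eq_zero_of_germs F Z _ fun z => ?_
  have hab : f.base (a.left.base z) = f.base (b.left.base z) := by
    have ha := MorphismProperty.Over.w a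
    have hb := MorphismProperty.Over.w b
    have h1 : a.left ≫ (𝟙 X' ≫ f) = b.left ≫ (𝟙 X' ≫ f) := ha.trans hb.symm
    exact congrArg (fun m => m.base z) h1
  obtain ⟨w, hw⟩ := exists_geomPoint_lift Z z
  let ξ := geomPoint (Z.hom.base z)
  suffices germ ξ F Z w (F.obj.map a.op t - F.obj.map b.op t) = 0 by
    obtain ⟨V, g, ⟨v, hv⟩, h⟩ := (germ_eq_zero_iff_mem ξ F Z _ w).1 this
    exact ⟨V, g, ⟨v, hv.trans hw⟩, h⟩
  rw [map_sub, LocConst.germ_res, LocConst.germ_res, sub_eq_zero]
  have hpa : fiberPoint ξ ((Scheme.pointSmallEtale ξ).fiber.map a w) = a.left.base z := by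
    rw [fiberPoint_map]; exact congrArg a.left.base hw
  have hpb : fiberPoint ξ ((Scheme.pointSmallEtale ξ).fiber.map b w) = b.left.base z := by
    rw [fiberPoint_map]; exact congrArg b.left.base hw
  by_cases hu : f.base (a.left.base z) ∈ Set.range j.base
  · rw [(germ_eq_zero_iff_mem ξ F _ t _).2 (hpa ▸ ht hu),
      (germ_eq_zero_iff_mem ξ F _ t _).2 (hpb ▸ ht (show f.base (b.left.base z) ∈ _ from hab ▸ hu))]
  · have hmem : ∀ x' : X', f.base x' ∉ Set.range j.base → x' ∈ (Set.range j'.base)ᶜ := fun x' h h' =>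
      h (show x' ∈ f.base ⁻¹' Set.range j.base from hU' ▸ h')
    have hz : a.left.base z = b.left.base z :=
      hZ.injOn (hmem _ hu) (hmem _ (hab ▸ hu)) hab
    refine congrArg (fun q => germ ξ F _ q t) (Over.OverMorphism.ext ?_)
    refine eq_of_residueFieldMap_surjective f _ _ ?_ (a.left.base z) hpa (hpb.trans hz.symm)
      (hκ _ (hmem _ hu))
    have h1 := Over.w ((Scheme.pointSmallEtale ξ).fiber.map a w)
    have h2 := Over.w ((Scheme.pointSmallEtale ξ).fiber.map b w)
    exact (congrArg (_ ≫ ·) (Category.id_comp f)).symm.trans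
      ((h1.trans h2.symm).trans (congrArg (_ ≫ ·) (Category.id_comp f)))

include hZ hκ in
lemma exists_glue {F : EtCoh.Ab X} (t : F.obj.obj (op ((EtShriek.compEtale f).obj (EtCoh.top X'))))
    (ht : f.base ⁻¹' Set.range j.base ⊆ vanishSet F ((EtShriek.compEtale f).obj (EtCoh.top X')) t) :
    ∃ s : F.obj.obj (op (EtCoh.top X)), IsSupp j F s ∧ F.obj.map (mEt f).op s = t := by
  let J := X.smallEtaleTopology
  let Y : Bool → X.Etale := fun c => cond c ((EtShriek.compEtale f).obj (EtCoh.top X'))
    ((EtShriek.compEtale j).obj (EtCoh.top U))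
  let m₀ : (EtShriek.compEtale j).obj (EtCoh.top U) ⟶ EtCoh.top X :=
    MorphismProperty.Over.homMk j ((Category.comp_id j).trans (Category.id_comp j).symm)
  let m : ∀ c, Y c ⟶ EtCoh.top X := fun c =>
    match c with
    | true => mEt f
    | false => m₀
  have hcov : Sieve.generate (Presieve.ofArrows Y m) ∈ J (EtCoh.top X) := by
    rw [mem_topology_iff]
    intro x
    by_cases hx : x ∈ Set.range j.base
    · obtain ⟨u, rfl⟩ := hx
      exact ⟨_, m₀, u, Sieve.le_generate _ _ _ (Presieve.ofArrows.mk (f := m) false), rfl⟩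
    · obtain ⟨x', -, rfl⟩ := hZ.surjOn hx
      exact ⟨_, mEt f, x', Sieve.le_generate _ _ _ (Presieve.ofArrows.mk (f := m) true), rfl⟩
  have hF := ((isSheaf_iff_isSheaf_of_type _ _).1
    ((sheafCompose J (forget AddCommGrpCat.{u + 1})).obj F).2) _ hcov
  rw [← Presieve.isSheafFor_iff_generate, Presieve.isSheafFor_arrows_iff] at hF
  let x : ∀ c, F.obj.obj (op (Y c)) := fun c =>
    match c with
    | true => t
    | false => (0 : F.obj.obj (op ((EtShriek.compEtale j).obj (EtCoh.top U))))
  have hmix : ∀ (Z : X.Etale) (g₁ : Z ⟶ (EtShriek.compEtale f).obj (EtCoh.top X'))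
      (g₀ : Z ⟶ (EtShriek.compEtale j).obj (EtCoh.top U)), g₁ ≫ mEt f = g₀ ≫ m₀ →
      F.obj.map g₁.op t = 0 := fun Z g₁ g₀ h => by
    refine (map_eq_zero_iff_range_subset F g₁ t).2 ?_
    rintro _ ⟨z, rfl⟩
    exact ht ⟨g₀.left.base z, (congrArg (fun q : Z ⟶ EtCoh.top X => q.left.base z) h).symm⟩
  obtain ⟨s, hs, -⟩ := hF x (by
    rintro (_ | _) (_ | _) Z g g' h
    · exact (map_zero (F.obj.map g.op).hom).trans (map_zero (F.obj.map g'.op).hom).symm
    · exact (map_zero (F.obj.map g.op).hom).trans (hmix Z g' g h.symm).symm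
    · exact (hmix Z g g' h).trans (map_zero (F.obj.map g'.op).hom).symm
    · exact res_eq_res f j j' hU' hZ hκ t ht g g')
  refine ⟨s, (isSupp_iff j s).2 fun z hz => ?_, hs true⟩
  have h0 : F.obj.map (m false).op s = 0 := hs false
  rw [map_eq_zero_iff_range_subset] at h0
  exact h0 hz

include hZ hκ in
/-- Excision. -/
theorem nonempty_iso_HY_excision (F : EtCoh.Ab X) (q : ℕ) :
    Nonempty ((EtDual.HY j q).obj F ≅ (EtDual.HY j' q).obj ((EtShriek.restrAlong f).obj F)) := by
  choose b hb using fun (F : EtCoh.Ab X) (τ : (EtDual.gammaSupp j).obj F) =>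
    exists_valTop j' _ _ ((isSupp_valTop j F τ).restrEt f j j' hU')
  have hinj : ∀ F, Function.Injective (b F) := fun F x y e => valTop_injective j F (by
    refine sub_eq_zero.1 (eq_zero_of_res f j j' hU' hZ ?_ ?_)
    · have := (isSupp_valTop j F x).add j ((isSupp_valTop j F y).neg j)
      rwa [← sub_eq_add_neg] at this
    · rw [map_sub, ← hb, ← hb, e]
      exact sub_self _)
  have hsurj : ∀ F, Function.Surjective (b F) := fun F y => by
    obtain ⟨s, hs, hst⟩ := exists_glue f j j' hU' hZ hκ
      (valTop j' ((EtShriek.restrAlong f).obj F) y)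
      ((isSupp_restr_etale_iff f j j' hU' _).1 (isSupp_valTop j' ((EtShriek.restrAlong f).obj F) y))
    obtain ⟨τ, hτ⟩ := exists_valTop j F s hs
    exact ⟨τ, valTop_injective j' _ ((hb F τ).trans ((congrArg _ hτ).trans hst))⟩
  have hadd : ∀ F x y, b F (x + y) = b F x + b F y := fun F x y => valTop_injective j' _
    ((hb F (x + y)).trans ((congrArg _ (map_add (valTop j F).hom x y)).trans ((map_add _ _ _).trans
      ((congrArg₂ (· + ·) (hb F x).symm (hb F y).symm).trans (map_add (valTop j' _).hom _ _).symm))))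
  let e : EtDual.gammaSupp j ≅ EtShriek.restrAlong f ⋙ EtDual.gammaSupp j' :=
    NatIso.ofComponents
      (fun F => (AddEquiv.ofBijective (AddMonoidHom.mk' (b F) (hadd F)) ⟨hinj F, hsurj F⟩).toAddCommGrpIso)
      fun {F G} φ => AddCommGrpCat.ext fun τ => valTop_injective j' _ (by
        change valTop j' _ (b G ((EtDual.gammaSupp j).map φ τ)) =
          valTop j' _ ((EtDual.gammaSupp j').map ((EtShriek.restrAlong f).map φ) (b F τ))
        rw [hb, valTop_naturality, valTop_naturality, hb]
        exact (NatTrans.naturality_apply φ.hom (mEt f).op _).symm)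
  let I : InjectiveResolution F := injectiveResolution F
  have hadd' : (EtShriek.restrAlong f).Additive := ⟨fun {F G a c} => rfl⟩
  have hlim : PreservesFiniteLimits (EtShriek.restrAlong f) :=
    haveI : PreservesLimitsOfSize.{0, 0} (EtShriek.restrAlong f) :=
      (EtShriek.extZeroAdj f).rightAdjoint_preservesLimits
    PreservesLimitsOfSize.preservesFiniteLimits _
  have hcolim : PreservesFiniteColimits (EtShriek.restrAlong f) :=
    haveI : PreservesColimitsOfSize.{0, 0} (EtShriek.restrAlong f) :=
      (restrPushAdj f).leftAdjoint_preservesColimits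
    PreservesColimitsOfSize.preservesFiniteColimits _
  let J : InjectiveResolution ((EtShriek.restrAlong f).obj F) :=
    SiteCohomology.mapInjectiveResolution (EtShriek.restrAlong f) I
      (fun A _ => Injective.of_iso ((pullRestrIso f).app A) (InjCoh.pull_injective f A))
      fun n => (I.cocomplex_exactAt_succ n).map (EtShriek.restrAlong f)
  exact ⟨I.isoRightDerivedObj (EtDual.gammaSupp j) q ≪≫
    (HomologicalComplex.homologyFunctor _ _ q).mapIso
      ((NatIso.mapHomologicalComplex e (ComplexShape.up ℕ)).app I.cocomplex) ≪≫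
    (J.isoRightDerivedObj (EtDual.gammaSupp j') q).symm⟩

end Groth.EtaleBase.Supp
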