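import Groth.Agent.EtaleBase.TateLocal
import Mathlib.CategoryTheory.Sites.CoverLifting

/-!
# Tate twists commute with restriction along étale morphisms
-/

set_option autoImplicit false
set_option backward.isDefEq.respectTransparency.types false
set_option maxHeartbeats 1000000

universe u

open CategoryTheory CategoryTheory.Limits AlgebraicGeometry Opposite TensorProduct

namespace Groth.EtaleBase.TateLocal

attribute [local instance] InjCoh.jCont

variable {X W : Scheme.{u}} (e : W ⟶ X) [AlgebraicGeometry.Etale e]

/-- Composition with an étale morphism lifts coverings. -/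
theorem compEtale_isCocontinuous :
    (EtShriek.compEtale e).IsCocontinuous W.smallEtaleTopology X.smallEtaleTopology := by
  refine ⟨fun {T S} hS => (mem_topology_iff _).2 fun x => ?_⟩
  obtain ⟨V, g, v, hg, hv⟩ := (mem_topology_iff S).1 hS x
  let L := EtShriek.compEtaleLift e g
  let k : L.1 ⟶ T := MorphismProperty.Over.homMk g.left rfl
  refine ⟨L.1, k, v, ?_, hv⟩
  change S ((EtShriek.compEtale e).map k)
  rw [show (EtShriek.compEtale e).map k = L.2.hom ≫ g from
    MorphismProperty.Over.Hom.ext (Category.id_comp _).symm]
  exact S.downward_closed hg _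

/-- Isomorphic sheaves have isomorphic tensor products. -/
theorem nonempty_tensorAb_congr {F F' G G' : EtCoh.Ab W} (φ : F ≅ F') (ψ : G ≅ G') :
    Nonempty (EtDual.tensorAb F G ≅ EtDual.tensorAb F' G') :=
  ⟨(presheafToSheaf _ _).mapIso (NatIso.ofComponents
    (fun T => (TensorProduct.congr (((sheafToPresheaf _ _).mapIso φ).app T).addCommGroupIsoToAddEquiv.toIntLinearEquiv
      (((sheafToPresheaf _ _).mapIso ψ).app T).addCommGroupIsoToAddEquiv.toIntLinearEquiv).toAddEquiv.toAddCommGrpIso)
    fun {T T'} f => AddCommGrpCat.ext fun z => by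
      induction z using TensorProduct.induction_on with
      | zero => exact (map_zero _).trans (map_zero _).symm
      | add x y hx hy => exact (map_add _ _ _).trans ((congrArg₂ (· + ·) hx hy).trans (map_add _ _ _).symm)
      | tmul a b =>
        change φ.hom.hom.app T' (F.obj.map f a) ⊗ₜ[ℤ] ψ.hom.hom.app T' (G.obj.map f b) =
          F'.obj.map f (φ.hom.hom.app T a) ⊗ₜ[ℤ] G'.obj.map f (ψ.hom.hom.app T b)
        rw [NatTrans.naturality_apply φ.hom.hom, NatTrans.naturality_apply ψ.hom.hom])⟩

/-- Tensor products commute with restriction. -/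
theorem nonempty_restrAlong_tensorAb (F G : EtCoh.Ab X) :
    Nonempty (EtDual.tensorAb ((EtShriek.restrAlong e).obj F) ((EtShriek.restrAlong e).obj G) ≅
      (EtShriek.restrAlong e).obj (EtDual.tensorAb F G)) := by
  have := compEtale_isCocontinuous e
  exact ⟨(presheafToSheaf _ _).mapIso (NatIso.ofComponents (fun T => Iso.refl _)
    fun {T T'} f => (Category.comp_id _).trans (Category.id_comp _).symm) ≪≫
    ((EtShriek.compEtale e).pushforwardContinuousSheafificationCompatibility AddCommGrpCat.{u + 1}
      W.smallEtaleTopology X.smallEtaleTopology).app (EtDual.tensorPre F G)⟩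

/-- Constant sheaves commute with restriction. -/
theorem nonempty_restrAlong_const (A : Type) [AddCommGroup A] :
    Nonempty (EtCoh.const W A ≅ (EtShriek.restrAlong e).obj (EtCoh.const X A)) := by
  have := compEtale_isCocontinuous e
  exact ⟨(presheafToSheaf _ _).mapIso (NatIso.ofComponents (fun T => Iso.refl _)
    fun {T T'} f => (Category.comp_id _).trans (Category.id_comp _).symm) ≪≫
    ((EtShriek.compEtale e).pushforwardContinuousSheafificationCompatibility AddCommGrpCat.{u + 1}
      W.smallEtaleTopology X.smallEtaleTopology).app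
        ((Functor.const X.Etaleᵒᵖ).obj (AddCommGrpCat.of (ULift.{u + 1} A)))⟩

/-- Tate twists commute with restriction. -/
theorem nonempty_restrAlong_tate (n d : ℕ) :
    Nonempty (EtDual.tate W n d ≅ (EtShriek.restrAlong e).obj (EtDual.tate X n d)) := by
  induction d with
  | zero => exact nonempty_restrAlong_const e (ZMod n)
  | succ d ih =>
    obtain ⟨a⟩ := ih
    obtain ⟨b⟩ := nonempty_restrAlong_mu_iso e n
    obtain ⟨c⟩ := nonempty_tensorAb_congr a b
    obtain ⟨f⟩ := nonempty_restrAlong_tensorAb e (EtDual.tate X n d) (EtCoh.mu X n)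
    exact ⟨c ≪≫ f⟩

end Groth.EtaleBase.TateLocal
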