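import Groth.Agent.Pi1Inv.Glue
import Groth.Prelude.Def_EtBase
import Mathlib.AlgebraicGeometry.Morphisms.FlatMono
import Mathlib.AlgebraicGeometry.Gluing

/-!
Topological invariance of the small etale site: gluing local lifts along a universal homeomorphism.
-/

set_option autoImplicit false

universe u

open CategoryTheory CategoryTheory.Limits AlgebraicGeometry TopologicalSpace

namespace Groth.EtaleBase.TopInv

variable {X Y : Scheme.{u}} (f : X ⟶ Y) {U : Scheme.{u}} (g : U ⟶ X)

/-- A lift of an open of an etale `X`-scheme to an etale `Y`-scheme. -/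
structure Lift (W : U.Opens) where
  obj : Scheme.{u}
  hom : obj ⟶ Y
  map : (W : Scheme.{u}) ⟶ obj
  etale : Etale hom
  isPullback : IsPullback map (W.ι ≫ g) hom f

variable {f g} [UniversallyInjective f] [UniversallyClosed f] [Surjective f]
variable {V W K : U.Opens} (P : Lift f g V) (Q : Lift f g W)

instance : Etale P.hom := P.etale
instance : UniversallyInjective P.map :=
  MorphismProperty.of_isPullback P.isPullback.flip ‹UniversallyInjective f›
instance : UniversallyClosed P.map :=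
  MorphismProperty.of_isPullback P.isPullback.flip ‹UniversallyClosed f›
instance : Surjective P.map :=
  MorphismProperty.of_isPullback P.isPullback.flip ‹Surjective f›

lemma existsUnique_trans (h : V ≤ W) :
    ∃! φ : P.obj ⟶ Q.obj, φ ≫ Q.hom = P.hom ∧ P.map ≫ φ = U.homOfLE h ≫ Q.map :=
  Groth.Pi1Inv.existsUnique_extend P.map Q.hom P.hom (U.homOfLE h ≫ Q.map) (by
    rw [Category.assoc, Q.isPullback.w, P.isPullback.w]
    simp only [Category.assoc, Scheme.homOfLE_ι_assoc])

/-- The transition map between two lifts. -/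
noncomputable def trans (h : V ≤ W) : P.obj ⟶ Q.obj := (existsUnique_trans P Q h).exists.choose

@[reassoc]
lemma trans_hom (h : V ≤ W) : trans P Q h ≫ Q.hom = P.hom :=
  (existsUnique_trans P Q h).exists.choose_spec.1

@[reassoc]
lemma map_trans (h : V ≤ W) : P.map ≫ trans P Q h = U.homOfLE h ≫ Q.map :=
  (existsUnique_trans P Q h).exists.choose_spec.2

lemma trans_unique (h : V ≤ W) {φ : P.obj ⟶ Q.obj} (h₁ : φ ≫ Q.hom = P.hom)
    (h₂ : P.map ≫ φ = U.homOfLE h ≫ Q.map) : φ = trans P Q h :=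
  (existsUnique_trans P Q h).unique ⟨h₁, h₂⟩ ⟨trans_hom P Q h, map_trans P Q h⟩

lemma trans_self : trans P P le_rfl = 𝟙 P.obj :=
  (trans_unique P P le_rfl (by simp) (by simp)).symm

lemma trans_trans (R : Lift f g K) (h : V ≤ W) (h' : W ≤ K) :
    trans P Q h ≫ trans Q R h' = trans P R (h.trans h') :=
  trans_unique P R (h.trans h') (by simp [trans_hom])
    (by rw [map_trans_assoc, map_trans, Scheme.homOfLE_homOfLE_assoc])

lemma isOpenImmersion_trans (h : V ≤ W) : IsOpenImmersion (trans P Q h) := by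
  have : Etale (trans P Q h ≫ Q.hom) := (trans_hom P Q h).symm ▸ P.etale
  have : Etale (trans P Q h) := Etale.of_comp _ Q.hom
  have : UniversallyInjective (P.map ≫ trans P Q h) := by
    rw [map_trans]
    exact MorphismProperty.comp_mem @UniversallyInjective _ _ inferInstance inferInstance
  have : UniversallyInjective (trans P Q h) :=
    Groth.EtaleBase.universallyInjective_of_surjective_comp P.map _
  have hd := (UniversallyInjective.iff_diagonal (trans P Q h)).1 inferInstance
  have : IsIso (pullback.diagonal (trans P Q h)) := isIso_of_isOpenImmersion_of_opensRange_eq_top _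
    (Opens.ext (Set.range_eq_univ.2 hd.1))
  have : Mono (trans P Q h) := (pullback.isIso_diagonal_iff _).1 inferInstance
  exact IsOpenImmersion.of_flat_of_mono _

/-- Lifts restrict to smaller opens. -/
lemma exists_restrict (Q : Lift f g W) (h : V ≤ W) : Nonempty (Lift f g V) := by
  let V' : (W : Scheme.{u}).Opens := W.ι ⁻¹ᵁ V
  have hbij : Function.Bijective Q.map := ⟨Q.map.injective, Q.map.surjective⟩
  have hopen : IsOpen (Q.map '' (V' : Set (W : Scheme.{u}))) := by
    rw [← isClosed_compl_iff, ← Set.image_compl_eq hbij]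
    exact Q.map.isClosedMap _ V'.isOpen.isClosed_compl
  let O : Q.obj.Opens := ⟨_, hopen⟩
  have hO : Q.map ⁻¹ᵁ O = V' := Opens.ext (Set.preimage_image_eq _ hbij.1)
  let e₁ : (V : Scheme.{u}) ⟶ (Q.map ⁻¹ᵁ O : Scheme.{u}) :=
    IsOpenImmersion.lift (Q.map ⁻¹ᵁ O).ι (U.homOfLE h) (by
      rw [Scheme.Opens.range_ι, hO]
      rintro _ ⟨x, rfl⟩
      show W.ι (U.homOfLE h x) ∈ V
      rw [← Scheme.Hom.comp_apply, Scheme.homOfLE_ι]
      exact x.2)
  have he : e₁ ≫ (Q.map ⁻¹ᵁ O).ι = U.homOfLE h := IsOpenImmersion.lift_fac _ _ _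
  have : IsOpenImmersion (e₁ ≫ (Q.map ⁻¹ᵁ O).ι) := he.symm ▸ inferInstance
  have : IsOpenImmersion e₁ := IsOpenImmersion.of_comp e₁ (Q.map ⁻¹ᵁ O).ι
  have : IsIso e₁ := isIso_of_isOpenImmersion_of_opensRange_eq_top _ (eq_top_iff.2 fun z _ => by
    have hz : (Q.map ⁻¹ᵁ O).ι z ∈ V' := hO ▸ z.2
    refine ⟨⟨_, hz⟩, (Q.map ⁻¹ᵁ O).ι.isOpenEmbedding.injective ?_⟩
    rw [← Scheme.Hom.comp_apply, he]
    apply W.ι.isOpenEmbedding.injective
    rw [← Scheme.Hom.comp_apply, Scheme.homOfLE_ι]
    rfl)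
  refine ⟨⟨O, O.ι ≫ Q.hom, e₁ ≫ Q.map ∣_ O, inferInstance, ?_⟩⟩
  refine ((isPullback_morphismRestrict Q.map O).paste_vert Q.isPullback).of_iso
    (asIso e₁).symm (Iso.refl _) (Iso.refl _) (Iso.refl _) ?_ ?_ ?_ ?_ <;>
    simp [reassoc_of% he]

variable (f g)

/-- Opens which lift. -/
abbrev Idx : Type u := {W : U.Opens // Nonempty (Lift f g W)}

/-- A chosen lift. -/
noncomputable def piece (i : Idx f g) : Lift f g i.1 := i.2.some

/-- The diagram of lifts. -/
noncomputable def diag : Idx f g ⥤ Scheme.{u} where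
  obj i := (piece f g i).obj
  map {i j} h := trans (piece f g i) (piece f g j) (leOfHom h)
  map_id i := trans_self _
  map_comp {i j k} h h' := (trans_trans _ _ _ (leOfHom h) (leOfHom h')).symm

instance {i j : Idx f g} (h : i ⟶ j) : IsOpenImmersion ((diag f g).map h) :=
  isOpenImmersion_trans _ _ _

variable {f g} in
lemma exists_common {i j : Idx f g} (x : (i.1 : Scheme.{u})) (y : (j.1 : Scheme.{u}))
    (e : i.1.ι x = j.1.ι y) :
    ∃ (l : Idx f g) (hi : l ⟶ i) (hj : l ⟶ j) (z : (piece f g l).obj),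
      (diag f g).map hi z = (piece f g i).map x ∧ (diag f g).map hj z = (piece f g j).map y := by
  let l : Idx f g := ⟨i.1 ⊓ j.1, exists_restrict (piece f g i) inf_le_left⟩
  let w : (l.1 : Scheme.{u}) := ⟨i.1.ι x, x.2, e ▸ y.2⟩
  refine ⟨l, homOfLE (show l.1 ≤ i.1 from inf_le_left), homOfLE (show l.1 ≤ j.1 from inf_le_right),
    (piece f g l).map w, ?_, ?_⟩
  · show trans _ _ _ ((piece f g l).map w) = _
    rw [← Scheme.Hom.comp_apply, map_trans, Scheme.Hom.comp_apply]
    refine congrArg _ (i.1.ι.isOpenEmbedding.injective ?_)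
    rw [← Scheme.Hom.comp_apply, Scheme.homOfLE_ι]
    rfl
  · show trans _ _ _ ((piece f g l).map w) = _
    rw [← Scheme.Hom.comp_apply, map_trans, Scheme.Hom.comp_apply]
    refine congrArg _ (j.1.ι.isOpenEmbedding.injective ?_)
    rw [← Scheme.Hom.comp_apply, Scheme.homOfLE_ι]
    exact e

variable {f g} in
lemma apply_map_trans {i j : Idx f g} (h : i ⟶ j) (x : (i.1 : Scheme.{u})) :
    (diag f g).map h ((piece f g i).map x) = (piece f g j).map (U.homOfLE (leOfHom h) x) := by
  show trans _ _ _ _ = _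
  rw [← Scheme.Hom.comp_apply, map_trans, Scheme.Hom.comp_apply]

instance : (diag f g ⋙ Scheme.forget).IsLocallyDirected where
  cond {i j k} fi fj xi xj heq := by
    obtain ⟨x, rfl⟩ := (piece f g i).map.surjective xi
    obtain ⟨y, rfl⟩ := (piece f g j).map.surjective xj
    have e := (piece f g k).map.injective
      ((apply_map_trans fi x).symm.trans ((heq : _).trans (apply_map_trans fj y)))
    have e' : i.1.ι x = j.1.ι y := by
      have := congrArg k.1.ι e
      rwa [← Scheme.Hom.comp_apply, ← Scheme.Hom.comp_apply, Scheme.homOfLE_ι, Scheme.homOfLE_ι] at this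
    obtain ⟨l, hi, hj, z, h1, h2⟩ := exists_common x y e'
    exact ⟨l, hi, hj, z, h1, h2⟩

variable {f g} in
/-- Base change along `f` is essentially surjective on etale schemes as soon as lifts exist locally. -/
theorem exists_lift_global (hloc : ∀ u : U, ∃ W : U.Opens, u ∈ W ∧ Nonempty (Lift f g W)) :
    ∃ (A : Scheme.{u}) (a : A ⟶ Y) (β : U ⟶ A), Etale a ∧ IsPullback β g a f := by
  let F := diag f g
  let a : colimit F ⟶ Y := colimit.desc F
    { pt := Y
      ι := { app := fun i => (piece f g i).hom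
             naturality := fun i j h => (trans_hom _ _ _).trans (Category.comp_id _).symm } }
  have ha : ∀ i, colimit.ι F i ≫ a = (piece f g i).hom := fun i => colimit.ι_desc _ _
  have het : Etale a := IsZariskiLocalAtSource.of_openCover (Scheme.IsLocallyDirected.openCover F)
    fun i => by
      show Etale (colimit.ι F i ≫ a)
      rw [ha]; exact (piece f g i).etale
  let q : ∀ i : Idx f g, (i.1 : Scheme.{u}) ⟶ colimit F := fun i => (piece f g i).map ≫ colimit.ι F i
  have hq : ∀ (i j : Idx f g) (h : i.1 ≤ j.1), U.homOfLE h ≫ q j = q i := fun i j h => by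
    show U.homOfLE h ≫ (piece f g j).map ≫ colimit.ι F j = (piece f g i).map ≫ colimit.ι F i
    rw [← map_trans_assoc (piece f g i) (piece f g j) h]
    exact congrArg ((piece f g i).map ≫ ·) (colimit.w F (homOfLE h : i ⟶ j))
  have hcov : ⨆ i : Idx f g, i.1 = ⊤ := eq_top_iff.2 fun u _ => by
    obtain ⟨W, hu, hW⟩ := hloc u
    exact Opens.mem_iSup.2 ⟨⟨W, hW⟩, hu⟩
  let 𝒲 : U.OpenCover := U.openCoverOfIsOpenCover (fun i : Idx f g => i.1) hcov
  obtain ⟨β, hβ⟩ : ∃ β : U ⟶ colimit F, ∀ i : Idx f g, i.1.ι ≫ β = q i := by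
    suffices key : ∀ i j : Idx f g, pullback.fst i.1.ι j.1.ι ≫ q i = pullback.snd i.1.ι j.1.ι ≫ q j from
      ⟨𝒲.glueMorphisms q key, fun i => 𝒲.ι_glueMorphisms q _ i⟩
    intro i j
    let l : Idx f g := ⟨i.1 ⊓ j.1, exists_restrict (piece f g i) inf_le_left⟩
    let p₁ := pullback.fst i.1.ι j.1.ι
    let p₂ := pullback.snd i.1.ι j.1.ι
    have hp : p₁ ≫ i.1.ι = p₂ ≫ j.1.ι := pullback.condition
    let m := IsOpenImmersion.lift l.1.ι (p₁ ≫ i.1.ι) (by
      rw [Scheme.Opens.range_ι]
      rintro _ ⟨z, rfl⟩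
      refine ⟨(p₁ z).2, ?_⟩
      rw [hp]
      exact (p₂ z).2)
    have hm : m ≫ l.1.ι = p₁ ≫ i.1.ι := IsOpenImmersion.lift_fac _ _ _
    have h1 : p₁ = m ≫ U.homOfLE (inf_le_left : l.1 ≤ i.1) := by
      rw [← cancel_mono i.1.ι, Category.assoc, Scheme.homOfLE_ι, hm]
    have h2 : p₂ = m ≫ U.homOfLE (inf_le_right : l.1 ≤ j.1) := by
      rw [← cancel_mono j.1.ι, Category.assoc, Scheme.homOfLE_ι, hm, hp]
    show p₁ ≫ q i = p₂ ≫ q j
    rw [h1, h2, Category.assoc, Category.assoc]
    exact congrArg (m ≫ ·) ((hq l i inf_le_left).trans (hq l j inf_le_right).symm)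
  have hw : β ≫ a = g ≫ f := by
    refine 𝒲.hom_ext _ _ fun i => ?_
    show i.1.ι ≫ β ≫ a = i.1.ι ≫ g ≫ f
    rw [reassoc_of% (hβ i)]
    have := (piece f g i).isPullback.w
    calc q i ≫ a = (piece f g i).map ≫ (piece f g i).hom := (Category.assoc _ _ _).trans (congrArg _ (ha i))
      _ = _ := this.trans (Category.assoc _ _ _)
  let c : U ⟶ pullback a f := pullback.lift β g hw
  have hloc' : ∀ i : Idx f g, IsOpenImmersion (i.1.ι ≫ c) := fun i => by
    let ι' : (piece f g i).obj ⟶ colimit F := colimit.ι F i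
    let m : pullback (piece f g i).hom f ⟶ pullback a f :=
      pullback.map _ _ _ _ ι' (𝟙 _) (𝟙 _) ((Category.comp_id _).trans (ha i).symm) (by simp)
    have e : i.1.ι ≫ c = (piece f g i).isPullback.isoPullback.hom ≫ m := by
      apply pullback.hom_ext
      · simp only [c, m, Category.assoc, pullback.lift_fst, hβ, IsPullback.isoPullback_hom_fst_assoc]
        rfl
      · simp only [c, m, Category.assoc, pullback.lift_snd, IsPullback.isoPullback_hom_snd, Category.comp_id]
    have : IsOpenImmersion ι' := (Scheme.IsLocallyDirected.openCover F).map_prop i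
    have : IsOpenImmersion m := Scheme.pullback_map_isOpenImmersion _ _ _ _ _ _ _ _ _
    rw [e]; infer_instance
  have hinj : Function.Injective β := by
    intro u u' e
    obtain ⟨W, hu, hW⟩ := hloc u
    obtain ⟨W', hu', hW'⟩ := hloc u'
    have e' : colimit.ι F ⟨W, hW⟩ ((piece f g ⟨W, hW⟩).map ⟨u, hu⟩) =
        colimit.ι F ⟨W', hW'⟩ ((piece f g ⟨W', hW'⟩).map ⟨u', hu'⟩) := by
      show q ⟨W, hW⟩ ⟨u, hu⟩ = q ⟨W', hW'⟩ ⟨u', hu'⟩
      rw [← hβ, ← hβ]
      exact e
    obtain ⟨k, hi, hj, z, h1, h2⟩ := Scheme.IsLocallyDirected.ι_eq_ι_iff F |>.1 e'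
    obtain ⟨w, rfl⟩ := (piece f g k).map.surjective z
    rw [apply_map_trans] at h1 h2
    have h3 := congrArg W.ι ((piece f g ⟨W, hW⟩).map.injective h1)
    have h4 := congrArg W'.ι ((piece f g ⟨W', hW'⟩).map.injective h2)
    rw [← Scheme.Hom.comp_apply, Scheme.homOfLE_ι] at h3 h4
    exact h3.symm.trans h4
  have : IsOpenImmersion c := IsOpenImmersion.of_openCover_source c 𝒲
    (fun u u' e => hinj (by
      have := congrArg (pullback.fst a f) e
      rwa [← Scheme.Hom.comp_apply, ← Scheme.Hom.comp_apply, pullback.lift_fst] at this)) hloc'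
  have hfst : Function.Injective (pullback.fst a f) := by
    have : UniversallyInjective (pullback.fst a f) := MorphismProperty.pullback_fst _ _ ‹_›
    exact (pullback.fst a f).injective
  have : IsIso c := isIso_of_isOpenImmersion_of_opensRange_eq_top _ (eq_top_iff.2 fun z _ => by
    obtain ⟨i, p, hp⟩ := Scheme.IsLocallyDirected.ι_jointly_surjective F (pullback.fst a f z)
    obtain ⟨w, rfl⟩ := (piece f g i).map.surjective p
    refine ⟨i.1.ι w, hfst ?_⟩
    rw [← Scheme.Hom.comp_apply, pullback.lift_fst, ← Scheme.Hom.comp_apply, hβ, ← hp]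
    rfl)
  exact ⟨colimit F, a, β, het, IsPullback.of_iso_pullback ⟨hw⟩ (asIso c) (pullback.lift_fst _ _ _)
    (pullback.lift_snd _ _ _)⟩

omit g in
/-- Base change along a universal homeomorphism with local lifts is an equivalence. -/
theorem isEquivalence_bc
    (hloc : ∀ (U : X.Etale) (u : U.left), ∃ W : U.left.Opens, u ∈ W ∧ Nonempty (Lift f U.hom W)) :
    (EtCoh.bc f).IsEquivalence := by
  have hb : ∀ A B : Y.Etale, Function.Bijective (fun φ : A ⟶ B => (EtCoh.bc f).map φ) := fun A B => by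
    have : Etale B.hom := B.prop
    have h := Groth.EtaleBase.pullback_hom_bijective f B.toComma A.toComma
    constructor
    · intro φ ψ hφψ
      refine MorphismProperty.Over.Hom.ext ?_
      have h1 : φ.hom = ψ.hom := h.1 (Over.OverMorphism.ext
        (congrArg (fun α => (α : (EtCoh.bc f).obj A ⟶ (EtCoh.bc f).obj B).left) hφψ))
      exact congrArg (fun α => α.left) h1
    · intro ψ
      obtain ⟨φ, hφ⟩ := h.2 ψ.hom
      refine ⟨MorphismProperty.Over.homMk φ.left (Over.w φ), MorphismProperty.Over.Hom.ext ?_⟩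
      exact congrArg (fun α => α.left) hφ
  have : (EtCoh.bc f).Full := ⟨fun {A B} φ => (hb A B).2 φ⟩
  have : (EtCoh.bc f).Faithful := ⟨fun {A B} => (hb A B).1⟩
  have : (EtCoh.bc f).EssSurj := ⟨fun U => by
    obtain ⟨A, a, β, ha, hP⟩ := exists_lift_global (hloc U)
    exact ⟨Scheme.Etale.mk a, ⟨MorphismProperty.Over.isoMk hP.isoPullback.symm
      ((Iso.inv_comp_eq _).2 hP.isoPullback_hom_snd.symm)⟩⟩⟩
  exact { }

end Groth.EtaleBase.TopInv
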