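import Groth.Agent.EtaleBase.TopInvariance
import Groth.Agent.EtaleBase.ClosedLift

/-!
Etale schemes lift uniquely along thickenings.
-/

set_option autoImplicit false

universe u

open CategoryTheory CategoryTheory.Limits AlgebraicGeometry TopologicalSpace

namespace Groth.EtaleBase.TopInv

/-- Base change along a thickening is an equivalence of small etale sites. -/
theorem isEquivalence_bc_closed {S S₀ : Scheme.{u}} (i : S₀ ⟶ S) [IsClosedImmersion i] [Surjective i] :
    (EtCoh.bc i).IsEquivalence := by
  refine isEquivalence_bc i fun U u => ?_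
  obtain ⟨V, v, hv, h, hh, hop, hu⟩ := Groth.EtaleBase.exists_etale_lift i U.hom u
  refine ⟨h.opensRange, hu, ⟨⟨V, v, h.isoOpensRange.inv ≫ pullback.fst v i, hv, ?_⟩⟩⟩
  refine IsPullback.of_iso (IsPullback.of_hasPullback v i) h.isoOpensRange (Iso.refl _) (Iso.refl _) (Iso.refl _)
    ?_ ?_ ?_ ?_
  · simp
  · simp [← hh, Scheme.Hom.isoOpensRange]
  · simp
  · simp

end Groth.EtaleBase.TopInv
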