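import Groth.Agent.EtaleBase.TopInvariance
import Groth.Agent.Pi1Desc.Radicial
import Groth.Prelude.Def_EtBase
import Mathlib.AlgebraicGeometry.Morphisms.LocalFlatDescent
import Mathlib.AlgebraicGeometry.Morphisms.UniversallyClosed

/-!
Etale schemes descend along flat quasi-compact radicial surjections.
-/

set_option autoImplicit false

universe u

open CategoryTheory CategoryTheory.Limits AlgebraicGeometry

namespace Groth.EtaleBase.TopInv

variable {S S' : Scheme.{u}} (g : S' ⟶ S)

lemma isClosedMap_of_flat [Flat g] [Surjective g] [QuasiCompact g] [UniversallyInjective g] :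
    IsClosedMap g := fun C hC => by
  rw [← (Flat.isQuotientMap_of_surjective g).isClosed_preimage, Set.preimage_image_eq _ g.injective]
  exact hC

lemma universallyClosed_of_flat [Flat g] [Surjective g] [QuasiCompact g] [UniversallyInjective g] :
    UniversallyClosed g := by
  rw [universallyClosed_iff]
  intro X' Y' i₁ i₂ f' H
  have : Flat f' := MorphismProperty.of_isPullback H.flip ‹Flat g›
  have : Surjective f' := MorphismProperty.of_isPullback H.flip ‹Surjective g›
  have : QuasiCompact f' := MorphismProperty.of_isPullback H.flip ‹QuasiCompact g›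
  have : UniversallyInjective f' := MorphismProperty.of_isPullback H.flip ‹UniversallyInjective g›
  exact isClosedMap_of_flat f'

variable [UniversallyInjective g] {U : Scheme.{u}} (u : U ⟶ S') [Etale u]

/-- The locus where two points of `S'` with the same image agree. -/
lemma exists_agree {T : Scheme.{u}} (x₀ x₁ : T ⟶ S') (h : x₀ ≫ g = x₁ ≫ g) :
    ∃ (T₀ : Scheme.{u}) (b : T₀ ⟶ T) (_ : UniversallyInjective b) (_ : UniversallyClosed b) (_ : Surjective b),
      b ≫ x₀ = b ≫ x₁ := by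
  let c : T ⟶ pullback g g := pullback.lift x₀ x₁ h
  have : Surjective (pullback.diagonal g) := (UniversallyInjective.iff_diagonal g).1 inferInstance
  have : IsClosedImmersion (pullback.diagonal g) :=
    .of_isPreimmersion _ (by rw [Set.range_eq_univ.2 (pullback.diagonal g).surjective]; exact isClosed_univ)
  refine ⟨pullback c (pullback.diagonal g), pullback.fst _ _, inferInstance, inferInstance,
    MorphismProperty.pullback_fst _ _ ‹_›, ?_⟩
  have e := pullback.condition (f := c) (g := pullback.diagonal g)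
  have e0 : pullback.fst c (pullback.diagonal g) ≫ x₀ = pullback.snd c (pullback.diagonal g) := by
    rw [show x₀ = c ≫ pullback.fst g g from (pullback.lift_fst _ _ _).symm, reassoc_of% e,
      pullback.diagonal_fst]
    exact Category.comp_id _
  have e1 : pullback.fst c (pullback.diagonal g) ≫ x₁ = pullback.snd c (pullback.diagonal g) := by
    rw [show x₁ = c ≫ pullback.snd g g from (pullback.lift_snd _ _ _).symm, reassoc_of% e,
      pullback.diagonal_snd]
    exact Category.comp_id _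
  exact e0.trans e1.symm

/-- The transported point. -/
lemma existsUnique_transport {T : Scheme.{u}} (x₀ x₁ : T ⟶ S') (h : x₀ ≫ g = x₁ ≫ g)
    (v : T ⟶ U) (hv : v ≫ u = x₀) :
    ∃! w : T ⟶ U, w ≫ u = x₁ ∧ ∀ (T' : Scheme.{u}) (k : T' ⟶ T), k ≫ x₀ = k ≫ x₁ → k ≫ w = k ≫ v := by
  obtain ⟨T₀, b, _, _, _, hb⟩ := exists_agree g x₀ x₁ h
  obtain ⟨w, ⟨hw1, hw2⟩, -⟩ := Groth.Pi1Inv.existsUnique_extend b u x₁ (b ≫ v) (by rw [Category.assoc, hv, hb])
  refine ⟨w, ⟨hw1, fun T' k hk => ?_⟩, fun w' hw' =>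
    Groth.EtaleBase.eq_of_surjective_agree u w' w (hw'.1.trans hw1.symm) b ((hw'.2 T₀ b hb).trans hw2.symm)⟩
  have : Surjective (pullback.fst k b) := MorphismProperty.pullback_fst _ _ ‹Surjective b›
  refine Groth.EtaleBase.eq_of_surjective_agree u (k ≫ w) (k ≫ v) ?_ (pullback.fst k b) ?_
  · rw [Category.assoc, Category.assoc, hw1, hv, hk]
  · rw [pullback.condition_assoc, hw2, ← pullback.condition_assoc]

/-- The transport map. -/
noncomputable def transport {T : Scheme.{u}} (x₀ x₁ : T ⟶ S') (h : x₀ ≫ g = x₁ ≫ g)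
    (v : T ⟶ U) (hv : v ≫ u = x₀) : T ⟶ U := (existsUnique_transport g u x₀ x₁ h v hv).exists.choose

lemma transport_spec {T : Scheme.{u}} (x₀ x₁ : T ⟶ S') (h : x₀ ≫ g = x₁ ≫ g)
    (v : T ⟶ U) (hv : v ≫ u = x₀) : transport g u x₀ x₁ h v hv ≫ u = x₁ ∧
      ∀ (T' : Scheme.{u}) (k : T' ⟶ T), k ≫ x₀ = k ≫ x₁ → k ≫ transport g u x₀ x₁ h v hv = k ≫ v :=
  (existsUnique_transport g u x₀ x₁ h v hv).exists.choose_spec

lemma transport_self {T : Scheme.{u}} (x : T ⟶ S') (v : T ⟶ U) (hv : v ≫ u = x) :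
    transport g u x x rfl v hv = v := by
  simpa using (transport_spec g u x x rfl v hv).2 T (𝟙 T) rfl

lemma transport_comp {T : Scheme.{u}} (x₀ x₁ x₂ : T ⟶ S') (h : x₀ ≫ g = x₁ ≫ g) (h' : x₁ ≫ g = x₂ ≫ g)
    (v : T ⟶ U) (hv : v ≫ u = x₀) :
    transport g u x₁ x₂ h' (transport g u x₀ x₁ h v hv) (transport_spec g u x₀ x₁ h v hv).1 =
      transport g u x₀ x₂ (h.trans h') v hv := by
  obtain ⟨T₁, b₁, _, _, _, hb₁⟩ := exists_agree g x₀ x₁ h
  obtain ⟨T₂, b₂, _, _, _, hb₂⟩ := exists_agree g (b₁ ≫ x₁) (b₁ ≫ x₂) (by rw [Category.assoc, h', Category.assoc])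
  have h1 := transport_spec g u x₀ x₁ h v hv
  have h2 := transport_spec g u x₁ x₂ h' _ h1.1
  have h3 := transport_spec g u x₀ x₂ (h.trans h') v hv
  refine Groth.EtaleBase.eq_of_surjective_agree u _ _ (h2.1.trans h3.1.symm) (b₂ ≫ b₁) ?_
  have e12 : (b₂ ≫ b₁) ≫ x₁ = (b₂ ≫ b₁) ≫ x₂ := by simpa using hb₂
  have e01 : (b₂ ≫ b₁) ≫ x₀ = (b₂ ≫ b₁) ≫ x₁ := by rw [Category.assoc, hb₁, Category.assoc]
  rw [h2.2 _ _ e12, h1.2 _ _ e01, h3.2 _ _ (e01.trans e12)]

/-- The descent datum carried by every etale scheme. -/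
noncomputable def dd : Desc.SchDD g where
  obj := Over.mk u
  φ T x₀ x₁ h :=
    { toFun := fun v => ⟨transport g u x₀ x₁ h v.1 v.2, (transport_spec g u x₀ x₁ h v.1 v.2).1⟩
      invFun := fun v => ⟨transport g u x₁ x₀ h.symm v.1 v.2, (transport_spec g u x₁ x₀ h.symm v.1 v.2).1⟩
      left_inv := fun v => Subtype.ext
        ((transport_comp g u x₀ x₁ x₀ h h.symm v.1 v.2).trans (transport_self g u x₀ v.1 v.2))
      right_inv := fun v => Subtype.ext
        ((transport_comp g u x₁ x₀ x₁ h.symm h v.1 v.2).trans (transport_self g u x₁ v.1 v.2)) }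
  φ_natural T T' k x₀ x₁ h h' v v' hv' := by
    show transport g u (k ≫ x₀) (k ≫ x₁) h' v'.1 v'.2 = k ≫ transport g u x₀ x₁ h v.1 v.2
    refine (existsUnique_transport g u _ _ h' v'.1 v'.2).unique (transport_spec g u _ _ h' v'.1 v'.2)
      ⟨?_, fun T'' l hl => ?_⟩
    · rw [Category.assoc, (transport_spec g u x₀ x₁ h v.1 v.2).1]
    · rw [← Category.assoc, (transport_spec g u x₀ x₁ h v.1 v.2).2 _ _ (by simpa using hl), hv',
        Category.assoc]
  φ_self T x v := Subtype.ext (transport_self g u x v.1 v.2)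
  φ_comp T x₀ x₁ x₂ h₀₁ h₁₂ v := Subtype.ext (transport_comp g u x₀ x₁ x₂ h₀₁ h₁₂ v.1 v.2)

/-- Base change along a flat quasi-compact radicial surjection is an equivalence of etale sites. -/
theorem isEquivalence_bc_flat [Flat g] [Surjective g] [QuasiCompact g] : (EtCoh.bc g).IsEquivalence := by
  have := universallyClosed_of_flat g
  refine isEquivalence_bc g fun U u₀ => ?_
  have : Etale U.hom := U.prop
  obtain ⟨A, q, hP, -⟩ :=
    Groth.Pi1Desc.exists_iso_of_eff (dd g U.hom) (Groth.Pi1Desc.Act.eff_of_universallyInjective _)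
  have : Etale A.hom := MorphismProperty.of_pullback_snd_of_descendsAlong
    (P := @Etale) (Q := @Surjective ⊓ @Flat ⊓ @QuasiCompact) (f := A.hom) (g := g)
    ⟨⟨inferInstance, inferInstance⟩, inferInstance⟩ (by
      rw [← MorphismProperty.cancel_left_of_respectsIso @Etale hP.isoPullback.hom, hP.isoPullback_hom_snd]
      exact U.prop)
  refine ⟨⊤, trivial, ⟨⟨A.left, A.hom, (⊤ : U.left.Opens).ι ≫ q, this, ?_⟩⟩⟩
  exact hP.of_iso U.left.topIso.symm (Iso.refl _) (Iso.refl _) (Iso.refl _) (by simp [dd]) (by simp [dd])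
    (by simp) (by simp)

end Groth.EtaleBase.TopInv
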