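import Groth.Agent.EtaleBase.StrictVanish
import Groth.Agent.EtaleBase.DisjointGlue
import Groth.Agent.EtaleBase.Sections
import Groth.Agent.PropsBasic.ZeroDim
import Mathlib.AlgebraicGeometry.Morphisms.FlatMono

/-!
Zero-dimensional affine schemes with separably closed residue fields.
-/

set_option autoImplicit false

universe u

open CategoryTheory CategoryTheory.Limits AlgebraicGeometry Opposite TopologicalSpace Topology

namespace Groth.EtaleBase.ZeroDim

variable {S : Scheme.{u}}

set_option backward.isDefEq.respectTransparency.types false in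
/-- Etale morphisms have sections near points with separably closed residue field. -/
lemma exists_section_nbhd [IsAffine S] [T2Space S] {U : Scheme.{u}} (g : U ⟶ S) [Etale g] (u : U)
    [IsSepClosed (S.residueField (g u))] :
    ∃ (N : S.Opens) (h : (N : Scheme.{u}) ⟶ U), g u ∈ N ∧ h ≫ g = N.ι := by
  let s := g u
  have h' := (g.isDiscrete_preimage_singleton s).to_subtype
  obtain ⟨O, hO, hO'⟩ := isOpen_induced_iff.1 (isOpen_discrete ({⟨u, rfl⟩} : Set ↥(g ⁻¹' {s})))
  have huO : u ∈ O := (Set.ext_iff.1 hO' ⟨u, rfl⟩).2 rfl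
  obtain ⟨_, ⟨W, hW, rfl⟩, huW, hWO⟩ := U.isBasis_affineOpens.exists_subset_of_mem_open huO hO
  have : IsAffine (W : Scheme) := hW
  let gW : (W : Scheme) ⟶ S := Scheme.Opens.ι W ≫ g
  have hfib : ∀ w : (W : Scheme), gW w = s → w = ⟨u, huW⟩ := fun w hw => Subtype.ext
    (congrArg Subtype.val (Set.mem_singleton_iff.1 ((Set.ext_iff.1 hO' ⟨w.1, hw⟩).1 (hWO w.2))) : _)
  let σ : Spec (S.residueField s) ⟶ S := S.fromSpecResidueField s
  have huniq : ∀ l l' : Spec (CommRingCat.of (S.residueField s)) ⟶ (W : Scheme),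
      l ≫ gW = σ → l' ≫ gW = σ → l = l' := by
    intro l l' hl hl'
    let m := pullback.lift l (𝟙 _) (by rw [hl, Category.id_comp])
    let m' := pullback.lift l' (𝟙 _) (by rw [hl', Category.id_comp])
    have hsub : Subsingleton ↥(pullback gW σ) := by
      refine ⟨fun a b => (pullback.fst gW σ).isEmbedding.injective ?_⟩
      have hmem : ∀ z, gW ((pullback.fst gW σ) z) = s := fun z => by
        rw [← Scheme.Hom.comp_apply, pullback.condition, Scheme.Hom.comp_apply]
        exact Scheme.fromSpecResidueField_apply s _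
      rw [hfib _ (hmem a), hfib _ (hmem b)]
    have e : m = m' := Groth.EtaleBase.section_eq_of_range_eq (pullback.snd gW σ) m m' (pullback.lift_snd _ _ _)
      (pullback.lift_snd _ _ _) (by
        have : Surjective m := ⟨fun a => ⟨default, Subsingleton.elim _ _⟩⟩
        have : Surjective m' := ⟨fun a => ⟨default, Subsingleton.elim _ _⟩⟩
        rw [Set.range_eq_univ.2 m.surjective, Set.range_eq_univ.2 m'.surjective])
    exact ((pullback.lift_fst _ _ _).symm.trans (congrArg (· ≫ pullback.fst gW σ) e)).trans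
      (pullback.lift_fst _ _ _)
  let π : pullback gW gW ⟶ S := pullback.fst gW gW ≫ gW
  let δ := pullback.diagonal gW
  let K : Set S := π '' (Set.range δ)ᶜ
  have hK : IsClosed K := by
    have : IsAffine (pullback gW gW) := inferInstance
    exact ((isOpen_range_diag δ).isClosed_compl.isCompact.image π.continuous).isClosed
  have hsK : s ∉ K := by
    rintro ⟨z, hz, hzs⟩
    have : IsSepClosed (IsLocalRing.ResidueField (S.presheaf.stalk s)) := ‹IsSepClosed (S.residueField (g u))›
    obtain ⟨l, hl, hlz⟩ := Scheme.exists_fac_of_etale_of_isSepClosed π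
      (σ : Spec (CommRingCat.of (S.residueField s)) ⟶ S) z
      (hzs.trans (Scheme.fromSpecResidueField_apply s _).symm)
    have e := huniq (l ≫ pullback.fst gW gW) (l ≫ pullback.snd gW gW) (by rw [Category.assoc]; exact hl)
      (by rw [Category.assoc, ← pullback.condition]; exact hl)
    refine hz ⟨(l ≫ pullback.fst gW gW) default, ?_⟩
    rw [← hlz, ← Scheme.Hom.comp_apply]
    refine congrArg (fun m : _ ⟶ pullback gW gW => m default) ?_
    apply pullback.hom_ext
    · simp [δ]
    · simp only [δ, Category.assoc, pullback.diagonal_snd, Category.comp_id]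
      exact e
  let S' : S.Opens := ⟨Kᶜ, hK.isOpen_compl⟩
  let g' := gW ∣_ S'
  have hg' : Mono g' := ⟨fun {T} a b e => by
    rw [← cancel_mono (gW ⁻¹ᵁ S').ι]
    let c := pullback.lift (a ≫ (gW ⁻¹ᵁ S').ι) (b ≫ (gW ⁻¹ᵁ S').ι) (by
      rw [Category.assoc, Category.assoc, ← morphismRestrict_ι, reassoc_of% e])
    have hr : Set.range c ⊆ Set.range δ := by
      rintro _ ⟨t, rfl⟩
      by_contra hn
      have h1 : π (c t) ∈ K := ⟨_, hn, rfl⟩
      refine (?_ : π (c t) ∈ S') h1
      show (c ≫ π) t ∈ S'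
      simp only [c, π, pullback.lift_fst_assoc, Category.assoc, Scheme.Hom.comp_apply]
      exact ((a : T ⟶ _) t).2
    have h2 := IsOpenImmersion.lift_fac δ c hr
    have ha : a ≫ (gW ⁻¹ᵁ S').ι = IsOpenImmersion.lift δ c hr := by
      rw [← Category.comp_id (IsOpenImmersion.lift δ c hr), ← pullback.diagonal_fst gW, reassoc_of% h2]
      exact (pullback.lift_fst _ _ _).symm
    have hb : b ≫ (gW ⁻¹ᵁ S').ι = IsOpenImmersion.lift δ c hr := by
      rw [← Category.comp_id (IsOpenImmersion.lift δ c hr), ← pullback.diagonal_snd gW, reassoc_of% h2]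
      exact (pullback.lift_snd _ _ _).symm
    rw [ha, hb]⟩
  have : IsOpenImmersion g' := IsOpenImmersion.of_flat_of_mono g'
  let N : S.Opens := (g' ≫ S'.ι).opensRange
  let e := IsOpenImmersion.isoOfRangeEq N.ι (g' ≫ S'.ι) (by rw [Scheme.Opens.range_ι]; rfl)
  refine ⟨N, e.hom ≫ (gW ⁻¹ᵁ S').ι ≫ (Scheme.Opens.ι W), ⟨⟨⟨u, huW⟩, hsK⟩, ?_⟩, ?_⟩
  · rw [morphismRestrict_ι]
    rfl
  · simp only [Category.assoc]
    rw [show (gW ⁻¹ᵁ S').ι ≫ (Scheme.Opens.ι W) ≫ g = g' ≫ S'.ι from (morphismRestrict_ι gW S').symm]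
    exact IsOpenImmersion.isoOfRangeEq_hom_fac _ _ _
where
  isOpen_range_diag {P Q : Scheme.{u}} (δ : P ⟶ Q) [IsOpenImmersion δ] : IsOpen (Set.range δ) :=
    δ.isOpenEmbedding.isOpen_range

lemma exists_disjoint_refinement [IsAffine S] [T2Space S] [TotallyDisconnectedSpace S] {ι : Type u}
    (N : ι → S.Opens) (hN : ∀ x : S, ∃ i, x ∈ N i) :
    ∃ (μ : Type u) (P : μ → S.Opens) (c : μ → ι), (∀ a b, a ≠ b → Disjoint (P a) (P b)) ∧
      (⨆ a, P a) = ⊤ ∧ ∀ a, P a ≤ N (c a) := by
  have : CompactSpace S := inferInstance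
  choose i hi using hN
  choose K hK hxK hKN using fun x => compact_exists_isClopen_in_isOpen (N (i x)).isOpen (hi x)
  obtain ⟨F, hF⟩ := isCompact_univ.elim_finite_subcover K (fun x => (hK x).isOpen)
    (fun x _ => Set.mem_iUnion.2 ⟨x, hxK x⟩)
  classical
  let n := Fintype.equivFin {x // x ∈ F}
  have hDo : ∀ k : {x // x ∈ F}, IsOpen (K k.1 \ ⋃ k' ∈ {k' | n k' < n k}, K k'.1) := fun k =>
    (hK _).isOpen.sdiff ((Set.toFinite _).isClosed_biUnion fun k' _ => (hK _).isClosed)
  refine ⟨{x // x ∈ F}, fun k => ⟨_, hDo k⟩, fun k => i k.1, fun a b hab => ?_, ?_, fun k z hz => hKN k.1 hz.1⟩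
  · rw [← Opens.coe_disjoint, Set.disjoint_left]
    intro z ha hb
    rcases lt_trichotomy (n a) (n b) with h | h | h
    · exact hb.2 (Set.mem_biUnion (show a ∈ {k' | n k' < n b} from h) ha.1)
    · exact hab (n.injective h)
    · exact ha.2 (Set.mem_biUnion (show b ∈ {k' | n k' < n a} from h) hb.1)
  · refine eq_top_iff.2 fun z _ => ?_
    obtain ⟨x, hx, hz⟩ := Set.mem_iUnion₂.1 (hF (Set.mem_univ z))
    have hne : (Finset.univ.filter fun k : {x // x ∈ F} => z ∈ K k.1).Nonempty :=
      ⟨⟨x, hx⟩, Finset.mem_filter.2 ⟨Finset.mem_univ _, hz⟩⟩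
    obtain ⟨k, hk, hmin⟩ := Finset.exists_min_image _ n hne
    refine Opens.mem_iSup.2 ⟨k, (Finset.mem_filter.1 hk).2, ?_⟩
    simp only [Set.mem_iUnion, not_exists]
    exact fun k' hk' hz' => (hmin k' (Finset.mem_filter.2 ⟨Finset.mem_univ _, hz'⟩)).not_gt hk'

set_option backward.isDefEq.respectTransparency.types false in
lemma surjective_top_app [IsAffine S] [T2Space S] [TotallyDisconnectedSpace S]
    (h2 : ∀ s : S, IsSepClosed (S.residueField s)) {F G : EtCoh.Ab S}
    (φ : F ⟶ G) (hφ : Sheaf.IsLocallySurjective φ) :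
    Function.Surjective (φ.hom.app (op (EtCoh.top S))) := by
  intro σ
  have hR : Presheaf.imageSieve φ.hom (U := EtCoh.top S) σ ∈ S.smallEtaleTopology (EtCoh.top S) :=
    hφ.imageSieve_mem _
  rw [mem_topology_iff] at hR
  choose W g w hg hw using hR
  choose τ hτ using hg
  have hsec : ∀ x : S, ∃ (N : S.Opens) (h : (N : Scheme.{u}) ⟶ (W x).left),
      x ∈ N ∧ h ≫ (g x).left = N.ι := fun x => by
    have := h2 ((g x).left (w x))
    have hE : Etale (g x).left := inferInstance
    obtain ⟨N, h, hx, hh⟩ := @exists_section_nbhd S _ _ (W x).left (g x).left hE (w x) this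
    exact ⟨N, h, hw x ▸ hx, hh⟩
  choose N h hxN hh using hsec
  obtain ⟨μ, P, c, hd, hsup, hP⟩ := exists_disjoint_refinement N fun x => ⟨x, hxN x⟩
  let P' : μ → (EtCoh.top S).left.Opens := P
  let q₀ : ∀ a, ((P a : Scheme.{u})) ⟶ (W (c a)).left := fun a => S.homOfLE (hP a) ≫ h (c a)
  have hq₀ : ∀ a, q₀ a ≫ (g (c a)).left = (P a).ι := fun a =>
    (Category.assoc _ _ _).trans ((congrArg (_ ≫ ·) (hh (c a))).trans (Scheme.homOfLE_ι _ _))
  let q : ∀ a, openObj (EtCoh.top S) (P' a) ⟶ W (c a) := fun a =>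
    MorphismProperty.Over.homMk (q₀ a)
      ((congrArg (q₀ a ≫ ·) (Over.w (g (c a)).hom).symm).trans
        ((Category.assoc _ _ _).symm.trans (congrArg (· ≫ (EtCoh.top S).hom) (hq₀ a))))
  have hq : ∀ a, q a ≫ g (c a) = openHom (EtCoh.top S) (P' a) := fun a =>
    MorphismProperty.Over.Hom.ext (hq₀ a)
  obtain ⟨s, hs⟩ := exists_glue_disjoint (EtCoh.top S) P' hd hsup F
    fun a => F.obj.map (q a).op (τ (c a))
  refine ⟨s, ext_disjoint (EtCoh.top S) P' hd hsup G _ _ fun a => ?_⟩
  rw [← NatTrans.naturality_apply φ.hom, hs, NatTrans.naturality_apply φ.hom, hτ,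
    ← ConcreteCategory.comp_apply, ← G.obj.map_comp, ← op_comp, hq]

set_option backward.isDefEq.respectTransparency.types false in
theorem H_subsingleton [IsAffine S] (h1 : ∀ s : S, IsClosed ({s} : Set S))
    (h2 : ∀ s : S, IsSepClosed (S.residueField s)) (F : EtCoh.Ab S) (n : ℕ) (hn : 1 ≤ n) :
    Subsingleton (EtCoh.H S F n) := by
  have hsp : ∀ x y : S, x ⤳ y → x = y := fun x y h => (h.mem_closed (h1 x) rfl).symm
  obtain ⟨_, _⟩ := Groth.PropsBasic.ZD.t2_totallyDisconnected hsp
  obtain ⟨k, rfl⟩ := Nat.exists_eq_succ_of_ne_zero (by omega : n ≠ 0)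
  let adj := constantSheafAdj S.smallEtaleTopology AddCommGrpCat.{u + 1}
    (T := EtCoh.top S) (MorphismProperty.Over.mkIdTerminal EtCoh.etaleMP S)
  have hepi : ((sheafSections S.smallEtaleTopology AddCommGrpCat.{u + 1}).obj
      (op (EtCoh.top S))).PreservesEpimorphisms :=
    ⟨fun {F G} φ _ => (AddCommGrpCat.epi_iff_surjective _).2
      (surjective_top_app h2 φ
        ((Sheaf.isLocallySurjective_iff_epi' (A := AddCommGrpCat.{u + 1}) φ).2 ‹_›))⟩
  have : Projective ((constantSheaf S.smallEtaleTopology AddCommGrpCat.{u + 1}).obj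
      (AddCommGrpCat.of (ULift.{u + 1} ℤ))) := adj.map_projective _ projective_ulift_int
  exact ⟨fun a b => (Abelian.Ext.eq_zero_of_projective (C := EtCoh.Ab S) a).trans
    (Abelian.Ext.eq_zero_of_projective (C := EtCoh.Ab S) b).symm⟩

end Groth.EtaleBase.ZeroDim
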